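import Mathlib

/-!
Kernel-checkable certificates for permutation groups.

A permutation of `α`, along an enumeration `e : α ≃ Fin n` with `n ≤ 256`, is packed into one natural
number whose `i`-th base-256 digit is the image of `i`.  The checkers below are Boolean functions on
natural numbers, meant to be evaluated by `decide +kernel`; the theorems turn a successful check into
facts about subgroups of `Equiv.Perm α`: membership (products of known elements), the exact orbits
along a base (`Chain`), hence orders, multiple transitivity and element lists.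
-/

set_option autoImplicit false

namespace Cfsg.Agent.Mathieu

/-- The image of `i` under the packed permutation `l`. -/
def app (l i : ℕ) : ℕ := (l >>> (8 * i)) % 256

variable {α : Type*} {n : ℕ} {e : α ≃ Fin n}

/-- `l` is the packed form of `σ` along `e`. -/
def Rep (e : α ≃ Fin n) (σ : Equiv.Perm α) (l : ℕ) : Prop :=
  ∀ a, (e (σ a)).val = app l (e a).val

instance instDecidableRep [Fintype α] (σ : Equiv.Perm α) (l : ℕ) : Decidable (Rep e σ l) :=
  inferInstanceAs (Decidable (∀ a, (e (σ a)).val = app l (e a).val))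

theorem Rep.unique {σ τ : Equiv.Perm α} {l : ℕ} (h : Rep e σ l) (h' : Rep e τ l) : σ = τ :=
  Equiv.ext fun a => e.injective (Fin.ext ((h a).trans (h' a).symm))

/-- The point with index `i`. -/
def idx (e : α ≃ Fin n) [NeZero n] (i : ℕ) : α := e.symm (Fin.ofNat n i)

theorem idx_val [NeZero n] {i : ℕ} (hi : i < n) : (e (idx e i)).val = i := by
  simp [idx, Nat.mod_eq_of_lt hi]

theorem idx_eq_iff [NeZero n] {i : ℕ} (hi : i < n) {a : α} : idx e i = a ↔ (e a).val = i := by
  constructor
  · rintro rfl; exact idx_val hi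
  · intro h; apply e.injective; exact Fin.ext ((idx_val hi).trans h.symm)

theorem idx_self [NeZero n] (a : α) : idx e (e a).val = a :=
  (idx_eq_iff (e a).isLt).2 rfl

theorem Rep.apply_idx [NeZero n] {σ : Equiv.Perm α} {l i : ℕ} (h : Rep e σ l) (hi : i < n) :
    σ (idx e i) = idx e (app l i) := by
  have hv := h (idx e i)
  rw [idx_val hi] at hv
  rw [← hv, idx_self]

theorem Rep.app_lt {σ : Equiv.Perm α} {l i : ℕ} (h : Rep e σ l) (hi : i < n) : app l i < n := by
  have := h (e.symm ⟨i, hi⟩)
  rw [e.apply_symm_apply] at this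
  rw [← this]; exact Fin.isLt _

/-! ### Products -/

/-- `c` is the product `a * b` (apply `b` first). -/
def compOK (n c a b : ℕ) : Bool := (List.range n).all fun i => app c i == app a (app b i)

theorem Rep.mul {σ τ : Equiv.Perm α} {a b c : ℕ} (hσ : Rep e σ a) (hτ : Rep e τ b)
    (h : compOK n c a b = true) : Rep e (σ * τ) c := by
  intro x
  simp only [compOK, List.all_eq_true, List.mem_range, beq_iff_eq] at h
  rw [Equiv.Perm.mul_apply, hσ, hτ, h _ (e x).isLt]

/-- `l` packs the identity. -/
def isId (n l : ℕ) : Bool := (List.range n).all fun i => app l i == i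

theorem rep_one {l : ℕ} (h : isId n l = true) : Rep e (1 : Equiv.Perm α) l := by
  intro x
  simp only [isId, List.all_eq_true, List.mem_range, beq_iff_eq] at h
  simp [h _ (e x).isLt]

theorem Rep.eq_one {σ : Equiv.Perm α} {l : ℕ} (hr : Rep e σ l) (h : isId n l = true) : σ = 1 :=
  hr.unique (rep_one h)

/-- Two packed permutations with product the identity pack mutually inverse permutations. -/
theorem Rep.inv {σ τ : Equiv.Perm α} {a b c : ℕ} (hσ : Rep e σ a) (hτ : Rep e τ b)
    (hc : compOK n c a b = true) (hid : isId n c = true) : τ = σ⁻¹ :=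
  eq_inv_of_mul_eq_one_right ((hσ.mul hτ hc).eq_one hid)

/-- A list of products: a step `(c, i, j)` says that `c` is the product of the `i`-th and the
`j`-th member of the list of what is known so far, newest first. -/
def slpOK (n : ℕ) : List ℕ → List (ℕ × ℕ × ℕ) → Bool
  | _, [] => true
  | known, (c, i, j) :: rest =>
    (match known[i]?, known[j]? with
      | some a, some b => compOK n c a b
      | _, _ => false) && slpOK n (c :: known) rest

theorem rep_of_slp {H : Subgroup (Equiv.Perm α)} :
    ∀ (known : List ℕ) (steps : List (ℕ × ℕ × ℕ)),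
      (∀ l ∈ known, ∃ σ ∈ H, Rep e σ l) → slpOK n known steps = true →
      ∀ l, (l ∈ known ∨ l ∈ steps.map (fun s => s.1)) → ∃ σ ∈ H, Rep e σ l := by
  intro known steps
  induction steps generalizing known with
  | nil => intro hk _ l hl; simpa using hk l (by simpa using hl)
  | cons s rest ih =>
    obtain ⟨c, i, j⟩ := s
    intro hk hok l hl
    simp only [slpOK, Bool.and_eq_true] at hok
    obtain ⟨h1, h2⟩ := hok
    have hc : ∀ x ∈ c :: known, ∃ σ ∈ H, Rep e σ x := by
      intro x hx
      rcases List.mem_cons.1 hx with rfl | hx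
      · rcases hi : known[i]? with _ | a
        · rw [hi] at h1; simp at h1
        rcases hj : known[j]? with _ | b
        · rw [hi, hj] at h1; simp at h1
        rw [hi, hj] at h1
        obtain ⟨σ, hσH, hσ⟩ := hk a (List.mem_of_getElem? hi)
        obtain ⟨τ, hτH, hτ⟩ := hk b (List.mem_of_getElem? hj)
        exact ⟨σ * τ, H.mul_mem hσH hτH, hσ.mul hτ h1⟩
      · exact hk x hx
    refine ih (c :: known) hc h2 l ?_
    simp only [List.map_cons, List.mem_cons] at hl ⊢
    tauto

/-! ### Chains of stabilisers -/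

/-- The subgroup of `H` fixing all the listed points. -/
def fixList (H : Subgroup (Equiv.Perm α)) : List α → Subgroup (Equiv.Perm α)
  | [] => H
  | b :: bs => fixList (H ⊓ MulAction.stabilizer (Equiv.Perm α) b) bs

theorem mem_fixList {H : Subgroup (Equiv.Perm α)} {bs : List α} {σ : Equiv.Perm α} :
    σ ∈ fixList H bs ↔ σ ∈ H ∧ ∀ b ∈ bs, σ b = b := by
  induction bs generalizing H with
  | nil => simp [fixList]
  | cons b bs ih =>
    simp only [fixList, ih, Subgroup.mem_inf, MulAction.mem_stabilizer_iff, Equiv.Perm.smul_def,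
      List.forall_mem_cons, and_assoc]

/-- `Chain H levels`: along the base given by the first components, the orbit of each base point
under the stabiliser of the earlier ones is the second component. -/
def Chain : Subgroup (Equiv.Perm α) → List (α × Finset α) → Prop
  | _, [] => True
  | H, (b, s) :: rest =>
    (∀ x, x ∈ s ↔ ∃ σ ∈ H, σ b = x) ∧ Chain (H ⊓ MulAction.stabilizer (Equiv.Perm α) b) rest

theorem card_eq_orbit_mul [Finite α] (H : Subgroup (Equiv.Perm α)) (b : α) (s : Finset α)
    (hs : ∀ x, x ∈ s ↔ ∃ σ ∈ H, σ b = x) :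
    Nat.card H = s.card * Nat.card ↥(H ⊓ MulAction.stabilizer (Equiv.Perm α) b) := by
  have horb : MulAction.orbit H b = (s : Set α) := by
    ext x
    simp only [MulAction.mem_orbit_iff, Finset.mem_coe, hs]
    constructor
    · rintro ⟨⟨σ, hσ⟩, h⟩; exact ⟨σ, hσ, h⟩
    · rintro ⟨σ, hσ, h⟩; exact ⟨⟨σ, hσ⟩, h⟩
  rw [← Subgroup.index_mul_card (MulAction.stabilizer H b), MulAction.index_stabilizer,
    horb, Set.ncard_coe_finset]
  congr 1
  refine Nat.card_congr
    { toFun := fun σ => ⟨((σ : H) : Equiv.Perm α), (σ : H).2, σ.2⟩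
      invFun := fun σ => ⟨⟨(σ : Equiv.Perm α), σ.2.1⟩, σ.2.2⟩
      left_inv := fun _ => rfl
      right_inv := fun _ => rfl }

theorem Chain.card [Finite α] :
    ∀ {H : Subgroup (Equiv.Perm α)} {levels : List (α × Finset α)}, Chain H levels →
      Nat.card H = (levels.map fun p => p.2.card).prod *
        Nat.card ↥(fixList H (levels.map fun p => p.1)) := by
  intro H levels
  induction levels generalizing H with
  | nil => intro _; simp [fixList]
  | cons p rest ih =>
    intro h
    rw [card_eq_orbit_mul H p.1 p.2 h.1, ih h.2]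
    simp [fixList, mul_assoc]

theorem Chain.card_of_bot [Finite α] {H : Subgroup (Equiv.Perm α)}
    {levels : List (α × Finset α)} (h : Chain H levels)
    (hbot : fixList H (levels.map fun p => p.1) = ⊥) :
    Nat.card H = (levels.map fun p => p.2.card).prod := by
  rw [h.card, hbot]; simp

/-- Every list of distinct points of `Ω` is an image of the base, if each orbit of the chain is
`Ω` without the earlier base points. -/
def FullChain [DecidableEq α] : Finset α → List (α × Finset α) → Prop
  | _, [] => True
  | Ω, (b, s) :: rest => s = Ω ∧ FullChain (Ω.erase b) rest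

theorem Chain.exists_map [DecidableEq α] :
    ∀ {H : Subgroup (Equiv.Perm α)} {levels : List (α × Finset α)} {Ω : Finset α},
      Chain H levels → FullChain Ω levels → (∀ σ ∈ H, ∀ x ∈ Ω, σ x ∈ Ω) →
      ∀ xs : List α, xs.length = levels.length → xs.Nodup → (∀ x ∈ xs, x ∈ Ω) →
        ∃ σ ∈ H, levels.map (fun p => σ p.1) = xs := by
  intro H levels
  induction levels generalizing H with
  | nil =>
    intro Ω _ _ _ xs hlen _ _
    exact ⟨1, H.one_mem, by simp [List.eq_nil_of_length_eq_zero hlen]⟩
  | cons p rest ih =>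
    obtain ⟨b, s⟩ := p
    intro Ω hc hf hΩ xs hlen hnd hmem
    obtain ⟨hs, hc'⟩ := hc
    obtain ⟨rfl, hf'⟩ := hf
    rcases xs with _ | ⟨x, xs⟩
    · simp at hlen
    rw [List.nodup_cons] at hnd
    obtain ⟨σ, hσ, hσb⟩ := (hs x).1 (hmem x List.mem_cons_self)
    have hpres : ∀ τ ∈ H ⊓ MulAction.stabilizer (Equiv.Perm α) b,
        ∀ y ∈ s.erase b, τ y ∈ s.erase b := by
      intro τ hτ y hy
      rw [Finset.mem_erase] at hy ⊢
      refine ⟨fun h => hy.1 (τ.injective (h.trans ?_)), hΩ τ hτ.1 y hy.2⟩
      exact (hτ.2 : τ b = b).symm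
    obtain ⟨τ, hτ, hτxs⟩ := ih hc' hf' hpres (xs.map σ.symm) (by simpa using hlen)
      (hnd.2.map σ.symm.injective) (by
        intro y hy
        obtain ⟨z, hz, rfl⟩ := List.mem_map.1 hy
        rw [Finset.mem_erase]
        refine ⟨fun h => hnd.1 ?_, hΩ σ⁻¹ (H.inv_mem hσ) z (hmem z (List.mem_cons_of_mem _ hz))⟩
        rw [← hσb, ← h]; simpa using hz)
    refine ⟨σ * τ, H.mul_mem hσ hτ.1, ?_⟩
    have hτb : τ b = b := hτ.2
    have htail : rest.map (fun p => (σ * τ) p.1) = (rest.map fun p => τ p.1).map σ := by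
      rw [List.map_map]; rfl
    simp only [List.map_cons, Equiv.Perm.mul_apply, hτb, hσb]
    congr 1
    refine htail.trans ?_
    rw [hτxs, List.map_map]
    simp [Function.comp_def]

theorem Chain.isMultiplyPretransitive [Fintype α] [DecidableEq α]
    {H : Subgroup (Equiv.Perm α)} {levels : List (α × Finset α)} (hc : Chain H levels)
    (hf : FullChain Finset.univ levels) :
    MulAction.IsMultiplyPretransitive H α levels.length := by
  have key : ∀ x : Fin levels.length ↪ α, ∃ σ : H, ∀ i : Fin levels.length,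
      (σ : Equiv.Perm α) levels[i.val].1 = x i := by
    intro x
    obtain ⟨σ, hσ, hmap⟩ := hc.exists_map hf (fun _ _ _ _ => Finset.mem_univ _)
      (List.ofFn x) (by simp) (List.nodup_ofFn.2 x.injective) (fun _ _ => Finset.mem_univ _)
    refine ⟨⟨σ, hσ⟩, fun i => ?_⟩
    have := congrArg (fun l => l[i.val]?) hmap
    simpa using this
  refine ⟨fun x y => ?_⟩
  obtain ⟨σ, hσ⟩ := key x
  obtain ⟨τ, hτ⟩ := key y
  refine ⟨τ * σ⁻¹, ?_⟩
  ext i
  change ((τ : Equiv.Perm α) * (σ : Equiv.Perm α)⁻¹) (x i) = y i
  rw [Equiv.Perm.mul_apply, ← hσ i]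
  simpa using hτ i

/-! ### Certificates for chains -/

/-- A certified level: base point index, orbit indices, representatives. -/
abbrev CertLevel : Type := ℕ × List ℕ × List ℕ

/-- The representatives fix the earlier base points and move the base point to the listed orbit. -/
def levelsOK (n : ℕ) : List ℕ → List CertLevel → Bool
  | _, [] => true
  | fixed, (b, orb, ts) :: rest =>
    decide (b < n) && decide (∀ x ∈ orb, x < n) && decide orb.Nodup &&
      (ts.map fun t => app t b) == orb &&
      ts.all (fun t => fixed.all fun i => app t i == i) &&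
      levelsOK n (b :: fixed) rest

/-- All representatives in the levels. -/
def allReps (levels : List CertLevel) : List ℕ := levels.flatMap fun p => p.2.2

variable [NeZero n]

/-- The base and orbits of a certificate. -/
def toLevels [DecidableEq α] (e : α ≃ Fin n) (levels : List CertLevel) : List (α × Finset α) :=
  levels.map fun p => (idx e p.1, (p.2.1.map (idx e)).toFinset)

/-- The upper bound that accompanies a certificate: each orbit is inside the listed one. -/
def Upper (e : α ≃ Fin n) : Subgroup (Equiv.Perm α) → List CertLevel → Prop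
  | _, [] => True
  | H, (b, orb, _) :: rest =>
    (∀ σ ∈ H, (e (σ (idx e b))).val ∈ orb) ∧
      Upper e (H ⊓ MulAction.stabilizer (Equiv.Perm α) (idx e b)) rest

theorem chain_of_cert_aux [DecidableEq α] {H : Subgroup (Equiv.Perm α)} :
    ∀ (levels : List CertLevel) (fixed : List ℕ) (K : Subgroup (Equiv.Perm α)),
      (∀ i ∈ fixed, i < n) → (∀ σ ∈ H, (∀ i ∈ fixed, σ (idx e i) = idx e i) → σ ∈ K) →
      levelsOK n fixed levels = true → (∀ t ∈ allReps levels, ∃ σ ∈ H, Rep e σ t) →
      Upper e K levels → Chain K (toLevels e levels) := by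
  intro levels
  induction levels with
  | nil => intros; trivial
  | cons p rest ih =>
    obtain ⟨b, orb, ts⟩ := p
    intro fixed K hfx hK hok hrep hup
    simp only [levelsOK, Bool.and_eq_true, decide_eq_true_eq, beq_iff_eq,
      List.all_eq_true] at hok
    obtain ⟨⟨⟨⟨⟨hb, horb⟩, _⟩, hmap⟩, hfix⟩, hrest⟩ := hok
    refine ⟨fun x => ⟨fun hx => ?_, fun ⟨σ, hσ, h⟩ => ?_⟩, ?_⟩
    · simp only [List.mem_toFinset, List.mem_map] at hx
      obtain ⟨i, hi, rfl⟩ := hx
      obtain ⟨t, ht, rfl⟩ : ∃ t ∈ ts, app t b = i := by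
        rw [← hmap] at hi; simpa using hi
      obtain ⟨σ, hσH, hσ⟩ := hrep t (List.mem_flatMap.2 ⟨(b, orb, ts), List.mem_cons_self, ht⟩)
      refine ⟨σ, hK σ hσH (fun i hi => ?_), hσ.apply_idx hb⟩
      rw [hσ.apply_idx (hfx i hi), hfix t ht i hi]
    · simp only [List.mem_toFinset, List.mem_map]
      exact ⟨_, hup.1 σ hσ, by rw [idx_self]; exact h⟩
    · refine ih (b :: fixed) _ ?_ ?_ hrest
        (fun t ht => hrep t ?_) hup.2
      · intro i hi
        rcases List.mem_cons.1 hi with rfl | hi
        exacts [hb, hfx i hi]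
      · intro σ hσ hfixσ
        exact ⟨hK σ hσ fun i hi => hfixσ i (List.mem_cons_of_mem _ hi),
          hfixσ b List.mem_cons_self⟩
      · rw [allReps, List.flatMap_cons]; exact List.mem_append_right _ ht

theorem chain_of_cert [DecidableEq α] {H : Subgroup (Equiv.Perm α)} {levels : List CertLevel}
    (hok : levelsOK n [] levels = true) (hrep : ∀ t ∈ allReps levels, ∃ σ ∈ H, Rep e σ t)
    (hup : Upper e H levels) : Chain H (toLevels e levels) :=
  chain_of_cert_aux levels [] H (by simp) (fun _ hσ _ => hσ) hok hrep hup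

theorem toLevels_card [DecidableEq α] :
    ∀ {levels : List CertLevel} {fixed : List ℕ}, levelsOK n fixed levels = true →
      ((toLevels e levels).map fun p => p.2.card).prod =
        (levels.map fun p => p.2.1.length).prod := by
  intro levels
  induction levels with
  | nil => intros; rfl
  | cons p rest ih =>
    obtain ⟨b, orb, ts⟩ := p
    intro fixed hok
    simp only [levelsOK, Bool.and_eq_true, decide_eq_true_eq, beq_iff_eq] at hok
    obtain ⟨⟨⟨⟨⟨_, horb⟩, hnd⟩, _⟩, _⟩, hrest⟩ := hok
    have h := ih hrest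
    simp only [toLevels, List.map_cons, List.prod_cons] at h ⊢
    rw [h, List.toFinset_card_of_nodup
      (hnd.map_on fun x hx y hy hxy => by
        rw [← idx_val (e := e) (horb x hx), hxy, idx_val (horb y hy)]), List.length_map]

/-- Order from a certificate. -/
theorem card_of_cert [Finite α] [DecidableEq α] {H : Subgroup (Equiv.Perm α)}
    {levels : List CertLevel}
    (hok : levelsOK n [] levels = true) (hrep : ∀ t ∈ allReps levels, ∃ σ ∈ H, Rep e σ t)
    (hup : Upper e H levels) (hbot : fixList H (levels.map fun p => idx e p.1) = ⊥) :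
    Nat.card H = (levels.map fun p => p.2.1.length).prod := by
  rw [(chain_of_cert hok hrep hup).card_of_bot (by simpa [toLevels, Function.comp_def] using hbot),
    toLevels_card hok]

/-! ### Element lists -/

/-- Packed product. -/
def packMul (n a b : ℕ) : ℕ :=
  (List.range n).foldr (fun i acc => app a (app b i) + 256 * acc) 0

theorem app_packMul_aux (f : ℕ → ℕ) :
    ∀ (is : List ℕ), (∀ i ∈ is, f i < 256) → ∀ k (hk : k < is.length),
      app (is.foldr (fun i acc => f i + 256 * acc) 0) k = f is[k] := by
  intro is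
  induction is with
  | nil => intro _ k hk; simp at hk
  | cons i is ih =>
    intro hf k hk
    have hi := hf i List.mem_cons_self
    rcases k with _ | k
    · simp [app, Nat.mod_eq_of_lt hi]
    · have := ih (fun j hj => hf j (List.mem_cons_of_mem _ hj)) k (by simpa using hk)
      simp only [List.getElem_cons_succ, List.foldr_cons]
      rw [← this, app, app, Nat.mul_succ, Nat.add_comm (8 * k) 8, Nat.shiftRight_add]
      congr 2
      rw [Nat.shiftRight_eq_div_pow]
      omega

omit [NeZero n] in
theorem rep_packMul {σ τ : Equiv.Perm α} {a b : ℕ} (hσ : Rep e σ a) (hτ : Rep e τ b) :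
    Rep e (σ * τ) (packMul n a b) := by
  intro x
  have h : ∀ i ∈ List.range n, app a (app b i) < 256 := fun i _ => Nat.mod_lt _ (by norm_num)
  rw [Equiv.Perm.mul_apply, hσ, hτ, packMul,
    app_packMul_aux (fun i => app a (app b i)) _ h _ (by simp)]
  simp

/-- Packed identity. -/
def packId (n : ℕ) : ℕ := (List.range n).foldr (fun i acc => i % 256 + 256 * acc) 0

/-- All the products of representatives, one from each level. -/
def prodList (n : ℕ) : List CertLevel → List ℕ
  | [] => [packId n]
  | p :: rest => p.2.2.flatMap fun t => (prodList n rest).map fun r => packMul n t r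

omit [NeZero n] in
theorem rep_packId (hn : n ≤ 256) : Rep e (1 : Equiv.Perm α) (packId n) := by
  intro x
  rw [packId, app_packMul_aux (fun i => i % 256) _ (fun i _ => Nat.mod_lt _ (by norm_num)) _
    (by simp)]
  simp [Nat.mod_eq_of_lt (lt_of_lt_of_le (e x).isLt hn)]

theorem exists_mem_prodList_aux {H : Subgroup (Equiv.Perm α)} (hn : n ≤ 256) :
    ∀ (levels : List CertLevel) (fixed : List ℕ) (K : Subgroup (Equiv.Perm α)),
      (∀ i ∈ fixed, i < n) → (∀ σ ∈ H, (∀ i ∈ fixed, σ (idx e i) = idx e i) → σ ∈ K) →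
      levelsOK n fixed levels = true → (∀ t ∈ allReps levels, ∃ σ ∈ H, Rep e σ t) →
      Upper e K levels → fixList K (levels.map fun p => idx e p.1) = ⊥ →
      ∀ g ∈ K, ∃ l ∈ prodList n levels, Rep e g l := by
  intro levels
  induction levels with
  | nil =>
    intro fixed K _ _ _ _ _ hbot g hg
    simp only [List.map_nil, fixList] at hbot
    rw [hbot, Subgroup.mem_bot] at hg
    exact ⟨packId n, by simp [prodList], hg ▸ rep_packId hn⟩
  | cons p rest ih =>
    obtain ⟨b, orb, ts⟩ := p
    intro fixed K hfx hK hok hrep hup hbot g hg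
    simp only [levelsOK, Bool.and_eq_true, decide_eq_true_eq, beq_iff_eq,
      List.all_eq_true] at hok
    obtain ⟨⟨⟨⟨⟨hb, -⟩, -⟩, hmap⟩, hfix⟩, hrest⟩ := hok
    have hx := hup.1 g hg
    obtain ⟨t, ht, htb⟩ : ∃ t ∈ ts, app t b = (e (g (idx e b))).val := by
      rw [← hmap] at hx; simpa using hx
    obtain ⟨σ, hσH, hσ⟩ := hrep t (List.mem_flatMap.2 ⟨(b, orb, ts), List.mem_cons_self, ht⟩)
    have hσK : σ ∈ K := hK σ hσH (fun i hi => by rw [hσ.apply_idx (hfx i hi), hfix t ht i hi])
    have hmem : σ⁻¹ * g ∈ K ⊓ MulAction.stabilizer (Equiv.Perm α) (idx e b) := by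
      refine ⟨K.mul_mem (K.inv_mem hσK) hg, ?_⟩
      change σ.symm (g (idx e b)) = idx e b
      rw [Equiv.symm_apply_eq, hσ.apply_idx hb, htb, idx_self]
    obtain ⟨r, hr, hrr⟩ := ih (b :: fixed) _
      (fun i hi => by rcases List.mem_cons.1 hi with rfl | hi; exacts [hb, hfx i hi])
      (fun τ hτ hfixτ => Subgroup.mem_inf.2 ⟨hK τ hτ fun i hi => hfixτ i (List.mem_cons_of_mem _ hi),
        hfixτ b List.mem_cons_self⟩) hrest
      (fun t' ht' => hrep t' (by rw [allReps, List.flatMap_cons]; exact List.mem_append_right _ ht'))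
      hup.2 hbot _ hmem
    refine ⟨packMul n t r, List.mem_flatMap.2 ⟨t, ht, List.mem_map.2 ⟨r, hr, rfl⟩⟩, ?_⟩
    have := rep_packMul hσ hrr
    rwa [mul_inv_cancel_left] at this


/-! ### Groups given by packed generators -/

/-- `l` packs a permutation of the numbers below `n`. -/
def permOK (n l : ℕ) : Bool :=
  (List.range n).all (fun i => decide (app l i < n)) && decide ((List.range n).map (app l)).Nodup

omit [NeZero n] in
theorem exists_rep {l : ℕ} (h : permOK n l = true) : ∃ σ : Equiv.Perm α, Rep e σ l := by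
  simp only [permOK, Bool.and_eq_true, List.all_eq_true, decide_eq_true_eq, List.mem_range] at h
  obtain ⟨hlt, hnd⟩ := h
  have hinj : Function.Injective fun i : Fin n => (⟨app l i.val, hlt _ i.isLt⟩ : Fin n) := by
    intro i j hij
    rw [Fin.mk.injEq] at hij
    exact Fin.ext (List.inj_on_of_nodup_map hnd (List.mem_range.2 i.isLt)
      (List.mem_range.2 j.isLt) hij)
  refine ⟨(e.trans (Equiv.ofBijective _ hinj.bijective_of_finite)).trans e.symm, fun a => ?_⟩
  simp

/-- The subgroup generated by the packed permutations of a list. -/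
def genGroup (e : α ≃ Fin n) (gens : List ℕ) : Subgroup (Equiv.Perm α) :=
  Subgroup.closure {σ | ∃ l ∈ gens, Rep e σ l}

omit [NeZero n] in
theorem genGroup_le {gens : List ℕ} {H : Subgroup (Equiv.Perm α)}
    (h : ∀ σ l, l ∈ gens → Rep e σ l → σ ∈ H) : genGroup e gens ≤ H :=
  (Subgroup.closure_le _).2 fun σ ⟨l, hl, hσ⟩ => h σ l hl hσ

omit [NeZero n] in
theorem reps_genGroup {gens : List ℕ} {steps : List (ℕ × ℕ × ℕ)} {levels : List CertLevel}
    (hgen : gens.all (permOK n) = true) (hslp : slpOK n gens steps = true)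
    (hsub : (allReps levels).all (fun t => (gens ++ steps.map fun s => s.1).contains t) = true) :
    ∀ t ∈ allReps levels, ∃ σ ∈ genGroup e gens, Rep e σ t := by
  intro t ht
  refine rep_of_slp gens steps (fun l hl => ?_) hslp t
    (List.mem_append.1 (List.contains_iff_mem.1 (List.all_eq_true.1 hsub t ht)))
  obtain ⟨σ, hσ⟩ := exists_rep (e := e) (List.all_eq_true.1 hgen l hl)
  exact ⟨σ, Subgroup.subset_closure ⟨l, hl, hσ⟩, hσ⟩

omit [NeZero n] in
theorem fixList_mono {H K : Subgroup (Equiv.Perm α)} (h : H ≤ K) (bs : List α) :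
    fixList H bs ≤ fixList K bs := fun _ hσ =>
  mem_fixList.2 ⟨h (mem_fixList.1 hσ).1, (mem_fixList.1 hσ).2⟩

theorem upper_mono : ∀ {levels : List CertLevel} {H K : Subgroup (Equiv.Perm α)}, H ≤ K →
    Upper e K levels → Upper e H levels := by
  intro levels
  induction levels with
  | nil => intros; trivial
  | cons p rest ih =>
    intro H K h hup
    exact ⟨fun σ hσ => hup.1 σ (h hσ), ih (inf_le_inf_right _ h) hup.2⟩

theorem upper_append : ∀ (l₁ l₂ : List CertLevel) (K : Subgroup (Equiv.Perm α)),
    Upper e K (l₁ ++ l₂) ↔ Upper e K l₁ ∧ Upper e (fixList K (l₁.map fun p => idx e p.1)) l₂ := by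
  intro l₁
  induction l₁ with
  | nil => intro l₂ K; simp [Upper, fixList]
  | cons p rest ih =>
    intro l₂ K
    simp only [List.cons_append, Upper, List.map_cons, fixList, ih, and_assoc]

end Cfsg.Agent.Mathieu
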