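import Cfsg.Agent.Lib.Mathieu.Code
import Cfsg.Agent.Lib.Mathieu.PermCert

/-!
Octads as a Steiner system S(5, 8, 24), intersection numbers with octads and dodecads, the
permutations preserving the code, and a certificate showing that fixing some points forces fixing
all of them.
-/

set_option autoImplicit false

namespace Cfsg.Agent.Mathieu

open Cfsg
open scoped Pointwise

theorem octad_mem_supports {o : Finset GolayPt} (h : o ∈ octads) :
    o ∈ supports (golayCode : Set (GolayPt → ZMod 2)) := h.1

theorem octad_card {o : Finset GolayPt} (h : o ∈ octads) : o.card = 8 := h.2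

theorem dodecad_mem_supports {d : Finset GolayPt} (h : d ∈ dodecads) :
    d ∈ supports (golayCode : Set (GolayPt → ZMod 2)) := h.1

theorem dodecad_card {d : Finset GolayPt} (h : d ∈ dodecads) : d.card = 12 := h.2

theorem octad_inter_card {o o' : Finset GolayPt} (ho : o ∈ octads) (ho' : o' ∈ octads)
    (hne : o ≠ o') : (o ∩ o').card = 0 ∨ (o ∩ o').card = 2 ∨ (o ∩ o').card = 4 := by
  have h := card_inter_add_card_symmDiff o o'
  rw [octad_card ho, octad_card ho'] at h
  have h0 : (symmDiff o o').card ≠ 0 := fun h0 => hne (by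
    rwa [Finset.card_eq_zero, ← Finset.bot_eq_empty, symmDiff_eq_bot] at h0)
  rcases card_support_cases (symmDiff_mem_supports (octad_mem_supports ho) (octad_mem_supports ho'))
    with hc | hc | hc | hc | hc <;> omega

theorem octad_eq_of_five_le {o o' : Finset GolayPt} (ho : o ∈ octads) (ho' : o' ∈ octads)
    (h : 5 ≤ (o ∩ o').card) : o = o' := by
  by_contra hne
  rcases octad_inter_card ho ho' hne with hc | hc | hc <;> omega

theorem octad_inter_dodecad_card {o d : Finset GolayPt} (ho : o ∈ octads) (hd : d ∈ dodecads) :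
    (o ∩ d).card = 2 ∨ (o ∩ d).card = 4 ∨ (o ∩ d).card = 6 := by
  have h := card_inter_add_card_symmDiff o d
  rw [octad_card ho, dodecad_card hd] at h
  have h0 : (symmDiff o d).card ≠ 0 := fun h0 => by
    rw [Finset.card_eq_zero, ← Finset.bot_eq_empty, symmDiff_eq_bot] at h0
    have := octad_card ho; rw [h0, dodecad_card hd] at this; omega
  have hle : (o ∩ d).card ≤ 8 := le_of_le_of_eq (Finset.card_le_card Finset.inter_subset_left)
    (octad_card ho)
  rcases card_support_cases (symmDiff_mem_supports (octad_mem_supports ho) (dodecad_mem_supports hd))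
    with hc | hc | hc | hc | hc <;> omega

/-- The octads form a Steiner system S(5, 8, 24). -/
theorem octads_steiner : IsSteinerSystem 5 8 octads := by
  classical
  refine ⟨fun o ho => octad_card ho, ?_⟩
  have hfin : octads.Finite := Set.toFinite _
  have huniq : ∀ (s : Finset GolayPt), s.card = 5 → ∀ o o', o ∈ octads → s ⊆ o → o' ∈ octads →
      s ⊆ o' → o = o' := fun s hs o o' ho hso ho' hso' =>
    octad_eq_of_five_le ho ho' (hs ▸ Finset.card_le_card (Finset.subset_inter hso hso'))
  have hdisj : (↑hfin.toFinset : Set (Finset GolayPt)).PairwiseDisjoint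
      fun o => o.powersetCard 5 := by
    intro o ho o' ho' hne
    rw [Function.onFun, Finset.disjoint_left]
    intro s hs hs'
    rw [Finset.mem_powersetCard] at hs hs'
    simp only [Set.Finite.coe_toFinset] at ho ho'
    exact hne (huniq s hs.2 o o' ho hs.1 ho' hs'.1)
  have hall : hfin.toFinset.biUnion (fun o => o.powersetCard 5) =
      (Finset.univ : Finset GolayPt).powersetCard 5 := by
    refine Finset.eq_of_subset_of_card_le ?_ (le_of_eq ?_)
    · intro s hs
      simp only [Finset.mem_biUnion, Finset.mem_powersetCard] at hs ⊢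
      obtain ⟨o, _, _, hc⟩ := hs
      exact ⟨Finset.subset_univ _, hc⟩
    · rw [Finset.card_biUnion hdisj, Finset.sum_congr rfl (fun o ho => by
        rw [Finset.card_powersetCard, octad_card (hfin.mem_toFinset.1 ho)]),
        Finset.sum_const, ← Set.ncard_eq_toFinset_card _ hfin, octads_ncard,
        Finset.card_powersetCard, Finset.card_univ]
      rw [show Fintype.card GolayPt = 24 by simp]
      decide +kernel
  intro s hs
  have : s ∈ hfin.toFinset.biUnion (fun o => o.powersetCard 5) := by
    rw [hall, Finset.mem_powersetCard]; exact ⟨Finset.subset_univ _, hs⟩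
  simp only [Finset.mem_biUnion, Finset.mem_powersetCard, Set.Finite.mem_toFinset] at this
  obtain ⟨o, ho, hso, -⟩ := this
  exact ⟨o, ⟨ho, hso⟩, fun o' ho' => huniq s hs o' o ho'.1 ho'.2 ho hso⟩

theorem exists_octad {s : Finset GolayPt} (hs : s.card = 5) : ∃ o ∈ octads, s ⊆ o := by
  obtain ⟨o, ho, -⟩ := octads_steiner.2 s hs
  exact ⟨o, ho⟩

/-! ### Permutations preserving the code -/

theorem mem_smul_pts {σ : Equiv.Perm GolayPt} {s : Finset GolayPt} {p : GolayPt} :
    p ∈ σ • s ↔ σ.symm p ∈ s := by
  rw [← Finset.inv_smul_mem_iff]; rfl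

theorem apply_mem_smul_pts {σ : Equiv.Perm GolayPt} {s : Finset GolayPt} {p : GolayPt} :
    σ p ∈ σ • s ↔ p ∈ s := by
  rw [mem_smul_pts, Equiv.symm_apply_apply]

theorem smul_symmDiff_pts (σ : Equiv.Perm GolayPt) (s t : Finset GolayPt) :
    σ • symmDiff s t = symmDiff (σ • s) (σ • t) := by
  ext p; simp only [mem_smul_pts, Finset.mem_symmDiff]

theorem smul_inter_pts (σ : Equiv.Perm GolayPt) (s t : Finset GolayPt) :
    σ • (s ∩ t) = (σ • s) ∩ (σ • t) := by
  ext p; simp only [mem_smul_pts, Finset.mem_inter]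

theorem smul_eq_of_fixed {σ : Equiv.Perm GolayPt} {s : Finset GolayPt} (h : ∀ p ∈ s, σ p = p) :
    σ • s = s := by
  refine (Finset.eq_of_subset_of_card_le (fun p hp => ?_) (Finset.card_smul_finset _ _).le).symm
  rw [← h p hp]; exact apply_mem_smul_pts.2 hp

theorem mem_M24_iff {σ : Equiv.Perm GolayPt} :
    σ ∈ M24 ↔ ∀ s ∈ supports (golayCode : Set (GolayPt → ZMod 2)),
      σ • s ∈ supports (golayCode : Set (GolayPt → ZMod 2)) := by
  simp only [M24, setSystemAut, MulAction.mem_stabilizer_iff]
  constructor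
  · intro h s hs; rw [← h]; exact Set.smul_mem_smul_set hs
  · intro h
    refine Set.eq_of_subset_of_ncard_le ?_ ?_ (Set.toFinite _)
    · rintro _ ⟨s, hs, rfl⟩; exact h s hs
    · rw [Set.ncard_smul_set]

theorem M24_smul_octad {σ : Equiv.Perm GolayPt} (hσ : σ ∈ M24) {o : Finset GolayPt}
    (ho : o ∈ octads) : σ • o ∈ octads :=
  ⟨mem_M24_iff.1 hσ o ho.1, by rw [Finset.card_smul_finset, ho.2]⟩

theorem M24_smul_dodecad {σ : Equiv.Perm GolayPt} (hσ : σ ∈ M24) {d : Finset GolayPt}
    (hd : d ∈ dodecads) : σ • d ∈ dodecads :=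
  ⟨mem_M24_iff.1 hσ d hd.1, by rw [Finset.card_smul_finset, hd.2]⟩

theorem mem_M24_of_basis {σ : Equiv.Perm GolayPt}
    (h : ∀ b ∈ codeBasis, σ • ptsOf b ∈ supports (golayCode : Set (GolayPt → ZMod 2))) :
    σ ∈ M24 := by
  rw [mem_M24_iff]
  intro s hs
  obtain ⟨m, hm, rfl⟩ := mem_supports_iff.1 hs
  rw [inCode, beq_iff_eq] at hm
  rw [← hm]
  clear hm hs
  have h0 : σ • ptsOf 0 ∈ supports (golayCode : Set (GolayPt → ZMod 2)) := by
    have he : ptsOf 0 = ∅ := by ext; simp [mem_ptsOf, hasPt]
    rw [he, Finset.smul_finset_empty]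
    exact mem_supports_iff.2 ⟨0, by decide +kernel, he⟩
  generalize codeBasis = bs at h
  induction bs generalizing m with
  | nil => exact h0
  | cons b bs ih =>
    rw [encC, ptsOf_xor, smul_symmDiff_pts]
    refine symmDiff_mem_supports ?_ (ih _ (fun x hx => h x (List.mem_cons_of_mem _ hx)))
    split
    · exact h b List.mem_cons_self
    · exact h0

theorem M24_eq_setSystemAut_octads : M24 = setSystemAut octads := by
  ext σ
  constructor
  · intro hσ
    simp only [setSystemAut, MulAction.mem_stabilizer_iff]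
    refine Set.eq_of_subset_of_ncard_le ?_ ?_ (Set.toFinite _)
    · rintro _ ⟨o, ho, rfl⟩; exact M24_smul_octad hσ ho
    · rw [Set.ncard_smul_set]
  · intro hσ
    simp only [setSystemAut, MulAction.mem_stabilizer_iff] at hσ
    refine mem_M24_of_basis fun b hb => ?_
    have h8 : ∀ b ∈ codeBasis, b ∈ maskList 8 := by
      intro b hb
      rw [mem_maskList]
      have h : (codeBasis.all fun b => inCode b && popc 24 b == 8) = true := by decide +kernel
      simpa using List.all_eq_true.1 h b hb
    refine octad_mem_supports ?_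
    rw [← hσ]
    exact Set.smul_mem_smul_set (mem_octads_iff.2 ⟨b, h8 b hb, rfl⟩)

/-- The image mask of `m` under a packed permutation. -/
def pimg (l m : ℕ) : ℕ :=
  (List.range 24).foldr (fun i acc => if m.testBit i then 2 ^ app l i ||| acc else acc) 0

/-- A packed permutation maps the mask `b` onto the mask `b'`. -/
def mapsMask (l b b' : ℕ) : Bool :=
  (List.range 24).all fun i => b.testBit i == b'.testBit (app l i)

/-- A packed permutation maps every basis word into the code. -/
def presCode (l : ℕ) : Bool :=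
  codeBasis.all fun b => inCode (pimg l b) && mapsMask l b (pimg l b)

theorem smul_ptsOf {σ : Equiv.Perm GolayPt} {l b b' : ℕ} (hl : Rep ptEnc σ l)
    (h : mapsMask l b b' = true) : σ • ptsOf b = ptsOf b' := by
  ext p
  obtain ⟨q, rfl⟩ := σ.surjective p
  rw [apply_mem_smul_pts, mem_ptsOf, mem_ptsOf]
  simp only [mapsMask, List.all_eq_true, List.mem_range, beq_iff_eq] at h
  have := h _ (ptEnc q).isLt
  rw [hasPt, hasPt, hl q, this]

theorem mem_M24_of_rep {σ : Equiv.Perm GolayPt} {l : ℕ} (hl : Rep ptEnc σ l)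
    (h : presCode l = true) : σ ∈ M24 := by
  refine mem_M24_of_basis fun b hb => ?_
  simp only [presCode, List.all_eq_true, Bool.and_eq_true] at h
  rw [smul_ptsOf hl (h b hb).2]
  exact mem_supports_iff.2 ⟨_, (h b hb).1, rfl⟩

theorem ptsOf_full : ptsOf (2 ^ 24 - 1) = Finset.univ := by
  ext p
  rw [mem_ptsOf, hasPt, Nat.testBit_two_pow_sub_one]
  simp

/-- Steps `(os, x)`: the octads `os` meet the points fixed so far in at least five points and their
intersection contains exactly one further point `x`; at the end all points are fixed. -/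
def closeOK : ℕ → List (List ℕ × ℕ) → Bool
  | F, [] => F == 2 ^ 24 - 1
  | F, (os, x) :: rest =>
    (os.all fun o => inCode o && popc 24 o == 8 && decide (5 ≤ popc 24 (o &&& F))) &&
      decide (x < 24) && !F.testBit x &&
      (F ||| os.foldr (fun o acc => o &&& acc) (2 ^ 24 - 1) == F ||| 2 ^ x) &&
      closeOK (F ||| 2 ^ x) rest

theorem eq_one_of_closeOK {σ : Equiv.Perm GolayPt} (hσ : σ ∈ M24) :
    ∀ (steps : List (List ℕ × ℕ)) (F : ℕ), closeOK F steps = true →
      (∀ p ∈ ptsOf F, σ p = p) → σ = 1 := by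
  intro steps
  induction steps with
  | nil =>
    intro F hok hF
    simp only [closeOK, beq_iff_eq] at hok
    refine Equiv.ext fun p => hF p (mem_ptsOf.2 ?_)
    rw [hok, hasPt, Nat.testBit_two_pow_sub_one]
    simp
  | cons st rest ih =>
    obtain ⟨os, x⟩ := st
    intro F hok hF
    simp only [closeOK, Bool.and_eq_true, List.all_eq_true, beq_iff_eq, decide_eq_true_eq,
      Bool.not_eq_eq_eq_not, Bool.not_true] at hok
    obtain ⟨⟨⟨⟨hos, hx⟩, hxF⟩, hI⟩, hrest⟩ := hok
    set I := os.foldr (fun o acc => o &&& acc) (2 ^ 24 - 1) with hIdef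
    have hIfix : σ • ptsOf I = ptsOf I := by
      rw [hIdef]
      clear hI hIdef I
      induction os with
      | nil =>
        rw [List.foldr_nil, ptsOf_full]
        ext p; simp
      | cons o os iho =>
        rw [List.foldr_cons, ptsOf_and, smul_inter_pts, iho fun o' ho' =>
          hos o' (List.mem_cons_of_mem _ ho')]
        obtain ⟨⟨hc, h8⟩, h5⟩ := hos o List.mem_cons_self
        have ho : ptsOf o ∈ octads := ptsOf_mem_octads hc h8
        have hfix : σ • ptsOf o = ptsOf o := by
          refine octad_eq_of_five_le (M24_smul_octad hσ ho) ho ?_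
          rw [← card_ptsOf, ptsOf_and] at h5
          refine h5.trans (Finset.card_le_card fun p hp => ?_)
          rw [Finset.mem_inter] at hp ⊢
          refine ⟨?_, hp.1⟩
          rw [← hF p hp.2]; exact apply_mem_smul_pts.2 hp.1
        rw [hfix]
    set q := ptEnc.symm ⟨x, hx⟩ with hq
    have hunion : ptsOf F ∪ ptsOf I = ptsOf F ∪ {q} := by
      rw [← ptsOf_or, hI, ptsOf_or, ptsOf_two_pow hx]
    have hqF : q ∉ ptsOf F := by simp [mem_ptsOf, hq, testBit_idx, hxF]
    have hqI : q ∈ ptsOf I := by
      have : q ∈ ptsOf F ∪ ptsOf I := by rw [hunion]; simp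
      exact (Finset.mem_union.1 this).resolve_left hqF
    have hσq : σ q = q := by
      have h1 : σ q ∈ ptsOf I := by rw [← hIfix]; exact apply_mem_smul_pts.2 hqI
      have h2 : σ q ∈ ptsOf F ∪ {q} := by rw [← hunion]; exact Finset.mem_union_right _ h1
      rcases Finset.mem_union.1 h2 with h3 | h3
      · exact absurd (σ.injective (hF _ h3) ▸ h3) hqF
      · exact Finset.mem_singleton.1 h3
    refine ih _ hrest fun p hp => ?_
    rw [ptsOf_or, ptsOf_two_pow hx, Finset.mem_union, Finset.mem_singleton] at hp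
    rcases hp with hp | rfl
    · exact hF p hp
    · exact hσq

end Cfsg.Agent.Mathieu
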