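import Cfsg.Prelude.Def_Spor_Mathieu
import Cfsg.Agent.Lib.Mathieu.Octads
import Cfsg.Agent.Lib.Mathieu.GroupsData

/-!
The Mathieu groups of `Def_Sporadic_a` and `Def_Spor_Mathieu`: orders, generators, transitivity,
transitivity on octads and dodecads, and stabilisers of arbitrary points and dodecads.
-/

set_option autoImplicit false
set_option maxRecDepth 20000

namespace Cfsg.Agent.Mathieu

open Cfsg
open scoped Pointwise

/-! ### Upper bounds along a base -/

/-- The mask of a list of indices. -/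
def maskL (is : List ℕ) : ℕ := is.foldr (fun i m => 2 ^ i ||| m) 0

theorem mem_ptsOf_maskL {is : List ℕ} {p : GolayPt} :
    p ∈ ptsOf (maskL is) ↔ (ptEnc p).val ∈ is := by
  induction is with
  | nil => simp [maskL, mem_ptsOf, hasPt]
  | cons i is ih =>
    have : p ∈ ptsOf (2 ^ i) ↔ (ptEnc p).val = i := by
      simp [mem_ptsOf, hasPt, Nat.testBit_two_pow, eq_comm]
    rw [show maskL (i :: is) = 2 ^ i ||| maskL is from rfl, ptsOf_or, Finset.mem_union, this, ih,
      List.mem_cons]

theorem apply_fixed_of_mem_maskL {σ : Equiv.Perm GolayPt} {is : List ℕ}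
    (h : ∀ i ∈ is, σ (idx ptEnc i) = idx ptEnc i) {p : GolayPt} (hp : p ∈ ptsOf (maskL is)) :
    σ p = p := by
  have := h _ (mem_ptsOf_maskL.1 hp)
  rwa [idx_self] at this

/-- The listed orbit contains all of the region `R` outside the fixed indices. -/
def levelUp (fixed : List ℕ) (R : ℕ) (p : CertLevel) : Bool :=
  decide (p.1 < 24) && R.testBit p.1 && !fixed.contains p.1 &&
    (List.range 24).all fun i => !R.testBit i || fixed.contains i || p.2.1.contains i

theorem orbit_mem {σ : Equiv.Perm GolayPt} {fixed : List ℕ} {R : ℕ} {p : CertLevel}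
    (h : levelUp fixed R p = true) (hfx : ∀ i ∈ fixed, σ (idx ptEnc i) = idx ptEnc i)
    (hR : σ • ptsOf R = ptsOf R) : (ptEnc (σ (idx ptEnc p.1))).val ∈ p.2.1 := by
  simp only [levelUp, Bool.and_eq_true, decide_eq_true_eq, List.all_eq_true, List.mem_range,
    Bool.or_eq_true, Bool.not_eq_eq_eq_not, Bool.not_true, List.contains_iff_mem] at h
  obtain ⟨⟨⟨hb, hbR⟩, hbf⟩, hall⟩ := h
  set j := (ptEnc (σ (idx ptEnc p.1))).val with hj
  have hjR : R.testBit j = true := by
    have : σ (idx ptEnc p.1) ∈ σ • ptsOf R := apply_mem_smul_pts.2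
      (by rw [mem_ptsOf, hasPt, idx_val hb]; exact hbR)
    rwa [hR, mem_ptsOf] at this
  rcases hall j (Fin.isLt _) with (h1 | h1) | h1
  · rw [hjR] at h1; exact absurd h1 (by simp)
  · have h2 := hfx j h1
    rw [hj, idx_self] at h2
    have h3 : (ptEnc (σ (idx ptEnc p.1))).val = p.1 := by rw [σ.injective h2]; exact idx_val hb
    rw [← List.contains_iff_mem, hj, h3, hbf] at h1
    exact absurd h1 (by simp)
  · exact h1

/-- Every level has as orbit at least the region `R` outside the earlier points. -/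
def upFull : List ℕ → ℕ → List CertLevel → Bool
  | _, _, [] => true
  | fixed, R, p :: rest => levelUp fixed R p && upFull (p.1 :: fixed) R rest

theorem upper_full : ∀ (levels : List CertLevel) (fixed : List ℕ) (R : ℕ)
    (K : Subgroup (Equiv.Perm GolayPt)), upFull fixed R levels = true →
    (∀ σ ∈ K, ∀ i ∈ fixed, σ (idx ptEnc i) = idx ptEnc i) →
    (∀ σ ∈ K, σ • ptsOf R = ptsOf R) → Upper ptEnc K levels := by
  intro levels
  induction levels with
  | nil => intros; trivial
  | cons p rest ih =>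
    intro fixed R K hok hfx hR
    simp only [upFull, Bool.and_eq_true] at hok
    refine ⟨fun σ hσ => orbit_mem hok.1 (hfx σ hσ) (hR σ hσ),
      ih _ R _ hok.2 (fun σ hσ => ?_) (fun σ hσ => hR σ hσ.1)⟩
    exact List.forall_mem_cons.2 ⟨hσ.2, hfx σ hσ.1⟩

/-- The checks for the chain of `M24` below the already fixed indices `pre`: full orbits down to
five points of the octad `O`, then the rest of `O`, then its complement, then closure. -/
def m24BaseOK (pre : List ℕ) (l : List CertLevel) (O : ℕ) (steps : List (List ℕ × ℕ)) : Bool :=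
  match l.drop (l.length - 2) with
  | [p, q] =>
    let l₁ := l.take (l.length - 2)
    let fixed := pre ++ l₁.map (fun p => p.1)
    upFull pre (2 ^ 24 - 1) l₁ && inCode O && popc 24 O == 8 &&
      decide (5 ≤ popc 24 (O &&& maskL fixed)) && levelUp fixed O p &&
      levelUp (p.1 :: fixed) ((2 ^ 24 - 1) ^^^ O) q &&
      closeOK (maskL (q.1 :: p.1 :: fixed)) steps
  | _ => false

theorem smul_full (σ : Equiv.Perm GolayPt) : σ • ptsOf (2 ^ 24 - 1) = ptsOf (2 ^ 24 - 1) := by
  rw [ptsOf_full]; ext p; simp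

theorem m24_upper {H : Subgroup (Equiv.Perm GolayPt)} {pre : List ℕ} {l : List CertLevel} {O : ℕ}
    {steps : List (List ℕ × ℕ)} (hok : m24BaseOK pre l O steps = true) (hH : H ≤ M24)
    (hpre : ∀ σ ∈ H, ∀ i ∈ pre, σ (idx ptEnc i) = idx ptEnc i) :
    Upper ptEnc H l ∧ fixList H (l.map fun p => idx ptEnc p.1) = ⊥ := by
  unfold m24BaseOK at hok
  split at hok
  swap; · simp at hok
  rename_i p q hdrop
  set l₁ := l.take (l.length - 2) with hl₁
  have hl : l = l₁ ++ [p, q] := by rw [hl₁, ← hdrop, List.take_append_drop]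
  simp only [Bool.and_eq_true, beq_iff_eq, decide_eq_true_eq] at hok
  obtain ⟨⟨⟨⟨⟨⟨h1, hc⟩, h8⟩, h5⟩, hp⟩, hq⟩, hclose⟩ := hok
  set fixed := pre ++ l₁.map (fun p => p.1) with hfixed
  set K := fixList H (l₁.map fun p => idx ptEnc p.1) with hK
  have hKfix : ∀ σ ∈ K, ∀ i ∈ fixed, σ (idx ptEnc i) = idx ptEnc i := by
    intro σ hσ i hi
    rw [hK, mem_fixList] at hσ
    rcases List.mem_append.1 hi with hi | hi
    · exact hpre σ hσ.1 i hi
    · obtain ⟨x, hx, rfl⟩ := List.mem_map.1 hi
      exact hσ.2 _ (List.mem_map.2 ⟨x, hx, rfl⟩)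
  have hKO : ∀ σ ∈ K, σ • ptsOf O = ptsOf O := by
    intro σ hσ
    have ho : ptsOf O ∈ octads := ptsOf_mem_octads hc h8
    refine octad_eq_of_five_le (M24_smul_octad (hH (mem_fixList.1 hσ).1) ho) ho ?_
    rw [← card_ptsOf, ptsOf_and] at h5
    refine h5.trans (Finset.card_le_card fun x hx => ?_)
    rw [Finset.mem_inter] at hx ⊢
    refine ⟨?_, hx.1⟩
    rw [← apply_fixed_of_mem_maskL (hKfix σ hσ) hx.2]; exact apply_mem_smul_pts.2 hx.1
  refine ⟨?_, ?_⟩
  · rw [hl, upper_append]
    refine ⟨upper_full _ _ _ _ h1 hpre fun σ _ => smul_full σ, ?_, ?_, trivial⟩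
    · exact fun σ hσ => orbit_mem hp (hKfix σ hσ) (hKO σ hσ)
    · intro σ hσ
      refine orbit_mem hq (List.forall_mem_cons.2 ⟨hσ.2, hKfix σ hσ.1⟩) ?_
      rw [ptsOf_xor, smul_symmDiff_pts, smul_full, hKO σ hσ.1]
  · rw [eq_bot_iff]
    intro σ hσ
    rw [Subgroup.mem_bot]
    rw [mem_fixList] at hσ
    refine eq_one_of_closeOK (hH hσ.1) steps _ hclose fun x hx => apply_fixed_of_mem_maskL ?_ hx
    intro i hi
    have hmem : ∀ r ∈ l, σ (idx ptEnc r.1) = idx ptEnc r.1 := fun r hr =>
      hσ.2 _ (List.mem_map.2 ⟨r, hr, rfl⟩)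
    rw [List.mem_cons, List.mem_cons] at hi
    rcases hi with rfl | rfl | hi
    · exact hmem q (by rw [hl]; simp)
    · exact hmem p (by rw [hl]; simp)
    · rcases List.mem_append.1 hi with hi | hi
      · exact hpre σ hσ.1 i hi
      · obtain ⟨x, hx, rfl⟩ := List.mem_map.1 hi
        exact hmem x (by rw [hl]; exact List.mem_append_left _ hx)

/-! ### The dodecad of squares -/

theorem squareDodecad_eq : Spor.squareDodecad = ptsOf dodMask := by
  rw [Spor.squareDodecad, qrWord_eq, support₂_wordOf]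
  congr 1

theorem squareDodecad_mem : Spor.squareDodecad ∈ dodecads := by
  rw [squareDodecad_eq]
  exact ptsOf_mem_dodecads (by decide +kernel) (by decide +kernel)

theorem mapsMask_iff {σ : Equiv.Perm GolayPt} {l b b' : ℕ} (hl : Rep ptEnc σ l) :
    mapsMask l b b' = true ↔ σ • ptsOf b = ptsOf b' := by
  refine ⟨smul_ptsOf hl, fun h => ?_⟩
  simp only [mapsMask, List.all_eq_true, List.mem_range, beq_iff_eq]
  intro i hi
  have := Finset.ext_iff.1 h (σ (idx ptEnc i))
  rw [apply_mem_smul_pts, mem_ptsOf, mem_ptsOf, hasPt, hasPt, hl (idx ptEnc i), idx_val hi] at this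
  exact Bool.eq_iff_iff.2 this

theorem idx_none : idx ptEnc 23 = (none : GolayPt) := by decide +kernel

theorem idx_zero : idx ptEnc 0 = (some 0 : GolayPt) := by decide +kernel

theorem mem_M23_iff {σ : Equiv.Perm GolayPt} : σ ∈ Spor.M23 ↔ σ ∈ M24 ∧ σ none = none := Iff.rfl

theorem mem_M22_iff {σ : Equiv.Perm GolayPt} :
    σ ∈ Spor.M22 ↔ σ ∈ M24 ∧ σ none = none ∧ σ (some 0) = some 0 := by
  simp [Spor.M22, Spor.M23, Subgroup.mem_inf, MulAction.mem_stabilizer_iff, and_assoc]

theorem mem_M12_iff {σ : Equiv.Perm GolayPt} :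
    σ ∈ Spor.M12 ↔ σ ∈ M24 ∧ σ • Spor.squareDodecad = Spor.squareDodecad := Iff.rfl

theorem mem_M11_iff {σ : Equiv.Perm GolayPt} :
    σ ∈ Spor.M11 ↔ σ ∈ Spor.M12 ∧ σ (some 0) = some 0 := Iff.rfl

theorem M23_le_M24 : Spor.M23 ≤ M24 := fun _ h => h.1
theorem M22_le_M24 : Spor.M22 ≤ M24 := fun _ h => h.1.1
theorem M12_le_M24 : Spor.M12 ≤ M24 := fun _ h => h.1
theorem M11_le_M12 : Spor.M11 ≤ Spor.M12 := fun _ h => h.1

/-- An element of `M24` fixing the five points `0, …, 4` and the dodecad of squares is trivial. -/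
theorem eq_one_of_fix_five {σ : Equiv.Perm GolayPt} (hσ : σ ∈ M24)
    (h5 : ∀ i ∈ [4, 3, 2, 1, 0], σ (idx ptEnc i) = idx ptEnc i)
    (hD : σ • Spor.squareDodecad = Spor.squareDodecad) : σ = 1 := by
  set K := fixList M24 (List.map (idx ptEnc) [4, 3, 2, 1, 0]) with hK
  have hKfix : ∀ τ ∈ K, ∀ i ∈ [4, 3, 2, 1, 0], τ (idx ptEnc i) = idx ptEnc i := fun τ hτ i hi =>
    (mem_fixList.1 hτ).2 _ (List.mem_map.2 ⟨i, hi, rfl⟩)
  have hup := m24_upper (H := K) (pre := [4, 3, 2, 1, 0]) (l := levelsFive) (O := octadB)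
    (steps := closeB) (by decide +kernel) (fun τ hτ => (mem_fixList.1 hτ).1) hKfix
  have hreps : ∀ t ∈ allReps levelsFive, ∃ τ ∈ M24, Rep ptEnc τ t := by
    intro t ht
    have h : (allReps levelsFive).all (fun t => permOK 24 t && presCode t) = true := by
      decide +kernel
    have h' := List.all_eq_true.1 h t ht
    rw [Bool.and_eq_true] at h'
    obtain ⟨τ, hτ⟩ := exists_rep (e := ptEnc) h'.1
    exact ⟨τ, mem_M24_of_rep hτ h'.2, hτ⟩
  obtain ⟨r, hr, hrr⟩ := exists_mem_prodList_aux (H := M24) (e := ptEnc) (by norm_num) levelsFive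
    [4, 3, 2, 1, 0] K (by decide) (fun τ hτ hfix => mem_fixList.2 ⟨hτ, fun b hb => by
      obtain ⟨i, hi, rfl⟩ := List.mem_map.1 hb
      exact hfix i hi⟩) (by decide +kernel) hreps hup.1 hup.2 σ
    (mem_fixList.2 ⟨hσ, fun b hb => by
      obtain ⟨i, hi, rfl⟩ := List.mem_map.1 hb
      exact h5 i hi⟩)
  have hall : ((prodList 24 levelsFive).all fun r => !mapsMask r dodMask dodMask || isId 24 r) =
      true := by decide +kernel
  have h := List.all_eq_true.1 hall r hr
  rw [squareDodecad_eq, ← mapsMask_iff hrr] at hD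
  rw [hD] at h
  exact hrr.eq_one (by simpa using h)

/-- Certified order of `G`, equal to the subgroup generated by packed permutations. -/
theorem group_cert {G : Subgroup (Equiv.Perm GolayPt)} {gens : List ℕ}
    {steps : List (ℕ × ℕ × ℕ)} {levels : List CertLevel}
    (hgen : gens.all (permOK 24) = true)
    (hmem : ∀ σ l, l ∈ gens → Rep ptEnc σ l → σ ∈ G)
    (hslp : slpOK 24 gens steps = true)
    (hsub : (allReps levels).all (fun t => (gens ++ steps.map fun s => s.1).contains t) = true)
    (hlev : levelsOK 24 [] levels = true)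
    (hup : Upper ptEnc G levels) (hbot : fixList G (levels.map fun p => idx ptEnc p.1) = ⊥) :
    genGroup ptEnc gens = G ∧ Nat.card G = (levels.map fun p => p.2.1.length).prod ∧
      Chain G (toLevels ptEnc levels) := by
  have hle := genGroup_le hmem
  have hreps := reps_genGroup (e := ptEnc) hgen hslp hsub
  have hrepsG : ∀ t ∈ allReps levels, ∃ σ ∈ G, Rep ptEnc σ t := fun t ht =>
    let ⟨σ, hσ, h⟩ := hreps t ht; ⟨σ, hle hσ, h⟩
  have h1 : Nat.card G = _ := card_of_cert hlev hrepsG hup hbot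
  have h2 : Nat.card (genGroup ptEnc gens) = _ := card_of_cert hlev hreps (upper_mono hle hup)
    (eq_bot_iff.2 (le_trans (fixList_mono hle _) hbot.le))
  exact ⟨Subgroup.eq_of_le_of_card_ge hle (by rw [h1, h2]), h1, chain_of_cert hlev hrepsG hup⟩

theorem gens24_mem : ∀ σ l, l ∈ gens24 → Rep ptEnc σ l → σ ∈ M24 := by
  intro σ l hl hσ
  have h : gens24.all presCode = true := by decide +kernel
  exact mem_M24_of_rep hσ (List.all_eq_true.1 h l hl)

theorem M24_cert : genGroup ptEnc gens24 = M24 ∧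
    Nat.card M24 = (levels24.map fun p => p.2.1.length).prod ∧
    Chain M24 (toLevels ptEnc levels24) := by
  have h := m24_upper (H := M24) (pre := []) (l := levels24) (O := octadA) (steps := closeA)
    (by decide +kernel) le_rfl (by simp)
  exact group_cert (steps := slp24) (by decide +kernel) gens24_mem (by decide +kernel)
    (by decide +kernel) (by decide +kernel) h.1 h.2

theorem card_M24 : Nat.card M24 = 244823040 := by rw [M24_cert.2.1]; decide +kernel

theorem M23_cert : genGroup ptEnc gens23 = Spor.M23 ∧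
    Nat.card Spor.M23 = (levels23.map fun p => p.2.1.length).prod ∧
    Chain Spor.M23 (toLevels ptEnc levels23) := by
  have h := m24_upper (H := Spor.M23) (pre := [23]) (l := levels23) (O := octadA) (steps := closeA)
    (by decide +kernel) M23_le_M24 (by simpa [idx_none] using fun σ hσ => (mem_M23_iff.1 hσ).2)
  refine group_cert (steps := slp23) (by decide +kernel) ?_ (by decide +kernel)
    (by decide +kernel) (by decide +kernel) h.1 h.2
  intro σ l hl hσ
  have hc : gens23.all (fun l => presCode l && app l 23 == 23) = true := by decide +kernel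
  have h' := List.all_eq_true.1 hc l hl
  rw [Bool.and_eq_true, beq_iff_eq] at h'
  refine mem_M23_iff.2 ⟨mem_M24_of_rep hσ h'.1, ?_⟩
  have h1 := hσ.apply_idx (show 23 < 24 by norm_num)
  rwa [h'.2, idx_none] at h1

theorem card_M23 : Nat.card Spor.M23 = 10200960 := by rw [M23_cert.2.1]; decide +kernel

theorem M22_cert : genGroup ptEnc gens22 = Spor.M22 ∧
    Nat.card Spor.M22 = (levels22.map fun p => p.2.1.length).prod ∧
    Chain Spor.M22 (toLevels ptEnc levels22) := by
  have h := m24_upper (H := Spor.M22) (pre := [23, 0]) (l := levels22) (O := octadA)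
    (steps := closeA) (by decide +kernel) M22_le_M24
    (by simpa [idx_none, idx_zero] using fun σ hσ => (mem_M22_iff.1 hσ).2)
  refine group_cert (steps := slp22) (by decide +kernel) ?_ (by decide +kernel)
    (by decide +kernel) (by decide +kernel) h.1 h.2
  intro σ l hl hσ
  have hc : gens22.all (fun l => presCode l && app l 23 == 23 && app l 0 == 0) = true := by
    decide +kernel
  have h' := List.all_eq_true.1 hc l hl
  rw [Bool.and_eq_true, Bool.and_eq_true, beq_iff_eq, beq_iff_eq] at h'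
  have h1 := hσ.apply_idx (show 23 < 24 by norm_num)
  have h2 := hσ.apply_idx (show 0 < 24 by norm_num)
  rw [h'.1.2, idx_none] at h1
  rw [h'.2, idx_zero] at h2
  exact mem_M22_iff.2 ⟨mem_M24_of_rep hσ h'.1.1, h1, h2⟩

theorem card_M22 : Nat.card Spor.M22 = 443520 := by rw [M22_cert.2.1]; decide +kernel

theorem M12_cert : genGroup ptEnc gens12 = Spor.M12 ∧
    Nat.card Spor.M12 = (levels12.map fun p => p.2.1.length).prod ∧
    Chain Spor.M12 (toLevels ptEnc levels12) := by
  have hup : Upper ptEnc Spor.M12 levels12 := by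
    refine upper_full _ [] dodMask _ (by decide +kernel) (by simp) fun σ hσ => ?_
    rw [← squareDodecad_eq]; exact (mem_M12_iff.1 hσ).2
  have hbot : fixList Spor.M12 (levels12.map fun p => idx ptEnc p.1) = ⊥ := by
    rw [eq_bot_iff]
    intro σ hσ
    rw [mem_fixList] at hσ
    rw [Subgroup.mem_bot]
    refine eq_one_of_fix_five (mem_M12_iff.1 hσ.1).1 (fun i hi => ?_) (mem_M12_iff.1 hσ.1).2
    have : i ∈ levels12.map fun p => p.1 := by revert i; decide +kernel
    obtain ⟨p, hp, rfl⟩ := List.mem_map.1 this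
    exact hσ.2 _ (List.mem_map.2 ⟨p, hp, rfl⟩)
  refine group_cert (steps := slp12) (by decide +kernel) ?_ (by decide +kernel)
    (by decide +kernel) (by decide +kernel) hup hbot
  intro σ l hl hσ
  have hc : gens12.all (fun l => presCode l && mapsMask l dodMask dodMask) = true := by
    decide +kernel
  have h' := List.all_eq_true.1 hc l hl
  rw [Bool.and_eq_true, mapsMask_iff hσ, ← squareDodecad_eq] at h'
  exact mem_M12_iff.2 ⟨mem_M24_of_rep hσ h'.1, h'.2⟩

theorem card_M12 : Nat.card Spor.M12 = 95040 := by rw [M12_cert.2.1]; decide +kernel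

theorem M11_cert : genGroup ptEnc gens11 = Spor.M11 ∧
    Nat.card Spor.M11 = (levels11.map fun p => p.2.1.length).prod ∧
    Chain Spor.M11 (toLevels ptEnc levels11) := by
  have hup : Upper ptEnc Spor.M11 levels11 := by
    refine upper_full _ [0] dodMask _ (by decide +kernel)
      (by simpa [idx_zero] using fun σ hσ => (mem_M11_iff.1 hσ).2) fun σ hσ => ?_
    rw [← squareDodecad_eq]; exact (mem_M12_iff.1 (mem_M11_iff.1 hσ).1).2
  have hbot : fixList Spor.M11 (levels11.map fun p => idx ptEnc p.1) = ⊥ := by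
    rw [eq_bot_iff]
    intro σ hσ
    rw [mem_fixList, mem_M11_iff, mem_M12_iff] at hσ
    rw [Subgroup.mem_bot]
    refine eq_one_of_fix_five hσ.1.1.1 (fun i hi => ?_) hσ.1.1.2
    have : i = 0 ∨ i ∈ levels11.map fun p => p.1 := by revert i; decide +kernel
    rcases this with rfl | h
    · rw [idx_zero]; exact hσ.1.2
    · obtain ⟨p, hp, rfl⟩ := List.mem_map.1 h
      exact hσ.2 _ (List.mem_map.2 ⟨p, hp, rfl⟩)
  refine group_cert (steps := slp11) (by decide +kernel) ?_ (by decide +kernel)
    (by decide +kernel) (by decide +kernel) hup hbot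
  intro σ l hl hσ
  have hc : gens11.all (fun l => presCode l && mapsMask l dodMask dodMask && app l 0 == 0) =
      true := by decide +kernel
  have h' := List.all_eq_true.1 hc l hl
  rw [Bool.and_eq_true, Bool.and_eq_true, mapsMask_iff hσ, ← squareDodecad_eq, beq_iff_eq] at h'
  have h1 := hσ.apply_idx (show 0 < 24 by norm_num)
  rw [h'.2, idx_zero] at h1
  exact mem_M11_iff.2 ⟨mem_M12_iff.2 ⟨mem_M24_of_rep hσ h'.1.1, h'.1.2⟩, h1⟩

theorem card_M11 : Nat.card Spor.M11 = 7920 := by rw [M11_cert.2.1]; decide +kernel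

end Cfsg.Agent.Mathieu
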