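import Cfsg.Agent.Lib.Mathieu.Trans
import Cfsg.Agent.Lib.SylL34.L34
import Cfsg.Agent.Lib.GL.Simple

/-!
The stabiliser of three points in `M24` is `PSL(3, 4)`: an explicit labelling of the other 21 points
by the projective plane over the field with four elements, under which the elementary transvections
preserve the code.
-/

set_option autoImplicit false
set_option maxRecDepth 20000

namespace Cfsg.Agent.Mathieu.PlaneStab

open Cfsg Matrix Agent.SylL34 Agent.Mathieu
open scoped MatrixGroups

/-- The coded vector at each index; `0` at the three fixed points. -/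
def vecTbl : List ℕ :=
  [0, 0, 16, 4, 1, 20, 37, 21, 41, 29, 45, 9, 57, 33, 52, 61, 17, 36, 25, 5, 13, 53, 49, 0]

/-- The index of the point spanned by each coded vector. -/
def idxTbl : List ℕ :=
  [23, 4, 4, 4, 3, 19, 20, 11, 3, 11, 19, 20, 3, 20, 11, 19, 2, 16, 22, 13, 5, 7, 15, 8, 14, 18,
   21, 10, 17, 9, 12, 6, 2, 13, 16, 22, 17, 6, 9, 12, 5, 8, 7, 15, 14, 10, 18, 21, 2, 22, 13, 16,
   14, 21, 10, 18, 17, 12, 6, 9, 5, 15, 8, 7]

/-- A field element as a number below four. -/
def encF (x : F4) : ℕ := cond x.l 1 0 + cond x.h 2 0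

/-- A field element from the low two bits of a number. -/
def decF (n : ℕ) : F4 := ⟨n.testBit 0, n.testBit 1⟩

/-- The vector labelling a point. -/
def vecOf (p : GolayPt) : Fin 3 → F4 :=
  let n := vecTbl.getD (ptEnc p).val 0
  ![decF n, decF (n / 4), decF (n / 16)]

/-- The point spanned by a vector. -/
def ptOf (v : Fin 3 → F4) : GolayPt :=
  idx ptEnc (idxTbl.getD (encF (v 0) + 4 * encF (v 1) + 16 * encF (v 2)) 23)

/-- The map of points induced by a matrix. -/
def act (A : Matrix (Fin 3) (Fin 3) F4) (p : GolayPt) : GolayPt :=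
  if vecOf p = 0 then p else ptOf (A *ᵥ vecOf p)

theorem vecOf_ptOf : ∀ v : Fin 3 → F4, v ≠ 0 →
    ∃ c : F4, c ≠ 0 ∧ vecOf (ptOf v) = c • v := by decide +kernel

theorem ptOf_smul : ∀ c : F4, c ≠ 0 → ∀ v : Fin 3 → F4, ptOf (c • v) = ptOf v := by decide +kernel

theorem ptOf_vecOf : ∀ p : GolayPt, vecOf p ≠ 0 → ptOf (vecOf p) = p := by decide +kernel

theorem act_fixed : ∀ A : Matrix (Fin 3) (Fin 3) F4,
    act A none = none ∧ act A (some 0) = some 0 ∧ act A (some 1) = some 1 := fun A =>
  ⟨if_pos (by decide +kernel), if_pos (by decide +kernel), if_pos (by decide +kernel)⟩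

theorem mulVec_ne_zero (g : SL(3, F4)) {v : Fin 3 → F4} (hv : v ≠ 0) :
    (g : Matrix (Fin 3) (Fin 3) F4) *ᵥ v ≠ 0 := by
  intro h
  refine hv ?_
  have e : ((g⁻¹ : SL(3, F4)) : Matrix (Fin 3) (Fin 3) F4) * (g : Matrix (Fin 3) (Fin 3) F4) = 1 :=
    congrArg Subtype.val (inv_mul_cancel g)
  rw [← Matrix.one_mulVec v, ← e, ← Matrix.mulVec_mulVec, h, Matrix.mulVec_zero]

theorem act_mul (g h : SL(3, F4)) (p : GolayPt) :
    act (g * h : SL(3, F4)) p = act g (act h p) := by
  unfold act
  by_cases hp : vecOf p = 0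
  · simp [hp]
  have hw := mulVec_ne_zero h hp
  obtain ⟨c, hc, he⟩ := vecOf_ptOf _ hw
  rw [if_neg hp, if_neg hp, he, if_neg (smul_ne_zero hc hw), Matrix.mulVec_smul, ptOf_smul c hc,
    Matrix.mulVec_mulVec]
  rfl

theorem act_one (p : GolayPt) : act (1 : SL(3, F4)) p = p := by
  unfold act
  by_cases hp : vecOf p = 0
  · rw [if_pos hp]
  · rw [if_neg hp]
    show ptOf ((1 : Matrix (Fin 3) (Fin 3) F4) *ᵥ vecOf p) = p
    rw [Matrix.one_mulVec, ptOf_vecOf p hp]

/-- The action of `SL(3, 4)` on the points. -/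
def actHom : SL(3, F4) →* Equiv.Perm GolayPt where
  toFun g :=
    { toFun := act (g : Matrix (Fin 3) (Fin 3) F4)
      invFun := act ((g⁻¹ : SL(3, F4)) : Matrix (Fin 3) (Fin 3) F4)
      left_inv := fun p => by rw [← act_mul, inv_mul_cancel, act_one]
      right_inv := fun p => by rw [← act_mul, mul_inv_cancel, act_one] }
  map_one' := Equiv.ext act_one
  map_mul' g h := Equiv.ext (act_mul g h)

theorem actHom_apply (g : SL(3, F4)) (p : GolayPt) : actHom g p = act g p := rfl

/-- The packed permutation of a map of points. -/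
def packOf (f : GolayPt → GolayPt) : ℕ :=
  (List.range 24).foldr (fun i acc => (ptEnc (f (idx ptEnc i))).val % 256 + 256 * acc) 0

theorem transvection_check : ∀ i j : Fin 3, i ≠ j → ∀ a : F4,
    presCode (packOf (act (Matrix.transvection i j a))) = true ∧
      ∀ p, (ptEnc (act (Matrix.transvection i j a) p)).val =
        app (packOf (act (Matrix.transvection i j a))) (ptEnc p).val := by decide +kernel

theorem actHom_mem (g : SL(3, F4)) :
    actHom g ∈ Spor.M22 ⊓ MulAction.stabilizer (Equiv.Perm GolayPt) (some 1 : GolayPt) := by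
  obtain ⟨f1, f2, f3⟩ := act_fixed (g : Matrix (Fin 3) (Fin 3) F4)
  refine Subgroup.mem_inf.2 ⟨mem_M22_iff.2 ⟨?_, f1, f2⟩, f3⟩
  have hall : M24.comap actHom = ⊤ := GL.SL_eq_top_of_transvection_mem fun i j hij a => by
    refine mem_M24_of_rep (l := packOf (act (Matrix.transvection i j a))) (fun p => ?_)
      (transvection_check i j hij a).1
    rw [actHom_apply, Matrix.SpecialLinearGroup.transvection_coe]
    exact (transvection_check i j hij a).2 p
  exact (hall ▸ Subgroup.mem_top g : g ∈ M24.comap actHom)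

theorem center_le_ker : Subgroup.center SL(3, F4) ≤ actHom.ker := by
  intro g hg
  obtain ⟨r, hr, hA⟩ := Matrix.SpecialLinearGroup.mem_center_iff.1 hg
  refine Equiv.ext fun p => ?_
  show act g p = p
  unfold act
  by_cases hp : vecOf p = 0
  · rw [if_pos hp]
  have hr0 : r ≠ 0 := fun h => by simp [h] at hr
  rw [if_neg hp, ← hA, show Matrix.scalar (Fin 3) r *ᵥ vecOf p = r • vecOf p from ?_,
    ptOf_smul r hr0, ptOf_vecOf p hp]
  ext i; simp [Matrix.mulVec_diagonal]

theorem card_stab_three :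
    Nat.card ↥(Spor.M22 ⊓ MulAction.stabilizer (Equiv.Perm GolayPt) (some 1 : GolayPt)) = 20160 := by
  have hcard := card_eq_orbit_mul Spor.M22 (some 1 : GolayPt)
    ((Finset.univ.erase none).erase (some 0)) (fun p => ⟨fun hp => ?_, fun hσ => ?_⟩)
  · rw [card_M22, show ((Finset.univ.erase (none : GolayPt)).erase (some 0)).card = 22 from by
      decide] at hcard
    omega
  · simp only [Finset.mem_erase, Finset.mem_univ, and_true] at hp
    obtain ⟨g, hg, h⟩ := M22_exists_map (k := 1) (by norm_num)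
      ⟨fun _ => some 1, Function.injective_of_subsingleton _⟩
      ⟨fun _ => p, Function.injective_of_subsingleton _⟩
      (fun _ => (by decide : (some 1 : GolayPt) ≠ none ∧ (some 1 : GolayPt) ≠ some 0))
      (fun _ => ⟨hp.2, hp.1⟩)
    exact ⟨g, hg, h 0⟩
  · obtain ⟨σ, hσ, rfl⟩ := hσ
    obtain ⟨-, h0, h1⟩ := mem_M22_iff.1 hσ
    simp only [Finset.mem_erase, Finset.mem_univ, and_true]
    exact ⟨fun h => absurd (σ.injective (h.trans h1.symm)) (by decide),
      fun h => absurd (σ.injective (h.trans h0.symm)) (by decide)⟩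

theorem card_PSL34 {F : Type*} [Field F] [Fintype F] (hF : Fintype.card F = 4) :
    Nat.card (Matrix.ProjectiveSpecialLinearGroup (Fin 3) F) = 20160 := by
  have h := GL.gcd_mul_card_PSL (F := F) 3 (by norm_num)
  rw [GL.card_SL_prod, hF] at h
  rw [show Finset.Ico 2 (3 + 1) = ({2, 3} : Finset ℕ) from rfl] at h
  norm_num at h
  omega

/-- `PSL(3, F)` for a field of four elements is the stabiliser of `∞, 0, 1` in `M24`. -/
theorem psl_equiv_stab {F : Type*} [Field F] [Fintype F] (hF : Fintype.card F = 4) :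
    Nonempty (Matrix.ProjectiveSpecialLinearGroup (Fin 3) F ≃*
      ↥(Spor.M22 ⊓ MulAction.stabilizer (Equiv.Perm GolayPt) (some 1 : GolayPt))) := by
  let e : F ≃+* F4 := FiniteField.ringEquivOfCardEq (by rw [hF, card_F4])
  let f := (actHom.comp (Matrix.SpecialLinearGroup.map (n := Fin 3) e.toRingHom)).codRestrict
    (Spor.M22 ⊓ MulAction.stabilizer (Equiv.Perm GolayPt) (some 1 : GolayPt))
    (fun g => actHom_mem _)
  have hker : Subgroup.center (Matrix.SpecialLinearGroup (Fin 3) F) ≤ f.ker := by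
    intro g hg
    obtain ⟨r, hr, hA⟩ := Matrix.SpecialLinearGroup.mem_center_iff.1 hg
    refine Subtype.ext (center_le_ker (Matrix.SpecialLinearGroup.mem_center_iff.2 ⟨e r, ?_, ?_⟩))
    · rw [← map_pow, hr, map_one]
    · show _ = (g : Matrix (Fin 3) (Fin 3) F).map e
      rw [← hA]
      ext i j
      by_cases h : i = j <;> simp [h]
  let φ : Matrix.ProjectiveSpecialLinearGroup (Fin 3) F →* _ := QuotientGroup.lift _ f hker
  have hsimp : IsSimpleGroup (Matrix.ProjectiveSpecialLinearGroup (Fin 3) F) :=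
    GL.PSL_isSimpleGroup_of_three_le (by simp)
  have hinj : Function.Injective φ := by
    rcases hsimp.eq_bot_or_eq_top_of_normal φ.ker inferInstance with h | h
    · exact (MonoidHom.ker_eq_bot_iff φ).1 h
    exfalso
    have h1 : φ (QuotientGroup.mk
        (Matrix.SpecialLinearGroup.transvection (by decide : (0 : Fin 3) ≠ 1) 1)) = 1 := by
      rw [← MonoidHom.mem_ker, h]; trivial
    have h2 := congrArg (fun x : ↥(Spor.M22 ⊓ _) => (x : Equiv.Perm GolayPt) (idx ptEnc 3)) h1
    simp only [φ, f, QuotientGroup.lift_mk, MonoidHom.codRestrict_apply, MonoidHom.comp_apply,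
      OneMemClass.coe_one, Equiv.Perm.one_apply, actHom_apply] at h2
    rw [show ((Matrix.SpecialLinearGroup.map (n := Fin 3) e.toRingHom
        (Matrix.SpecialLinearGroup.transvection (by decide : (0 : Fin 3) ≠ 1) 1) :
          SL(3, F4)) : Matrix (Fin 3) (Fin 3) F4) = Matrix.transvection 0 1 1 from ?_] at h2
    · revert h2; decide +kernel
    · rw [Matrix.SpecialLinearGroup.map_apply_coe, Matrix.SpecialLinearGroup.transvection_coe]
      ext i j
      simp [Matrix.transvection, Matrix.single_apply, Matrix.one_apply, apply_ite e]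
  refine ⟨MulEquiv.ofBijective φ ((Nat.bijective_iff_injective_and_card φ).2 ⟨hinj, ?_⟩)⟩
  rw [card_PSL34 hF, card_stab_three]

theorem stab_triple_equiv {p q r : GolayPt} (hpq : p ≠ q) (hpr : p ≠ r) (hqr : q ≠ r) :
    Nonempty (↥(MulAction.stabilizer M24 p ⊓ MulAction.stabilizer M24 q ⊓
        MulAction.stabilizer M24 r) ≃*
      ↥(Spor.M22 ⊓ MulAction.stabilizer (Equiv.Perm GolayPt) (some 1 : GolayPt))) := by
  obtain ⟨g, hg, h⟩ := M24_exists_map (k := 3) (by norm_num)
    ⟨![(none : GolayPt), some 0, some 1], by decide⟩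
    ⟨![p, q, r], by
      intro i j; fin_cases i <;> fin_cases j <;> simp [hpq, hpr, hqr, hpq.symm, hpr.symm, hqr.symm]⟩
  obtain rfl : g none = p := h 0
  obtain rfl : g (some 0) = q := h 1
  obtain rfl : g (some 1) = r := h 2
  refine ⟨(MulEquiv.subgroupCongr (by rw [stabilizer_prod, stabilizer_prod]; rfl)).trans
    ((stabConjEquiv hg (((none : GolayPt), (some 0 : GolayPt)), (some 1 : GolayPt))).trans
      (MulEquiv.subgroupCongr ?_))⟩
  rw [stabilizer_prod, stabilizer_prod, Spor.M22, Spor.M23]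
  simp only [inf_assoc]

end Cfsg.Agent.Mathieu.PlaneStab
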