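import Cfsg.Agent.Lib.Mathieu.Groups

/-!
Transitivity properties of the Mathieu groups (5-, 4-, 3-fold transitivity, sharpness for M₁₂ and
M₁₁, transitivity on octads and dodecads) and stabilisers of arbitrary points and dodecads as
conjugates of the fixed groups of `Def_Spor_Mathieu`.
-/

set_option autoImplicit false
set_option maxRecDepth 20000

namespace Cfsg.Agent.Mathieu

open Cfsg
open scoped Pointwise

variable {α : Type*}

/-- Boolean form of `FullChain`. -/
def fullB [DecidableEq α] : Finset α → List (α × Finset α) → Bool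
  | _, [] => true
  | Ω, (b, s) :: rest => decide (s = Ω) && fullB (Ω.erase b) rest

theorem fullChain_of_fullB [DecidableEq α] :
    ∀ {levels : List (α × Finset α)} {Ω : Finset α}, fullB Ω levels = true → FullChain Ω levels := by
  intro levels
  induction levels with
  | nil => intros; trivial
  | cons p rest ih =>
    intro Ω h
    simp only [fullB, Bool.and_eq_true, decide_eq_true_eq] at h
    exact ⟨h.1, ih h.2⟩

theorem Chain.take : ∀ {levels : List (α × Finset α)} {H : Subgroup (Equiv.Perm α)} (k : ℕ),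
    Chain H levels → Chain H (levels.take k) := by
  intro levels
  induction levels with
  | nil => intro H k _; rw [List.take_nil]; trivial
  | cons p rest ih =>
    intro H k h
    rcases k with _ | k
    · trivial
    · exact ⟨h.1, ih k h.2⟩

/-- A subgroup with a full chain moves any tuple of distinct points of `Ω` to any other one. -/
theorem Chain.exists_map_embedding [DecidableEq α] {H : Subgroup (Equiv.Perm α)}
    {levels : List (α × Finset α)} {Ω : Finset α} (hc : Chain H levels) (hf : FullChain Ω levels)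
    (hΩ : ∀ σ ∈ H, ∀ x ∈ Ω, σ x ∈ Ω) {k : ℕ} (hk : levels.length = k) (x y : Fin k ↪ α)
    (hx : ∀ i, x i ∈ Ω) (hy : ∀ i, y i ∈ Ω) : ∃ σ ∈ H, ∀ i, σ (x i) = y i := by
  subst hk
  have key : ∀ z : Fin levels.length ↪ α, (∀ i, z i ∈ Ω) →
      ∃ σ ∈ H, ∀ i : Fin levels.length, σ levels[i.val].1 = z i := by
    intro z hz
    obtain ⟨σ, hσ, hmap⟩ := hc.exists_map hf hΩ (List.ofFn z) (by simp)
      (List.nodup_ofFn.2 z.injective) (by simpa using hz)
    refine ⟨σ, hσ, fun i => ?_⟩
    have := congrArg (fun l => l[i.val]?) hmap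
    simpa using this
  obtain ⟨σ, hσ, hσx⟩ := key x hx
  obtain ⟨τ, hτ, hτy⟩ := key y hy
  refine ⟨τ * σ⁻¹, H.mul_mem hτ (H.inv_mem hσ), fun i => ?_⟩
  rw [← hσx i, ← hτy i, Equiv.Perm.mul_apply, Equiv.Perm.inv_def, Equiv.symm_apply_apply]

/-- In a group with a full chain and trivial base stabiliser only the identity fixes a tuple. -/
theorem Chain.eq_one_of_fix [DecidableEq α] {H : Subgroup (Equiv.Perm α)}
    {levels : List (α × Finset α)} {Ω : Finset α} (hc : Chain H levels) (hf : FullChain Ω levels)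
    (hΩ : ∀ σ ∈ H, ∀ x ∈ Ω, σ x ∈ Ω) (hbot : fixList H (levels.map fun p => p.1) = ⊥) {k : ℕ}
    (hk : levels.length = k) (x : Fin k ↪ α) (hx : ∀ i, x i ∈ Ω) {g : Equiv.Perm α} (hg : g ∈ H)
    (hfix : ∀ i, g (x i) = x i) : g = 1 := by
  subst hk
  obtain ⟨σ, hσ, hmap⟩ := hc.exists_map hf hΩ (List.ofFn x) (by simp)
    (List.nodup_ofFn.2 x.injective) (by simpa using hx)
  have h : σ⁻¹ * g * σ ∈ fixList H (levels.map fun p => p.1) := by
    refine mem_fixList.2 ⟨H.mul_mem (H.mul_mem (H.inv_mem hσ) hg) hσ, fun b hb => ?_⟩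
    obtain ⟨i, hi, rfl⟩ := List.getElem_of_mem hb
    have := congrArg (fun l => l[i]?) hmap
    simp only [List.length_map] at hi
    simp [hi] at this
    simp only [List.getElem_map, Equiv.Perm.mul_apply, this, hfix, Equiv.Perm.inv_def,
      Equiv.symm_apply_eq]
  rw [hbot, Subgroup.mem_bot, mul_assoc, inv_mul_eq_one] at h
  exact mul_eq_right.1 h.symm

/-! ### M₂₄ -/

theorem M24_exists_map {k : ℕ} (hk : k ≤ 5) (x y : Fin k ↪ GolayPt) :
    ∃ g ∈ M24, ∀ i, g (x i) = y i := by
  have hlen : (toLevels ptEnc levels24).length = 7 := by decide +kernel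
  refine (M24_cert.2.2.take k).exists_map_embedding (Ω := Finset.univ) (fullChain_of_fullB ?_)
    (fun _ _ _ _ => Finset.mem_univ _) (by rw [List.length_take, hlen]; omega) x y
    (fun _ => Finset.mem_univ _) (fun _ => Finset.mem_univ _)
  interval_cases k <;> decide +kernel

theorem M24_isMultiplyPretransitive : MulAction.IsMultiplyPretransitive M24 GolayPt 5 := by
  refine ⟨fun x y => ?_⟩
  obtain ⟨g, hg, h⟩ := M24_exists_map le_rfl x y
  exact ⟨⟨g, hg⟩, Function.Embedding.ext h⟩

theorem M24_exists_map_point (p q : GolayPt) : ∃ g ∈ M24, g p = q := by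
  obtain ⟨g, hg, h⟩ := M24_exists_map (k := 1) (by norm_num)
    ⟨fun _ => p, Function.injective_of_subsingleton _⟩
    ⟨fun _ => q, Function.injective_of_subsingleton _⟩
  exact ⟨g, hg, h 0⟩

theorem M24_exists_map_pair {p q p' q' : GolayPt} (h : p ≠ q) (h' : p' ≠ q') :
    ∃ g ∈ M24, g p = p' ∧ g q = q' := by
  obtain ⟨g, hg, hgx⟩ := M24_exists_map (k := 2) (by norm_num)
    ⟨![p, q], by intro i j; fin_cases i <;> fin_cases j <;> simp [h, h.symm]⟩
    ⟨![p', q'], by intro i j; fin_cases i <;> fin_cases j <;> simp [h', h'.symm]⟩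
  exact ⟨g, hg, hgx 0, hgx 1⟩

/-- `M24` is transitive on octads, even with five points of each prescribed. -/
theorem M24_exists_map_octad {o o' : Finset GolayPt} (ho : o ∈ octads) (ho' : o' ∈ octads)
    (x y : Fin 5 ↪ GolayPt) (hx : ∀ i, x i ∈ o) (hy : ∀ i, y i ∈ o') :
    ∃ g ∈ M24, g • o = o' ∧ ∀ i, g (x i) = y i := by
  obtain ⟨g, hg, h⟩ := M24_exists_map le_rfl x y
  refine ⟨g, hg, octad_eq_of_five_le (M24_smul_octad hg ho) ho' ?_, h⟩
  have hc : (Finset.univ.map y).card ≤ (g • o ∩ o').card := by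
    refine Finset.card_le_card fun p hp => ?_
    obtain ⟨i, -, rfl⟩ := Finset.mem_map.1 hp
    rw [Finset.mem_inter]
    exact ⟨h i ▸ apply_mem_smul_pts.2 (hx i), hy i⟩
  simpa using hc

theorem exists_embedding_of_le_card {ι : Type*} {s : Finset ι} {k : ℕ} (h : k ≤ s.card) :
    ∃ x : Fin k ↪ ι, ∀ i, x i ∈ s := by
  obtain ⟨t, hts, ht⟩ := Finset.exists_subset_card_eq h
  obtain ⟨f⟩ := Function.Embedding.nonempty_of_card_le (α := Fin k) (β := t) (by simp [ht])
  exact ⟨f.trans (Function.Embedding.subtype _), fun i => hts (f i).2⟩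

theorem M24_transitive_octads {o o' : Finset GolayPt} (ho : o ∈ octads) (ho' : o' ∈ octads) :
    ∃ g ∈ M24, g • o = o' := by
  obtain ⟨x, hx⟩ := exists_embedding_of_le_card (k := 5) (s := o)
    (by rw [octad_card ho]; norm_num)
  obtain ⟨y, hy⟩ := exists_embedding_of_le_card (k := 5) (s := o')
    (by rw [octad_card ho']; norm_num)
  obtain ⟨g, hg, h, -⟩ := M24_exists_map_octad ho ho' x y hx hy
  exact ⟨g, hg, h⟩

/-- The stabiliser in a subgroup, seen inside the permutation group. -/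
def stabEquivInf {β : Type*} [MulAction (Equiv.Perm α) β] (H : Subgroup (Equiv.Perm α)) (x : β) :
    MulAction.stabilizer H x ≃* ↥(H ⊓ MulAction.stabilizer (Equiv.Perm α) x) where
  toFun g := ⟨((g : H) : Equiv.Perm α), (g : H).2, g.2⟩
  invFun g := ⟨⟨(g : Equiv.Perm α), g.2.1⟩, g.2.2⟩
  left_inv _ := rfl
  right_inv _ := rfl
  map_mul' _ _ := rfl

theorem card_stabilizer_M12 :
    Nat.card (MulAction.stabilizer M24 Spor.squareDodecad) = 95040 := by
  rw [Nat.card_congr (stabEquivInf M24 Spor.squareDodecad).toEquiv]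
  exact card_M12

theorem orbit_squareDodecad : MulAction.orbit M24 Spor.squareDodecad = dodecads := by
  refine Set.eq_of_subset_of_ncard_le ?_ ?_ (Set.toFinite _)
  · rintro _ ⟨⟨g, hg⟩, rfl⟩; exact M24_smul_dodecad hg squareDodecad_mem
  · have h := Subgroup.index_mul_card (MulAction.stabilizer M24 Spor.squareDodecad)
    rw [MulAction.index_stabilizer, card_stabilizer_M12, card_M24] at h
    rw [dodecads_ncard]
    omega

theorem M24_exists_map_square {d : Finset GolayPt} (hd : d ∈ dodecads) :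
    ∃ g ∈ M24, g • Spor.squareDodecad = d := by
  rw [← orbit_squareDodecad, MulAction.mem_orbit_iff] at hd
  obtain ⟨⟨g, hg⟩, h⟩ := hd
  exact ⟨g, hg, h⟩

theorem M24_transitive_dodecads {d d' : Finset GolayPt} (hd : d ∈ dodecads) (hd' : d' ∈ dodecads) :
    ∃ g ∈ M24, g • d = d' := by
  obtain ⟨g, hg, rfl⟩ := M24_exists_map_square hd
  obtain ⟨h, hh, rfl⟩ := M24_exists_map_square hd'
  exact ⟨h * g⁻¹, M24.mul_mem hh (M24.inv_mem hg), by rw [mul_smul, inv_smul_smul]⟩

/-! ### M₂₃ and M₂₂ -/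

theorem M23_exists_map {k : ℕ} (hk : k ≤ 4) (x y : Fin k ↪ GolayPt) (hx : ∀ i, x i ≠ none)
    (hy : ∀ i, y i ≠ none) : ∃ g ∈ Spor.M23, ∀ i, g (x i) = y i := by
  have hlen : (toLevels ptEnc levels23).length = 6 := by decide +kernel
  refine (M23_cert.2.2.take k).exists_map_embedding (Ω := Finset.univ.erase none)
    (fullChain_of_fullB ?_) (fun g hg p hp => ?_) (by rw [List.length_take, hlen]; omega) x y
    (fun i => Finset.mem_erase.2 ⟨hx i, Finset.mem_univ _⟩)
    (fun i => Finset.mem_erase.2 ⟨hy i, Finset.mem_univ _⟩)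
  · interval_cases k <;> decide +kernel
  · rw [Finset.mem_erase] at hp ⊢
    refine ⟨fun h => hp.1 (g.injective (h.trans (mem_M23_iff.1 hg).2.symm)), Finset.mem_univ _⟩

theorem M22_exists_map {k : ℕ} (hk : k ≤ 3) (x y : Fin k ↪ GolayPt)
    (hx : ∀ i, x i ≠ none ∧ x i ≠ some 0) (hy : ∀ i, y i ≠ none ∧ y i ≠ some 0) :
    ∃ g ∈ Spor.M22, ∀ i, g (x i) = y i := by
  have hlen : (toLevels ptEnc levels22).length = 5 := by decide +kernel
  refine (M22_cert.2.2.take k).exists_map_embedding
    (Ω := (Finset.univ.erase none).erase (some 0))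
    (fullChain_of_fullB ?_) (fun g hg p hp => ?_) (by rw [List.length_take, hlen]; omega) x y
    (fun i => by simp [hx i]) (fun i => by simp [hy i])
  · interval_cases k <;> decide +kernel
  · obtain ⟨-, h0, h1⟩ := mem_M22_iff.1 hg
    simp only [Finset.mem_erase, Finset.mem_univ, and_true] at hp ⊢
    exact ⟨fun h => hp.1 (g.injective (h.trans h1.symm)),
      fun h => hp.2 (g.injective (h.trans h0.symm))⟩

/-! ### M₁₂ and M₁₁ -/

theorem M12_maps_dodecad {g : Equiv.Perm GolayPt} (hg : g ∈ Spor.M12) {p : GolayPt}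
    (hp : p ∈ Spor.squareDodecad) : g p ∈ Spor.squareDodecad := by
  rw [← (mem_M12_iff.1 hg).2]; exact apply_mem_smul_pts.2 hp

theorem M12_maps_compl {g : Equiv.Perm GolayPt} (hg : g ∈ Spor.M12) {p : GolayPt}
    (hp : p ∉ Spor.squareDodecad) : g p ∉ Spor.squareDodecad := by
  rw [← (mem_M12_iff.1 hg).2]; exact fun h => hp (apply_mem_smul_pts.1 h)

theorem levels12_full : FullChain Spor.squareDodecad (toLevels ptEnc levels12) := by
  rw [squareDodecad_eq]; exact fullChain_of_fullB (by decide +kernel)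

theorem M12_exists_map {k : ℕ} (hk : k ≤ 5) (x y : Fin k ↪ GolayPt)
    (hx : ∀ i, x i ∈ Spor.squareDodecad) (hy : ∀ i, y i ∈ Spor.squareDodecad) :
    ∃ g ∈ Spor.M12, ∀ i, g (x i) = y i := by
  have hlen : (toLevels ptEnc levels12).length = 5 := by decide +kernel
  refine (M12_cert.2.2.take k).exists_map_embedding (fullChain_of_fullB ?_)
    (fun g hg p hp => M12_maps_dodecad hg hp) (by rw [List.length_take, hlen]; omega) x y hx hy
  rw [squareDodecad_eq]
  interval_cases k <;> decide +kernel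

theorem M12_eq_one_of_fix {g : Equiv.Perm GolayPt} (hg : g ∈ Spor.M12) (x : Fin 5 ↪ GolayPt)
    (hx : ∀ i, x i ∈ Spor.squareDodecad) (hfix : ∀ i, g (x i) = x i) : g = 1 := by
  refine M12_cert.2.2.eq_one_of_fix levels12_full (fun g hg p hp => M12_maps_dodecad hg hp) ?_
    (by decide +kernel) x hx hg hfix
  rw [eq_bot_iff]
  intro σ hσ
  rw [mem_fixList] at hσ
  rw [Subgroup.mem_bot]
  refine eq_one_of_fix_five (mem_M12_iff.1 hσ.1).1 (fun i hi => hσ.2 _ ?_) (mem_M12_iff.1 hσ.1).2
  revert i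
  decide +kernel

theorem M12_exists_unique {x y : Fin 5 ↪ GolayPt} (hx : ∀ i, x i ∈ Spor.squareDodecad)
    (hy : ∀ i, y i ∈ Spor.squareDodecad) : ∃! g : Spor.M12, ∀ i, g.val (x i) = y i := by
  obtain ⟨g, hg, h⟩ := M12_exists_map le_rfl x y hx hy
  refine ⟨⟨g, hg⟩, h, fun k hk => Subtype.ext ?_⟩
  have := M12_eq_one_of_fix (Spor.M12.mul_mem (Spor.M12.inv_mem hg) k.2) x hx fun i => by
    rw [Equiv.Perm.mul_apply, hk i, ← h i, Equiv.Perm.inv_def, Equiv.symm_apply_apply]
  exact (inv_mul_eq_one.1 this).symm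

/-- `M11` is 4-transitive on the other eleven points of the dodecad. -/
theorem M11_exists_map {k : ℕ} (hk : k ≤ 4) (x y : Fin k ↪ GolayPt)
    (hx : ∀ i, x i ∈ Spor.squareDodecad.erase (some 0))
    (hy : ∀ i, y i ∈ Spor.squareDodecad.erase (some 0)) :
    ∃ g ∈ Spor.M11, ∀ i, g (x i) = y i := by
  have hlen : (toLevels ptEnc levels11).length = 4 := by decide +kernel
  refine (M11_cert.2.2.take k).exists_map_embedding (fullChain_of_fullB ?_)
    (fun g hg p hp => ?_) (by rw [List.length_take, hlen]; omega) x y hx hy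
  · rw [squareDodecad_eq]
    interval_cases k <;> decide +kernel
  · obtain ⟨h12, h0⟩ := mem_M11_iff.1 hg
    rw [Finset.mem_erase] at hp ⊢
    exact ⟨fun h => hp.1 (g.injective (h.trans h0.symm)), M12_maps_dodecad h12 hp.2⟩

/-- `M11` is 3-transitive on the complement of the dodecad. -/
theorem M11_exists_map_compl {k : ℕ} (hk : k ≤ 3) (x y : Fin k ↪ GolayPt)
    (hx : ∀ i, x i ∉ Spor.squareDodecad) (hy : ∀ i, y i ∉ Spor.squareDodecad) :
    ∃ g ∈ Spor.M11, ∀ i, g (x i) = y i := by
  have hreps : ∀ t ∈ allReps levels11Out, ∃ σ ∈ Spor.M11, Rep ptEnc σ t := by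
    rw [← M11_cert.1]
    exact reps_genGroup (steps := slp11Out) (by decide +kernel) (by decide +kernel)
      (by decide +kernel)
  have hup : Upper ptEnc Spor.M11 levels11Out := by
    refine upper_full _ [0] ((2 ^ 24 - 1) ^^^ dodMask) _ (by decide +kernel)
      (by simpa [idx_zero] using fun σ hσ => (mem_M11_iff.1 hσ).2) fun σ hσ => ?_
    rw [ptsOf_xor, smul_symmDiff_pts, smul_full, ← squareDodecad_eq,
      (mem_M12_iff.1 (mem_M11_iff.1 hσ).1).2]
  have hc := chain_of_cert (by decide +kernel) hreps hup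
  have hlen : (toLevels ptEnc levels11Out).length = 3 := by decide +kernel
  refine (hc.take k).exists_map_embedding (Ω := Spor.squareDodecadᶜ) (fullChain_of_fullB ?_)
    (fun g hg p hp => ?_) (by rw [List.length_take, hlen]; omega) x y
    (fun i => Finset.mem_compl.2 (hx i)) (fun i => Finset.mem_compl.2 (hy i))
  · rw [squareDodecad_eq]
    interval_cases k <;> decide +kernel
  · rw [Finset.mem_compl] at hp ⊢
    exact M12_maps_compl (mem_M11_iff.1 hg).1 hp

/-! ### Stabilisers of arbitrary points and dodecads -/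

/-- Moving the stabilised object by an element of `H` conjugates the stabiliser in `H`. -/
theorem map_conj_inf_stabilizer {β : Type*} [MulAction (Equiv.Perm α) β]
    {H : Subgroup (Equiv.Perm α)} {g : Equiv.Perm α} (hg : g ∈ H) (x : β) :
    (H ⊓ MulAction.stabilizer (Equiv.Perm α) x).map (MulAut.conj g).toMonoidHom =
      H ⊓ MulAction.stabilizer (Equiv.Perm α) (g • x) := by
  ext σ
  simp only [Subgroup.mem_map, Subgroup.mem_inf, MulAction.mem_stabilizer_iff,
    MulEquiv.coe_toMonoidHom, MulAut.conj_apply]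
  constructor
  · rintro ⟨τ, ⟨hτ, hτx⟩, rfl⟩
    exact ⟨H.mul_mem (H.mul_mem hg hτ) (H.inv_mem hg), by rw [mul_smul, mul_smul, inv_smul_smul, hτx]⟩
  · rintro ⟨hσ, hσx⟩
    refine ⟨g⁻¹ * σ * g, ⟨H.mul_mem (H.mul_mem (H.inv_mem hg) hσ) hg, ?_⟩, by group⟩
    rw [mul_smul, mul_smul, hσx, inv_smul_smul]

/-- Stabilisers of points of one orbit are isomorphic. -/
noncomputable def stabConjEquiv {β : Type*} [MulAction (Equiv.Perm α) β]
    {H : Subgroup (Equiv.Perm α)} {g : Equiv.Perm α} (hg : g ∈ H) (x : β) :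
    MulAction.stabilizer H (g • x) ≃* ↥(H ⊓ MulAction.stabilizer (Equiv.Perm α) x) :=
  ((stabEquivInf H (g • x)).trans (MulEquiv.subgroupCongr (map_conj_inf_stabilizer hg x).symm)).trans
    (Subgroup.equivMapOfInjective _ _ (MulAut.conj g).injective).symm

theorem stabilizer_prod {G β γ : Type*} [Group G] [MulAction G β] [MulAction G γ] (x : β) (y : γ) :
    MulAction.stabilizer G (x, y) = MulAction.stabilizer G x ⊓ MulAction.stabilizer G y := by
  ext g; simp [Prod.ext_iff]

theorem stab_point_equiv (p : GolayPt) :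
    Nonempty (MulAction.stabilizer M24 p ≃* Spor.M23) := by
  obtain ⟨g, hg, rfl⟩ := M24_exists_map_point none p
  exact ⟨stabConjEquiv hg (none : GolayPt)⟩

theorem stab_pair_equiv {p q : GolayPt} (h : p ≠ q) :
    Nonempty (↥(MulAction.stabilizer M24 p ⊓ MulAction.stabilizer M24 q) ≃* Spor.M22) := by
  obtain ⟨g, hg, rfl, rfl⟩ := M24_exists_map_pair (p := (none : GolayPt)) (q := some 0) (by simp) h
  refine ⟨(MulEquiv.subgroupCongr (stabilizer_prod (G := M24) _ _).symm).trans
    ((stabConjEquiv hg ((none : GolayPt), (some 0 : GolayPt))).trans (MulEquiv.subgroupCongr ?_))⟩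
  rw [stabilizer_prod, Spor.M22, Spor.M23, inf_assoc]

theorem stab_dodecad_equiv {d : Finset GolayPt} (hd : d ∈ dodecads) :
    Nonempty (MulAction.stabilizer M24 d ≃* Spor.M12) := by
  obtain ⟨g, hg, rfl⟩ := M24_exists_map_square hd
  exact ⟨stabConjEquiv hg Spor.squareDodecad⟩

/-- Any pair of a dodecad and one of its points is an image of the dodecad of squares and `0`. -/
theorem M24_exists_map_square_point {d : Finset GolayPt} (hd : d ∈ dodecads) {p : GolayPt}
    (hp : p ∈ d) : ∃ g ∈ M24, g • Spor.squareDodecad = d ∧ g (some 0) = p := by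
  obtain ⟨g, hg, rfl⟩ := M24_exists_map_square hd
  rw [mem_smul_pts] at hp
  have h0 : (some 0 : GolayPt) ∈ Spor.squareDodecad := by rw [squareDodecad_eq]; decide +kernel
  obtain ⟨h, hh, hh'⟩ := M12_exists_map (k := 1) (by norm_num)
    ⟨fun _ => some 0, Function.injective_of_subsingleton _⟩
    ⟨fun _ => g.symm p, Function.injective_of_subsingleton _⟩ (fun _ => h0) (fun _ => hp)
  refine ⟨g * h, M24.mul_mem hg (M12_le_M24 hh), ?_, ?_⟩
  · rw [mul_smul, (mem_M12_iff.1 hh).2]
  · rw [Equiv.Perm.mul_apply, show h (some 0) = g.symm p from hh' 0, Equiv.apply_symm_apply]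

theorem stab_dodecad_point_equiv {d : Finset GolayPt} (hd : d ∈ dodecads) {p : GolayPt}
    (hp : p ∈ d) :
    Nonempty (↥(MulAction.stabilizer M24 d ⊓ MulAction.stabilizer M24 p) ≃* Spor.M11) := by
  obtain ⟨g, hg, rfl, rfl⟩ := M24_exists_map_square_point hd hp
  refine ⟨(MulEquiv.subgroupCongr (stabilizer_prod (G := M24) _ _).symm).trans
    ((stabConjEquiv hg (Spor.squareDodecad, (some 0 : GolayPt))).trans
      (MulEquiv.subgroupCongr ?_))⟩
  rw [stabilizer_prod, Spor.M11, Spor.M12, inf_assoc]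

end Cfsg.Agent.Mathieu
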