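import Cfsg.Agent.Lib.Mathieu.Trans

/-!
The named permutations of `Def_Sporadic_a` lie in and generate `M24`.
-/

set_option autoImplicit false
set_option maxRecDepth 20000

namespace Cfsg.Agent.Mathieu

open Cfsg
open scoped Pointwise

/-- Packed form of multiplication by `a` on the residues. -/
def mulPack (a : ℕ) : ℕ :=
  (List.range 24).foldr (fun i acc => (if i = 23 then 23 else a * i % 23) + 256 * acc) 0

theorem optionCongr_mulLeft_mem (u : (ZMod 23)ˣ) (hu : IsSquare u) :
    Equiv.optionCongr (Units.mulLeft u) ∈ M24 := by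
  obtain ⟨r, rfl⟩ := hu
  have : Fact (1 < 23) := ⟨by norm_num⟩
  have h1 : ∀ (a : ZMod 23) (p : GolayPt),
      (ptEnc (p.map (a * ·))).val = app (mulPack a.val) (ptEnc p).val := by decide +kernel
  have h2 : ∀ r : ZMod 23, r ≠ 0 → presCode (mulPack (r * r).val) = true := by decide +kernel
  refine mem_M24_of_rep (l := mulPack ((r * r : (ZMod 23)ˣ) : ZMod 23).val) (fun p => ?_)
    (by rw [Units.val_mul]; exact h2 _ r.ne_zero)
  rw [← h1]
  rfl

theorem named_gens :
    ∀ l ∈ gens24, Rep ptEnc (Equiv.optionCongr (Equiv.addRight (1 : ZMod 23))) l ∨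
      Rep ptEnc projInv l ∨ Rep ptEnc cubeTwist l := by
  decide +kernel

theorem named_gens_rep :
    (∃ l ∈ gens24, Rep ptEnc (Equiv.optionCongr (Equiv.addRight (1 : ZMod 23))) l) ∧
      (∃ l ∈ gens24, Rep ptEnc projInv l) ∧ ∃ l ∈ gens24, Rep ptEnc cubeTwist l := by
  decide +kernel

theorem translation_mem : Equiv.optionCongr (Equiv.addRight (1 : ZMod 23)) ∈ M24 :=
  let ⟨l, hl, h⟩ := named_gens_rep.1; gens24_mem _ l hl h

theorem projInv_mem : projInv ∈ M24 :=
  let ⟨l, hl, h⟩ := named_gens_rep.2.1; gens24_mem _ l hl h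

theorem cubeTwist_mem : cubeTwist ∈ M24 :=
  let ⟨l, hl, h⟩ := named_gens_rep.2.2; gens24_mem _ l hl h

theorem M24_eq_closure :
    Subgroup.closure {Equiv.optionCongr (Equiv.addRight (1 : ZMod 23)), projInv, cubeTwist} = M24 := by
  refine le_antisymm ((Subgroup.closure_le _).2 ?_) ?_
  · rintro σ (rfl | rfl | rfl)
    exacts [translation_mem, projInv_mem, cubeTwist_mem]
  · conv_lhs => rw [← M24_cert.1]
    refine genGroup_le fun σ l hl hσ => Subgroup.subset_closure ?_
    rcases named_gens l hl with h | h | h <;> rw [hσ.unique h] <;> simp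

end Cfsg.Agent.Mathieu
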