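import Cfsg.Prelude.Def_SporadicCombinatorics
import Cfsg.Agent.Lib.Mathieu.Trans

/-!
Sextets, trios and complementary pairs of dodecads: basic theory and counts.
-/

set_option autoImplicit false
set_option maxRecDepth 20000

namespace Cfsg.Agent.Mathieu

open Cfsg
open scoped Pointwise

theorem univ_mem_supports :
    (Finset.univ : Finset GolayPt) ∈ supports (golayCode : Set (GolayPt → ZMod 2)) :=
  mem_supports_iff.2 ⟨2 ^ 24 - 1, by decide +kernel, ptsOf_full⟩

theorem compl_mem_supports {s : Finset GolayPt}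
    (hs : s ∈ supports (golayCode : Set (GolayPt → ZMod 2))) :
    sᶜ ∈ supports (golayCode : Set (GolayPt → ZMod 2)) := by
  have : symmDiff Finset.univ s = sᶜ := by
    ext p; simp [Finset.mem_symmDiff]
  rw [← this]
  exact symmDiff_mem_supports univ_mem_supports hs

theorem card_univ_pts : (Finset.univ : Finset GolayPt).card = 24 := by simp

theorem dodecad_compl {d : Finset GolayPt} (hd : d ∈ dodecads) : dᶜ ∈ dodecads :=
  ⟨compl_mem_supports hd.1, by
    rw [Finset.card_compl, dodecad_card hd, ← Finset.card_univ, card_univ_pts]⟩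

/-! ### Sextets -/

/-- All octads as a finite set. -/
noncomputable def octadSet : Finset (Finset GolayPt) := (Set.toFinite octads).toFinset

theorem mem_octadSet {o : Finset GolayPt} : o ∈ octadSet ↔ o ∈ octads :=
  Set.Finite.mem_toFinset _

theorem card_octadSet : octadSet.card = 759 := by
  rw [octadSet, ← Set.ncard_eq_toFinset_card, octads_ncard]

open Classical in
/-- The six tetrads determined by one of them. -/
noncomputable def sextetOf (t : Finset GolayPt) : Finset (Finset GolayPt) :=
  insert t ((octadSet.filter fun o => t ⊆ o).image fun o => o \ t)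

theorem inter_eq_of_octads {o o' t : Finset GolayPt} (ho : o ∈ octads) (ho' : o' ∈ octads)
    (hne : o ≠ o') (h : t ⊆ o) (h' : t ⊆ o') (ht : t.card = 4) : o ∩ o' = t := by
  refine (Finset.eq_of_subset_of_card_le (Finset.subset_inter h h') ?_).symm
  rcases octad_inter_card ho ho' hne with hc | hc | hc <;> omega

theorem card_octads_through {t : Finset GolayPt} (ht : t.card = 4) :
    (octadSet.filter fun o => t ⊆ o).card = 5 := by
  classical
  set F := octadSet.filter fun o => t ⊆ o with hF
  have hmem : ∀ o ∈ F, o ∈ octads ∧ t ⊆ o := fun o ho => by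
    simpa [hF, mem_octadSet] using ho
  have hdisj : (F : Set (Finset GolayPt)).PairwiseDisjoint fun o => o \ t := by
    intro o ho o' ho' hne
    obtain ⟨h1, h2⟩ := hmem o ho
    obtain ⟨h1', h2'⟩ := hmem o' ho'
    rw [Function.onFun, Finset.disjoint_left]
    intro p hp hp'
    rw [Finset.mem_sdiff] at hp hp'
    have : p ∈ t := inter_eq_of_octads h1 h1' hne h2 h2' ht ▸ Finset.mem_inter.2 ⟨hp.1, hp'.1⟩
    exact hp.2 this
  have hU : F.biUnion (fun o => o \ t) = tᶜ := by
    ext p
    simp only [Finset.mem_biUnion, Finset.mem_sdiff, Finset.mem_compl]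
    refine ⟨fun ⟨o, _, _, hp⟩ => hp, fun hp => ?_⟩
    obtain ⟨o, ho, hso⟩ := exists_octad (s := insert p t) (by rw [Finset.card_insert_of_notMem hp, ht])
    exact ⟨o, by simp [hF, mem_octadSet, ho, (Finset.insert_subset_iff.1 hso).2],
      (Finset.insert_subset_iff.1 hso).1, hp⟩
  have hc := congrArg Finset.card hU
  rw [Finset.card_biUnion hdisj, Finset.sum_congr rfl (g := fun _ => 4) (fun o ho => by
    rw [Finset.card_sdiff_of_subset (hmem o ho).2, octad_card (hmem o ho).1, ht]),
    Finset.sum_const, Finset.card_compl, ht, ← Finset.card_univ, card_univ_pts, smul_eq_mul] at hc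
  omega

theorem mem_sextetOf {t u : Finset GolayPt} :
    u ∈ sextetOf t ↔ u = t ∨ ∃ o ∈ octads, t ⊆ o ∧ o \ t = u := by
  simp [sextetOf, mem_octadSet, and_assoc]

theorem sextetOf_mem {t : Finset GolayPt} (ht : t.card = 4) : sextetOf t ∈ sextets := by
  classical
  have hsd : ∀ o ∈ octads, t ⊆ o → (o \ t).card = 4 := fun o ho h => by
    rw [Finset.card_sdiff_of_subset h, octad_card ho, ht]
  have hpair : ∀ o ∈ octads, t ⊆ o → t ∪ (o \ t) ∈ octads := fun o ho h => by
    rwa [Finset.union_sdiff_of_subset h]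
  refine ⟨?_, fun u hu => ?_, fun a ha b hb hne => ?_⟩
  · rw [sextetOf, Finset.card_insert_of_notMem, Finset.card_image_of_injOn, card_octads_through ht]
    · intro o ho o' ho' he
      simp only [Finset.coe_filter, Set.mem_ofPred_eq, mem_octadSet] at ho ho'
      rw [← Finset.union_sdiff_of_subset ho.2, ← Finset.union_sdiff_of_subset ho'.2]
      exact congrArg (t ∪ ·) he
    · intro hmem
      obtain ⟨o, ho, he⟩ := Finset.mem_image.1 hmem
      simp only [Finset.mem_filter, mem_octadSet] at ho
      obtain ⟨p, hp⟩ := Finset.card_pos.1 (show 0 < t.card by omega)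
      exact (Finset.mem_sdiff.1 (he.symm ▸ hp)).2 hp
  · rcases mem_sextetOf.1 hu with rfl | ⟨o, ho, hto, rfl⟩
    exacts [ht, hsd o ho hto]
  · rcases mem_sextetOf.1 ha with rfl | ⟨o, ho, hto, rfl⟩ <;>
      rcases mem_sextetOf.1 hb with rfl | ⟨o', ho', hto', rfl⟩
    · exact absurd rfl hne
    · exact hpair o' ho' hto'
    · rw [Finset.union_comm]; exact hpair o ho hto
    · have hne' : o ≠ o' := fun h => hne (h ▸ rfl)
      have hI := inter_eq_of_octads ho ho' hne' hto hto' ht
      have he : (o \ t) ∪ (o' \ t) = symmDiff o o' := by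
        ext p
        have h1 : p ∈ t ↔ p ∈ o ∧ p ∈ o' := by rw [← hI, Finset.mem_inter]
        simp only [Finset.mem_union, Finset.mem_sdiff, Finset.mem_symmDiff, h1]
        tauto
      rw [he]
      refine ⟨symmDiff_mem_supports (octad_mem_supports ho) (octad_mem_supports ho'), ?_⟩
      have := card_inter_add_card_symmDiff o o'
      rw [hI, ht, octad_card ho, octad_card ho'] at this
      omega

theorem eq_sextetOf {S : Finset (Finset GolayPt)} (hS : S ∈ sextets) {t : Finset GolayPt}
    (ht : t ∈ S) : S = sextetOf t := by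
  classical
  obtain ⟨hc, h4, hpair⟩ := hS
  refine Finset.eq_of_subset_of_card_le (fun u hu => ?_) (by rw [(sextetOf_mem (h4 t ht)).1, hc])
  by_cases hut : u = t
  · exact mem_sextetOf.2 (Or.inl hut)
  have ho := hpair t ht u hu (Ne.symm hut)
  have hdisj : Disjoint t u := by
    rw [Finset.disjoint_iff_inter_eq_empty, ← Finset.card_eq_zero]
    have := Finset.card_union_add_card_inter t u
    rw [octad_card ho, h4 t ht, h4 u hu] at this
    omega
  refine mem_sextetOf.2 (Or.inr ⟨t ∪ u, ho, Finset.subset_union_left, ?_⟩)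
  ext p
  simp only [Finset.mem_sdiff, Finset.mem_union]
  have : p ∈ t → p ∉ u := fun h => Finset.disjoint_left.1 hdisj h
  tauto

theorem sextets_ncard : sextets.ncard = 1771 := by
  classical
  set P := (Finset.univ : Finset GolayPt).powersetCard 4 with hP
  have hset : sextets = ↑(P.image sextetOf) := by
    ext S
    simp only [Finset.coe_image, Set.mem_image, Finset.mem_coe, hP, Finset.mem_powersetCard_univ]
    refine ⟨fun hS => ?_, by rintro ⟨t, ht, rfl⟩; exact sextetOf_mem ht⟩
    obtain ⟨t, ht⟩ := Finset.card_pos.1 (show 0 < S.card by rw [hS.1]; norm_num)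
    exact ⟨t, hS.2.1 t ht, (eq_sextetOf hS ht).symm⟩
  have hfib : ∀ S ∈ P.image sextetOf, (P.filter fun t => sextetOf t = S).card = 6 := by
    intro S hS
    obtain ⟨t, ht, rfl⟩ := Finset.mem_image.1 hS
    rw [hP, Finset.mem_powersetCard_univ] at ht
    have hS := sextetOf_mem ht
    refine Eq.trans (congrArg Finset.card ?_) hS.1
    ext u
    simp only [Finset.mem_filter, hP, Finset.mem_powersetCard_univ]
    exact ⟨fun h => h.2 ▸ mem_sextetOf.2 (Or.inl rfl), fun h => ⟨hS.2.1 u h, (eq_sextetOf hS h).symm⟩⟩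
  have hc := Finset.card_eq_sum_card_image sextetOf P
  rw [Finset.sum_congr rfl hfib, Finset.sum_const, smul_eq_mul, hP, Finset.card_powersetCard,
    card_univ_pts, show Nat.choose 24 4 = 10626 by decide +kernel] at hc
  rw [hset, Set.ncard_coe_finset, hP]
  omega

theorem smul_union_pts (σ : Equiv.Perm GolayPt) (s t : Finset GolayPt) :
    σ • (s ∪ t) = (σ • s) ∪ (σ • t) := by
  ext p; simp only [mem_smul_pts, Finset.mem_union]

theorem smul_compl_pts (σ : Equiv.Perm GolayPt) (s : Finset GolayPt) : σ • sᶜ = (σ • s)ᶜ := by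
  ext p; simp only [mem_smul_pts, Finset.mem_compl]

theorem M24_smul_sextet {σ : Equiv.Perm GolayPt} (hσ : σ ∈ M24) {S : Finset (Finset GolayPt)}
    (hS : S ∈ sextets) : σ • S ∈ sextets := by
  refine ⟨by rw [Finset.card_smul_finset, hS.1], fun u hu => ?_, fun a ha b hb hne => ?_⟩
  · obtain ⟨t, ht, rfl⟩ := Finset.mem_smul_finset.1 hu
    rw [Finset.card_smul_finset, hS.2.1 t ht]
  · obtain ⟨a', ha', rfl⟩ := Finset.mem_smul_finset.1 ha
    obtain ⟨b', hb', rfl⟩ := Finset.mem_smul_finset.1 hb
    rw [← smul_union_pts]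
    exact M24_smul_octad hσ (hS.2.2 a' ha' b' hb' fun h => hne (h ▸ rfl))

/-! ### Trios -/

theorem union_compl_octad {o o' : Finset GolayPt} (ho : o ∈ octads) (ho' : o' ∈ octads)
    (hd : Disjoint o o') : (o ∪ o')ᶜ ∈ octads := by
  have he : symmDiff o o' = o ∪ o' := hd.symmDiff_eq_sup
  refine ⟨compl_mem_supports (he ▸ symmDiff_mem_supports (octad_mem_supports ho)
    (octad_mem_supports ho')), ?_⟩
  rw [Finset.card_compl, Finset.card_union_of_disjoint hd, octad_card ho, octad_card ho',
    ← Finset.card_univ, card_univ_pts]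

theorem trio_eq {T : Finset (Finset GolayPt)} (hT : T ∈ trios) {o o' : Finset GolayPt} (ho : o ∈ T)
    (ho' : o' ∈ T) (hne : o ≠ o') : T = {o, o', (o ∪ o')ᶜ} := by
  classical
  obtain ⟨hc, hoct, hd⟩ := hT
  obtain ⟨q, hq, hqo, hqo'⟩ : ∃ q ∈ T, q ≠ o ∧ q ≠ o' := by
    by_contra! hcon
    have hle : T.card ≤ ({o, o'} : Finset (Finset GolayPt)).card :=
      Finset.card_le_card fun q hq => by
        by_cases h : q = o
        · simp [h]
        · simp [hcon q hq h]
    rw [Finset.card_pair hne] at hle
    omega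
  have hq' : q = (o ∪ o')ᶜ := by
    refine Finset.eq_of_subset_of_card_le (fun p hp => ?_) ?_
    · simp only [Finset.mem_compl, Finset.mem_union, not_or]
      exact ⟨fun h => Finset.disjoint_left.1 (hd q hq o ho hqo) hp h,
        fun h => Finset.disjoint_left.1 (hd q hq o' ho' hqo') hp h⟩
    · rw [octad_card (union_compl_octad (hoct o ho) (hoct o' ho') (hd o ho o' ho' hne)),
        octad_card (hoct q hq)]
  subst hq'
  refine (Finset.eq_of_subset_of_card_le ?_ ?_).symm
  · simp [Finset.insert_subset_iff, ho, ho', hq, -Finset.compl_union]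
  · rw [Finset.card_insert_of_notMem (by simp [hne, Ne.symm hqo, -Finset.compl_union]),
      Finset.card_pair (Ne.symm hqo'), hc]

theorem M24_smul_trio {σ : Equiv.Perm GolayPt} (hσ : σ ∈ M24) {T : Finset (Finset GolayPt)}
    (hT : T ∈ trios) : σ • T ∈ trios := by
  refine ⟨by rw [Finset.card_smul_finset, hT.1], fun u hu => ?_, fun a ha b hb hne => ?_⟩
  · obtain ⟨t, ht, rfl⟩ := Finset.mem_smul_finset.1 hu
    exact M24_smul_octad hσ (hT.2.1 t ht)
  · obtain ⟨a', ha', rfl⟩ := Finset.mem_smul_finset.1 ha
    obtain ⟨b', hb', rfl⟩ := Finset.mem_smul_finset.1 hb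
    have := hT.2.2 a' ha' b' hb' fun h => hne (h ▸ rfl)
    rw [Finset.disjoint_left] at this ⊢
    intro p hp hp'
    rw [mem_smul_pts] at hp hp'
    exact this hp hp'

/-- The mask of a reference octad. -/
def refOctad : ℕ := 0x149f

theorem refOctad_mem : ptsOf refOctad ∈ octads :=
  ptsOf_mem_octads (by decide +kernel) (by decide +kernel)

theorem ptsOf_disjoint {a b : ℕ} (h : a &&& b = 0) : Disjoint (ptsOf a) (ptsOf b) := by
  rw [Finset.disjoint_iff_inter_eq_empty, ← ptsOf_and, h]
  ext; simp [mem_ptsOf, hasPt]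

theorem and_eq_zero_of_disjoint {a b : ℕ} (ha : a < 2 ^ 24) (h : Disjoint (ptsOf a) (ptsOf b)) :
    a &&& b = 0 := by
  refine ptsOf_inj (Nat.lt_of_le_of_lt Nat.and_le_left ha) (by norm_num) ?_
  rw [ptsOf_and, Finset.disjoint_iff_inter_eq_empty.1 h]
  ext; simp [mem_ptsOf, hasPt]

theorem disjoint_octads_count :
    ((maskList 8).filter fun m => decide (refOctad &&& m = 0)).length = 30 := by decide +kernel

/-- There are fifteen trios through an octad. -/
theorem card_trios_through {o : Finset GolayPt} (ho : o ∈ octads) :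
    {T | T ∈ trios ∧ o ∈ T}.ncard = 15 := by
  classical
  -- thirty octads are disjoint from `o`
  have h30 : (octadSet.filter fun o' => Disjoint o o').card = 30 := by
    obtain ⟨g, hg, rfl⟩ := M24_transitive_octads refOctad_mem ho
    have h1 : (octadSet.filter fun o' => Disjoint (g • ptsOf refOctad) o') =
        g • (octadSet.filter fun o' => Disjoint (ptsOf refOctad) o') := by
      ext o'
      rw [← Finset.inv_smul_mem_iff]
      simp only [Finset.mem_filter, mem_octadSet]
      have hd : Disjoint (g • ptsOf refOctad) o' ↔ Disjoint (ptsOf refOctad) (g⁻¹ • o') := by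
        simp only [Finset.disjoint_left, mem_smul_pts]
        constructor
        · intro h p hp hq
          refine h (a := g p) (by simpa using hp) ?_
          simpa [Equiv.Perm.inv_def] using hq
        · intro h p hp hq
          refine h hp ?_
          simpa [Equiv.Perm.inv_def] using hq
      refine ⟨fun h => ⟨M24_smul_octad (inv_mem hg) h.1, hd.1 h.2⟩, fun h => ⟨?_, hd.2 h.2⟩⟩
      simpa using M24_smul_octad hg h.1
    rw [h1, Finset.card_smul_finset, ← disjoint_octads_count]
    have hnd : ((maskList 8).filter fun m => decide (refOctad &&& m = 0)).Nodup :=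
      (List.Nodup.filter _ codeList_nodup).filter _
    rw [← List.toFinset_card_of_nodup hnd]
    refine (Finset.card_bij (fun m _ => ptsOf m) ?_ ?_ ?_).symm
    · intro m hm
      simp only [List.mem_toFinset, List.mem_filter, decide_eq_true_eq] at hm
      simp only [Finset.mem_filter, mem_octadSet, mem_octads_iff]
      exact ⟨⟨m, hm.1, rfl⟩, ptsOf_disjoint hm.2⟩
    · intro a ha b hb e
      simp only [List.mem_toFinset, List.mem_filter, mem_maskList] at ha hb
      exact ptsOf_inj (inCode_spec ha.1.1).1 (inCode_spec hb.1.1).1 e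
    · intro o' ho'
      simp only [Finset.mem_filter, mem_octadSet, mem_octads_iff] at ho'
      obtain ⟨⟨m, hm, rfl⟩, hd⟩ := ho'
      refine ⟨m, ?_, rfl⟩
      simp only [List.mem_toFinset, List.mem_filter, decide_eq_true_eq]
      exact ⟨hm, and_eq_zero_of_disjoint (by decide +kernel) hd⟩
  set D := octadSet.filter fun o' => Disjoint o o' with hD
  have hDm : ∀ a ∈ D, a ∈ octads ∧ Disjoint o a ∧ a ≠ o := fun a ha => by
    simp only [hD, Finset.mem_filter, mem_octadSet] at ha
    refine ⟨ha.1, ha.2, fun h => ?_⟩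
    subst h
    have := octad_card ho
    rw [disjoint_self.1 ha.2] at this
    simp at this
  let f : Finset GolayPt → Finset (Finset GolayPt) := fun a => {o, a, (o ∪ a)ᶜ}
  have hfm : ∀ a ∈ D, f a ∈ trios := by
    intro a ha
    obtain ⟨h1, h2, h3⟩ := hDm a ha
    have hq := union_compl_octad ho h1 h2
    have d1 : Disjoint o (o ∪ a)ᶜ := Finset.disjoint_left.2 fun p hp hp' => by simp [hp] at hp'
    have d2 : Disjoint a (o ∪ a)ᶜ := Finset.disjoint_left.2 fun p hp hp' => by simp [hp] at hp'
    have n1 : o ≠ (o ∪ a)ᶜ := fun h => by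
      have := octad_card ho
      rw [← h] at d1
      rw [disjoint_self.1 d1] at this
      simp at this
    have n2 : a ≠ (o ∪ a)ᶜ := fun h => by
      have := octad_card h1
      rw [← h] at d2
      rw [disjoint_self.1 d2] at this
      simp at this
    refine ⟨?_, ?_, ?_⟩
    · rw [Finset.card_insert_of_notMem (by simp [h3.symm, n1, -Finset.compl_union]), Finset.card_pair n2]
    · simp [f, ho, h1, hq, -Finset.compl_union]
    · simp only [f, Finset.mem_insert, Finset.mem_singleton]
      rintro x (rfl | rfl | rfl) y (rfl | rfl | rfl) hne <;>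
        first
          | exact absurd rfl hne
          | assumption
          | (rw [disjoint_comm]; assumption)
  have hset : {T | T ∈ trios ∧ o ∈ T} = ↑(D.image f) := by
    ext T
    simp only [Set.mem_ofPred_eq, Finset.coe_image, Set.mem_image, Finset.mem_coe]
    refine ⟨fun ⟨hT, hoT⟩ => ?_, by rintro ⟨a, ha, rfl⟩; exact ⟨hfm a ha, by simp [f]⟩⟩
    obtain ⟨a, ha, hao⟩ := Finset.exists_mem_ne (show 1 < T.card by rw [hT.1]; norm_num) o
    refine ⟨a, ?_, (trio_eq hT hoT ha hao.symm).symm⟩
    simp only [hD, Finset.mem_filter, mem_octadSet]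
    exact ⟨hT.2.1 a ha, hT.2.2 o hoT a ha hao.symm⟩
  have hfib : ∀ T ∈ D.image f, (D.filter fun a => f a = T).card = 2 := by
    intro T hT
    obtain ⟨a, ha, rfl⟩ := Finset.mem_image.1 hT
    have hT := hfm a ha
    have : (D.filter fun b => f b = f a) = (f a).erase o := by
      ext b
      simp only [Finset.mem_filter, Finset.mem_erase]
      refine ⟨fun ⟨hb, he⟩ => ⟨(hDm b hb).2.2, he ▸ by simp [f]⟩, fun ⟨hne, hb⟩ => ?_⟩
      have hoT : o ∈ f a := by simp [f]
      refine ⟨?_, (trio_eq hT hoT hb (Ne.symm hne)).symm⟩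
      simp only [hD, Finset.mem_filter, mem_octadSet]
      exact ⟨hT.2.1 b hb, hT.2.2 o hoT b hb (Ne.symm hne)⟩
    rw [this, Finset.card_erase_of_mem (by simp [f]), hT.1]
  have hc := Finset.card_eq_sum_card_image f D
  rw [Finset.sum_congr rfl hfib, Finset.sum_const, smul_eq_mul, h30] at hc
  rw [hset, Set.ncard_coe_finset]
  omega

theorem trios_ncard : trios.ncard = 3795 := by
  classical
  set TS := (Set.toFinite trios).toFinset with hTS
  have hmem : ∀ T, T ∈ TS ↔ T ∈ trios := fun T => Set.Finite.mem_toFinset _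
  have h := Finset.sum_card_bipartiteAbove_eq_sum_card_bipartiteBelow
    (s := octadSet) (t := TS) (r := fun o T => o ∈ T)
  simp only [Finset.bipartiteAbove, Finset.bipartiteBelow] at h
  have h1 : ∀ o ∈ octadSet, (TS.filter fun T => o ∈ T).card = 15 := by
    intro o ho
    rw [← card_trios_through (mem_octadSet.1 ho), ← Set.ncard_coe_finset]
    congr 1
    ext T; simp [hmem]
  have h2 : ∀ T ∈ TS, (octadSet.filter fun o => o ∈ T).card = 3 := by
    intro T hT
    rw [← ((hmem T).1 hT).1]
    congr 1
    ext o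
    simp only [Finset.mem_filter, mem_octadSet]
    exact ⟨fun h => h.2, fun h => ⟨((hmem T).1 hT).2.1 o h, h⟩⟩
  rw [Finset.sum_congr rfl h1, Finset.sum_congr rfl h2, Finset.sum_const, Finset.sum_const,
    card_octadSet, smul_eq_mul, smul_eq_mul, hTS, ← Set.ncard_eq_toFinset_card] at h
  omega

/-! ### Complementary pairs of dodecads -/

/-- The sets `{d, dᶜ}` for dodecads `d`. -/
def dodecadPairs : Set (Finset (Finset GolayPt)) :=
  (fun d => ({d, dᶜ} : Finset (Finset GolayPt))) '' dodecads

theorem M24_smul_dodecadPair {σ : Equiv.Perm GolayPt} (hσ : σ ∈ M24)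
    {P : Finset (Finset GolayPt)} (hP : P ∈ dodecadPairs) : σ • P ∈ dodecadPairs := by
  obtain ⟨d, hd, rfl⟩ := hP
  refine ⟨σ • d, M24_smul_dodecad hσ hd, ?_⟩
  show _ = σ • ({d, dᶜ} : Finset (Finset GolayPt))
  rw [Finset.smul_finset_insert, Finset.smul_finset_singleton, smul_compl_pts]

theorem dodecadPairs_ncard : dodecadPairs.ncard = 1288 := by
  classical
  set DS := (Set.toFinite dodecads).toFinset with hDS
  have hmem : ∀ d, d ∈ DS ↔ d ∈ dodecads := fun d => Set.Finite.mem_toFinset _
  have hset : dodecadPairs = ↑(DS.image fun d => ({d, dᶜ} : Finset (Finset GolayPt))) := by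
    rw [Finset.coe_image, hDS, Set.Finite.coe_toFinset]; rfl
  have hfib : ∀ P ∈ DS.image (fun d => ({d, dᶜ} : Finset (Finset GolayPt))),
      (DS.filter fun d => ({d, dᶜ} : Finset (Finset GolayPt)) = P).card = 2 := by
    intro P hP
    obtain ⟨d, hd, rfl⟩ := Finset.mem_image.1 hP
    have hne : d ≠ dᶜ := fun h => by
      obtain ⟨p, hp⟩ := Finset.card_pos.1
        (show 0 < d.card by rw [dodecad_card ((hmem d).1 hd)]; norm_num)
      exact Finset.mem_compl.1 (h ▸ hp) hp
    rw [← Finset.card_pair hne]
    congr 1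
    ext e
    simp only [Finset.mem_filter, hmem, Finset.mem_insert, Finset.mem_singleton]
    refine ⟨fun ⟨_, he⟩ => ?_, ?_⟩
    · have : e ∈ ({d, dᶜ} : Finset (Finset GolayPt)) := he ▸ by simp
      simpa using this
    · rintro (rfl | rfl)
      · exact ⟨(hmem e).1 hd, rfl⟩
      · exact ⟨dodecad_compl ((hmem d).1 hd), by rw [compl_compl, Finset.pair_comm]⟩
  have hc := Finset.card_eq_sum_card_image (fun d => ({d, dᶜ} : Finset (Finset GolayPt))) DS
  rw [Finset.sum_congr rfl hfib, Finset.sum_const, smul_eq_mul] at hc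
  rw [hset, Set.ncard_coe_finset]
  have : DS.card = 2576 := by rw [hDS, ← Set.ncard_eq_toFinset_card, dodecads_ncard]
  omega

end Cfsg.Agent.Mathieu
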