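import Cfsg.Agent.Lib.Mathieu.Trans

/-!
Certificates for the orbits of the stabiliser in `M24` of a combinatorial object: explicit packed
stabiliser elements, orbit trees checked by the kernel, and what follows from a cover of a
`M24`-orbit by such orbits (exact orbits, maximality of the stabiliser).
-/

set_option autoImplicit false

namespace Cfsg.Agent.Mathieu

open Cfsg
open scoped Pointwise

/-! ### Distinct keys -/

/-- A binary trie of keys. -/
inductive KTrie where
  | leaf
  | node (here : Bool) (l r : KTrie)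

/-- Membership in a trie. -/
def KTrie.has : ℕ → ℕ → KTrie → Bool
  | _, _, .leaf => false
  | 0, _, .node h _ _ => h
  | d + 1, k, .node _ l r => if k % 2 == 0 then KTrie.has d (k / 2) l else KTrie.has d (k / 2) r

/-- Insertion failing on a key that is present. -/
def KTrie.ins : ℕ → ℕ → KTrie → Option KTrie
  | 0, _, .leaf => some (.node true .leaf .leaf)
  | 0, _, .node h l r => if h then none else some (.node true l r)
  | d + 1, k, .leaf =>
    if k % 2 == 0 then (KTrie.ins d (k / 2) .leaf).map fun l' => .node false l' .leaf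
    else (KTrie.ins d (k / 2) .leaf).map fun r' => .node false .leaf r'
  | d + 1, k, .node h l r =>
    if k % 2 == 0 then (KTrie.ins d (k / 2) l).map fun l' => .node h l' r
    else (KTrie.ins d (k / 2) r).map fun r' => .node h l r'

theorem KTrie.ins_spec : ∀ (d k : ℕ) (t t' : KTrie), KTrie.ins d k t = some t' →
    KTrie.has d k t = false ∧ KTrie.has d k t' = true ∧
      ∀ k', KTrie.has d k' t = true → KTrie.has d k' t' = true := by
  intro d
  induction d with
  | zero =>
    intro k t t' h
    cases t with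
    | leaf => simp [KTrie.ins] at h; subst h; simp [KTrie.has]
    | node b l r =>
      cases b <;> simp [KTrie.ins] at h
      subst h; simp [KTrie.has]
  | succ d ih =>
    intro k t t' h
    cases t with
    | leaf =>
      by_cases hk : k % 2 = 0 <;>
        simp only [KTrie.ins, hk, beq_self_eq_true, beq_iff_eq, if_true, if_false,
          Option.map_eq_some_iff] at h <;>
        obtain ⟨u, hu, rfl⟩ := h <;>
        obtain ⟨-, h2, -⟩ := ih _ _ _ hu <;>
        simp [KTrie.has, hk, h2]
    | node b l r =>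
      by_cases hk : k % 2 = 0 <;>
        simp only [KTrie.ins, hk, beq_self_eq_true, beq_iff_eq, if_true, if_false,
          Option.map_eq_some_iff] at h <;>
        obtain ⟨u, hu, rfl⟩ := h <;>
        obtain ⟨h1, h2, h3⟩ := ih _ _ _ hu <;>
        refine ⟨by simp [KTrie.has, hk, h1], by simp [KTrie.has, hk, h2], fun k' hk' => ?_⟩ <;>
        by_cases hk2 : k' % 2 = 0 <;>
        simp only [KTrie.has, hk2, beq_self_eq_true, beq_iff_eq, if_true, if_false] at hk' ⊢ <;>
        first | exact h3 _ hk' | exact hk'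

/-- All keys can be inserted one after the other. -/
def insAllOK (d : ℕ) : List ℕ → KTrie → Bool
  | [], _ => true
  | k :: rest, t => match KTrie.ins d k t with
    | some t' => insAllOK d rest t'
    | none => false

/-- The keys are distinct. -/
def distinctKeys (ks : List ℕ) : Bool := insAllOK 60 ks .leaf

theorem insAllOK_spec : ∀ (ks : List ℕ) (t : KTrie) (d : ℕ), insAllOK d ks t = true →
    ks.Nodup ∧ ∀ k ∈ ks, KTrie.has d k t = false := by
  intro ks
  induction ks with
  | nil => simp
  | cons k rest ih =>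
    intro t d h
    unfold insAllOK at h
    rcases hi : KTrie.ins d k t with _ | t'
    · simp [hi] at h
    rw [hi] at h
    obtain ⟨hnd, hnot⟩ := ih t' d h
    obtain ⟨h1, h2, h3⟩ := KTrie.ins_spec d k t t' hi
    refine ⟨List.nodup_cons.2 ⟨fun hm => ?_, hnd⟩, fun x hx => ?_⟩
    · rw [hnot k hm] at h2; exact absurd h2 (by simp)
    · rcases List.mem_cons.1 hx with rfl | hx
      · exact h1
      · rcases hb : KTrie.has d x t with _ | _
        · rfl
        · have := hnot x hx
          rw [h3 x hb] at this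
          exact absurd this (by simp)

theorem nodup_of_distinctKeys {ks : List ℕ} (h : distinctKeys ks = true) : ks.Nodup :=
  (insAllOK_spec ks _ _ h).1

/-! ### Kinds of objects -/

/-- How objects of type `β₀` (used by the kernel) stand for objects acted on by permutations. -/
structure CertKind (β₀ : Type) (β : Type) [MulAction (Equiv.Perm GolayPt) β] where
  pts : β₀ → β
  maps : ℕ → β₀ → β₀ → Bool
  ok : β₀ → Bool
  key : β₀ → ℕ
  sound : ∀ (σ : Equiv.Perm GolayPt) (l : ℕ) (x y : β₀), Rep ptEnc σ l → ok x = true →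
    maps l x y = true → σ • pts x = pts y
  key_congr : ∀ x y, ok x = true → ok y = true → pts x = pts y → key x = key y

/-- Sets of points as masks. -/
def maskKind : CertKind ℕ (Finset GolayPt) where
  pts := ptsOf
  maps := mapsMask
  ok m := decide (m < 2 ^ 24)
  key m := m
  sound _ _ _ _ hl _ h := smul_ptsOf hl h
  key_congr _ _ hx hy h := ptsOf_inj (by simpa using hx) (by simpa using hy) h

/-- The family of sets with the listed masks. -/
def famPts (A : List ℕ) : Finset (Finset GolayPt) := (A.map ptsOf).toFinset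

/-- Distinct masks of 24 bits. -/
def famOK (A : List ℕ) : Bool := (A.all fun a => decide (a < 2 ^ 24)) && decide A.Nodup

/-- A packed permutation maps the family `A` onto the family `B`. -/
def mapsFam (l : ℕ) (A B : List ℕ) : Bool :=
  A.length == B.length && A.all fun a => B.any fun b => mapsMask l a b

theorem famOK_spec {A : List ℕ} (h : famOK A = true) :
    (∀ a ∈ A, a < 2 ^ 24) ∧ A.Nodup := by
  simpa [famOK] using h

theorem mem_famPts {A : List ℕ} {s : Finset GolayPt} : s ∈ famPts A ↔ ∃ a ∈ A, ptsOf a = s := by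
  simp [famPts]

theorem card_famPts {A : List ℕ} (h : famOK A = true) : (famPts A).card = A.length := by
  obtain ⟨hlt, hnd⟩ := famOK_spec h
  rw [famPts, List.toFinset_card_of_nodup
    (hnd.map_on fun x hx y hy e => ptsOf_inj (hlt x hx) (hlt y hy) e), List.length_map]

theorem famPts_smul {σ : Equiv.Perm GolayPt} {l : ℕ} {A B : List ℕ} (hl : Rep ptEnc σ l)
    (hA : famOK A = true) (h : mapsFam l A B = true) : σ • famPts A = famPts B := by
  simp only [mapsFam, Bool.and_eq_true, beq_iff_eq, List.all_eq_true, List.any_eq_true] at h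
  obtain ⟨hlen, hall⟩ := h
  refine Finset.eq_of_subset_of_card_le ?_ ?_
  · intro s hs
    obtain ⟨t, ht, rfl⟩ := Finset.mem_smul_finset.1 hs
    obtain ⟨a, ha, rfl⟩ := mem_famPts.1 ht
    obtain ⟨b, hb, hm⟩ := hall a ha
    exact mem_famPts.2 ⟨b, hb, (smul_ptsOf hl hm).symm⟩
  · rw [Finset.card_smul_finset, card_famPts hA, hlen, famPts]
    exact le_trans (List.toFinset_card_le _) (by simp)

theorem perm_of_famPts_eq {A B : List ℕ} (hA : famOK A = true) (hB : famOK B = true)
    (h : famPts A = famPts B) : A.Perm B := by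
  obtain ⟨hltA, hndA⟩ := famOK_spec hA
  obtain ⟨hltB, hndB⟩ := famOK_spec hB
  refine (List.perm_ext_iff_of_nodup hndA hndB).2 fun x => ⟨fun hx => ?_, fun hx => ?_⟩
  · have : ptsOf x ∈ famPts B := h ▸ mem_famPts.2 ⟨x, hx, rfl⟩
    obtain ⟨b, hb, he⟩ := mem_famPts.1 this
    exact ptsOf_inj (hltB b hb) (hltA x hx) he ▸ hb
  · have : ptsOf x ∈ famPts A := h ▸ mem_famPts.2 ⟨x, hx, rfl⟩
    obtain ⟨b, hb, he⟩ := mem_famPts.1 this
    exact ptsOf_inj (hltA b hb) (hltB x hx) he ▸ hb

/-- Families of sets as lists of masks. -/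
def famKind : CertKind (List ℕ) (Finset (Finset GolayPt)) where
  pts := famPts
  maps := mapsFam
  ok := famOK
  key A := (A.map fun a => a * a).sum
  sound _ _ _ _ hl hx h := famPts_smul hl hx h
  key_congr _ _ hx hy h := ((perm_of_famPts_eq hx hy h).map _).sum_eq

variable {β₀ β : Type} [MulAction (Equiv.Perm GolayPt) β]

/-! ### Orbit trees -/

/-- A packed element of `M24` fixing the object `x0`. -/
def stabGenOK (k : CertKind β₀ β) (x0 : β₀) (l : ℕ) : Bool :=
  permOK 24 l && presCode l && k.maps l x0 x0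

theorem exists_of_stabGenOK {k : CertKind β₀ β} {x0 : β₀} (h0 : k.ok x0 = true) {l : ℕ}
    (h : stabGenOK k x0 l = true) :
    ∃ σ ∈ M24 ⊓ MulAction.stabilizer (Equiv.Perm GolayPt) (k.pts x0), Rep ptEnc σ l := by
  simp only [stabGenOK, Bool.and_eq_true] at h
  obtain ⟨σ, hσ⟩ := exists_rep (e := ptEnc) h.1.1
  exact ⟨σ, ⟨mem_M24_of_rep hσ h.1.2,
    MulAction.mem_stabilizer_iff.2 (k.sound σ l x0 x0 hσ h0 h.2)⟩, hσ⟩

/-- A packed element of `M24` sending `x` to `y`. -/
def transOK (k : CertKind β₀ β) (x y : β₀) (l : ℕ) : Bool :=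
  permOK 24 l && presCode l && k.maps l x y

theorem exists_of_transOK {k : CertKind β₀ β} {x y : β₀} (hx : k.ok x = true) {l : ℕ}
    (h : transOK k x y l = true) :
    ∃ σ ∈ M24, σ • k.pts x = k.pts y ∧ Rep ptEnc σ l := by
  simp only [transOK, Bool.and_eq_true] at h
  obtain ⟨σ, hσ⟩ := exists_rep (e := ptEnc) h.1.1
  exact ⟨σ, mem_M24_of_rep hσ h.1.2, k.sound σ l x y hσ hx h.2, hσ⟩

/-- Steps `(up, g, x)` of a depth-first tree: `x` is the image under the generator numbered `g` of
the entry `up` places below the top of the stack. -/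
def treeOK (k : CertKind β₀ β) (gens : List ℕ) : List β₀ → List (ℕ × ℕ × β₀) → Bool
  | _, [] => true
  | stk, (up, g, x) :: rest =>
    match stk.drop up, gens[g]? with
    | p :: ps, some l => k.maps l p x && k.ok x && treeOK k gens (x :: p :: ps) rest
    | _, _ => false

theorem treeOK_spec {k : CertKind β₀ β} {gens : List ℕ} {H : Subgroup (Equiv.Perm GolayPt)}
    (hg : ∀ l ∈ gens, ∃ σ ∈ H, Rep ptEnc σ l) (z : β) :
    ∀ (steps : List (ℕ × ℕ × β₀)) (stk : List β₀),
      (∀ y ∈ stk, k.ok y = true ∧ ∃ σ ∈ H, σ • z = k.pts y) → treeOK k gens stk steps = true →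
      ∀ s ∈ steps, k.ok s.2.2 = true ∧ ∃ σ ∈ H, σ • z = k.pts s.2.2 := by
  intro steps
  induction steps with
  | nil => simp
  | cons st rest ih =>
    obtain ⟨up, g, x⟩ := st
    intro stk hstk h
    unfold treeOK at h
    rcases hd : stk.drop up with _ | ⟨p, ps⟩
    · simp [hd] at h
    rcases hl : gens[g]? with _ | l
    · simp [hd, hl] at h
    simp only [hd, hl, Bool.and_eq_true] at h
    obtain ⟨⟨hm, hok⟩, hrest⟩ := h
    have hp : ∀ y ∈ p :: ps, k.ok y = true ∧ ∃ σ ∈ H, σ • z = k.pts y := fun y hy =>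
      hstk y (List.mem_of_mem_drop (hd ▸ hy))
    obtain ⟨hpok, σ, hσ, hσp⟩ := hp p List.mem_cons_self
    obtain ⟨τ, hτ, hτl⟩ := hg l (List.mem_of_getElem? hl)
    have hx : k.ok x = true ∧ ∃ σ ∈ H, σ • z = k.pts x :=
      ⟨hok, τ * σ, H.mul_mem hτ hσ, by rw [mul_smul, hσp, k.sound τ l p x hτl hpok hm]⟩
    have hstk' : ∀ y ∈ x :: p :: ps, k.ok y = true ∧ ∃ σ ∈ H, σ • z = k.pts y := by
      intro y hy
      rcases List.mem_cons.1 hy with rfl | hy
      exacts [hx, hp y hy]
    intro s hs
    rcases List.mem_cons.1 hs with rfl | hs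
    exacts [hx, ih _ hstk' hrest s hs]

/-- An orbit: its first member, an element of `M24` carrying the base object to it, and a tree. -/
structure OrbitPart (β₀ : Type) where
  head : β₀
  trans : ℕ
  steps : List (ℕ × ℕ × β₀)

/-- The members of an orbit. -/
def OrbitPart.list (p : OrbitPart β₀) : List β₀ := p.head :: p.steps.map fun s => s.2.2

/-- The check of one orbit. -/
def partOK (k : CertKind β₀ β) (x0 : β₀) (gens : List ℕ) (p : OrbitPart β₀) : Bool :=
  k.ok p.head && transOK k x0 p.head p.trans && treeOK k gens [p.head] p.steps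

/-- The check of all orbits together. -/
def coverOK (k : CertKind β₀ β) (x0 : β₀) (gens : List ℕ) (parts : List (OrbitPart β₀)) : Bool :=
  k.ok x0 && gens.all (stabGenOK k x0) && parts.all (partOK k x0 gens) &&
    distinctKeys ((x0 :: parts.flatMap OrbitPart.list).map k.key)

/-- The `M24`-orbit of `x` is covered by `x` and disjoint pieces of orbits of its stabiliser. -/
structure StabCover (x : β) {m : ℕ} (P : Fin m → Set β) : Prop where
  pair : ∀ i, ∀ y ∈ P i, ∀ z ∈ P i,
    ∃ h ∈ M24 ⊓ MulAction.stabilizer (Equiv.Perm GolayPt) x, h • y = z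
  nonempty : ∀ i, (P i).Nonempty
  mem_orbit : ∀ y, y ∈ MulAction.orbit M24 x ↔ y = x ∨ ∃ i, y ∈ P i
  notMem : ∀ i, x ∉ P i
  disjoint : ∀ i j, i ≠ j → Disjoint (P i) (P j)
  finite : ∀ i, (P i).Finite

/-- The pieces of a certificate. -/
def piece (k : CertKind β₀ β) (parts : List (OrbitPart β₀)) (i : Fin parts.length) : Set β :=
  {y | ∃ a ∈ (parts.get i).list, k.pts a = y}

theorem piece_spec {k : CertKind β₀ β} {x0 : β₀} {gens : List ℕ} {parts : List (OrbitPart β₀)}
    (h : coverOK k x0 gens parts = true) :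
    (∀ i, piece k parts i ⊆ MulAction.orbit M24 (k.pts x0)) ∧
    (∀ i, ∀ y ∈ piece k parts i, ∀ z ∈ piece k parts i,
      ∃ h ∈ M24 ⊓ MulAction.stabilizer (Equiv.Perm GolayPt) (k.pts x0), h • y = z) ∧
    (∀ i, k.pts x0 ∉ piece k parts i) ∧
    (∀ i j, i ≠ j → Disjoint (piece k parts i) (piece k parts j)) ∧
    (∀ i, (piece k parts i).Finite ∧ (piece k parts i).ncard = (parts.get i).steps.length + 1) := by
  simp only [coverOK, Bool.and_eq_true, List.all_eq_true] at h
  obtain ⟨⟨⟨h0, hgens⟩, hparts⟩, hkeys⟩ := h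
  have hg : ∀ l ∈ gens, ∃ σ ∈ M24 ⊓ MulAction.stabilizer (Equiv.Perm GolayPt) (k.pts x0),
      Rep ptEnc σ l := fun l hl => exists_of_stabGenOK h0 (hgens l hl)
  have hmem : ∀ p ∈ parts, ∀ a ∈ p.list, k.ok a = true ∧
      ∃ σ ∈ M24 ⊓ MulAction.stabilizer (Equiv.Perm GolayPt) (k.pts x0), σ • k.pts p.head = k.pts a := by
    intro p hp a ha
    have hok := hparts p hp
    simp only [partOK, Bool.and_eq_true] at hok
    have hhead : ∀ y ∈ [p.head], k.ok y = true ∧
        ∃ σ ∈ M24 ⊓ MulAction.stabilizer (Equiv.Perm GolayPt) (k.pts x0), σ • k.pts p.head = k.pts y := by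
      intro y hy
      rw [List.mem_singleton] at hy
      subst hy
      exact ⟨hok.1.1, 1, one_mem _, one_smul _ _⟩
    rcases List.mem_cons.1 ha with rfl | ha
    · exact hhead _ (List.mem_singleton_self _)
    · obtain ⟨s, hs, rfl⟩ := List.mem_map.1 ha
      exact treeOK_spec hg _ p.steps [p.head] hhead hok.2 s hs
  have hnd : ((x0 :: parts.flatMap OrbitPart.list).map k.key).Nodup := nodup_of_distinctKeys hkeys
  rw [List.map_cons, List.nodup_cons] at hnd
  obtain ⟨hx0, hnd⟩ := hnd
  have hnd' : ∀ i : Fin parts.length, ((parts.get i).list.map k.key).Nodup := by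
    intro i
    refine List.Nodup.sublist (List.Sublist.map _ ?_) hnd
    exact List.sublist_flatten_of_mem (List.mem_map_of_mem (List.get_mem parts i))
  have hkey : ∀ i : Fin parts.length, ∀ a ∈ (parts.get i).list, ∀ j : Fin parts.length,
      ∀ b ∈ (parts.get j).list, k.key a = k.key b → i = j := by
    intro i a ha j b hb he
    by_contra hne
    rw [List.map_flatMap, List.nodup_flatMap] at hnd
    have hp := List.pairwise_iff_get.1 hnd.2
    rcases lt_or_gt_of_ne hne with hlt | hlt
    · exact hp i j hlt (List.mem_map_of_mem ha) (he ▸ List.mem_map_of_mem hb)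
    · exact hp j i hlt (List.mem_map_of_mem hb) (he ▸ List.mem_map_of_mem ha)
  refine ⟨fun i y hy => ?_, fun i y hy z hz => ?_, fun i hi => ?_, fun i j hij => ?_, fun i => ?_⟩
  · obtain ⟨a, ha, rfl⟩ := hy
    obtain ⟨-, σ, hσ, hσa⟩ := hmem _ (List.get_mem parts i) a ha
    have hok := hparts _ (List.get_mem parts i)
    simp only [partOK, Bool.and_eq_true] at hok
    obtain ⟨τ, hτ, hτx, -⟩ := exists_of_transOK h0 hok.1.2
    exact ⟨⟨σ * τ, M24.mul_mem hσ.1 hτ⟩, by
      show (σ * τ) • k.pts x0 = k.pts a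
      rw [mul_smul, hτx, hσa]⟩
  · obtain ⟨a, ha, rfl⟩ := hy
    obtain ⟨b, hb, rfl⟩ := hz
    obtain ⟨-, σ, hσ, hσa⟩ := hmem _ (List.get_mem parts i) a ha
    obtain ⟨-, τ, hτ, hτb⟩ := hmem _ (List.get_mem parts i) b hb
    exact ⟨τ * σ⁻¹, mul_mem hτ (inv_mem hσ), by rw [← hσa, mul_smul, inv_smul_smul, hτb]⟩
  · obtain ⟨a, ha, he⟩ := hi
    refine hx0 (List.mem_map.2 ⟨a, List.mem_flatMap.2 ⟨_, List.get_mem parts i, ha⟩, ?_⟩)
    exact k.key_congr _ _ (hmem _ (List.get_mem parts i) a ha).1 h0 he
  · rw [Set.disjoint_left]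
    rintro y ⟨a, ha, rfl⟩ ⟨b, hb, he⟩
    exact hij (hkey i a ha j b hb (k.key_congr _ _ (hmem _ (List.get_mem parts j) b hb).1
      (hmem _ (List.get_mem parts i) a ha).1 he).symm)
  · classical
    have hset : piece k parts i = ↑((parts.get i).list.map k.pts).toFinset := by
      ext y; simp [piece]
    rw [hset]
    refine ⟨Finset.finite_toSet _, ?_⟩
    rw [Set.ncard_coe_finset, List.toFinset_card_of_nodup, List.length_map, OrbitPart.list,
      List.length_cons, List.length_map]
    refine (List.Nodup.of_map _ (hnd' i)).map_on fun a ha b hb he => ?_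
    exact List.inj_on_of_nodup_map (hnd' i) ha hb (k.key_congr _ _
      (hmem _ (List.get_mem parts i) a ha).1 (hmem _ (List.get_mem parts i) b hb).1 he)

/-- A certificate whose sizes add up to the size of the `M24`-orbit gives a cover. -/
theorem stabCover_of_cert {k : CertKind β₀ β} {x0 : β₀} {gens : List ℕ}
    {parts : List (OrbitPart β₀)} (h : coverOK k x0 gens parts = true)
    (hN : (MulAction.orbit M24 (k.pts x0)).ncard =
      1 + (parts.map fun p => p.steps.length + 1).sum) :
    StabCover (k.pts x0) (piece k parts) := by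
  classical
  obtain ⟨hsub, hpair, hnot, hdisj, hfin⟩ := piece_spec h
  refine ⟨hpair, fun i => ⟨k.pts (parts.get i).head, _, List.mem_cons_self, rfl⟩, ?_, hnot, hdisj,
    fun i => (hfin i).1⟩
  have hUfin : (⋃ i, piece k parts i).Finite := Set.finite_iUnion fun i => (hfin i).1
  have hcard : ({k.pts x0} ∪ ⋃ i, piece k parts i).ncard = (MulAction.orbit M24 (k.pts x0)).ncard := by
    rw [hN, Set.ncard_union_eq (by simpa using hnot) (Set.finite_singleton _) hUfin,
      Set.ncard_singleton, Set.ncard_iUnion_of_finite (fun i => (hfin i).1)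
        (fun i j hij => hdisj i j hij)]
    congr 1
    rw [finsum_eq_sum_of_fintype]
    simp only [fun i => (hfin i).2]
    rw [← List.sum_ofFn]
    congr 1
    conv_rhs => rw [← List.ofFn_get parts, List.map_ofFn]
    rfl
  have heq : {k.pts x0} ∪ ⋃ i, piece k parts i = MulAction.orbit M24 (k.pts x0) := by
    refine Set.eq_of_subset_of_ncard_le (Set.union_subset (by simp) (Set.iUnion_subset hsub))
      hcard.ge (Set.finite_of_ncard_ne_zero (by omega))
  intro y
  rw [← heq]
  simp

variable {x : β} {m : ℕ} {P : Fin m → Set β}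

/-- A cover moves along `M24`. -/
theorem StabCover.map (hP : StabCover x P) {g : Equiv.Perm GolayPt} (hg : g ∈ M24) :
    StabCover (g • x) fun i => g • P i where
  pair i := by
    rintro _ ⟨y, hy, rfl⟩ _ ⟨z, hz, rfl⟩
    obtain ⟨h, hh, he⟩ := hP.pair i y hy z hz
    refine ⟨g * h * g⁻¹, Subgroup.mem_inf.2 ⟨mul_mem (mul_mem hg hh.1) (inv_mem hg), ?_⟩, ?_⟩
    · rw [MulAction.mem_stabilizer_iff, mul_smul, mul_smul, inv_smul_smul,
        MulAction.mem_stabilizer_iff.1 hh.2]
    · simp only [mul_smul, inv_smul_smul, he]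
  nonempty i := (hP.nonempty i).smul_set
  mem_orbit y := by
    have : MulAction.orbit M24 (g • x) = MulAction.orbit M24 x :=
      MulAction.orbit_eq_iff.2 ⟨⟨g, hg⟩, rfl⟩
    rw [this]
    have h2 : y ∈ MulAction.orbit M24 x ↔ g⁻¹ • y ∈ MulAction.orbit M24 x := by
      constructor <;> rintro ⟨⟨a, ha⟩, h⟩
      · exact ⟨⟨g⁻¹ * a, mul_mem (inv_mem hg) ha⟩, by
          show (g⁻¹ * a) • x = g⁻¹ • y
          rw [mul_smul, show a • x = y from h]⟩
      · exact ⟨⟨g * a, mul_mem hg ha⟩, by
          show (g * a) • x = y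
          rw [mul_smul, show a • x = g⁻¹ • y from h, smul_inv_smul]⟩
    rw [h2, hP.mem_orbit, inv_smul_eq_iff]
    simp only [Set.mem_smul_set_iff_inv_smul_mem]
  notMem i h := hP.notMem i (by simpa using Set.mem_smul_set_iff_inv_smul_mem.1 h)
  disjoint i j hij := Set.disjoint_left.2 fun y hy hy' => Set.disjoint_left.1 (hP.disjoint i j hij)
    (Set.mem_smul_set_iff_inv_smul_mem.1 hy) (Set.mem_smul_set_iff_inv_smul_mem.1 hy')
  finite i := (hP.finite i).smul_set

/-- The stabiliser as subgroup of `M24` has the orbits of `M24 ⊓ stabilizer`. -/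
theorem mem_stabilizer_orbit_iff (y z : β) :
    z ∈ MulAction.orbit (MulAction.stabilizer M24 x) y ↔
      ∃ h ∈ M24 ⊓ MulAction.stabilizer (Equiv.Perm GolayPt) x, h • y = z := by
  constructor
  · rintro ⟨⟨⟨g, hg⟩, hx⟩, rfl⟩
    exact ⟨g, ⟨hg, hx⟩, rfl⟩
  · rintro ⟨g, ⟨hg, hx⟩, rfl⟩
    exact ⟨⟨⟨g, hg⟩, hx⟩, rfl⟩

/-- An invariant separating the pieces makes them the orbits. -/
theorem StabCover.orbit_eq (hP : StabCover x P) (f : β → ℕ)
    (hf : ∀ h ∈ M24 ⊓ MulAction.stabilizer (Equiv.Perm GolayPt) x, ∀ y, f (h • y) = f y)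
    (v : Fin m → ℕ) (hv : ∀ i, ∀ y ∈ P i, f y = v i) (hinj : Function.Injective v)
    (i : Fin m) {y : β} (hy : y ∈ P i) :
    MulAction.orbit (MulAction.stabilizer M24 x) y = P i := by
  ext z
  rw [mem_stabilizer_orbit_iff]
  refine ⟨?_, fun hz => hP.pair i y hy z hz⟩
  rintro ⟨h, hh, rfl⟩
  have horb : h • y ∈ MulAction.orbit M24 x := by
    obtain ⟨⟨a, ha⟩, he⟩ := (hP.mem_orbit y).2 (Or.inr ⟨i, hy⟩)
    exact ⟨⟨h * a, mul_mem hh.1 ha⟩, by
      show (h * a) • x = h • y
      rw [mul_smul, show a • x = y from he]⟩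
  rcases (hP.mem_orbit _).1 horb with he | ⟨j, hj⟩
  · exfalso
    have : y = x := by
      have := congrArg (h⁻¹ • ·) he
      simpa [MulAction.mem_stabilizer_iff.1 (inv_mem hh.2)] using this
    exact hP.notMem i (this ▸ hy)
  · have : j = i := hinj (by rw [← hv j _ hj, hf h hh, hv i y hy])
    exact this ▸ hj

/-- When no proper union of pieces through `x` has a size dividing that of the orbit, the
stabiliser is maximal in `M24`. -/
theorem StabCover.isCoatom (hP : StabCover x P) (hm : 0 < m) (sz : Fin m → ℕ)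
    (hsz : ∀ i, (P i).ncard = sz i) {N : ℕ} (hN : (MulAction.orbit M24 x).ncard = N)
    (hdiv : ∀ J ∈ (Finset.univ : Finset (Fin m)).powerset,
      1 + ∑ i ∈ J, sz i ∣ N → J = ∅ ∨ J = Finset.univ) :
    IsCoatom (MulAction.stabilizer M24 x) := by
  classical
  set S := MulAction.stabilizer M24 x with hS
  have horb : (MulAction.orbit M24 x).ncard * Nat.card S = Nat.card M24 := by
    rw [hS, ← MulAction.index_stabilizer]
    exact Subgroup.index_mul_card _
  constructor
  · intro htop
    obtain ⟨y, hy⟩ := hP.nonempty ⟨0, hm⟩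
    obtain ⟨a, ha⟩ := (hP.mem_orbit y).2 (Or.inr ⟨⟨0, hm⟩, hy⟩)
    have h1 : a ∈ S := by rw [htop]; trivial
    have h2 : a • x = y := ha
    rw [MulAction.mem_stabilizer_iff.1 h1] at h2
    exact hP.notMem ⟨0, hm⟩ (h2 ▸ hy)
  · intro K hK
    set O : Set β := MulAction.orbit K x with hO
    set J : Finset (Fin m) := Finset.univ.filter fun i => (P i ∩ O).Nonempty with hJ
    have hOsub : ∀ y ∈ O, y ∈ MulAction.orbit M24 x := by
      rintro y ⟨a, rfl⟩; exact ⟨(a : M24), rfl⟩
    have hPO : ∀ i ∈ J, P i ⊆ O := by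
      intro i hi z hz
      obtain ⟨y, hyP, ⟨a, ha⟩⟩ := (Finset.mem_filter.1 hi).2
      obtain ⟨h, hh, he⟩ := hP.pair i y hyP z hz
      have hmem : (⟨h, hh.1⟩ : M24) ∈ K := hK.le hh.2
      exact ⟨⟨_, hmem⟩ * a, by rw [← he, ← show a • x = y from ha]; exact mul_smul _ a x⟩
    have hOeq : O = {x} ∪ ⋃ i ∈ J, P i := by
      refine Set.Subset.antisymm (fun y hy => ?_)
        (Set.union_subset (by simp [hO]) (Set.iUnion₂_subset hPO))
      rcases (hP.mem_orbit y).1 (hOsub y hy) with rfl | ⟨i, hi⟩
      · exact Or.inl rfl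
      · exact Or.inr (Set.mem_iUnion₂.2 ⟨i, Finset.mem_filter.2 ⟨Finset.mem_univ _, y, hi, hy⟩, hi⟩)
    have hOcard : O.ncard = 1 + ∑ i ∈ J, sz i := by
      have hset : (⋃ i ∈ J, P i) = ↑(J.biUnion fun i => (hP.finite i).toFinset) := by ext; simp
      rw [hOeq, hset, Set.ncard_union_eq (by simpa using fun i _ => hP.notMem i)
        (Set.finite_singleton _) (Finset.finite_toSet _), Set.ncard_singleton, Set.ncard_coe_finset,
        Finset.card_biUnion]
      · congr 1
        exact Finset.sum_congr rfl fun i _ => by rw [← hsz, Set.ncard_eq_toFinset_card _ (hP.finite i)]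
      · intro i _ j _ hij
        simpa [Function.onFun, Set.Finite.disjoint_toFinset] using hP.disjoint i j hij
    have hstab : Nat.card (MulAction.stabilizer K x) = Nat.card S := by
      refine Nat.card_congr ⟨fun a => ⟨(a.1 : M24), a.2⟩, fun a => ⟨⟨a.1, hK.le a.2⟩, a.2⟩,
        fun a => rfl, fun a => rfl⟩
    have hKcard : O.ncard * Nat.card S = Nat.card K := by
      rw [← hstab, hO, ← MulAction.index_stabilizer]
      exact Subgroup.index_mul_card _
    have hd : O.ncard ∣ N := by
      refine (Nat.mul_dvd_mul_iff_right (Nat.card_pos (α := S))).1 ?_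
      rw [hKcard, ← hN, horb]
      exact K.card_subgroup_dvd_card
    rcases hdiv J (Finset.mem_powerset.2 (Finset.subset_univ _)) (hOcard ▸ hd) with hJe | hJu
    · exfalso
      rw [hJe] at hOeq
      refine not_le_of_gt hK fun a ha => ?_
      have : (a • x : β) ∈ O := ⟨⟨a, ha⟩, rfl⟩
      rw [hOeq] at this
      exact MulAction.mem_stabilizer_iff.2 (by simpa using this)
    · apply Subgroup.eq_top_of_card_eq
      rw [← hKcard, ← horb]
      congr 2
      refine Set.Subset.antisymm hOsub fun y hy => ?_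
      rcases (hP.mem_orbit y).1 hy with rfl | ⟨i, hi⟩
      · exact ⟨1, one_smul _ _⟩
      · exact hPO i (by rw [hJu]; exact Finset.mem_univ i) hi

/-- A certificate filling a finite invariant set shows that it is the orbit and gives the cover. -/
theorem orbit_eq_of_cert {k : CertKind β₀ β} {x0 : β₀} {gens : List ℕ}
    {parts : List (OrbitPart β₀)} (h : coverOK k x0 gens parts = true) {all : Set β}
    (hfin : all.Finite) (hsub : MulAction.orbit M24 (k.pts x0) ⊆ all)
    (hcard : all.ncard = 1 + (parts.map fun p => p.steps.length + 1).sum) :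
    MulAction.orbit M24 (k.pts x0) = all ∧ StabCover (k.pts x0) (piece k parts) := by
  classical
  obtain ⟨hs, -, hnot, hdisj, hpf⟩ := piece_spec h
  have hO : (MulAction.orbit M24 (k.pts x0)).Finite := hfin.subset hsub
  have hU : ({k.pts x0} ∪ ⋃ i, piece k parts i).ncard = all.ncard := by
    rw [hcard, Set.ncard_union_eq (by simpa using hnot) (Set.finite_singleton _)
      (Set.finite_iUnion fun i => (hpf i).1), Set.ncard_singleton,
      Set.ncard_iUnion_of_finite (fun i => (hpf i).1) (fun i j hij => hdisj i j hij)]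
    congr 1
    rw [finsum_eq_sum_of_fintype]
    simp only [fun i => (hpf i).2]
    rw [← List.sum_ofFn]
    congr 1
    conv_rhs => rw [← List.ofFn_get parts, List.map_ofFn]
    rfl
  have heq : MulAction.orbit M24 (k.pts x0) = all := by
    refine Set.eq_of_subset_of_ncard_le hsub ?_ hfin
    rw [← hU]
    exact Set.ncard_le_ncard (Set.union_subset (by simp) (Set.iUnion_subset hs)) hO
  exact ⟨heq, stabCover_of_cert h (by rw [heq, hcard])⟩

/-- Sizes of the pieces. -/
theorem ncard_piece {k : CertKind β₀ β} {x0 : β₀} {gens : List ℕ} {parts : List (OrbitPart β₀)}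
    (h : coverOK k x0 gens parts = true) (i : Fin parts.length) :
    (piece k parts i).ncard = (parts.get i).steps.length + 1 :=
  ((piece_spec h).2.2.2.2 i).2

/-- A property of all listed members holds on a piece. -/
theorem forall_piece {k : CertKind β₀ β} {parts : List (OrbitPart β₀)} {i : Fin parts.length}
    {Q : β → Prop} (h : ∀ a ∈ (parts.get i).list, Q (k.pts a)) : ∀ y ∈ piece k parts i, Q y := by
  rintro _ ⟨a, ha, rfl⟩
  exact h a ha

theorem head_mem_piece (k : CertKind β₀ β) (parts : List (OrbitPart β₀)) (i : Fin parts.length) :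
    k.pts (parts.get i).head ∈ piece k parts i :=
  ⟨_, List.mem_cons_self, rfl⟩

end Cfsg.Agent.Mathieu
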