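import Cfsg.Agent.Lib.Mathieu.Trans
import Cfsg.Agent.Lib.Perm.PrimeDegreeSimple

/-!
Simplicity of the five Mathieu groups.

M₁₁, M₂₂, M₂₃ are primitive of degree divisible by a prime `p` dividing their order once and are
generated by elements of order `p`; M₁₂ and M₂₄ are 2-transitive of degree 12 and 24 with simple
point stabilisers M₁₁ and M₂₃.
-/

set_option autoImplicit false
set_option maxRecDepth 20000

namespace Cfsg.Agent.Mathieu

open Cfsg
open scoped Pointwise

/-- A primitive group whose degree is divisible by a prime `p`, with `p²` not dividing its order,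
generated by elements of order `p`, is simple. -/
theorem isSimpleGroup_of_prime_gen {G α : Type*} [Group G] [Finite G] [MulAction G α]
    [FaithfulSMul G α] [MulAction.IsPreprimitive G α] [Nonempty α] {p : ℕ} (hp : p.Prime)
    (hpα : p ∣ Nat.card α) (hp2 : ¬ p ^ 2 ∣ Nat.card G)
    (hgen : Subgroup.closure {g : G | orderOf g = p} = ⊤) : IsSimpleGroup G := by
  obtain ⟨a⟩ := ‹Nonempty α›
  have : Nontrivial G := by
    by_contra h
    rw [not_nontrivial_iff_subsingleton] at h
    have hindex := MulAction.index_stabilizer_of_transitive G a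
    rw [Subsingleton.elim (MulAction.stabilizer G a) ⊤, Subgroup.index_top] at hindex
    exact hp.not_dvd_one (hindex ▸ hpα)
  refine ⟨fun N hN => or_iff_not_imp_left.2 fun hN0 => ?_⟩
  have hNt := Perm.normal_isPretransitive (α := α) N hN0
  have hpN : p ∣ Nat.card N :=
    hpα.trans (Dvd.intro _ (Perm.card_eq_degree_mul N a).symm)
  have hindex : ¬ p ∣ N.index := fun h => hp2 (by
    rw [sq, ← Subgroup.index_mul_card N]; exact Nat.mul_dvd_mul h hpN)
  rw [eq_top_iff, ← hgen, Subgroup.closure_le]
  intro g hg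
  rw [SetLike.mem_coe, ← QuotientGroup.eq_one_iff, ← orderOf_eq_one_iff]
  have h1 : orderOf ((g : G) : G ⧸ N) ∣ p :=
    hg ▸ orderOf_map_dvd (QuotientGroup.mk' N) g
  rcases (Nat.dvd_prime hp).1 h1 with h | h
  · exact h
  · exact (hindex (h ▸ orderOf_dvd_natCard _)).elim

/-- Packed `k`-th power. -/
def packPow (n l : ℕ) : ℕ → ℕ
  | 0 => packId n
  | k + 1 => packMul n l (packPow n l k)

theorem rep_packPow {α : Type*} {n : ℕ} {e : α ≃ Fin n} (hn : n ≤ 256) {σ : Equiv.Perm α} {l : ℕ}
    (h : Rep e σ l) : ∀ k, Rep e (σ ^ k) (packPow n l k)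
  | 0 => rep_packId hn
  | k + 1 => by rw [pow_succ']; exact rep_packMul h (rep_packPow hn h k)

theorem orderOf_of_packPow {p : ℕ} (hp : p.Prime) {σ : Equiv.Perm GolayPt} {l : ℕ}
    (h : Rep ptEnc σ l) (h1 : isId 24 (packPow 24 l p) = true) (h2 : isId 24 l = false) :
    orderOf σ = p := by
  have := Fact.mk hp
  refine orderOf_eq_prime ((rep_packPow (by norm_num) h p).eq_one h1) fun hσ => ?_
  subst hσ
  have : isId 24 l = true := by
    simp only [isId, List.all_eq_true, List.mem_range, beq_iff_eq]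
    intro i hi
    have h' := h (idx ptEnc i)
    rw [Equiv.Perm.one_apply, idx_val hi] at h'
    exact h'.symm
  rw [h2] at this
  exact Bool.false_ne_true this

theorem closure_order_eq_top {p : ℕ} (hp : p.Prime) {G : Subgroup (Equiv.Perm GolayPt)}
    {gens : List ℕ} (hG : genGroup ptEnc gens = G)
    (hc : gens.all (fun l => isId 24 (packPow 24 l p) && !isId 24 l) = true) :
    Subgroup.closure {g : G | orderOf g = p} = ⊤ := by
  subst hG
  rw [eq_top_iff]
  refine le_trans (Subgroup.closure_closure_coe_preimage).ge (Subgroup.closure_mono ?_)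
  rintro ⟨σ, hσ⟩ ⟨l, hl, hr⟩
  have h' := List.all_eq_true.1 hc l hl
  rw [Bool.and_eq_true, Bool.not_eq_eq_eq_not, Bool.not_true] at h'
  exact (Subgroup.orderOf_coe _).symm.trans (orderOf_of_packPow hp hr h'.1 h'.2)

/-- The points moved by M₂₃. -/
def omega23 : SubMulAction Spor.M23 GolayPt where
  carrier := {p | p ≠ none}
  smul_mem' g _ hp := fun h => hp (g.1.injective (h.trans (mem_M23_iff.1 g.2).2.symm))

/-- The points moved by M₂₂. -/
def omega22 : SubMulAction Spor.M22 GolayPt where
  carrier := {p | p ≠ none ∧ p ≠ some 0}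
  smul_mem' g _ hp :=
    ⟨fun h => hp.1 (g.1.injective (h.trans (mem_M22_iff.1 g.2).2.1.symm)),
      fun h => hp.2 (g.1.injective (h.trans (mem_M22_iff.1 g.2).2.2.symm))⟩

/-- The dodecad on which M₁₂ acts. -/
def omega12 : SubMulAction Spor.M12 GolayPt where
  carrier := {p | p ∈ Spor.squareDodecad}
  smul_mem' g _ hp := M12_maps_dodecad g.2 hp

/-- The eleven points on which M₁₁ acts 4-transitively. -/
def omega11 : SubMulAction Spor.M11 GolayPt where
  carrier := {p | p ∈ Spor.squareDodecad.erase (some 0)}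
  smul_mem' g p hp := by
    obtain ⟨h12, h0⟩ := mem_M11_iff.1 g.2
    rw [Set.mem_ofPred_eq, Finset.mem_erase] at hp ⊢
    exact ⟨fun h => hp.1 (g.1.injective (h.trans h0.symm)), M12_maps_dodecad h12 hp.2⟩

theorem omega23_faithful : FaithfulSMul Spor.M23 omega23 := ⟨fun {g g'} h => by
  refine Subtype.ext (Equiv.ext fun p => ?_)
  by_cases hp : p = none
  · rw [hp, (mem_M23_iff.1 g.2).2, (mem_M23_iff.1 g'.2).2]
  · exact congrArg Subtype.val (h ⟨p, hp⟩)⟩

theorem omega22_faithful : FaithfulSMul Spor.M22 omega22 := ⟨fun {g g'} h => by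
  refine Subtype.ext (Equiv.ext fun p => ?_)
  by_cases hp : p = none
  · rw [hp, (mem_M22_iff.1 g.2).2.1, (mem_M22_iff.1 g'.2).2.1]
  by_cases hp' : p = some 0
  · rw [hp', (mem_M22_iff.1 g.2).2.2, (mem_M22_iff.1 g'.2).2.2]
  · exact congrArg Subtype.val (h ⟨p, hp, hp'⟩)⟩

theorem omega12_faithful : FaithfulSMul Spor.M12 omega12 := ⟨fun {g g'} h => by
  obtain ⟨x, hx⟩ := exists_embedding_of_le_card (k := 5) (s := Spor.squareDodecad)
    (by rw [squareDodecad_mem.2]; norm_num)
  have := M12_eq_one_of_fix (Spor.M12.mul_mem (Spor.M12.inv_mem g'.2) g.2) x hx fun i => by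
    have hi : g.1 (x i) = g'.1 (x i) := congrArg Subtype.val (h ⟨x i, hx i⟩)
    rw [Equiv.Perm.mul_apply, hi, Equiv.Perm.inv_def, Equiv.symm_apply_apply]
  exact Subtype.ext (inv_mul_eq_one.1 this).symm⟩

theorem omega11_faithful : FaithfulSMul Spor.M11 omega11 := ⟨fun {g g'} h => by
  obtain ⟨x, hx⟩ := exists_embedding_of_le_card (k := 5) (s := Spor.squareDodecad)
    (by rw [squareDodecad_mem.2]; norm_num)
  have := M12_eq_one_of_fix
    (Spor.M12.mul_mem (Spor.M12.inv_mem (M11_le_M12 g'.2)) (M11_le_M12 g.2)) x hx fun i => by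
    by_cases h0 : x i = some 0
    · rw [h0, Equiv.Perm.mul_apply, (mem_M11_iff.1 g.2).2, Equiv.Perm.inv_def, Equiv.symm_apply_eq,
        (mem_M11_iff.1 g'.2).2]
    · have hi : g.1 (x i) = g'.1 (x i) :=
        congrArg Subtype.val (h ⟨x i, Finset.mem_erase.2 ⟨h0, hx i⟩⟩)
      rw [Equiv.Perm.mul_apply, hi, Equiv.Perm.inv_def, Equiv.symm_apply_apply]
  exact Subtype.ext (inv_mul_eq_one.1 this).symm⟩

/-- Two distinct points of a subtype as an embedding into the ambient type. -/
def pairEmb {β : Type*} {a b : β} (h : a ≠ b) : Fin 2 ↪ β :=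
  ⟨![a, b], by intro i j; fin_cases i <;> fin_cases j <;> simp [h, h.symm]⟩

theorem omega23_two : MulAction.IsMultiplyPretransitive Spor.M23 omega23 2 := by
  rw [MulAction.is_two_pretransitive_iff]
  intro a b c d hab hcd
  obtain ⟨g, hg, h⟩ := M23_exists_map (k := 2) (by norm_num)
    (pairEmb (Subtype.coe_injective.ne hab)) (pairEmb (Subtype.coe_injective.ne hcd))
    (Fin.forall_fin_two.2 ⟨a.2, b.2⟩) (Fin.forall_fin_two.2 ⟨c.2, d.2⟩)
  exact ⟨⟨g, hg⟩, Subtype.ext (h 0), Subtype.ext (h 1)⟩

theorem omega22_two : MulAction.IsMultiplyPretransitive Spor.M22 omega22 2 := by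
  rw [MulAction.is_two_pretransitive_iff]
  intro a b c d hab hcd
  obtain ⟨g, hg, h⟩ := M22_exists_map (k := 2) (by norm_num)
    (pairEmb (Subtype.coe_injective.ne hab)) (pairEmb (Subtype.coe_injective.ne hcd))
    (Fin.forall_fin_two.2 ⟨a.2, b.2⟩) (Fin.forall_fin_two.2 ⟨c.2, d.2⟩)
  exact ⟨⟨g, hg⟩, Subtype.ext (h 0), Subtype.ext (h 1)⟩

theorem omega12_two : MulAction.IsMultiplyPretransitive Spor.M12 omega12 2 := by
  rw [MulAction.is_two_pretransitive_iff]
  intro a b c d hab hcd
  obtain ⟨g, hg, h⟩ := M12_exists_map (k := 2) (by norm_num)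
    (pairEmb (Subtype.coe_injective.ne hab)) (pairEmb (Subtype.coe_injective.ne hcd))
    (Fin.forall_fin_two.2 ⟨a.2, b.2⟩) (Fin.forall_fin_two.2 ⟨c.2, d.2⟩)
  exact ⟨⟨g, hg⟩, Subtype.ext (h 0), Subtype.ext (h 1)⟩

theorem omega11_two : MulAction.IsMultiplyPretransitive Spor.M11 omega11 2 := by
  rw [MulAction.is_two_pretransitive_iff]
  intro a b c d hab hcd
  obtain ⟨g, hg, h⟩ := M11_exists_map (k := 2) (by norm_num)
    (pairEmb (Subtype.coe_injective.ne hab)) (pairEmb (Subtype.coe_injective.ne hcd))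
    (Fin.forall_fin_two.2 ⟨a.2, b.2⟩) (Fin.forall_fin_two.2 ⟨c.2, d.2⟩)
  exact ⟨⟨g, hg⟩, Subtype.ext (h 0), Subtype.ext (h 1)⟩

theorem omega23_card : Nat.card omega23 = 23 := by
  change Nat.card {p : GolayPt // p ≠ none} = 23
  rw [Nat.card_eq_fintype_card]; decide +kernel

theorem omega22_card : Nat.card omega22 = 22 := by
  change Nat.card {p : GolayPt // p ≠ none ∧ p ≠ some 0} = 22
  rw [Nat.card_eq_fintype_card]; decide +kernel

theorem omega12_card : Nat.card omega12 = 12 := by
  change Nat.card {p : GolayPt // p ∈ Spor.squareDodecad} = 12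
  rw [Nat.card_eq_fintype_card, Fintype.card_coe, squareDodecad_mem.2]

theorem omega11_card : Nat.card omega11 = 11 := by
  change Nat.card {p : GolayPt // p ∈ Spor.squareDodecad.erase (some 0)} = 11
  rw [Nat.card_eq_fintype_card, Fintype.card_coe, Finset.card_erase_of_mem, squareDodecad_mem.2]
  rw [squareDodecad_eq]; decide +kernel

theorem isSimple_M23 : IsSimpleGroup Spor.M23 := by
  have := omega23_faithful
  have := MulAction.isPreprimitive_of_is_two_pretransitive omega23_two
  have : Nonempty omega23 := (Nat.card_pos_iff.1 (by rw [omega23_card]; norm_num)).1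
  refine isSimpleGroup_of_prime_gen (α := omega23) (p := 23) (by norm_num)
    (by rw [omega23_card]) (by rw [card_M23]; norm_num)
    (closure_order_eq_top (by norm_num) M23_cert.1 (by decide +kernel))

theorem isSimple_M22 : IsSimpleGroup Spor.M22 := by
  have := omega22_faithful
  have := MulAction.isPreprimitive_of_is_two_pretransitive omega22_two
  have : Nonempty omega22 := (Nat.card_pos_iff.1 (by rw [omega22_card]; norm_num)).1
  refine isSimpleGroup_of_prime_gen (α := omega22) (p := 11) (by norm_num)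
    (by rw [omega22_card]; norm_num) (by rw [card_M22]; norm_num)
    (closure_order_eq_top (by norm_num) M22_cert.1 (by decide +kernel))

theorem isSimple_M11 : IsSimpleGroup Spor.M11 := by
  have := omega11_faithful
  have := MulAction.isPreprimitive_of_is_two_pretransitive omega11_two
  have : Nonempty omega11 := (Nat.card_pos_iff.1 (by rw [omega11_card]; norm_num)).1
  refine isSimpleGroup_of_prime_gen (α := omega11) (p := 11) (by norm_num)
    (by rw [omega11_card]) (by rw [card_M11]; norm_num)
    (closure_order_eq_top (by norm_num) M11_cert.1 (by decide +kernel))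

theorem isSimple_M12 : IsSimpleGroup Spor.M12 := by
  have := omega12_faithful
  have := omega12_two
  have h0 : (some 0 : GolayPt) ∈ Spor.squareDodecad := by rw [squareDodecad_eq]; decide +kernel
  let a : omega12 := ⟨some 0, h0⟩
  have e : MulAction.stabilizer Spor.M12 a ≃* Spor.M11 :=
    { toFun := fun g => ⟨g.1.1, g.1.2, congrArg Subtype.val g.2⟩
      invFun := fun g => ⟨⟨g.1, g.2.1⟩, Subtype.ext g.2.2⟩
      left_inv := fun _ => rfl
      right_inv := fun _ => rfl
      map_mul' := fun _ _ => rfl }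
  have := isSimple_M11
  exact Perm.isSimpleGroup_of_simple_stabilizer a (MulEquiv.isSimpleGroup e)
    Nat.prime_two Nat.prime_three (by norm_num) (by rw [omega12_card]; norm_num)
    (by rw [omega12_card]; norm_num)

theorem isSimple_M24 : IsSimpleGroup M24 := by
  have : MulAction.IsMultiplyPretransitive M24 GolayPt 2 :=
    have := M24_isMultiplyPretransitive
    MulAction.isMultiplyPretransitive_of_le (n := 5) (by norm_num) (by simp)
  obtain ⟨e⟩ := stab_point_equiv (none : GolayPt)
  have := isSimple_M23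
  exact Perm.isSimpleGroup_of_simple_stabilizer (none : GolayPt) (MulEquiv.isSimpleGroup e)
    Nat.prime_two Nat.prime_three (by norm_num) (by simp) (by simp)

end Cfsg.Agent.Mathieu
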