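import Cfsg.Agent.Lib.Mathieu.Simple
import Cfsg.Prelude.Def_KGroupFacts

/-!
Rigidity certificates for permutation groups with a checked chain of stabilisers: a pruned search
for all `g` with `g * u = v * g`, and from it bounds on the outer automorphism group.

The bound: if `p` divides the order once, `C(x) = ⟨x⟩` for `x` of order `p`, and `y` acts on `⟨x⟩`
as `x ↦ x ^ r`, then every outer class has an automorphism fixing `y` with `x ↦ x ^ a`, `a` from
a set of coset representatives of `⟨r⟩`.  An element `t` with `t * y = y ^ j * t` generating the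
group together with `x` then has few possible images, and relations exclude all but a few of them.
-/

set_option autoImplicit false

namespace Cfsg.Agent.Mathieu

variable {α : Type*} {n : ℕ} {e : α ≃ Fin n}

/-! ### Comparing packed permutations -/

/-- `f a`, written so that the kernel computes the number `a` first. -/
def force {β : Sort*} (a : ℕ) (f : ℕ → β) : β :=
  match a with
  | 0 => f 0
  | k + 1 => f (k + 1)

theorem force_eq {β : Sort*} (a : ℕ) (f : ℕ → β) : force a f = f a := by cases a <;> rfl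

/-- `app`, on the primitive operations that the kernel evaluates directly. -/
def appS (l i : ℕ) : ℕ := Nat.land (Nat.shiftRight l (Nat.mul 8 i)) 255

theorem appS_eq (l i : ℕ) : appS l i = app l i := by
  change (l >>> (8 * i)) &&& (2 ^ 8 - 1) = _
  rw [Nat.and_two_pow_sub_one_eq_mod]; rfl

/-- The digits of a product at the listed positions. -/
def mulDigits (a b : ℕ) : List ℕ → ℕ
  | [] => 0
  | i :: is => Nat.add (appS a (appS b i)) (Nat.mul 256 (mulDigits a b is))

/-- `packMul` of computed numbers. -/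
def packMulS (n a b : ℕ) : ℕ := force a fun a => force b fun b => mulDigits a b (List.range n)

theorem packMulS_eq (n a b : ℕ) : packMulS n a b = packMul n a b := by
  simp only [packMulS, force_eq, packMul]
  induction List.range n with
  | nil => rfl
  | cons i is ih =>
    rw [List.foldr_cons, mulDigits, ih, appS_eq, appS_eq]; rfl

/-- `packPow` of computed numbers. -/
def packPowS (n l : ℕ) : ℕ → ℕ
  | 0 => packId n
  | k + 1 => packMulS n l (packPowS n l k)

theorem packPowS_eq (n l : ℕ) : ∀ k, packPowS n l k = packPow n l k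
  | 0 => rfl
  | k + 1 => by rw [packPowS, packMulS_eq, packPowS_eq n l k, packPow]

/-- `isId` of a computed number. -/
def isIdS (n a : ℕ) : Bool := force a (isId n)

/-- The same images below `n`. -/
def samePack (n a b : ℕ) : Bool :=
  force a fun a => force b fun b => (List.range n).all fun i => app a i == app b i

theorem Rep.same {σ : Equiv.Perm α} {a b : ℕ} (ha : Rep e σ a) (hb : Rep e σ b) :
    samePack n a b = true := by
  simp only [samePack, force_eq, List.all_eq_true, List.mem_range, beq_iff_eq]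
  intro i hi
  have h := (ha (e.symm ⟨i, hi⟩)).symm.trans (hb (e.symm ⟨i, hi⟩))
  simpa using h

theorem Rep.of_same {σ : Equiv.Perm α} {a b : ℕ} (ha : Rep e σ a)
    (h : samePack n a b = true) : Rep e σ b := by
  simp only [samePack, force_eq, List.all_eq_true, List.mem_range, beq_iff_eq] at h
  exact fun x => (ha x).trans (h _ (e x).isLt)

theorem Rep.isId_of_eq_one {σ : Equiv.Perm α} {a : ℕ} (ha : Rep e σ a) (h : σ = 1) :
    isId n a = true := by
  subst h
  simp only [isId, List.all_eq_true, List.mem_range, beq_iff_eq]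
  intro i hi
  simpa using (ha (e.symm ⟨i, hi⟩)).symm

/-! ### The search -/

/-- The new base point `b`, with image decided by `acc` and `t`, does not contradict
`g * u = v * g` together with the earlier ones. -/
def pruneOK (u v acc t b : ℕ) (fixed : List ℕ) : Bool :=
  force (appS acc (appS t b)) fun ab =>
    (force (appS u b) fun ub =>
      !(b :: fixed).contains ub || appS acc (appS t ub) == appS v ab) &&
    fixed.all fun x => appS u x != b || ab == appS v (appS acc (appS t x))

/-- All candidates for `g` with `g * u = v * g`. -/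
def searchAux (n u v : ℕ) : List CertLevel → List ℕ → ℕ → List ℕ
  | [], _, acc => [acc]
  | p :: rest, fixed, acc => p.2.2.flatMap fun t =>
      if pruneOK u v acc t p.1 fixed then
        force (packMulS n acc t) fun a => searchAux n u v rest (p.1 :: fixed) a
      else []

/-- All elements `g` of the chain with `g * u = v * g`. -/
def solutions (n u v : ℕ) (levels : List CertLevel) : List ℕ :=
  (searchAux n u v levels [] (packId n)).filter fun g => samePack n (packMulS n g u) (packMulS n v g)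

variable [NeZero n]

theorem mem_searchAux {H : Subgroup (Equiv.Perm α)} {μ ν : Equiv.Perm α}
    {u v : ℕ} (hu : Rep e μ u) (hv : Rep e ν v) :
    ∀ (levels : List CertLevel) (fixed : List ℕ) (K : Subgroup (Equiv.Perm α)),
      (∀ i ∈ fixed, i < n) → (∀ σ ∈ H, (∀ i ∈ fixed, σ (idx e i) = idx e i) → σ ∈ K) →
      (∀ σ ∈ K, ∀ i ∈ fixed, σ (idx e i) = idx e i) →
      levelsOK n fixed levels = true → (∀ t ∈ allReps levels, ∃ σ ∈ H, Rep e σ t) →
      Upper e K levels → fixList K (levels.map fun p => idx e p.1) = ⊥ →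
      ∀ (A : Equiv.Perm α) (acc : ℕ), Rep e A acc → ∀ r ∈ K,
        A * r * μ = ν * (A * r) → ∃ l ∈ searchAux n u v levels fixed acc, Rep e (A * r) l := by
  intro levels
  induction levels with
  | nil =>
    intro fixed K _ _ _ _ _ _ hbot A acc hA r hr _
    simp only [List.map_nil, fixList] at hbot
    rw [hbot, Subgroup.mem_bot] at hr
    exact ⟨acc, by simp [searchAux], by rwa [hr, mul_one]⟩
  | cons p rest ih =>
    obtain ⟨b, orb, ts⟩ := p
    intro fixed K hfx hK hKfix hok hrep hup hbot A acc hA r hr heq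
    simp only [levelsOK, Bool.and_eq_true, decide_eq_true_eq, beq_iff_eq,
      List.all_eq_true] at hok
    obtain ⟨⟨⟨⟨⟨hb, -⟩, -⟩, hmap⟩, hfix⟩, hrest⟩ := hok
    have hx := hup.1 r hr
    obtain ⟨t, ht, htb⟩ : ∃ t ∈ ts, app t b = (e (r (idx e b))).val := by
      rw [← hmap] at hx; simpa using hx
    obtain ⟨σ, hσH, hσ⟩ := hrep t (List.mem_flatMap.2 ⟨(b, orb, ts), List.mem_cons_self, ht⟩)
    have hσK : σ ∈ K := hK σ hσH (fun i hi => by rw [hσ.apply_idx (hfx i hi), hfix t ht i hi])
    have hmem : σ⁻¹ * r ∈ K ⊓ MulAction.stabilizer (Equiv.Perm α) (idx e b) := by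
      refine ⟨K.mul_mem (K.inv_mem hσK) hr, ?_⟩
      change σ.symm (r (idx e b)) = idx e b
      rw [Equiv.symm_apply_eq, hσ.apply_idx hb, htb, idx_self]
    have hfx' : ∀ i ∈ b :: fixed, i < n := by
      intro i hi; rcases List.mem_cons.1 hi with rfl | hi; exacts [hb, hfx i hi]
    have hK'fix : ∀ τ ∈ K ⊓ MulAction.stabilizer (Equiv.Perm α) (idx e b),
        ∀ i ∈ b :: fixed, τ (idx e i) = idx e i := fun τ hτ =>
      List.forall_mem_cons.2 ⟨hτ.2, hKfix τ hτ.1⟩
    have hA' := rep_packMul hA hσ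
    have hprod : A * σ * (σ⁻¹ * r) = A * r := by group
    have heval : ∀ i ∈ b :: fixed, (A * r) (idx e i) = idx e (app (packMul n acc t) i) := by
      intro i hi
      rw [← hprod, Equiv.Perm.mul_apply, hK'fix _ hmem i hi, hA'.apply_idx (hfx' i hi)]
    have happ : ∀ i, app (packMul n acc t) i = app acc (app t i) ∨ ¬ i < n := by
      intro i
      by_cases hi : i < n
      · left
        rw [packMul, app_packMul_aux (fun i => app acc (app t i)) _
          (fun i _ => Nat.mod_lt _ (by norm_num)) _ (by simpa using hi)]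
        simp
      · right; exact hi
    have hrel : ∀ i ∈ b :: fixed, app u i ∈ b :: fixed →
        app acc (app t (app u i)) = app v (app acc (app t i)) := by
      intro i hi hc
      have h1 : (A * r * μ) (idx e i) = idx e (app (packMul n acc t) (app u i)) := by
        rw [Equiv.Perm.mul_apply, hu.apply_idx (hfx' i hi), heval _ hc]
      have h2 : (ν * (A * r)) (idx e i) = idx e (app v (app (packMul n acc t) i)) := by
        rw [Equiv.Perm.mul_apply, heval i hi, hv.apply_idx (hA'.app_lt (hfx' i hi))]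
      rw [heq, h2] at h1
      have h3 := congrArg (fun q => (e q).val) h1.symm
      simp only [idx_val (hA'.app_lt (hu.app_lt (hfx' i hi))),
        idx_val (hv.app_lt (hA'.app_lt (hfx' i hi)))] at h3
      rwa [(happ i).resolve_right (fun h => h (hfx' i hi)),
        (happ _).resolve_right (fun h => h (hu.app_lt (hfx' i hi)))] at h3
    have hgood : pruneOK u v acc t b fixed = true := by
      simp only [pruneOK, force_eq, appS_eq, Bool.and_eq_true, List.all_eq_true, Bool.or_eq_true,
        Bool.not_eq_eq_eq_not, Bool.not_true, beq_iff_eq, bne_iff_ne]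
      refine ⟨?_, fun i hi => ?_⟩
      · by_cases hc : (b :: fixed).contains (app u b)
        · exact .inr (hrel b List.mem_cons_self (List.contains_iff_mem.1 hc))
        · exact .inl (by simpa using hc)
      · by_cases hc : app u i = b
        · have := hrel i (List.mem_cons_of_mem _ hi) (by rw [hc]; exact List.mem_cons_self)
          rw [hc] at this
          exact .inr this
        · exact .inl hc
    obtain ⟨l, hl, hlr⟩ := ih (b :: fixed) _ hfx'
      (fun τ hτ hfixτ => Subgroup.mem_inf.2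
        ⟨hK τ hτ fun i hi => hfixτ i (List.mem_cons_of_mem _ hi), hfixτ b List.mem_cons_self⟩)
      hK'fix hrest
      (fun t' ht' => hrep t' (by rw [allReps, List.flatMap_cons]; exact List.mem_append_right _ ht'))
      hup.2 hbot (A * σ) _ hA' _ hmem (by rwa [hprod])
    refine ⟨l, ?_, by rwa [hprod] at hlr⟩
    rw [searchAux, List.mem_flatMap]
    exact ⟨t, ht, by rw [if_pos hgood, force_eq, packMulS_eq]; exact hl⟩

/-- A checked chain for `G`: every element is a product of the representatives. -/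
structure Stab (e : α ≃ Fin n) (G : Subgroup (Equiv.Perm α)) (levels : List CertLevel) : Prop where
  le256 : n ≤ 256
  ok : levelsOK n [] levels = true
  reps : ∀ t ∈ allReps levels, ∃ σ ∈ G, Rep e σ t
  upper : Upper e G levels
  bot : fixList G (levels.map fun p => idx e p.1) = ⊥

theorem Stab.exists_solution {G : Subgroup (Equiv.Perm α)} {levels : List CertLevel}
    (S : Stab e G levels) {g μ ν : Equiv.Perm α} {u v : ℕ} (hu : Rep e μ u) (hv : Rep e ν v)
    (hg : g ∈ G) (h : g * μ = ν * g) :
    ∃ l ∈ solutions n u v levels, Rep e g l := by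
  obtain ⟨l, hl, hr⟩ := mem_searchAux hu hv levels [] G (by simp) (fun _ hσ _ => hσ) (by simp)
    S.ok S.reps S.upper S.bot 1 (packId n) (rep_packId S.le256) g hg (by simpa using h)
  rw [one_mul] at hr
  refine ⟨l, List.mem_filter.2 ⟨hl, ?_⟩, hr⟩
  rw [packMulS_eq, packMulS_eq]
  exact (rep_packMul hr hu).same (h ▸ rep_packMul hv hr)

omit [NeZero n]

/-! ### Words in two elements -/

/-- The product of the `x ^ a * t ^ b` over a list of exponent pairs. -/
def sylProd {M : Type*} [Monoid M] (x t : M) (w : List (ℕ × ℕ)) : M :=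
  (w.map fun ab => x ^ ab.1 * t ^ ab.2).prod

theorem map_sylProd {M N F : Type*} [Monoid M] [Monoid N] [FunLike F M N] [MonoidHomClass F M N]
    (f : F) (x t : M) (w : List (ℕ × ℕ)) : f (sylProd x t w) = sylProd (f x) (f t) w := by
  induction w with
  | nil => simp [sylProd]
  | cons ab w ih =>
    simp only [sylProd, List.map_cons, List.prod_cons, map_mul, map_pow] at ih ⊢
    rw [ih]

/-- The packed value of `sylProd`. -/
def sylPack (n x t : ℕ) : List (ℕ × ℕ) → ℕ
  | [] => packId n
  | (a, b) :: w => packMulS n (packMulS n (packPowS n x a) (packPowS n t b)) (sylPack n x t w)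

theorem rep_sylPack (hn : n ≤ 256) {μ ν : Equiv.Perm α} {x t : ℕ} (hx : Rep e μ x)
    (ht : Rep e ν t) : ∀ w, Rep e (sylProd μ ν w) (sylPack n x t w)
  | [] => rep_packId hn
  | (a, b) :: w => by
    simp only [sylPack, packMulS_eq, packPowS_eq]
    exact rep_packMul (rep_packMul (rep_packPow hn hx a) (rep_packPow hn ht b))
      (rep_sylPack hn hx ht w)

/-- The relation `w ^ k` holds for `(x, t)` and fails for `(x', t')`. -/
def separates (n x t x' t' : ℕ) (rel : List (ℕ × ℕ) × ℕ) : Bool :=
  isIdS n (packPowS n (sylPack n x t rel.1) rel.2) &&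
    !isIdS n (packPowS n (sylPack n x' t' rel.1) rel.2)

theorem not_separates (hn : n ≤ 256) {M : Type*} [Monoid M] {ι : M →* Equiv.Perm α}
    (hι : Function.Injective ι) (f : M →* M) {a b : M} {x t x' t' : ℕ}
    (hx : Rep e (ι a) x) (ht : Rep e (ι b) t) (hx' : Rep e (ι (f a)) x')
    (ht' : Rep e (ι (f b)) t') (rel : List (ℕ × ℕ) × ℕ) :
    separates n x t x' t' rel = false := by
  rw [Bool.eq_false_iff]
  intro h
  simp only [separates, isIdS, force_eq, packPowS_eq, Bool.and_eq_true, Bool.not_eq_eq_eq_not, Bool.not_true] at h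
  have h1 := (rep_packPow hn (rep_sylPack hn hx ht rel.1) rel.2).eq_one h.1
  rw [← map_sylProd, ← map_pow] at h1
  have h2 : sylProd a b rel.1 ^ rel.2 = 1 := hι (by rw [h1, map_one])
  have h3 : (sylProd (ι (f a)) (ι (f b)) rel.1) ^ rel.2 = 1 := by
    rw [← map_sylProd, ← map_sylProd, ← map_pow, ← map_pow, h2, map_one, map_one]
  rw [(rep_packPow hn (rep_sylPack hn hx' ht' rel.1) rel.2).isId_of_eq_one h3] at h
  exact absurd h.2 (by simp)

/-! ### Automorphisms -/

section Aut

variable {G : Type*} [Group G]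

theorem mk_conj_mul (g : G) (φ : MulAut G) :
    ((MulAut.conj g * φ : MulAut G) : Cfsg.Out G) = (φ : Cfsg.Out G) := by
  have h : MulAut.conj g ∈ Cfsg.Inn G := ⟨g, rfl⟩
  rw [QuotientGroup.mk_mul, (QuotientGroup.eq_one_iff _).2 h, one_mul]

theorem pow_mod_of_pow_eq_one {x : G} {p : ℕ} (hx : x ^ p = 1) {a b : ℕ} (h : a % p = b % p) :
    x ^ a = x ^ b := by
  rw [pow_eq_pow_mod a hx, pow_eq_pow_mod b hx, h]

theorem conj_pow_act {x y : G} {r : ℕ} (hy : y * x * y⁻¹ = x ^ r) :
    ∀ k a : ℕ, y ^ k * x ^ a * (y ^ k)⁻¹ = x ^ (a * r ^ k)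
  | 0, a => by simp
  | k + 1, a => by
    have h : y * x ^ (a * r ^ k) * y⁻¹ = (x ^ r) ^ (a * r ^ k) := by rw [← hy, conj_pow]
    rw [pow_succ', mul_inv_rev]
    calc y * y ^ k * x ^ a * ((y ^ k)⁻¹ * y⁻¹) = y * (y ^ k * x ^ a * (y ^ k)⁻¹) * y⁻¹ := by group
      _ = x ^ (a * r ^ (k + 1)) := by
        rw [conj_pow_act hy k a, h, ← pow_mul]; congr 1; ring

/-- The numerical conditions on the exponents. -/
def expOK (p r s : ℕ) (R : List ℕ) : Bool :=
  r * s % p == 1 &&
    ((List.range p).all fun a => a == 0 || (List.range p).any fun b => a * b % p == 1) &&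
    ((List.range p).all fun k => (List.range p).any fun m => (s * m + (p - 1) * m) % p == k) &&
    ((List.range p).all fun a => a == 0 ||
      (List.range p).any fun k => R.contains (a * r ^ k % p))

/-- Every outer class has a representative with `x ↦ x ^ a`, `a ∈ R`, and `y ↦ y`. -/
theorem exists_normalised [Finite G] {p : ℕ} (hp : p.Prime) {x y : G} {r s : ℕ} {R : List ℕ}
    (hex : expOK p r s R = true) (hx : orderOf x = p) (hp2 : ¬ p ^ 2 ∣ Nat.card G)
    (hC : ∀ g, g * x = x * g → ∃ k, k < p ∧ g = x ^ k) (hy : y * x * y⁻¹ = x ^ r)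
    (φ : MulAut G) :
    ∃ ψ : MulAut G, (ψ : Cfsg.Out G) = (φ : Cfsg.Out G) ∧ ∃ a ∈ R, ψ x = x ^ a ∧ ψ y = y := by
  have := Fact.mk hp
  simp only [expOK, Bool.and_eq_true, List.all_eq_true, List.any_eq_true, List.mem_range,
    Bool.or_eq_true, beq_iff_eq, List.contains_iff_mem] at hex
  obtain ⟨⟨⟨hrs, hinv⟩, hshift⟩, hcov⟩ := hex
  have hxp : x ^ p = 1 := hx ▸ pow_orderOf_eq_one x
  have hfac : (Nat.card G).factorization p = 1 := by
    have h0 : Nat.card G ≠ 0 := Nat.card_pos.ne'
    refine le_antisymm ?_ ?_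
    · by_contra h
      exact hp2 ((hp.pow_dvd_iff_le_factorization h0).2 (by omega))
    · exact (hp.pow_dvd_iff_le_factorization h0).1 (by rw [pow_one, ← hx]; exact orderOf_dvd_natCard x)
  have hcard : ∀ z : G, orderOf z = p →
      Nat.card (Subgroup.zpowers z) = p ^ (Nat.card G).factorization p := fun z hz => by
    rw [Nat.card_zpowers, hz, hfac, pow_one]
  let P : Sylow p G := Sylow.ofCard _ (hcard x hx)
  let Q : Sylow p G := Sylow.ofCard _ (hcard (φ x) (by rw [MulEquiv.orderOf_eq]; exact hx))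
  obtain ⟨g, hg⟩ := MulAction.exists_smul_eq G Q P
  have hmem : g * φ x * g⁻¹ ∈ (P : Subgroup G) := by
    rw [← hg, Sylow.coe_subgroup_smul]
    exact Subgroup.smul_mem_pointwise_smul (φ x) (MulAut.conj g) (Q : Subgroup G)
      (Subgroup.mem_zpowers _)
  obtain ⟨a₀, ha₀, hψ1⟩ : ∃ a, a < p ∧ x ^ a = g * φ x * g⁻¹ := by
    classical
    have h := mem_zpowers_iff_mem_range_orderOf.1 hmem
    simpa [hx, eq_comm] using h
  set ψ₁ : MulAut G := MulAut.conj g * φ with hψ₁
  have h1x : ψ₁ x = x ^ a₀ := hψ1.symm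
  have ha0 : a₀ ≠ 0 := by
    rintro rfl
    rw [pow_zero, MulEquiv.map_eq_one_iff] at h1x
    rw [h1x, orderOf_one] at hx
    exact hp.one_lt.ne hx
  obtain ⟨b, -, hb⟩ := (hinv a₀ ha₀).resolve_left ha0
  have hsact : y⁻¹ * x * y = x ^ s := by
    have : y * x ^ s * y⁻¹ = x := by
      rw [← conj_pow, hy, ← pow_mul]
      conv_rhs => rw [← pow_one x]
      exact pow_mod_of_pow_eq_one hxp (by rw [hrs, Nat.one_mod_eq_one.2 hp.one_lt.ne'])
    rw [eq_comm] at this
    nth_rewrite 1 [this]; group
  have hcomm : (y⁻¹ * ψ₁ y) * x = x * (y⁻¹ * ψ₁ y) := by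
    have hxb : x = (x ^ a₀) ^ b := by
      rw [← pow_mul]; conv_lhs => rw [← pow_one x]
      exact pow_mod_of_pow_eq_one hxp (by rw [hb, Nat.one_mod_eq_one.2 hp.one_lt.ne'])
    have h : ψ₁ y * x ^ a₀ * (ψ₁ y)⁻¹ = y * x ^ a₀ * y⁻¹ := by
      have := congrArg ψ₁ hy
      rw [map_mul, map_mul, map_inv, map_pow, h1x] at this
      rw [this, ← pow_mul, ← conj_pow, hy, ← pow_mul]; congr 1; ring
    have h' : Commute (y⁻¹ * ψ₁ y) (x ^ a₀) := by
      change _ = _
      calc y⁻¹ * ψ₁ y * x ^ a₀ = y⁻¹ * (ψ₁ y * x ^ a₀ * (ψ₁ y)⁻¹) * ψ₁ y := by group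
        _ = x ^ a₀ * (y⁻¹ * ψ₁ y) := by rw [h]; group
    rw [hxb]; exact h'.pow_right b
  obtain ⟨k, hk, hψy⟩ := hC _ hcomm
  rw [inv_mul_eq_iff_eq_mul] at hψy
  obtain ⟨m, -, hm⟩ := hshift k hk
  have hz : (x ^ m)⁻¹ = x ^ ((p - 1) * m) := by
    rw [inv_eq_iff_mul_eq_one, ← pow_add]
    conv_rhs => rw [← pow_zero x]
    refine pow_mod_of_pow_eq_one hxp ?_
    obtain ⟨q, rfl⟩ : ∃ q, p = q + 1 := ⟨p - 1, by have := hp.one_lt; omega⟩
    simp [Nat.add_comm m, ← Nat.succ_mul]
  have h2y : (x ^ m)⁻¹ * ψ₁ y * x ^ m = y := by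
    have : x ^ m * y * (x ^ m)⁻¹ = ψ₁ y := by
      have hs' : y⁻¹ * x ^ m * y = x ^ (s * m) := by
        have := conj_pow (a := y⁻¹) (b := x) (i := m)
        rw [inv_inv] at this
        rw [← this, hsact, ← pow_mul]
      calc x ^ m * y * (x ^ m)⁻¹ = y * ((y⁻¹ * x ^ m * y) * (x ^ m)⁻¹) := by group
        _ = ψ₁ y := by
          rw [hψy, hs', hz, ← pow_add]
          congr 1
          exact pow_mod_of_pow_eq_one hxp (by rw [hm, Nat.mod_eq_of_lt hk])
    rw [← this]; group
  obtain ⟨j, -, hj⟩ := (hcov a₀ ha₀).resolve_left ha0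
  refine ⟨MulAut.conj (y ^ j) * (MulAut.conj (x ^ m)⁻¹ * ψ₁), ?_, _, hj, ?_, ?_⟩
  · rw [mk_conj_mul, mk_conj_mul, hψ₁, mk_conj_mul]
  · rw [MulAut.mul_apply, MulAut.mul_apply, h1x, MulAut.conj_apply, MulAut.conj_apply, inv_inv]
    have : (x ^ m)⁻¹ * x ^ a₀ * x ^ m = x ^ a₀ := by group
    rw [this, conj_pow_act hy]
    exact pow_eq_pow_mod _ hxp
  · rw [MulAut.mul_apply, MulAut.mul_apply, MulAut.conj_apply, MulAut.conj_apply, inv_inv, h2y]
    group

end Aut

/-! ### Certificates -/

/-- Data bounding the outer automorphism group. -/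
structure RigidData where
  p : ℕ
  r : ℕ
  s : ℕ
  j : ℕ
  x : ℕ
  y : ℕ
  t : ℕ
  yj : ℕ
  R : List ℕ
  allowed : List (ℕ × ℕ)
  rels : List (List (ℕ × ℕ) × ℕ)
  words : List (List (ℕ × ℕ))

/-- The checks that do not search. -/
def RigidData.basicOK (d : RigidData) (n : ℕ) (gens : List ℕ) : Bool :=
  expOK d.p d.r d.s d.R &&
    isIdS n (packPowS n d.x d.p) && !isIdS n d.x &&
    samePack n (packMulS n d.y d.x) (packMulS n (packPowS n d.x d.r) d.y) &&
    samePack n (packPowS n d.y d.j) d.yj &&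
    samePack n (packMulS n d.t d.y) (packMulS n d.yj d.t) &&
    gens.all fun g => d.words.any fun w => samePack n (sylPack n d.x d.t w) g

/-- The centraliser of `x` consists of its powers. -/
def RigidData.centOK (d : RigidData) (n : ℕ) (levels : List CertLevel) : Bool :=
  (solutions n d.x d.x levels).all fun g =>
    (List.range d.p).any fun k => samePack n g (packPowS n d.x k)

/-- All but the allowed images of `(x, t)` violate a relation. -/
def RigidData.imgOK (d : RigidData) (n : ℕ) (levels : List CertLevel) : Bool :=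
  (solutions n d.y d.yj levels).all fun g =>
    d.R.all fun a => (d.allowed.any fun q => q.1 == a && samePack n g q.2) ||
      d.rels.any fun rel => force (packPowS n d.x a) fun x' => separates n d.x d.t x' g rel

variable [NeZero n]

theorem outer_finite_card_le [Finite α] {G : Subgroup (Equiv.Perm α)} {levels : List CertLevel}
    {gens : List ℕ} (S : Stab e G levels) (hG : genGroup e gens = G) (d : RigidData)
    (hp : d.p.Prime) (hp2 : ¬ d.p ^ 2 ∣ Nat.card G)
    (hmem : ∀ l ∈ [d.x, d.y, d.t], ∃ σ ∈ G, Rep e σ l)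
    (hb : d.basicOK n gens = true) (hc : d.centOK n levels = true)
    (hi : d.imgOK n levels = true) :
    Finite (Cfsg.Out G) ∧ Nat.card (Cfsg.Out G) ≤ d.allowed.length := by
  have hn := S.le256
  simp only [RigidData.basicOK, isIdS, force_eq, packMulS_eq, packPowS_eq, Bool.and_eq_true, List.all_eq_true, List.any_eq_true,
    Bool.not_eq_eq_eq_not, Bool.not_true] at hb
  obtain ⟨⟨⟨⟨⟨⟨hex, hxp⟩, hx1⟩, hyx⟩, hyj⟩, hty⟩, hwords⟩ := hb
  obtain ⟨σx, hσx, hx⟩ := hmem d.x (by simp)
  obtain ⟨σy, hσy, hy⟩ := hmem d.y (by simp)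
  obtain ⟨σt, hσt, ht⟩ := hmem d.t (by simp)
  let X : G := ⟨σx, hσx⟩
  let Y : G := ⟨σy, hσy⟩
  let T : G := ⟨σt, hσt⟩
  have hord : orderOf X = d.p := by
    have := Fact.mk hp
    refine orderOf_eq_prime (Subtype.ext ((rep_packPow hn hx d.p).eq_one hxp)) fun h => ?_
    rw [hx.isId_of_eq_one (congrArg Subtype.val h)] at hx1
    exact absurd hx1 (by simp)
  have hC : ∀ g : G, g * X = X * g → ∃ k, k < d.p ∧ g = X ^ k := by
    intro g hg
    obtain ⟨l, hl, hlr⟩ := S.exists_solution hx hx g.2 (congrArg Subtype.val hg)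
    simp only [RigidData.centOK, packPowS_eq, List.all_eq_true, List.any_eq_true, List.mem_range] at hc
    obtain ⟨k, hk, hsame⟩ := hc l hl
    exact ⟨k, hk, Subtype.ext ((hlr.of_same hsame).unique (rep_packPow hn hx k))⟩
  have hact : Y * X * Y⁻¹ = X ^ d.r := by
    rw [mul_inv_eq_iff_eq_mul]
    exact Subtype.ext (((rep_packMul hy hx).of_same hyx).unique
      (rep_packMul (rep_packPow hn hx d.r) hy))
  have hyjR : Rep e (σy ^ d.j) d.yj := (rep_packPow hn hy d.j).of_same hyj
  have hty' : T * Y = Y ^ d.j * T :=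
    Subtype.ext (((rep_packMul ht hy).of_same hty).unique (rep_packMul hyjR ht))
  have hdense : Subgroup.closure ({X, T} : Set G) = ⊤ := by
    have hXT : ∀ w, sylProd X T w ∈ Subgroup.closure ({X, T} : Set G) := fun w =>
      Subgroup.list_prod_mem _ fun z hz => by
        obtain ⟨ab, -, rfl⟩ := List.mem_map.1 hz
        exact Subgroup.mul_mem _ (Subgroup.pow_mem _ (Subgroup.subset_closure (by simp)) _)
          (Subgroup.pow_mem _ (Subgroup.subset_closure (by simp)) _)
    have hle : G ≤ (Subgroup.closure ({X, T} : Set G)).map G.subtype := by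
      refine hG.symm.le.trans (genGroup_le fun σ l hl hσ => ?_)
      obtain ⟨w, -, hw⟩ := hwords l hl
      refine ⟨sylProd X T w, hXT w, ?_⟩
      rw [map_sylProd]
      exact ((rep_sylPack hn hx ht w).of_same hw).unique hσ
    rw [eq_top_iff]
    intro z _
    obtain ⟨z', hz', h⟩ := hle z.2
    rwa [← Subtype.ext h]
  have key : ∀ φ : MulAut G, ∃ i : Fin d.allowed.length, ∃ ψ : MulAut G,
      (ψ : Cfsg.Out G) = (φ : Cfsg.Out G) ∧
      Rep e ((ψ X : G) : Equiv.Perm α) (packPow n d.x d.allowed[i.val].1) ∧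
      Rep e ((ψ T : G) : Equiv.Perm α) d.allowed[i.val].2 := by
    intro φ
    obtain ⟨ψ, hψ, a, ha, hψx, hψy⟩ := exists_normalised hp hex hord hp2 hC hact φ
    have h1 := congrArg ψ hty'
    rw [map_mul, map_mul, map_pow, hψy] at h1
    obtain ⟨l, hl, hlr⟩ := S.exists_solution hy hyjR (ψ T).2 (congrArg Subtype.val h1)
    simp only [RigidData.imgOK, force_eq, packPowS_eq, List.all_eq_true, Bool.or_eq_true, List.any_eq_true,
      Bool.and_eq_true, beq_iff_eq] at hi
    have hψX : Rep e ((ψ X : G) : Equiv.Perm α) (packPow n d.x a) := by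
      rw [hψx]; exact rep_packPow hn hx a
    rcases hi l hl a ha with ⟨q, hq, hqa, hsame⟩ | ⟨rel, -, hsep⟩
    · obtain ⟨i, hi', hiq⟩ := List.getElem_of_mem hq
      refine ⟨⟨i, hi'⟩, ψ, hψ, ?_⟩
      rw [hiq, hqa]
      exact ⟨hψX, hlr.of_same hsame⟩
    · rw [not_separates hn (ι := G.subtype) G.subtype_injective ψ.toMonoidHom (a := X) (b := T)
        hx ht hψX hlr rel] at hsep
      exact absurd hsep Bool.false_ne_true
  choose idxOf autOf hclass hX hT using key
  have huniq : ∀ φ φ' : MulAut G, idxOf φ = idxOf φ' → (φ : Cfsg.Out G) = (φ' : Cfsg.Out G) := by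
    intro φ φ' h
    rw [← hclass φ, ← hclass φ']
    congr 1
    have hXe := hX φ
    have hTe := hT φ
    rw [h] at hXe hTe
    have heq : (autOf φ).toMonoidHom = (autOf φ').toMonoidHom :=
      MonoidHom.eq_of_eqOn_dense hdense fun z hz => by
        rcases hz with rfl | rfl
        · exact Subtype.ext (hXe.unique (hX φ'))
        · exact Subtype.ext (hTe.unique (hT φ'))
    exact MulEquiv.ext fun z => DFunLike.congr_fun heq z
  let f : Cfsg.Out G → Fin d.allowed.length := fun c => idxOf c.out
  have hf : Function.Injective f := fun c c' h => by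
    simpa using huniq _ _ h
  have : Finite (Cfsg.Out G) := Finite.of_injective f hf
  exact ⟨this, (Nat.card_le_card_of_injective f hf).trans_eq (Nat.card_fin _)⟩

theorem outer_card_eq_one [Finite α] {G : Subgroup (Equiv.Perm α)} {levels : List CertLevel}
    {gens : List ℕ} (S : Stab e G levels) (hG : genGroup e gens = G) (d : RigidData)
    (hp : d.p.Prime) (hp2 : ¬ d.p ^ 2 ∣ Nat.card G)
    (hmem : ∀ l ∈ [d.x, d.y, d.t], ∃ σ ∈ G, Rep e σ l)
    (hb : d.basicOK n gens = true) (hc : d.centOK n levels = true)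
    (hi : d.imgOK n levels = true) (hlen : d.allowed.length = 1) :
    Nat.card (Cfsg.Out G) = 1 := by
  obtain ⟨hfin, hle⟩ := outer_finite_card_le S hG d hp hp2 hmem hb hc hi
  have := Nat.card_pos (α := Cfsg.Out G)
  omega

/-- An element normalising `G` whose conjugation is induced by no element of `G`. -/
theorem outer_card_eq_two [Finite α] {G : Subgroup (Equiv.Perm α)} {levels : List CertLevel}
    {gens : List ℕ} (S : Stab e G levels) (hG : genGroup e gens = G) (d : RigidData)
    (hp : d.p.Prime) (hp2 : ¬ d.p ^ 2 ∣ Nat.card G)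
    (hmem : ∀ l ∈ [d.x, d.y, d.t], ∃ σ ∈ G, Rep e σ l)
    (hb : d.basicOK n gens = true) (hc : d.centOK n levels = true)
    (hi : d.imgOK n levels = true) (hlen : d.allowed.length = 2)
    {δ : Equiv.Perm α} {dl di : ℕ} (hδ : Rep e δ dl) (hδi : Rep e δ⁻¹ di)
    (hnorm : G.map (MulAut.conj δ).toMonoidHom = G)
    {xd td : ℕ} (hxd : samePack n (packMulS n (packMulS n dl d.x) di) xd = true)
    (htd : samePack n (packMulS n (packMulS n dl d.t) di) td = true)
    (hni : ((solutions n d.x xd levels).all fun g =>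
      !samePack n (packMulS n g d.t) (packMulS n td g)) = true) :
    Nat.card (Cfsg.Out G) = 2 := by
  obtain ⟨hfin, hle⟩ := outer_finite_card_le S hG d hp hp2 hmem hb hc hi
  rw [packMulS_eq, packMulS_eq] at hxd htd
  simp only [packMulS_eq] at hni
  obtain ⟨σx, hσx, hx⟩ := hmem d.x (by simp)
  obtain ⟨σt, hσt, ht⟩ := hmem d.t (by simp)
  let D : MulAut G := ((MulAut.conj δ).subgroupMap G).trans (MulEquiv.subgroupCongr hnorm)
  have hD : ∀ z : G, ((D z : G) : Equiv.Perm α) = δ * z * δ⁻¹ := fun _ => rfl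
  have hne : (D : Cfsg.Out G) ≠ 1 := by
    intro h
    obtain ⟨g, hg⟩ := (QuotientGroup.eq_one_iff D).1 h
    have hconj : ∀ z : G, (g : Equiv.Perm α) * z * (g : Equiv.Perm α)⁻¹ = δ * z * δ⁻¹ := by
      intro z; rw [← hD, ← hg]; rfl
    have hgx : (g : Equiv.Perm α) * σx = δ * σx * δ⁻¹ * g := by
      rw [← hconj ⟨σx, hσx⟩]; group
    have hgt : (g : Equiv.Perm α) * σt = δ * σt * δ⁻¹ * g := by
      rw [← hconj ⟨σt, hσt⟩]; group
    have hxdR := (rep_packMul (rep_packMul hδ hx) hδi).of_same hxd
    have htdR := (rep_packMul (rep_packMul hδ ht) hδi).of_same htd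
    obtain ⟨l, hl, hlr⟩ := S.exists_solution hx hxdR g.2 hgx
    have h1 := List.all_eq_true.1 hni l hl
    rw [(rep_packMul hlr ht).same (hgt ▸ rep_packMul htdR hlr)] at h1
    simp at h1
  have : Nontrivial (Cfsg.Out G) := ⟨_, _, hne⟩
  have := Finite.one_lt_card (α := Cfsg.Out G)
  omega

end Cfsg.Agent.Mathieu
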