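import Cfsg.Agent.Lib.Mathieu.Trans

/-!
The Steiner system S(5,6,12) on a dodecad, the number of octads meeting a dodecad in 2, 4, 6 points,
element lists for stabilisers of base points, and the pointwise stabiliser of an octad.
-/

set_option autoImplicit false
set_option maxRecDepth 20000

namespace Cfsg.Agent.Mathieu

open Cfsg
open scoped Pointwise

/-! ### Dodecads -/

/-- Five points of a dodecad lie in an octad meeting it in exactly six points, and only one. -/
theorem exists_unique_hexad {d s : Finset GolayPt} (hd : d ∈ dodecads) (hs : s ⊆ d)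
    (h5 : s.card = 5) : ∃! o, o ∈ octads ∧ s ⊆ o ∧ (o ∩ d).card = 6 := by
  obtain ⟨o, ⟨ho, hso⟩, hu⟩ := octads_steiner.2 s h5
  have hle : 5 ≤ (o ∩ d).card := h5 ▸ Finset.card_le_card (Finset.subset_inter hso hs)
  refine ⟨o, ⟨ho, hso, ?_⟩, fun o' ho' => hu o' ⟨ho'.1, ho'.2.1⟩⟩
  rcases octad_inter_dodecad_card ho hd with h | h | h <;> omega

theorem ncard_octads_meeting_square (k : ℕ) :
    {o : Finset GolayPt | o ∈ octads ∧ (o ∩ Spor.squareDodecad).card = k}.ncard =
      ((maskList 8).filter fun m => popc 24 (m &&& dodMask) == k).length := by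
  have hset : {o : Finset GolayPt | o ∈ octads ∧ (o ∩ Spor.squareDodecad).card = k} =
      ptsOf '' (((maskList 8).filter fun m => popc 24 (m &&& dodMask) == k).toFinset : Set ℕ) := by
    ext o
    simp only [Set.mem_ofPred_eq, mem_octads_iff, squareDodecad_eq, Set.mem_image,
      List.coe_toFinset, List.mem_filter, beq_iff_eq]
    constructor
    · rintro ⟨⟨m, hm, rfl⟩, h⟩; exact ⟨m, ⟨hm, by rw [← card_ptsOf, ptsOf_and, h]⟩, rfl⟩
    · rintro ⟨m, ⟨hm, h⟩, rfl⟩; exact ⟨⟨m, hm, rfl⟩, by rw [← ptsOf_and, card_ptsOf, h]⟩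
  rw [hset, Set.InjOn.ncard_image, Set.ncard_coe_finset,
    List.toFinset_card_of_nodup (l := (maskList 8).filter fun m => popc 24 (m &&& dodMask) == k)
      (List.Nodup.filter _ (List.Nodup.filter _ codeList_nodup))]
  intro a ha b hb h
  simp only [List.coe_toFinset, Set.mem_ofPred_eq, List.mem_filter, mem_maskList] at ha hb
  exact ptsOf_inj (inCode_spec ha.1.1).1 (inCode_spec hb.1.1).1 h

theorem ncard_octads_meeting_image {g : Equiv.Perm GolayPt} (hg : g ∈ M24) (d : Finset GolayPt)
    (k : ℕ) : {o : Finset GolayPt | o ∈ octads ∧ (o ∩ g • d).card = k}.ncard =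
      {o : Finset GolayPt | o ∈ octads ∧ (o ∩ d).card = k}.ncard := by
  have hset : {o : Finset GolayPt | o ∈ octads ∧ (o ∩ g • d).card = k} =
      g • {o : Finset GolayPt | o ∈ octads ∧ (o ∩ d).card = k} := by
    ext o
    rw [Set.mem_smul_set_iff_inv_smul_mem, Set.mem_ofPred_eq, Set.mem_ofPred_eq]
    have hcard : (g⁻¹ • o ∩ d).card = (o ∩ g • d).card := by
      rw [← Finset.card_smul_finset g, smul_inter_pts, smul_inv_smul]
    rw [hcard]
    refine and_congr_left fun _ => ⟨fun h => M24_smul_octad (M24.inv_mem hg) h, fun h => ?_⟩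
    simpa using M24_smul_octad hg h
  rw [hset, Set.ncard_smul_set]

theorem ncard_octads_meeting_dodecad {d : Finset GolayPt} (hd : d ∈ dodecads) :
    {o : Finset GolayPt | o ∈ octads ∧ (o ∩ d).card = 6}.ncard = 132 ∧
      {o : Finset GolayPt | o ∈ octads ∧ (o ∩ d).card = 2}.ncard = 132 ∧
      {o : Finset GolayPt | o ∈ octads ∧ (o ∩ d).card = 4}.ncard = 495 := by
  obtain ⟨g, hg, rfl⟩ := M24_exists_map_square hd
  simp only [ncard_octads_meeting_image hg, ncard_octads_meeting_square]
  decide +kernel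

/-! ### Element lists -/

section
variable {α : Type*} {n : ℕ} {e : α ≃ Fin n} [NeZero n]

/-- An element fixing the first `k` base points is a product of the later representatives. -/
theorem exists_mem_prodList_drop {H : Subgroup (Equiv.Perm α)} (hn : n ≤ 256) :
    ∀ (levels : List CertLevel) (fixed : List ℕ) (K : Subgroup (Equiv.Perm α)),
      (∀ i ∈ fixed, i < n) → (∀ σ ∈ H, (∀ i ∈ fixed, σ (idx e i) = idx e i) → σ ∈ K) →
      levelsOK n fixed levels = true → (∀ t ∈ allReps levels, ∃ σ ∈ H, Rep e σ t) →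
      Upper e K levels → fixList K (levels.map fun p => idx e p.1) = ⊥ →
      ∀ (k : ℕ) (g : Equiv.Perm α), g ∈ fixList K ((levels.take k).map fun p => idx e p.1) →
        ∃ l ∈ prodList n (levels.drop k), Rep e g l := by
  intro levels
  induction levels with
  | nil =>
    intro fixed K h1 h2 h3 h4 h5 h6 k g hg
    rw [List.take_nil] at hg
    rw [List.drop_nil]
    exact exists_mem_prodList_aux hn [] fixed K h1 h2 h3 h4 h5 h6 g hg
  | cons p rest ih =>
    obtain ⟨b, orb, ts⟩ := p
    intro fixed K hfx hK hok hrep hup hbot k g hg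
    rcases k with _ | k
    · exact exists_mem_prodList_aux hn _ fixed K hfx hK hok hrep hup hbot g hg
    simp only [levelsOK, Bool.and_eq_true, decide_eq_true_eq, beq_iff_eq] at hok
    obtain ⟨⟨⟨⟨⟨hb, -⟩, -⟩, -⟩, -⟩, hrest⟩ := hok
    exact ih (b :: fixed) _
      (fun i hi => by rcases List.mem_cons.1 hi with rfl | hi; exacts [hb, hfx i hi])
      (fun τ hτ hfixτ => Subgroup.mem_inf.2 ⟨hK τ hτ fun i hi => hfixτ i (List.mem_cons_of_mem _ hi),
        hfixτ b List.mem_cons_self⟩) hrest
      (fun t ht => hrep t (by rw [allReps, List.flatMap_cons]; exact List.mem_append_right _ ht))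
      hup.2 hbot k g hg

theorem Chain.drop [DecidableEq α] : ∀ {levels : List (α × Finset α)}
    {H : Subgroup (Equiv.Perm α)} (k : ℕ), Chain H levels →
    Chain (fixList H ((levels.take k).map fun p => p.1)) (levels.drop k) := by
  intro levels
  induction levels with
  | nil => intro H k _; rw [List.drop_nil]; trivial
  | cons p rest ih =>
    intro H k h
    rcases k with _ | k
    · exact h
    · exact ih k h.2

theorem fixList_append : ∀ (l₁ l₂ : List α) (H : Subgroup (Equiv.Perm α)),
    fixList H (l₁ ++ l₂) = fixList (fixList H l₁) l₂ := by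
  intro l₁
  induction l₁ with
  | nil => intro l₂ H; rfl
  | cons b l₁ ih => intro l₂ H; exact ih l₂ _

end

theorem M24_reps : ∀ t ∈ allReps levels24, ∃ σ ∈ M24, Rep ptEnc σ t := by
  rw [← M24_cert.1]
  exact reps_genGroup (steps := slp24) (by decide +kernel) (by decide +kernel) (by decide +kernel)

theorem M24_upper_bot : Upper ptEnc M24 levels24 ∧
    fixList M24 (levels24.map fun p => idx ptEnc p.1) = ⊥ :=
  m24_upper (pre := []) (O := octadA) (steps := closeA) (by decide +kernel) le_rfl (by simp)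

/-- The packed elements of `M24` fixing the first `k` points of the standard base. -/
theorem M24_mem_list (k : ℕ) {g : Equiv.Perm GolayPt} (hg : g ∈ M24)
    (hfix : ∀ p ∈ levels24.take k, g (idx ptEnc p.1) = idx ptEnc p.1) :
    ∃ l ∈ prodList 24 (levels24.drop k), Rep ptEnc g l :=
  exists_mem_prodList_drop (by norm_num) levels24 [] M24 (by simp) (fun _ h _ => h)
    (by decide +kernel) M24_reps M24_upper_bot.1 M24_upper_bot.2 k g
    (mem_fixList.2 ⟨hg, fun b hb => by
      obtain ⟨p, hp, rfl⟩ := List.mem_map.1 hb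
      exact hfix p hp⟩)

theorem octadA_mem : ptsOf octadA ∈ octads :=
  ptsOf_mem_octads (by decide +kernel) (by decide +kernel)

theorem octadA_fixer_eq :
    fixList M24 (((toLevels ptEnc levels24).take 6).map fun p => p.1) =
      M24 ⊓ fixingSubgroup (Equiv.Perm GolayPt) (ptsOf octadA : Set GolayPt) := by
  ext g
  rw [mem_fixList, Subgroup.mem_inf, mem_fixingSubgroup_iff]
  refine and_congr_right fun hg => ⟨fun h p hp => ?_, fun h b hb => h b ?_⟩
  · obtain ⟨l, hl, hlg⟩ := M24_mem_list 6 hg (fun q hq => h _ (by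
      rw [toLevels, ← List.map_take, List.map_map]
      exact List.mem_map.2 ⟨q, hq, rfl⟩))
    have hall : ((prodList 24 (levels24.drop 6)).all fun l => (List.range 24).all fun i =>
        !octadA.testBit i || app l i == i) = true := by decide +kernel
    have h' := List.all_eq_true.1 (List.all_eq_true.1 hall l hl) (ptEnc p).val
      (List.mem_range.2 (Fin.isLt _))
    rw [Finset.mem_coe, mem_ptsOf, hasPt] at hp
    rw [hp] at h'
    change g p = p
    apply ptEnc.injective
    apply Fin.ext
    rw [hlg p]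
    simpa using h'
  · revert b
    decide +kernel

theorem octadA_fixer :
    Nat.card ↥(M24 ⊓ fixingSubgroup (Equiv.Perm GolayPt) (ptsOf octadA : Set GolayPt)) = 16 ∧
      ∀ g ∈ M24 ⊓ fixingSubgroup (Equiv.Perm GolayPt) (ptsOf octadA : Set GolayPt), g * g = 1 := by
  rw [← octadA_fixer_eq]
  refine ⟨?_, fun g hg => ?_⟩
  · have hbot : fixList (fixList M24 (((toLevels ptEnc levels24).take 6).map fun p => p.1))
        (((toLevels ptEnc levels24).drop 6).map fun p => p.1) = ⊥ := by
      rw [← fixList_append, ← List.map_append, List.take_append_drop]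
      simpa [toLevels, Function.comp_def] using M24_upper_bot.2
    rw [(M24_cert.2.2.drop 6).card_of_bot hbot]
    decide +kernel
  · rw [mem_fixList] at hg
    obtain ⟨l, hl, hlg⟩ := M24_mem_list 6 hg.1 (fun q hq => hg.2 _ (by
      rw [toLevels, ← List.map_take, List.map_map]
      exact List.mem_map.2 ⟨q, hq, rfl⟩))
    have hall : ((prodList 24 (levels24.drop 6)).all fun l => isId 24 (packMul 24 l l)) = true := by
      decide +kernel
    exact (rep_packMul hlg hlg).eq_one (List.all_eq_true.1 hall l hl)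

theorem octad_fixer {o : Finset GolayPt} (ho : o ∈ octads) :
    Nat.card ↥(M24 ⊓ fixingSubgroup (Equiv.Perm GolayPt) (o : Set GolayPt)) = 16 ∧
      ∀ g ∈ M24 ⊓ fixingSubgroup (Equiv.Perm GolayPt) (o : Set GolayPt), g * g = 1 := by
  obtain ⟨h, hh, rfl⟩ := M24_transitive_octads octadA_mem ho
  have hmap : (M24 ⊓ fixingSubgroup (Equiv.Perm GolayPt) (ptsOf octadA : Set GolayPt)).map
      (MulAut.conj h).toMonoidHom =
      M24 ⊓ fixingSubgroup (Equiv.Perm GolayPt) ((h • ptsOf octadA : Finset GolayPt) : Set GolayPt) := by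
    ext σ
    simp only [Subgroup.mem_map, Subgroup.mem_inf, mem_fixingSubgroup_iff, MulEquiv.coe_toMonoidHom,
      MulAut.conj_apply, Finset.mem_coe, Equiv.Perm.smul_def]
    constructor
    · rintro ⟨τ, ⟨hτ, hfix⟩, rfl⟩
      refine ⟨M24.mul_mem (M24.mul_mem hh hτ) (M24.inv_mem hh), fun p hp => ?_⟩
      obtain ⟨q, rfl⟩ := h.surjective p
      rw [apply_mem_smul_pts] at hp
      simp [hfix q hp]
    · rintro ⟨hσ, hfix⟩
      refine ⟨h⁻¹ * σ * h, ⟨M24.mul_mem (M24.mul_mem (M24.inv_mem hh) hσ) hh, fun q hq => ?_⟩,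
        by group⟩
      simp [hfix (h q) (apply_mem_smul_pts.2 hq)]
  rw [← hmap, Subgroup.card_map_of_injective (MulAut.conj h).injective]
  refine ⟨octadA_fixer.1, ?_⟩
  rintro _ ⟨τ, hτ, rfl⟩
  rw [← map_mul, octadA_fixer.2 τ hτ, map_one]

end Cfsg.Agent.Mathieu
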