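import Cfsg.Agent.Lib.Mathieu.PermCert

/-!
Upper bounds for certificates: if the products of representatives, one from each level, are
closed under products (checked by sifting), the group generated by sifted generators consists of
such products; this gives the `Upper` hypothesis and trivial pointwise stabiliser of the base.
-/

set_option autoImplicit false

namespace Cfsg.Agent.Mathieu

variable {α : Type*} {n : ℕ} {e : α ≃ Fin n}

/-- Packed inverse: digit `i` is the index at which `l` takes the value `i`. -/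
def invPack (n l : ℕ) : ℕ :=
  (List.range n).foldr (fun i acc => (((List.range n).findIdx fun j => app l j == i) % 256) + 256 * acc) 0

/-- `ti` undoes `t`. -/
def leftInvOK (n ti t : ℕ) : Bool := (List.range n).all fun i => app ti (app t i) == i

theorem Rep.inv_of_leftInvOK {σ : Equiv.Perm α} {t ti : ℕ} (h : Rep e σ t)
    (hi : leftInvOK n ti t = true) : Rep e σ⁻¹ ti := by
  intro a
  simp only [leftInvOK, List.all_eq_true, List.mem_range, beq_iff_eq] at hi
  have h1 : (e a).val = app t (e (σ⁻¹ a)).val := by rw [← h]; simp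
  rw [h1, hi _ (e (σ⁻¹ a)).isLt]

/-- `g` is a product of representatives, one from each level. -/
def sift (n : ℕ) : List CertLevel → ℕ → Bool
  | [], g => isId n g
  | p :: rest, g => p.2.2.any fun t =>
      app t p.1 == app g p.1 && (leftInvOK n (invPack n t) t && sift n rest (packMul n (invPack n t) g))

/-- The permutations that are products of representatives, one from each level. -/
def InProd (e : α ≃ Fin n) : List CertLevel → Equiv.Perm α → Prop
  | [], σ => σ = 1
  | p :: rest, σ => ∃ t ∈ p.2.2, ∃ τ, Rep e τ t ∧ ∃ ρ, InProd e rest ρ ∧ σ = τ * ρ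

theorem inProd_of_sift : ∀ (levels : List CertLevel),
    (∀ t ∈ allReps levels, ∃ τ : Equiv.Perm α, Rep e τ t) →
    ∀ (σ : Equiv.Perm α) (g : ℕ), Rep e σ g → sift n levels g = true → InProd e levels σ
  | [], _, σ, g, hg, h => hg.eq_one h
  | p :: rest, hrep, σ, g, hg, h => by
    simp only [sift, List.any_eq_true, Bool.and_eq_true] at h
    obtain ⟨t, ht, -, hinv, hrest⟩ := h
    obtain ⟨τ, hτ⟩ := hrep t (List.mem_flatMap.2 ⟨p, List.mem_cons_self, ht⟩)
    exact ⟨t, ht, τ, hτ, τ⁻¹ * σ, inProd_of_sift rest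
      (fun t' ht' => hrep t' (by rw [allReps, List.flatMap_cons]; exact List.mem_append_right _ ht'))
      _ _ (rep_packMul (hτ.inv_of_leftInvOK hinv) hg) hrest, (mul_inv_cancel_left τ σ).symm⟩

/-- Closure of the products of representatives under products. -/
def closedOK (n : ℕ) : List CertLevel → Bool
  | [] => true
  | p :: rest => sift n (p :: rest) (packId n) &&
      (allReps (p :: rest)).all (fun s => p.2.2.all fun t => sift n (p :: rest) (packMul n s t)) &&
      closedOK n rest

theorem InProd.mul_mem {S : Set (Equiv.Perm α)} : ∀ {levels : List CertLevel} {ρ : Equiv.Perm α},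
    InProd e levels ρ → (∀ s ∈ allReps levels, ∀ τ, Rep e τ s → ∀ x ∈ S, τ * x ∈ S) →
    ∀ x ∈ S, ρ * x ∈ S
  | [], ρ, h, _, x, hx => by rw [show ρ = 1 from h, one_mul]; exact hx
  | p :: rest, ρ, h, hS, x, hx => by
    obtain ⟨t, ht, τ, hτ, ρ', hρ', rfl⟩ := h
    rw [mul_assoc]
    refine hS t (List.mem_flatMap.2 ⟨p, List.mem_cons_self, ht⟩) τ hτ _ ?_
    exact hρ'.mul_mem (fun s hs => hS s
      (by rw [allReps, List.flatMap_cons]; exact List.mem_append_right _ hs)) x hx

theorem inProd_mul (hn : n ≤ 256) : ∀ (levels : List CertLevel), closedOK n levels = true →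
    (∀ t ∈ allReps levels, ∃ τ : Equiv.Perm α, Rep e τ t) →
    InProd e levels 1 ∧ ∀ σ τ, InProd e levels σ → InProd e levels τ → InProd e levels (σ * τ)
  | [], _, _ => ⟨rfl, fun σ τ (h : σ = 1) (h' : τ = 1) => show σ * τ = 1 by simp [h, h']⟩
  | p :: rest, hok, hrep => by
    simp only [closedOK, Bool.and_eq_true, List.all_eq_true] at hok
    obtain ⟨⟨h1, h2⟩, h3⟩ := hok
    have hrep' : ∀ t ∈ allReps rest, ∃ τ : Equiv.Perm α, Rep e τ t := fun t ht =>
      hrep t (by rw [allReps, List.flatMap_cons]; exact List.mem_append_right _ ht)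
    obtain ⟨-, ih⟩ := inProd_mul hn rest h3 hrep'
    refine ⟨inProd_of_sift _ hrep 1 _ (rep_packId hn) h1, fun σ τ hσ hτ => ?_⟩
    refine hσ.mul_mem (S := {x | InProd e (p :: rest) x}) (fun s hs ν hν x hx => ?_) τ hτ
    obtain ⟨t, ht, μ, hμ, ρ, hρ, rfl⟩ := hx
    obtain ⟨t', ht', μ', hμ', ρ', hρ', heq⟩ :=
      inProd_of_sift _ hrep _ _ (rep_packMul hν hμ) (h2 s hs t ht)
    exact ⟨t', ht', μ', hμ', ρ' * ρ, ih _ _ hρ' hρ, by rw [← mul_assoc, heq, mul_assoc]⟩

/-- A group generated by permutations that sift consists of products of representatives. -/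
theorem inProd_of_mem_closure [Finite α] (hn : n ≤ 256) {levels : List CertLevel}
    (hok : closedOK n levels = true) (hne : levels ≠ [])
    (hrep : ∀ t ∈ allReps levels, ∃ τ : Equiv.Perm α, Rep e τ t) {S : Set (Equiv.Perm α)}
    (hS : ∀ σ ∈ S, ∃ g, Rep e σ g ∧ sift n levels g = true) :
    ∀ σ ∈ Subgroup.closure S, InProd e levels σ := by
  obtain ⟨h1, h2⟩ := inProd_mul (e := e) hn levels hok hrep
  intro σ hσ
  rw [← Subgroup.mem_toSubmonoid, Subgroup.closure_toSubmonoid_of_finite] at hσ
  induction hσ using Submonoid.closure_induction with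
  | mem x hx => obtain ⟨g, hg, hg'⟩ := hS x hx; exact inProd_of_sift _ hrep _ _ hg hg'
  | one => exact h1
  | mul x y _ _ hx hy => exact h2 x y hx hy

/-- Only the identity representative fixes its base point. -/
def idRepOK (n : ℕ) (levels : List CertLevel) : Bool :=
  levels.all fun p => p.2.2.all fun t => !(app t p.1 == p.1) || isId n t

theorem InProd.fix [NeZero n] : ∀ {levels : List CertLevel} {fixed : List ℕ} {σ : Equiv.Perm α},
    InProd e levels σ → levelsOK n fixed levels = true → ∀ i ∈ fixed, i < n → σ (idx e i) = idx e i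
  | [], _, σ, h, _, i, _, _ => by rw [show σ = 1 from h]; rfl
  | (b, orb, ts) :: rest, fixed, σ, h, hok, i, hi, hin => by
    obtain ⟨t, ht, τ, hτ, ρ, hρ, rfl⟩ := h
    simp only [levelsOK, Bool.and_eq_true, List.all_eq_true, beq_iff_eq] at hok
    rw [Equiv.Perm.mul_apply, hρ.fix hok.2 i (List.mem_cons_of_mem _ hi) hin, hτ.apply_idx hin,
      hok.1.2 t ht i hi]

theorem upper_fixList_of_inProd [NeZero n] : ∀ (levels : List CertLevel) (fixed : List ℕ)
    (H : Subgroup (Equiv.Perm α)), levelsOK n fixed levels = true → idRepOK n levels = true →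
    (∀ σ ∈ H, InProd e levels σ) →
    Upper e H levels ∧ fixList H (levels.map fun p => idx e p.1) = ⊥
  | [], _, H, _, _, hH => ⟨trivial, (Subgroup.eq_bot_iff_forall _).2 hH⟩
  | (b, orb, ts) :: rest, fixed, H, hok, hid, hH => by
    simp only [levelsOK, Bool.and_eq_true, decide_eq_true_eq, beq_iff_eq, List.all_eq_true] at hok
    obtain ⟨⟨⟨⟨⟨hb, horb⟩, -⟩, hmap⟩, -⟩, hrest⟩ := hok
    simp only [idRepOK, List.all_cons, Bool.and_eq_true] at hid
    obtain ⟨hid1, hid2⟩ := hid
    have himg : ∀ σ ∈ H, ∀ t ∈ ts, ∀ τ ρ, Rep e τ t → InProd e rest ρ → σ = τ * ρ →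
        σ (idx e b) = idx e (app t b) := by
      intro σ _ t _ τ ρ hτ hρ hσ
      rw [hσ, Equiv.Perm.mul_apply, hρ.fix hrest b List.mem_cons_self hb, hτ.apply_idx hb]
    refine ⟨⟨fun σ hσ => ?_, (upper_fixList_of_inProd rest _ _ hrest hid2 ?_).1⟩,
      (upper_fixList_of_inProd rest _ _ hrest hid2 ?_).2⟩
    · obtain ⟨t, ht, τ, hτ, ρ, hρ, hs⟩ := hH σ hσ
      rw [himg σ hσ t ht τ ρ hτ hρ hs, idx_val (hτ.app_lt hb), ← hmap]
      exact List.mem_map.2 ⟨t, ht, rfl⟩
    all_goals
      intro σ hσ
      obtain ⟨t, ht, τ, hτ, ρ, hρ, hs⟩ := hH σ hσ.1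
      have h := (himg σ hσ.1 t ht τ ρ hτ hρ hs).symm.trans hσ.2
      have h' : app t b = b := by rw [← idx_val (e := e) (hτ.app_lt hb), h, idx_val hb]
      have hid' := List.all_eq_true.1 hid1 t ht
      simp only [h', beq_self_eq_true, Bool.not_true, Bool.false_or] at hid'
      rw [hs, hτ.eq_one hid', one_mul]
      exact hρ

/-- Order and chain of a generated group from one certificate. -/
theorem closure_cert [Finite α] [DecidableEq α] [NeZero n] (hn : n ≤ 256)
    {levels : List CertLevel} (hne : levels ≠ []) (hlev : levelsOK n [] levels = true)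
    (hid : idRepOK n levels = true) (hclosed : closedOK n levels = true) {S : Set (Equiv.Perm α)}
    (hrep : ∀ t ∈ allReps levels, ∃ σ ∈ Subgroup.closure S, Rep e σ t)
    (hS : ∀ σ ∈ S, ∃ g, Rep e σ g ∧ sift n levels g = true) :
    Chain (Subgroup.closure S) (toLevels e levels) ∧
      Nat.card (Subgroup.closure S) = (levels.map fun p => p.2.1.length).prod := by
  have h := inProd_of_mem_closure hn hclosed hne
    (fun t ht => (hrep t ht).imp fun _ h => h.2) hS
  obtain ⟨hup, hbot⟩ := upper_fixList_of_inProd levels [] (Subgroup.closure S) hlev hid h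
  exact ⟨chain_of_cert hlev hrep hup, card_of_cert hlev hrep hup hbot⟩

end Cfsg.Agent.Mathieu
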