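import Cfsg.Agent.Lib.Mathieu.SylowTwo
import Cfsg.Agent.Lib.Mathieu.Rigid

/-!
Central extensions of a permutation group `H` of the 24 points by `ZMod N` from monomial maps: on
an orbit of `H` on pairs of words, an orbital is labelled in `ZMod N`, and the extension consists
of the pairs `(g, f)` carrying labels to labels up to the coboundary of `f`.  The kernel consists
of the constants as the orbital is connected.
-/

set_option autoImplicit false

namespace Cfsg.Agent.Mathieu.CoverOrbital

open Cfsg
open scoped commutatorElement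

/-- A pair of words. -/
@[ext] structure Pt where
  /-- the first word -/
  fst : GolayPt → ZMod 2
  /-- the second word -/
  snd : GolayPt → ZMod 2

instance : Finite Pt :=
  Finite.of_injective (fun p : Pt => (p.fst, p.snd)) fun _ _ h =>
    Pt.ext (congrArg Prod.fst h) (congrArg Prod.snd h)

instance : MulAction (Equiv.Perm GolayPt) Pt where
  smul σ p := ⟨p.fst ∘ ⇑σ⁻¹, p.snd ∘ ⇑σ⁻¹⟩
  one_smul p := by ext <;> rfl
  mul_smul σ τ p := by
    apply Pt.ext <;> funext q
    · change p.fst ((σ * τ)⁻¹ q) = p.fst (τ⁻¹ (σ⁻¹ q)); rw [mul_inv_rev, Equiv.Perm.mul_apply]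
    · change p.snd ((σ * τ)⁻¹ q) = p.snd (τ⁻¹ (σ⁻¹ q)); rw [mul_inv_rev, Equiv.Perm.mul_apply]

/-- The point with the given masks. -/
def ptOf (m : ℕ × ℕ) : Pt := ⟨wordOf m.1, wordOf m.2⟩

theorem wordOf_comp_inv {σ : Equiv.Perm GolayPt} {l b b' : ℕ} (hl : Rep ptEnc σ l)
    (h : mapsMask l b b' = true) : wordOf b ∘ ⇑σ⁻¹ = wordOf b' := by
  funext p
  simp only [Function.comp_apply, wordOf, hasPt]
  simp only [mapsMask, List.all_eq_true, List.mem_range, beq_iff_eq] at h
  have h1 := h _ (ptEnc (σ⁻¹ p)).isLt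
  rw [← hl, show σ (σ⁻¹ p) = p from σ.apply_symm_apply p] at h1
  simp only [h1]
  rcases Bool.eq_false_or_eq_true (b'.testBit (ptEnc p).val) with hb | hb <;> simp [hb]

theorem smul_ptOf {σ : Equiv.Perm GolayPt} {l : ℕ} {a b : ℕ × ℕ} (hl : Rep ptEnc σ l)
    (h1 : mapsMask l a.1 b.1 = true) (h2 : mapsMask l a.2 b.2 = true) : σ • ptOf a = ptOf b :=
  Pt.ext (wordOf_comp_inv hl h1) (wordOf_comp_inv hl h2)

/-- Lookup in a list cut into pieces of length 40. -/
def look {β : Type} (d : β) (L : List (List β)) (i : ℕ) : β := (L.getD (i / 40) []).getD (i % 40) d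

/-- The data. -/
structure Cert where
  /-- the degree -/
  deg : ℕ
  /-- the order of the kernel, at most 4 -/
  N : ℕ
  /-- the points -/
  pts : List (List (ℕ × ℕ))
  /-- packed generators -/
  gens : List ℕ
  /-- images of the indices, 16 bits each, for each generator -/
  imgs : List ℕ
  /-- labels, 4 bits each, for each generator -/
  labs : List ℕ
  /-- the orbital: for each index the neighbours with their labels, as one number whose lowest
  8 bits give their count, followed by 16 bits `4 j + c` for each -/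
  rows : List (List ℕ)
  /-- each row as a mask -/
  masks : List (List ℕ)
  /-- `(i, j, g)`: index `i` is the image of the earlier `j` under generator `g` -/
  tree : List (ℕ × ℕ × ℕ)
  /-- `(i, j)`: index `i` is a neighbour of the earlier `j` -/
  conn : List (ℕ × ℕ)

variable (C : Cert)

/-- The point with index `i`. -/
def Cert.point (i : ℕ) : ℕ × ℕ := look (0, 0) C.pts i
/-- The image of index `i`. -/
def Cert.img (g i : ℕ) : ℕ := (C.imgs.getD g 0 >>> (16 * i)) % 65536
/-- The label of index `i`. -/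
def Cert.lab (g i : ℕ) : ℕ := (C.labs.getD g 0 >>> (4 * i)) % 16
/-- The row of index `i`. -/
def Cert.row (i : ℕ) : List (ℕ × ℕ) :=
  force (look 0 C.rows i) fun r => (List.range (r % 256)).map fun k =>
    (((r >>> (8 + 16 * k)) % 65536) / 4, ((r >>> (8 + 16 * k)) % 65536) % 4)
/-- The mask of a row. -/
def maskOf : List (ℕ × ℕ) → ℕ
  | [] => 0
  | p :: ps => 2 ^ (4 * p.1 + p.2) ||| maskOf ps
/-- The code of a point. -/
def code (m : ℕ × ℕ) : ℕ := m.1 * 2 ^ 24 + m.2

/-- The points: increasing codes, moved as claimed by the generators. -/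
def Cert.pointsOK : Bool :=
  decide (0 < C.deg) && decide (C.N ≤ 4) && decide (1 < C.N) &&
  ((List.range C.deg).all fun i => decide ((C.point i).1 < 2 ^ 24) &&
    decide ((C.point i).2 < 2 ^ 24) &&
    (decide (C.deg ≤ i + 1) || decide (code (C.point i) < code (C.point (i + 1))))) &&
  (List.range C.gens.length).all fun g => (List.range C.deg).all fun i =>
    decide (C.img g i < C.deg) && mapsMask (C.gens.getD g 0) (C.point i).1 (C.point (C.img g i)).1 &&
      mapsMask (C.gens.getD g 0) (C.point i).2 (C.point (C.img g i)).2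

/-- The rows: bounded entries, the stated masks, one label for each pair. -/
def Cert.rowsOK : Bool :=
  (List.range C.deg).all fun i => force (look 0 C.masks i) fun m =>
    (maskOf (C.row i) == m) && (C.row i).all fun p => decide (p.1 < C.deg) && decide (p.2 < C.N) &&
      ((m >>> (4 * p.1)) % 16 == 2 ^ p.2)

/-- The generators preserve the labelled orbital. -/
def Cert.edgesOK : Bool :=
  (List.range C.gens.length).all fun g => (List.range C.deg).all fun i =>
    force (look 0 C.masks (C.img g i)) fun m => (C.row i).all fun p =>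
      m.testBit (4 * C.img g p.1 + (p.2 + C.lab g i + (C.N - C.lab g p.1 % C.N)) % C.N)

/-- `(i, j)` pairs with `j` seen before, covering all indices. -/
def seenOK (deg : ℕ) : List (ℕ × ℕ) → ℕ → Bool
  | [], s => s == 2 ^ deg - 1
  | (i, j) :: rest, s => decide (i < deg) && s.testBit j && force (s ||| 2 ^ i) (seenOK deg rest)

/-- The two trees. -/
def Cert.treesOK : Bool :=
  (C.tree.all fun t => decide (t.2.2 < C.gens.length) && (C.img t.2.2 t.2.1 == t.1)) &&
    seenOK C.deg (C.tree.map fun t => (t.1, t.2.1)) 1 &&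
    (C.conn.all fun t => (C.row t.2).any fun p => p.1 == t.1) && seenOK C.deg C.conn 1

theorem testBit_maskOf {k : ℕ} : ∀ {L : List (ℕ × ℕ)}, (maskOf L).testBit k = true →
    ∃ p ∈ L, k = 4 * p.1 + p.2
  | [], h => by simp [maskOf] at h
  | q :: L, h => by
    rw [maskOf, Nat.testBit_or, Bool.or_eq_true, Nat.testBit_two_pow, decide_eq_true_eq] at h
    rcases h with h | h
    · exact ⟨q, List.mem_cons_self, h.symm⟩
    · obtain ⟨p, hp, he⟩ := testBit_maskOf h
      exact ⟨p, List.mem_cons_of_mem _ hp, he⟩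

theorem testBit_maskOf_self {p : ℕ × ℕ} : ∀ {L : List (ℕ × ℕ)}, p ∈ L →
    (maskOf L).testBit (4 * p.1 + p.2) = true
  | [], h => absurd h List.not_mem_nil
  | q :: L, h => by
    rw [maskOf, Nat.testBit_or, Bool.or_eq_true]
    rcases List.mem_cons.1 h with rfl | h
    · left; simp
    · exact Or.inr (testBit_maskOf_self h)

theorem eq_zero_of_testBit_one {k : ℕ} (h : (1 : ℕ).testBit k = true) : k = 0 := by
  cases k with
  | zero => rfl
  | succ k => simp [Nat.testBit_succ] at h

theorem seenOK_sound {deg : ℕ} {P : ℕ → Prop} : ∀ (L : List (ℕ × ℕ)) (s : ℕ),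
    seenOK deg L s = true → (∀ k, k < deg → s.testBit k = true → P k) →
    (∀ t ∈ L, t.2 < deg → P t.2 → P t.1) → (∀ t ∈ L, t.1 < deg) →
    (∀ k, s.testBit k = true → k < deg) → ∀ k, k < deg → P k
  | [], s, h, hs, _, _, _, k, hk => by
    rw [seenOK, beq_iff_eq] at h
    exact hs k hk (by rw [h, Nat.testBit_two_pow_sub_one]; simpa using hk)
  | (i, j) :: rest, s, h, hs, hstep, hlt, hsb, k, hk => by
    rw [seenOK, force_eq, Bool.and_eq_true, Bool.and_eq_true, decide_eq_true_eq] at h
    refine seenOK_sound rest _ h.2 ?_ (fun t ht => hstep t (List.mem_cons_of_mem _ ht))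
      (fun t ht => hlt t (List.mem_cons_of_mem _ ht)) ?_ k hk
    · intro m hm hb
      rw [Nat.testBit_or, Bool.or_eq_true, Nat.testBit_two_pow, decide_eq_true_eq] at hb
      rcases hb with hb | hb
      · exact hs m hm hb
      · subst hb
        exact hstep (i, j) List.mem_cons_self (hsb j h.1.2) (hs j (hsb j h.1.2) h.1.2)
    · intro m hb
      rw [Nat.testBit_or, Bool.or_eq_true, Nat.testBit_two_pow, decide_eq_true_eq] at hb
      rcases hb with hb | hb
      · exact hsb m hb
      · exact hb ▸ h.1.1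

theorem seenOK_lt {deg : ℕ} : ∀ (L : List (ℕ × ℕ)) (s : ℕ), seenOK deg L s = true →
    ∀ t ∈ L, t.1 < deg
  | [], _, _, t, ht => absurd ht List.not_mem_nil
  | (i, j) :: rest, s, h, t, ht => by
    rw [seenOK, force_eq, Bool.and_eq_true, Bool.and_eq_true, decide_eq_true_eq] at h
    rcases List.mem_cons.1 ht with rfl | ht
    · exact h.1.1
    · exact seenOK_lt rest _ h.2 t ht

variable (H : Subgroup (Equiv.Perm GolayPt))

/-- The orbit of the first point. -/
abbrev Orb : Set Pt := MulAction.orbit H (ptOf (C.point 0))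

/-- The checks, and generators of `H`. -/
structure Cert.Valid : Prop where
  points : C.pointsOK = true
  rows : C.rowsOK = true
  edges : C.edgesOK = true
  trees : C.treesOK = true
  gens_ok : C.gens.all (permOK 24) = true
  mem : ∀ σ l, Rep ptEnc σ l → l ∈ C.gens → σ ∈ H
  top : H ≤ genGroup ptEnc C.gens

variable {C H}

theorem Cert.Valid.exists_gen (h : C.Valid H) {g : ℕ} (hg : g < C.gens.length) :
    ∃ σ : H, Rep ptEnc (σ : Equiv.Perm GolayPt) (C.gens.getD g 0) := by
  have hm : C.gens.getD g 0 ∈ C.gens := by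
    rw [List.getD_eq_getElem _ _ hg]; exact List.getElem_mem _
  obtain ⟨σ, hσ⟩ := exists_rep (e := ptEnc) (List.all_eq_true.1 h.gens_ok _ hm)
  exact ⟨⟨σ, h.mem σ _ hσ hm⟩, hσ⟩

/-- The generator with index `g`. -/
noncomputable def Cert.Valid.gen (h : C.Valid H) (g : Fin C.gens.length) : H :=
  (h.exists_gen g.isLt).choose

theorem Cert.Valid.rep_gen (h : C.Valid H) (g : Fin C.gens.length) :
    Rep ptEnc (h.gen g : Equiv.Perm GolayPt) (C.gens.getD g.val 0) :=
  (h.exists_gen g.isLt).choose_spec

theorem Cert.Valid.pts_facts (h : C.Valid H) :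
    (0 < C.deg ∧ C.N ≤ 4 ∧ 1 < C.N) ∧
    (∀ i, i < C.deg → (C.point i).1 < 2 ^ 24 ∧ (C.point i).2 < 2 ^ 24 ∧
      (C.deg ≤ i + 1 ∨ code (C.point i) < code (C.point (i + 1)))) ∧
    ∀ g, g < C.gens.length → ∀ i, i < C.deg → C.img g i < C.deg ∧
      mapsMask (C.gens.getD g 0) (C.point i).1 (C.point (C.img g i)).1 = true ∧
      mapsMask (C.gens.getD g 0) (C.point i).2 (C.point (C.img g i)).2 = true := by
  simpa only [Cert.pointsOK, Bool.and_eq_true, Bool.or_eq_true, decide_eq_true_eq,
    List.all_eq_true, List.mem_range, and_assoc] using h.points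

theorem Cert.Valid.gen_smul (h : C.Valid H) (g : Fin C.gens.length) {i : ℕ} (hi : i < C.deg) :
    h.gen g • ptOf (C.point i) = ptOf (C.point (C.img g.val i)) :=
  smul_ptOf (h.rep_gen g) (h.pts_facts.2.2 _ g.isLt _ hi).2.1 (h.pts_facts.2.2 _ g.isLt _ hi).2.2

theorem Cert.Valid.point_inj (h : C.Valid H) {i j : ℕ} (hi : i < C.deg) (hj : j < C.deg)
    (he : ptOf (C.point i) = ptOf (C.point j)) : i = j := by
  obtain ⟨-, hpt, -⟩ := h.pts_facts
  have hmono : ∀ a b, a < b → b < C.deg → code (C.point a) < code (C.point b) := by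
    intro a b hab
    induction b with
    | zero => omega
    | succ b ih =>
      intro hb
      have h1 : code (C.point b) < code (C.point (b + 1)) :=
        (hpt b (by omega)).2.2.resolve_left (by omega)
      rcases Nat.lt_or_ge a b with hlt | hge
      · exact (ih hlt (by omega)).trans h1
      · rwa [show a = b by omega]
  have e1 := wordOf_inj (hpt i hi).1 (hpt j hj).1 (congrArg Pt.fst he)
  have e2 := wordOf_inj (hpt i hi).2.1 (hpt j hj).2.1 (congrArg Pt.snd he)
  have hce : code (C.point i) = code (C.point j) := by rw [code, code, e1, e2]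
  rcases lt_trichotomy i j with hlt | heq | hlt
  · exact absurd hce (hmono i j hlt hj).ne
  · exact heq
  · exact absurd hce (hmono j i hlt hi).ne'

theorem Cert.Valid.mem_orb (h : C.Valid H) {i : ℕ} (hi : i < C.deg) :
    ptOf (C.point i) ∈ Orb C H := by
  have ht := h.trees
  simp only [Cert.treesOK, Bool.and_eq_true, List.all_eq_true, decide_eq_true_eq, beq_iff_eq] at ht
  obtain ⟨⟨⟨ht1, ht2⟩, -⟩, -⟩ := ht
  refine seenOK_sound (P := fun k => ptOf (C.point k) ∈ Orb C H) _ 1 ht2 ?_ ?_
    (seenOK_lt _ _ ht2) ?_ i hi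
  · intro k _ hk
    obtain rfl : k = 0 := eq_zero_of_testBit_one hk
    exact MulAction.mem_orbit_self _
  · intro t hm hlt hP
    obtain ⟨⟨a, b, g⟩, hmem, rfl⟩ := List.mem_map.1 hm
    obtain ⟨hg, himg⟩ := ht1 _ hmem
    dsimp only at hg himg hlt hP
    change ptOf (C.point a) ∈ Orb C H
    rw [← himg, ← h.gen_smul ⟨g, hg⟩ hlt]
    exact MulAction.mem_orbit_of_mem_orbit (h.gen ⟨g, hg⟩) hP
  · intro k hk
    obtain rfl : k = 0 := eq_zero_of_testBit_one hk
    exact h.pts_facts.1.1

/-- The point of the orbit with index `i`. -/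
noncomputable def Cert.Valid.pt (h : C.Valid H) (i : Fin C.deg) : ↥(Orb C H) :=
  ⟨ptOf (C.point i.val), h.mem_orb i.isLt⟩

theorem Cert.Valid.pt_injective (h : C.Valid H) : Function.Injective h.pt := fun i j hij =>
  Fin.ext (h.point_inj i.isLt j.isLt (congrArg Subtype.val hij))

theorem Cert.Valid.pt_surjective (h : C.Valid H) : Function.Surjective h.pt := by
  rintro ⟨x, σ, hx⟩
  suffices key : ∀ τ ∈ genGroup ptEnc C.gens,
      ∀ i : Fin C.deg, ∃ j : Fin C.deg, τ • ptOf (C.point i.val) = ptOf (C.point j.val) by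
    obtain ⟨j, hj⟩ := key σ (h.top σ.2) ⟨0, h.pts_facts.1.1⟩
    exact ⟨j, Subtype.ext (hj.symm.trans hx)⟩
  intro τ hτ
  induction hτ using Subgroup.closure_induction with
  | mem y hy =>
    obtain ⟨l, hl, hr⟩ := hy
    obtain ⟨g, hg, rfl⟩ := List.getElem_of_mem hl
    intro i
    obtain ⟨him, h1, h2⟩ := h.pts_facts.2.2 g hg i.val i.isLt
    rw [List.getD_eq_getElem _ _ hg] at h1 h2
    exact ⟨⟨_, him⟩, smul_ptOf hr h1 h2⟩
  | one => intro i; exact ⟨i, one_smul _ _⟩
  | mul a b _ _ iha ihb =>
    intro i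
    obtain ⟨j, hj⟩ := ihb i
    obtain ⟨k, hk⟩ := iha j
    exact ⟨k, by rw [mul_smul, hj, hk]⟩
  | inv a _ iha =>
    intro i
    choose f hf using iha
    have hinj : Function.Injective f := fun p q hpq => by
      have := (hf p).trans ((congrArg (fun t : Fin C.deg => ptOf (C.point t.val)) hpq).trans
        (hf q).symm)
      exact Fin.ext (h.point_inj p.isLt q.isLt (smul_left_cancel a this))
    obtain ⟨j, hj⟩ := (Finite.injective_iff_surjective.1 hinj) i
    exact ⟨j, by rw [inv_smul_eq_iff, hf j, hj]⟩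

/-- The index of a point. -/
noncomputable def Cert.Valid.ix (h : C.Valid H) : ↥(Orb C H) ≃ Fin C.deg :=
  (Equiv.ofBijective h.pt ⟨h.pt_injective, h.pt_surjective⟩).symm

theorem Cert.Valid.ix_pt (h : C.Valid H) (i : Fin C.deg) : h.ix (h.pt i) = i :=
  (Equiv.ofBijective h.pt ⟨h.pt_injective, h.pt_surjective⟩).symm_apply_apply i

theorem Cert.Valid.gen_smul_pt (h : C.Valid H) (g : Fin C.gens.length) (i : Fin C.deg) :
    h.gen g • h.pt i = h.pt ⟨C.img g.val i.val, (h.pts_facts.2.2 _ g.isLt _ i.isLt).1⟩ :=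
  Subtype.ext (h.gen_smul g i.isLt)

variable (C H)

/-- The monomial maps. -/
abbrev Mono := (↥(Orb C H) → Multiplicative (ZMod C.N)) ⋊[mulAutArrow] H

variable {C H}

/-- The label change of a monomial map at a point. -/
def mval (w : Mono C H) (x : ↥(Orb C H)) : ZMod C.N := Multiplicative.toAdd (w.left x)

theorem mval_mul (v w : Mono C H) (x : ↥(Orb C H)) :
    mval (v * w) x = mval v x + mval w (v.right⁻¹ • x) := rfl

theorem mval_one (x : ↥(Orb C H)) : mval (1 : Mono C H) x = 0 := rfl

theorem mval_inv (v : Mono C H) (x : ↥(Orb C H)) : mval v⁻¹ x = -mval v (v.right • x) := by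
  have h := mval_mul v v⁻¹ (v.right • x)
  rw [mul_inv_cancel, mval_one, inv_smul_smul] at h
  exact eq_neg_of_add_eq_zero_right h.symm

/-- The labelled orbital. -/
def Edge (h : C.Valid H) (x y : ↥(Orb C H)) (c : ZMod C.N) : Prop :=
  ∃ i j : Fin C.deg, h.pt i = x ∧ h.pt j = y ∧ ∃ v : ℕ, (j.val, v) ∈ C.row i.val ∧ (v : ZMod C.N) = c

/-- The monomial map preserves the labelled orbital. -/
def Preserves (h : C.Valid H) (w : Mono C H) : Prop :=
  ∀ x y c, Edge h x y c →
    Edge h (w.right • x) (w.right • y) (c + mval w (w.right • x) - mval w (w.right • y))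

theorem preserves_mul (h : C.Valid H) {v w : Mono C H} (hv : Preserves h v) (hw : Preserves h w) :
    Preserves h (v * w) := by
  intro x y c hc
  have h1 := hv _ _ _ (hw x y c hc)
  rw [SemidirectProduct.mul_right, mval_mul, mval_mul, mul_smul, mul_smul, inv_smul_smul,
    inv_smul_smul]
  convert h1 using 1
  abel

/-- The lift of a generator. -/
noncomputable def Cert.Valid.lift (h : C.Valid H) (g : Fin C.gens.length) : Mono C H :=
  ⟨fun x => Multiplicative.ofAdd ((C.lab g.val (h.ix ((h.gen g)⁻¹ • x)).val : ℕ) : ZMod C.N),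
    h.gen g⟩

theorem Cert.Valid.mval_lift (h : C.Valid H) (g : Fin C.gens.length) (i : Fin C.deg) :
    mval (h.lift g) (h.gen g • h.pt i) = (C.lab g.val i.val : ZMod C.N) := by
  change ((C.lab g.val (h.ix ((h.gen g)⁻¹ • (h.gen g • h.pt i))).val : ℕ) : ZMod C.N) = _
  rw [inv_smul_smul, h.ix_pt]

theorem Cert.Valid.preserves_lift (h : C.Valid H) (g : Fin C.gens.length) :
    Preserves h (h.lift g) := by
  rintro x y c ⟨i, j, rfl, rfl, v, hv, rfl⟩
  have he := h.edges
  simp only [Cert.edgesOK, force_eq, List.all_eq_true, List.mem_range] at he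
  have hb := he g.val g.isLt i.val i.isLt _ hv
  have hr := h.rows
  simp only [Cert.rowsOK, force_eq, List.all_eq_true, List.mem_range, Bool.and_eq_true,
    beq_iff_eq, decide_eq_true_eq] at hr
  obtain ⟨him, -, -⟩ := h.pts_facts.2.2 g.val g.isLt i.val i.isLt
  rw [← (hr _ him).1] at hb
  obtain ⟨q, hq, hqe⟩ := testBit_maskOf hb
  dsimp only at hqe
  have hq2 : q.2 < C.N := ((hr _ him).2 q hq).1.2
  obtain ⟨-, hN4, hN1⟩ := h.pts_facts.1
  set s := (v + C.lab g.val i.val + (C.N - C.lab g.val j.val % C.N)) % C.N with hs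
  have hs' : s < C.N := Nat.mod_lt _ (by omega)
  have hq1 : q.1 = C.img g.val j.val := by omega
  have hqs : q.2 = s := by omega
  refine ⟨⟨_, him⟩, ⟨_, (h.pts_facts.2.2 g.val g.isLt j.val j.isLt).1⟩,
    (h.gen_smul_pt g i).symm, (h.gen_smul_pt g j).symm, s, ?_, ?_⟩
  · rw [show (C.img g.val j.val, s) = q from Prod.ext hq1.symm hqs.symm]; exact hq
  · rw [show (h.lift g).right = h.gen g from rfl, h.mval_lift, h.mval_lift, hs, ZMod.natCast_mod,
      Nat.cast_add, Nat.cast_add, Nat.cast_sub (le_of_lt (Nat.mod_lt _ (by omega))),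
      ZMod.natCast_self, ZMod.natCast_mod]
    ring

theorem Cert.Valid.finite_mono (h : C.Valid H) : Finite (Mono C H) := by
  haveI : NeZero C.N := ⟨by have := h.pts_facts.1.2.2; omega⟩
  exact Finite.of_equiv _ SemidirectProduct.equivProd.symm

/-- The lifts of the generators generate the extension. -/
noncomputable def Cert.Valid.group (h : C.Valid H) : Subgroup (Mono C H) :=
  Subgroup.closure (Set.range h.lift)

theorem Cert.Valid.preserves_of_mem (h : C.Valid H) {w : Mono C H} (hw : w ∈ h.group) :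
    Preserves h w := by
  haveI := h.finite_mono
  induction hw using Subgroup.closure_induction with
  | mem x hx => obtain ⟨g, rfl⟩ := hx; exact h.preserves_lift g
  | one => intro x y c hc; simpa [mval_one] using hc
  | mul a b _ _ iha ihb => exact preserves_mul h iha ihb
  | inv a _ iha =>
    have hpow : ∀ k : ℕ, Preserves h (a ^ (k + 1)) := by
      intro k
      induction k with
      | zero => rwa [zero_add, pow_one]
      | succ k ih => rw [pow_succ]; exact preserves_mul h ih iha
    have hpos := orderOf_pos a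
    have h1 : a⁻¹ = a ^ (2 * orderOf a - 2 + 1) := by
      refine inv_eq_of_mul_eq_one_right ?_
      rw [← pow_succ', show 2 * orderOf a - 2 + 1 + 1 = orderOf a * 2 by omega, pow_mul,
        pow_orderOf_eq_one, one_pow]
    rw [h1]; exact hpow _

theorem Cert.Valid.kernel_const (h : C.Valid H) {w : Mono C H} (hw : w ∈ h.group)
    (h1 : w.right = 1) (x y : ↥(Orb C H)) : mval w x = mval w y := by
  have hp := h.preserves_of_mem hw
  have hr := h.rows
  simp only [Cert.rowsOK, force_eq, List.all_eq_true, List.mem_range, Bool.and_eq_true,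
    beq_iff_eq, decide_eq_true_eq, Bool.or_eq_true, Bool.not_eq_eq_eq_not, Bool.not_true] at hr
  have ht := h.trees
  simp only [Cert.treesOK, Bool.and_eq_true, List.all_eq_true, List.any_eq_true, beq_iff_eq] at ht
  obtain ⟨⟨-, hc1⟩, hc2⟩ := ht
  have hN : NeZero C.N := ⟨by have := h.pts_facts.1.2.2; omega⟩
  suffices key : ∀ k, k < C.deg → ∀ hk : k < C.deg,
      mval w (h.pt ⟨k, hk⟩) = mval w (h.pt ⟨0, h.pts_facts.1.1⟩) by
    obtain ⟨i, rfl⟩ := h.pt_surjective x
    obtain ⟨j, rfl⟩ := h.pt_surjective y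
    rw [key i.val i.isLt i.isLt, key j.val j.isLt j.isLt]
  refine seenOK_sound (P := fun k => ∀ hk : k < C.deg,
      mval w (h.pt ⟨k, hk⟩) = mval w (h.pt ⟨0, h.pts_facts.1.1⟩)) C.conn 1 hc2 ?_ ?_
    (seenOK_lt _ _ hc2) ?_
  · intro k _ hk hk'
    obtain rfl : k = 0 := eq_zero_of_testBit_one hk
    rfl
  · intro t htm hlt hP hk
    obtain ⟨⟨q, c⟩, hq, hqe⟩ := hc1 t htm
    simp only at hqe
    subst hqe
    rw [← hP hlt]
    obtain ⟨i', j', hi', hj', v, hv, hve⟩ :=
      hp (h.pt ⟨t.2, hlt⟩) (h.pt ⟨t.1, hk⟩) c ⟨_, _, rfl, rfl, c, hq, rfl⟩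
    rw [h1, one_smul] at hi' hj'
    obtain rfl := h.pt_injective hi'
    obtain rfl := h.pt_injective hj'
    rw [h1, one_smul, one_smul] at hve
    have hvc : v = c := by
      have hm := ((hr t.2 hlt).2 _ hq).2
      have hbit := testBit_maskOf_self hv
      rw [(hr t.2 hlt).1] at hbit
      dsimp only at hm hbit
      have h16 : ((look 0 C.masks t.2 >>> (4 * t.1)) % 2 ^ 4).testBit v = true := by
        rw [Nat.testBit_mod_two_pow, Nat.testBit_shiftRight, hbit]
        have hv4 : v < C.N := ((hr t.2 hlt).2 _ hv).1.2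
        have := h.pts_facts.1.2.1
        simp; omega
      rw [show (2 : ℕ) ^ 4 = 16 from rfl, hm, Nat.testBit_two_pow, decide_eq_true_eq] at h16
      exact h16.symm
    rw [hvc, add_sub_assoc, left_eq_add, sub_eq_zero] at hve
    exact hve.symm
  · intro k hk
    obtain rfl : k = 0 := eq_zero_of_testBit_one hk
    exact h.pts_facts.1.1

/-- The projection onto `H`. -/
noncomputable def Cert.Valid.proj (h : C.Valid H) : h.group →* H :=
  SemidirectProduct.rightHom.comp h.group.subtype

theorem Cert.Valid.proj_surjective (h : C.Valid H) : Function.Surjective h.proj := by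
  rw [← MonoidHom.range_eq_top, eq_top_iff]
  intro σ _
  have hle : genGroup ptEnc C.gens ≤ h.proj.range.map H.subtype := by
    refine (Subgroup.closure_le _).2 ?_
    rintro τ ⟨l, hl, hr⟩
    obtain ⟨g, hg, rfl⟩ := List.getElem_of_mem hl
    refine ⟨h.gen ⟨g, hg⟩, ⟨⟨h.lift ⟨g, hg⟩, Subgroup.subset_closure ⟨_, rfl⟩⟩, rfl⟩, ?_⟩
    have := h.rep_gen ⟨g, hg⟩
    rw [List.getD_eq_getElem _ _ hg] at this
    exact this.unique hr
  obtain ⟨τ, hτ, hτσ⟩ := hle (h.top σ.2)
  rwa [show σ = τ from Subtype.ext hτσ.symm]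

/-- A step `(g, forwards, p)` of an evaluation at index `x`. -/
def evalOK (C : Cert) : List (ℕ × Bool × ℕ) → ℕ → Bool
  | [], _ => true
  | (g, fw, p) :: rest, x => decide (g < C.gens.length) && decide (p < C.deg) &&
      (if fw then C.img g p == x else C.img g x == p) && evalOK C rest p

/-- The label of an evaluation. -/
def evalSum (C : Cert) : List (ℕ × Bool × ℕ) → ℕ → ℤ
  | [], _ => 0
  | (g, fw, p) :: rest, x => (if fw then (C.lab g p : ℤ) else -(C.lab g x : ℤ)) + evalSum C rest p

/-- The monomial map of a step. -/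
noncomputable def Cert.Valid.stepElt (h : C.Valid H) (s : ℕ × Bool × ℕ) : Mono C H :=
  if hg : s.1 < C.gens.length then (if s.2.1 then h.lift ⟨s.1, hg⟩ else (h.lift ⟨s.1, hg⟩)⁻¹)
  else 1

theorem Cert.Valid.mval_word (h : C.Valid H) : ∀ (w : List (ℕ × Bool × ℕ)) (x : Fin C.deg),
    evalOK C w x.val = true →
    mval (w.map h.stepElt).prod (h.pt x) = (evalSum C w x.val : ZMod C.N)
  | [], x, _ => by simp [mval_one, evalSum]
  | (g, fw, p) :: rest, x, hw => by
    simp only [evalOK, Bool.and_eq_true, decide_eq_true_eq] at hw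
    obtain ⟨⟨⟨hg, hp⟩, hx⟩, hrest⟩ := hw
    have ih := h.mval_word rest ⟨p, hp⟩ hrest
    rw [List.map_cons, List.prod_cons, mval_mul, evalSum, Int.cast_add]
    cases fw with
    | true =>
      simp only [if_true, beq_iff_eq] at hx
      have hpx : h.gen ⟨g, hg⟩ • h.pt ⟨p, hp⟩ = h.pt x :=
        (h.gen_smul_pt _ _).trans (congrArg h.pt (Fin.ext hx))
      simp only [Cert.Valid.stepElt, dif_pos hg, if_true]
      rw [← ih, ← hpx, show (h.lift ⟨g, hg⟩).right = h.gen ⟨g, hg⟩ from rfl, inv_smul_smul,
        h.mval_lift]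
      simp
    | false =>
      simp only [Bool.false_eq_true, if_false, beq_iff_eq] at hx
      have hpx : h.gen ⟨g, hg⟩ • h.pt x = h.pt ⟨p, hp⟩ :=
        (h.gen_smul_pt _ _).trans (congrArg h.pt (Fin.ext hx))
      simp only [Cert.Valid.stepElt, dif_pos hg, Bool.false_eq_true, if_false]
      rw [SemidirectProduct.inv_right, inv_inv, mval_inv,
        show (h.lift ⟨g, hg⟩).right = h.gen ⟨g, hg⟩ from rfl, hpx, ih]
      have hml := h.mval_lift ⟨g, hg⟩ x
      rw [hpx] at hml
      rw [hml]
      simp

/-- The exponent sum of generator `g`. -/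
def expSum (g : ℕ) : List (ℕ × Bool × ℕ) → ℤ
  | [] => 0
  | (a, fw, _) :: rest => (if a == g then (if fw then 1 else -1) else 0) + expSum g rest

/-- The packed image of a step. -/
def stepPack (gens invs : List ℕ) (s : ℕ × Bool × ℕ) : ℕ :=
  if s.2.1 then gens.getD s.1 0 else invs.getD s.1 0

/-- The packed image of a word. -/
def prodPack (gens invs : List ℕ) : List (ℕ × Bool × ℕ) → ℕ
  | [] => packId 24
  | s :: rest => packMulS 24 (stepPack gens invs s) (prodPack gens invs rest)

/-- The word is trivial in `H` and has exponent sums zero. -/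
def Cert.wordOK (C : Cert) (invs : List ℕ) (w : List (ℕ × Bool × ℕ)) : Bool :=
  decide (C.gens.length = 2) && invs.all (permOK 24) &&
    ((List.range 2).all fun g => isId 24 (packMulS 24 (C.gens.getD g 0) (invs.getD g 0))) &&
    decide (invs.length = 2) && w.all (fun s => decide (s.1 < 2)) &&
    (expSum 0 w == 0) && (expSum 1 w == 0) && isId 24 (prodPack C.gens invs w)

/-- The stem extension: a balanced word, trivial in `H`, has value 1. -/
theorem Cert.Valid.exists_stem (h : C.Valid H) (invs : List ℕ) (w : List (ℕ × Bool × ℕ))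
    (hw : C.wordOK invs w = true) (hev : evalOK C w 0 = true)
    (hval : (evalSum C w 0 : ZMod C.N) = 1) :
    ∃ (Γ : Type) (_ : Group Γ) (_ : Finite Γ) (σ : Γ →* H),
      IsStemExtension σ ∧ Nat.card σ.ker = C.N ∧ IsCyclic σ.ker := by
  haveI := h.finite_mono
  have hN : NeZero C.N := ⟨by have := h.pts_facts.1.2.2; omega⟩
  simp only [Cert.wordOK, Bool.and_eq_true, decide_eq_true_eq, List.all_eq_true, List.mem_range,
    beq_iff_eq] at hw
  obtain ⟨⟨⟨⟨⟨⟨⟨hgl, hip⟩, hinv⟩, hil⟩, hlt⟩, he0⟩, he1⟩, hid⟩ := hw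
  let el : ℕ × Bool × ℕ → h.group := fun s =>
    ⟨h.stepElt s, by
      unfold Cert.Valid.stepElt
      split_ifs with hs hf
      · exact Subgroup.subset_closure ⟨_, rfl⟩
      · exact Subgroup.inv_mem _ (Subgroup.subset_closure ⟨_, rfl⟩)
      · exact Subgroup.one_mem _⟩
  let z : h.group := (w.map el).prod
  have hrep : ∀ l : List (ℕ × Bool × ℕ), (∀ s ∈ l, s.1 < 2) →
      Rep ptEnc ((h.proj (l.map el).prod : H) : Equiv.Perm GolayPt) (prodPack C.gens invs l) := by
    intro l
    induction l with
    | nil => intro _; simpa [prodPack] using rep_packId (e := ptEnc) (by norm_num)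
    | cons s rest ih =>
      intro hl
      rw [List.map_cons, List.prod_cons, map_mul, Subgroup.coe_mul, prodPack, packMulS_eq]
      refine rep_packMul ?_ (ih fun t ht => hl t (List.mem_cons_of_mem _ ht))
      have hs : s.1 < C.gens.length := hgl ▸ hl s List.mem_cons_self
      change Rep ptEnc (((h.stepElt s).right : H) : Equiv.Perm GolayPt) _
      have hrg := h.rep_gen ⟨s.1, hs⟩
      rw [Cert.Valid.stepElt, dif_pos hs, stepPack]
      rcases hf : s.2.1 with _ | _
      · simp only [Bool.false_eq_true, if_false]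
        have hm : invs.getD s.1 0 ∈ invs := by
          rw [List.getD_eq_getElem _ _ (hil ▸ hl s List.mem_cons_self)]; exact List.getElem_mem _
        obtain ⟨τ, hτ⟩ := exists_rep (e := ptEnc) (hip _ hm)
        have hid' := hinv s.1 (hl s List.mem_cons_self)
        rw [packMulS_eq] at hid'
        have hti : τ = ((h.gen ⟨s.1, hs⟩ : H) : Equiv.Perm GolayPt)⁻¹ :=
          eq_inv_of_mul_eq_one_right ((rep_packMul hrg hτ).eq_one hid')
        rw [SemidirectProduct.inv_right, Subgroup.coe_inv]
        exact hti ▸ hτ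
      · simp only [if_true]
        exact hrg
  have hzk : h.proj z = 1 := Subtype.ext ((hrep w hlt).eq_one hid)
  have hzc : z ∈ _root_.commutator h.group := by
    rw [← Abelianization.ker_of, MonoidHom.mem_ker]
    let a : Abelianization h.group := Abelianization.of (el (0, true, 0))
    let b : Abelianization h.group := Abelianization.of (el (1, true, 0))
    have key : ∀ l : List (ℕ × Bool × ℕ), (∀ s ∈ l, s.1 < 2) →
        Abelianization.of (l.map el).prod = a ^ expSum 0 l * b ^ expSum 1 l := by
      intro l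
      induction l with
      | nil => intro _; simp [expSum]
      | cons s rest ih =>
        intro hl
        obtain ⟨g, fw, p⟩ := s
        rw [List.map_cons, List.prod_cons, map_mul, ih fun t ht => hl t (List.mem_cons_of_mem _ ht),
          expSum, expSum, zpow_add, zpow_add, mul_mul_mul_comm]
        congr 1
        have hg2 : g = 0 ∨ g = 1 := by have := hl _ List.mem_cons_self; dsimp only at this; omega
        have hel : el (g, fw, p) = if fw then el (g, true, 0) else (el (g, true, 0))⁻¹ := by
          have hs : g < C.gens.length := by omega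
          refine Subtype.ext ?_
          cases fw <;> simp [el, Cert.Valid.stepElt, hs]
        rw [hel]
        rcases hg2 with rfl | rfl <;> cases fw <;> simp [a, b]
    rw [key w hlt, he0, he1, zpow_zero, zpow_zero, one_mul]
  have hzv : mval (z : Mono C H) (h.pt ⟨0, h.pts_facts.1.1⟩) = 1 := by
    have h1 := h.mval_word w ⟨0, h.pts_facts.1.1⟩ hev
    rw [hval] at h1
    rw [← h1]
    congr 1
    simp only [z, Subgroup.val_list_prod, List.map_map]
    rfl
  have hconst : ∀ a : h.group, a ∈ h.proj.ker → ∀ x y, mval (a : Mono C H) x = mval (a : Mono C H) y :=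
    fun a ha x y => h.kernel_const a.2 ha x y
  let x0 := h.pt ⟨0, h.pts_facts.1.1⟩
  have hinj : ∀ a b : h.group, a ∈ h.proj.ker → b ∈ h.proj.ker →
      mval (a : Mono C H) x0 = mval (b : Mono C H) x0 → a = b := by
    intro a b ha hb hab
    refine Subtype.ext (SemidirectProduct.ext (funext fun x => ?_) ?_)
    · exact Multiplicative.toAdd.injective
        ((hconst a ha x x0).trans (hab.trans (hconst b hb x0 x)))
    · exact (show (a : Mono C H).right = 1 from ha).trans (show (b : Mono C H).right = 1 from hb).symm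
  let e : h.proj.ker →* Multiplicative (ZMod C.N) :=
    { toFun := fun a => (a.1 : Mono C H).left x0
      map_one' := rfl
      map_mul' := fun a b => by
        change mval ((a.1 : Mono C H) * (b.1 : Mono C H)) x0 = _
        rw [mval_mul, show (a.1 : Mono C H).right = 1 from a.2, inv_one, one_smul]
        rfl }
  have he : Function.Bijective e := by
    refine ⟨fun a b hab => Subtype.ext (hinj _ _ a.2 b.2 (congrArg Multiplicative.toAdd hab)),
      fun c => ?_⟩
    refine ⟨(⟨z, hzk⟩ : h.proj.ker) ^ (Multiplicative.toAdd c).val, ?_⟩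
    rw [map_pow]
    refine Multiplicative.toAdd.injective ?_
    rw [toAdd_pow]
    change (Multiplicative.toAdd c).val • mval (z : Mono C H) x0 = _
    rw [hzv, nsmul_one, ZMod.natCast_zmod_val]
  refine ⟨h.group, inferInstance, inferInstance, h.proj, ⟨h.proj_surjective, ?_, ?_⟩, ?_, ?_⟩
  · intro a ha
    rw [Subgroup.mem_center_iff]
    intro b
    refine Subtype.ext (SemidirectProduct.ext (funext fun x => ?_) ?_)
    · refine Multiplicative.toAdd.injective ?_
      change mval ((b : Mono C H) * (a : Mono C H)) x = mval ((a : Mono C H) * (b : Mono C H)) x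
      rw [mval_mul, mval_mul, show (a : Mono C H).right = 1 from ha, inv_one, one_smul,
        hconst a ha _ x, add_comm]
    · change (b : Mono C H).right * (a : Mono C H).right = (a : Mono C H).right * (b : Mono C H).right
      rw [show (a : Mono C H).right = 1 from ha, mul_one, one_mul]
  · intro a ha
    obtain ⟨c, hc⟩ : ∃ c : h.proj.ker, c = ⟨a, ha⟩ := ⟨_, rfl⟩
    have : a = z ^ (Multiplicative.toAdd (e c)).val := by
      have h2 : c = (⟨z, hzk⟩ : h.proj.ker) ^ (Multiplicative.toAdd (e c)).val := by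
        refine he.1 ?_
        rw [map_pow]
        refine Multiplicative.toAdd.injective ?_
        rw [toAdd_pow]
        change _ = _ • mval (z : Mono C H) x0
        rw [hzv, nsmul_one, ZMod.natCast_zmod_val]
      have h3 := congrArg Subtype.val h2
      rw [hc] at h3 ⊢
      simpa using h3
    rw [this]
    exact pow_mem hzc _
  · rw [Nat.card_congr (Equiv.ofBijective e he), Nat.card_congr Multiplicative.toAdd, Nat.card_zmod]
  · exact isCyclic_of_surjective _ (MulEquiv.ofBijective e he).symm.surjective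

end Cfsg.Agent.Mathieu.CoverOrbital
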