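import Cfsg.Agent.Lib.Mathieu.PermCert

/-!
Upper bounds for a certified chain from the order of the group: if the representatives lie in the
group and the product of the orbit lengths reaches its order, the listed orbits are the whole
orbits and the base has trivial pointwise stabiliser.
-/

set_option autoImplicit false

namespace Cfsg.Agent.Mathieu

variable {α : Type*} [Fintype α] [DecidableEq α] {n : ℕ} {e : α ≃ Fin n} [NeZero n]

theorem upper_of_card_aux {H : Subgroup (Equiv.Perm α)} :
    ∀ (levels : List CertLevel) (fixed : List ℕ) (K : Subgroup (Equiv.Perm α)),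
      (∀ i ∈ fixed, i < n) → (∀ σ ∈ H, (∀ i ∈ fixed, σ (idx e i) = idx e i) → σ ∈ K) →
      levelsOK n fixed levels = true → (∀ t ∈ allReps levels, ∃ σ ∈ H, Rep e σ t) →
      (levels.map fun p => p.2.1.length).prod ≤ Nat.card K ∧
      (Nat.card K ≤ (levels.map fun p => p.2.1.length).prod →
        Upper e K levels ∧ fixList K (levels.map fun p => idx e p.1) = ⊥) := by
  intro levels
  induction levels with
  | nil =>
    intro fixed K _ _ _ _
    refine ⟨Nat.card_pos (α := K), fun h => ⟨trivial, ?_⟩⟩
    simp only [List.map_nil, List.prod_nil] at h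
    simp only [List.map_nil, fixList]
    exact Subgroup.eq_bot_of_card_le _ h
  | cons p rest ih =>
    obtain ⟨b, orb, ts⟩ := p
    intro fixed K hfx hK hok hrep
    simp only [levelsOK, Bool.and_eq_true, decide_eq_true_eq, beq_iff_eq, List.all_eq_true] at hok
    obtain ⟨⟨⟨⟨⟨hb, horb⟩, hnd⟩, hmap⟩, hfix⟩, hrest⟩ := hok
    set K' := K ⊓ MulAction.stabilizer (Equiv.Perm α) (idx e b) with hK'
    obtain ⟨ih1, ih2⟩ := ih (b :: fixed) K'
      (fun i hi => by rcases List.mem_cons.1 hi with rfl | hi; exacts [hb, hfx i hi])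
      (fun τ hτ hfixτ => Subgroup.mem_inf.2 ⟨hK τ hτ fun i hi => hfixτ i (List.mem_cons_of_mem _ hi),
        hfixτ b List.mem_cons_self⟩) hrest
      (fun t ht => hrep t (by rw [allReps, List.flatMap_cons]; exact List.mem_append_right _ ht))
    classical
    set O : Finset α := Finset.univ.filter fun x => ∃ σ ∈ K, σ (idx e b) = x with hO
    set L : Finset α := (orb.map (idx e)).toFinset with hL
    have hLc : L.card = orb.length := by
      rw [hL, List.toFinset_card_of_nodup (hnd.map_on fun x hx y hy hxy => by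
        rw [← idx_val (e := e) (horb x hx), hxy, idx_val (horb y hy)]), List.length_map]
    have hsub : L ⊆ O := by
      intro x hx
      simp only [hL, List.mem_toFinset, List.mem_map] at hx
      obtain ⟨i, hi, rfl⟩ := hx
      obtain ⟨t, ht, rfl⟩ : ∃ t ∈ ts, app t b = i := by
        rw [← hmap] at hi; simpa using hi
      obtain ⟨σ, hσH, hσ⟩ := hrep t (List.mem_flatMap.2 ⟨(b, orb, ts), List.mem_cons_self, ht⟩)
      exact Finset.mem_filter.2 ⟨Finset.mem_univ _, σ,
        hK σ hσH (fun i hi => by rw [hσ.apply_idx (hfx i hi), hfix t ht i hi]), hσ.apply_idx hb⟩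
    have hcard : Nat.card K = O.card * Nat.card K' :=
      card_eq_orbit_mul K (idx e b) O fun x => by simp [hO]
    have hle : orb.length ≤ O.card := hLc ▸ Finset.card_le_card hsub
    simp only [List.map_cons, List.prod_cons]
    refine ⟨hcard ▸ Nat.mul_le_mul hle ih1, fun h => ?_⟩
    have hOpos : 0 < O.card := Finset.card_pos.2 ⟨idx e b, by
      simp only [hO, Finset.mem_filter, Finset.mem_univ, true_and]; exact ⟨1, one_mem K, rfl⟩⟩
    have hKpos : 0 < Nat.card K' := Nat.card_pos
    rw [hcard] at h
    have hprod : 0 < orb.length ∧ 0 < (rest.map fun p => p.2.1.length).prod := by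
      have := (Nat.mul_pos hOpos hKpos).trans_le h
      exact ⟨Nat.pos_of_mul_pos_right this, Nat.pos_of_mul_pos_left this⟩
    have hO_le : O.card ≤ orb.length :=
      Nat.le_of_mul_le_mul_right ((Nat.mul_le_mul_left _ ih1).trans h) hprod.2
    obtain ⟨hu, hbot⟩ := ih2 (Nat.le_of_mul_le_mul_left ((Nat.mul_le_mul_right _ hle).trans h) hprod.1)
    refine ⟨⟨fun σ hσ => ?_, hu⟩, hbot⟩
    have hmem : σ (idx e b) ∈ L := by
      rw [Finset.eq_of_subset_of_card_le hsub (hLc ▸ hO_le)]
      exact Finset.mem_filter.2 ⟨Finset.mem_univ _, σ, hσ, rfl⟩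
    simp only [hL, List.mem_toFinset, List.mem_map] at hmem
    obtain ⟨i, hi, h⟩ := hmem
    rw [← h, idx_val (horb i hi)]
    exact hi

/-- Orbits and trivial base stabiliser from the group order. -/
theorem upper_of_card {H : Subgroup (Equiv.Perm α)} {levels : List CertLevel}
    (hok : levelsOK n [] levels = true) (hrep : ∀ t ∈ allReps levels, ∃ σ ∈ H, Rep e σ t)
    (hcard : Nat.card H ≤ (levels.map fun p => p.2.1.length).prod) :
    Upper e H levels ∧ fixList H (levels.map fun p => idx e p.1) = ⊥ :=
  (upper_of_card_aux levels [] H (by simp) (fun _ hσ _ => hσ) hok hrep).2 hcard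

end Cfsg.Agent.Mathieu
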