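import Cfsg.Agent.Lib.Fusion.Group
import Cfsg.Agent.Lib.Fusion.SimpleCriterion
import Cfsg.Agent.Lib.PGroup.Basic

/-!
From one self-normalising Sylow `p`-subgroup without proper nontrivial strongly closed subgroups to:
every Sylow `p`-subgroup is self-normalising and has a simple fusion system.
-/

set_option autoImplicit false

namespace Cfsg.Agent.Mathieu

open Cfsg Cfsg.FusionSystem

variable {G : Type*} [Group G] [Finite G] {p : ℕ} [Fact p.Prime]

/-- If nontrivial closed subgroups of `S₀` containing a central element are `S₀` and `S₀` is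
self-normalising, every Sylow subgroup is self-normalising with a simple fusion system. -/
theorem sylow_facts (S₀ : Sylow p G) (hne : (S₀ : Subgroup G) ≠ ⊥)
    (hN : ∀ g : G, (∀ x, x ∈ (S₀ : Subgroup G) ↔ g * x * g⁻¹ ∈ (S₀ : Subgroup G)) →
      g ∈ (S₀ : Subgroup G))
    (hclosed : ∀ T : Subgroup G, T ≤ (S₀ : Subgroup G) →
      (∀ x ∈ T, ∀ h : G, h * x * h⁻¹ ∈ (S₀ : Subgroup G) → h * x * h⁻¹ ∈ T) →
      ∀ x ∈ T, x ≠ 1 → (∀ s ∈ (S₀ : Subgroup G), x * s = s * x) → T = (S₀ : Subgroup G))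
    (S : Sylow p G) :
    Subgroup.normalizer ((S : Subgroup G) : Set G) = (S : Subgroup G) ∧
      (groupFusionSystem (S : Subgroup G)).IsSimple p := by
  obtain ⟨g, rfl⟩ : ∃ g : G, g • S₀ = S := MulAction.exists_smul_eq G S₀ S
  have hmem : ∀ x, x ∈ ((g • S₀ : Sylow p G) : Subgroup G) ↔ g⁻¹ * x * g ∈ (S₀ : Subgroup G) := by
    intro x
    rw [Sylow.coe_subgroup_smul, Subgroup.mem_pointwise_smul_iff_inv_smul_mem]
    simp [MulAut.conj_inv_apply]
  set S := g • S₀ with hS
  have hself : Subgroup.normalizer ((S : Subgroup G) : Set G) = (S : Subgroup G) := by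
    refine le_antisymm (fun k hk => ?_) Subgroup.le_normalizer
    rw [hmem]
    refine hN _ fun x => ?_
    have h1 := Subgroup.mem_normalizer_iff.1 hk (g * x * g⁻¹)
    rw [hmem, hmem] at h1
    have e1 : g⁻¹ * (g * x * g⁻¹) * g = x := by group
    have e2 : g⁻¹ * (k * (g * x * g⁻¹) * k⁻¹) * g = g⁻¹ * k * g * x * (g⁻¹ * k * g)⁻¹ := by group
    rwa [e1, e2] at h1
  refine ⟨hself, Fusion.isSimple_of_autGroup_eq_inn (Fusion.groupFusionSystem_saturated S) ?_ ?_ ?_⟩
  · intro h
    apply hne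
    rw [Subgroup.eq_bot_iff_forall] at h ⊢
    intro x hx
    have := h (g * x * g⁻¹) (by rw [hmem]; simpa [mul_assoc] using hx)
    exact conj_eq_one_iff.1 this
  · rw [Fusion.group_autGroup le_rfl]
    refine le_antisymm ((Subgroup.closure_le _).2 ?_) ?_
    · rintro α ⟨k, -, hk⟩
      have hkN : k ∈ Subgroup.normalizer ((S : Subgroup G) : Set G) := by
        refine Subgroup.mem_normalizer_iff.2 fun y => ⟨fun hy => ?_, fun hy => ?_⟩
        · have := hk ⟨y, hy⟩
          exact this ▸ (α ⟨y, hy⟩).2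
        · have h1 := hk (α.symm ⟨k * y * k⁻¹, hy⟩)
          rw [MulEquiv.apply_symm_apply] at h1
          have h2 : y = (α.symm ⟨k * y * k⁻¹, hy⟩ : (S : Subgroup G)) :=
            mul_left_cancel (mul_right_cancel (h1 : k * y * k⁻¹ = _))
          exact h2 ▸ Subtype.property _
      rw [hself] at hkN
      exact ⟨⟨k, hkN⟩, MulEquiv.ext fun x => Subtype.ext (hk x).symm⟩
    · rintro α ⟨k, rfl⟩
      exact Subgroup.subset_closure ⟨k, trivial, fun x => rfl⟩
  · intro T hT
    by_cases hT1 : T = ⊥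
    · exact Or.inl hT1
    refine Or.inr ?_
    obtain ⟨hTS, hTc⟩ := Fusion.stronglyClosed_iff.1 hT
    have hcl : ∀ x ∈ T, ∀ h : G, h * x * h⁻¹ ∈ (S : Subgroup G) → h * x * h⁻¹ ∈ T := by
      intro x hx h hh
      have hle : Subgroup.zpowers x ≤ (S : Subgroup G) := Subgroup.zpowers_le.2 (hTS hx)
      have hφ : conjHom (Subgroup.zpowers x) h ∈
          (groupFusionSystem (S : Subgroup G)).Hom (Subgroup.zpowers x) := by
        refine ⟨hle, ?_, h, fun y => rfl⟩
        rintro ⟨_, m, rfl⟩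
        change h * x ^ m * h⁻¹ ∈ (S : Subgroup G)
        rw [← conj_zpow]
        exact Subgroup.zpow_mem _ hh m
      exact hTc _ _ hφ ⟨x, Subgroup.mem_zpowers x⟩ hx
    have hnormal : (T.subgroupOf (S : Subgroup G)).Normal := ⟨fun x hx s =>
      hcl _ hx s (Subgroup.mul_mem _ (Subgroup.mul_mem _ s.2 x.2) (Subgroup.inv_mem _ s.2))⟩
    have hne' : T.subgroupOf (S : Subgroup G) ≠ ⊥ := by
      intro h
      rw [Subgroup.subgroupOf_eq_bot, disjoint_iff, inf_eq_left.2 hTS] at h
      exact hT1 h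
    have hinf := PGroup.inf_center_ne_bot S.isPGroup' _ hne'
    obtain ⟨x, hx, hx1⟩ := (Subgroup.bot_or_exists_ne_one _).resolve_left hinf
    obtain ⟨hxT, hxZ⟩ := Subgroup.mem_inf.1 hx
    rw [Subgroup.mem_center_iff] at hxZ
    let U : Subgroup G := T.map (MulAut.conj g⁻¹).toMonoidHom
    have hU : U = (S₀ : Subgroup G) := by
      refine hclosed U ?_ ?_ (g⁻¹ * x * g) ⟨x, hxT, by simp [MulAut.conj_inv_apply]⟩ ?_ ?_
      · rintro _ ⟨y, hy, rfl⟩
        simpa [MulAut.conj_inv_apply, ← hmem] using hTS hy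
      · rintro _ ⟨y, hy, rfl⟩ h hh
        simp only [MulEquiv.coe_toMonoidHom, MulAut.conj_apply, inv_inv] at hh ⊢
        refine ⟨g * h * g⁻¹ * y * (g * h * g⁻¹)⁻¹, hcl y hy _ ?_, by simp; group⟩
        rw [hmem]
        convert hh using 1
        group
      · intro h
        apply hx1
        apply Subtype.ext
        have := congrArg (fun z => g * z * g⁻¹) h
        simpa [mul_assoc] using this
      · intro s hs
        have h1 := congrArg Subtype.val (hxZ ⟨g * s * g⁻¹, by rw [hmem]; simpa [mul_assoc] using hs⟩)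
        simp only [Subgroup.coe_mul] at h1
        have h2 := congrArg (fun z => g⁻¹ * z * g) h1
        simpa [mul_assoc] using h2.symm
    refine le_antisymm hTS fun y hy => ?_
    rw [hmem, ← hU] at hy
    obtain ⟨z, hz, hzy⟩ := hy
    simp only [MulEquiv.coe_toMonoidHom, MulAut.conj_apply, inv_inv] at hzy
    exact mul_left_cancel (mul_right_cancel hzy) ▸ hz

end Cfsg.Agent.Mathieu
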