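import Cfsg.Agent.Lib.Mathieu.Rigid

/-!
Small subgroups given by lists of packed permutations.
-/

set_option autoImplicit false

namespace Cfsg.Agent.Mathieu

variable {α : Type*} [Finite α] {n : ℕ} {e : α ≃ Fin n} {G : Subgroup (Equiv.Perm α)}

/-- A list of packed elements closed under products. -/
def closedList (n : ℕ) (ls : List ℕ) : Bool :=
  !ls.isEmpty && ls.all fun a => ls.all fun b => ls.any fun c => samePack n (packMulS n a b) c

/-- The subgroup of `G` with the listed elements. -/
def packSub (G : Subgroup (Equiv.Perm α)) (e : α ≃ Fin n) (ls : List ℕ)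
    (hG : ∀ l ∈ ls, ∃ σ ∈ G, Rep e σ l) (h : closedList n ls = true) : Subgroup G where
  carrier := {g | ∃ l ∈ ls, Rep e (g : Equiv.Perm α) l}
  mul_mem' := by
    rintro g g' ⟨a, ha, hga⟩ ⟨b, hb, hgb⟩
    simp only [closedList, packMulS_eq, Bool.and_eq_true, List.all_eq_true,
      List.any_eq_true] at h
    obtain ⟨c, hc, hsame⟩ := h.2 a ha b hb
    exact ⟨c, hc, (rep_packMul hga hgb).of_same hsame⟩
  one_mem' := by
    simp only [closedList, packMulS_eq, Bool.and_eq_true, List.all_eq_true,
      List.any_eq_true, Bool.not_eq_eq_eq_not, Bool.not_true, List.isEmpty_eq_false_iff] at h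
    obtain ⟨l, hl⟩ := List.exists_mem_of_ne_nil _ h.1
    obtain ⟨σ, hσ, hr⟩ := hG l hl
    let g : G := ⟨σ, hσ⟩
    have hm : ∀ k : ℕ, ∃ m ∈ ls, Rep e ((g ^ (k + 1) : G) : Equiv.Perm α) m := by
      intro k
      induction k with
      | zero => exact ⟨l, hl, by simpa using hr⟩
      | succ k ih =>
        obtain ⟨a, ha, hga⟩ := ih
        obtain ⟨c, hc, hsame⟩ := h.2 a ha l hl
        exact ⟨c, hc, by rw [pow_succ]; exact (rep_packMul hga hr).of_same hsame⟩
    have hpos := orderOf_pos g
    obtain ⟨m, hm', hr'⟩ := hm (orderOf g - 1)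
    rw [Nat.sub_add_cancel hpos, pow_orderOf_eq_one] at hr'
    exact ⟨m, hm', hr'⟩
  inv_mem' := by
    rintro g ⟨l, hl, hr⟩
    simp only [closedList, packMulS_eq, Bool.and_eq_true, List.all_eq_true,
      List.any_eq_true] at h
    have hm : ∀ k : ℕ, ∃ m ∈ ls, Rep e ((g ^ (k + 1) : G) : Equiv.Perm α) m := by
      intro k
      induction k with
      | zero => exact ⟨l, hl, by simpa using hr⟩
      | succ k ih =>
        obtain ⟨a, ha, hga⟩ := ih
        obtain ⟨c, hc, hsame⟩ := h.2 a ha l hl
        exact ⟨c, hc, by rw [pow_succ]; exact (rep_packMul hga hr).of_same hsame⟩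
    have h1 : g⁻¹ = g ^ (2 * orderOf g - 1) := by
      refine inv_eq_of_mul_eq_one_right ?_
      rw [← pow_succ', Nat.sub_add_cancel (by have := orderOf_pos g; omega), mul_comm, pow_mul,
        pow_orderOf_eq_one, one_pow]
    have hpos := orderOf_pos g
    obtain ⟨m, hm', hr'⟩ := hm (2 * orderOf g - 2)
    refine ⟨m, hm', ?_⟩
    rwa [show 2 * orderOf g - 2 + 1 = 2 * orderOf g - 1 by omega, ← h1] at hr'

theorem mem_packSub {ls : List ℕ} {hG : ∀ l ∈ ls, ∃ σ ∈ G, Rep e σ l}
    {h : closedList n ls = true} {g : G} :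
    g ∈ packSub G e ls hG h ↔ ∃ l ∈ ls, Rep e (g : Equiv.Perm α) l := Iff.rfl

/-- Pairwise different permutations. -/
def distinctList (n : ℕ) : List ℕ → Bool
  | [] => true
  | a :: ls => (ls.all fun b => !samePack n a b) && distinctList n ls

theorem pairwise_of_distinctList : ∀ {ls : List ℕ}, distinctList n ls = true →
    ls.Pairwise fun a b => samePack n a b = false
  | [], _ => List.Pairwise.nil
  | a :: ls, hd => by
    simp only [distinctList, Bool.and_eq_true, List.all_eq_true, Bool.not_eq_eq_eq_not,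
      Bool.not_true] at hd
    exact List.pairwise_cons.2 ⟨hd.1, pairwise_of_distinctList hd.2⟩

theorem card_packSub {ls : List ℕ} {hG : ∀ l ∈ ls, ∃ σ ∈ G, Rep e σ l}
    {h : closedList n ls = true} (hd : distinctList n ls = true) :
    Nat.card (packSub G e ls hG h) = ls.length := by
  have hpw := pairwise_of_distinctList hd
  have hG' := hG
  choose f hfG hfR using hG'
  have hinj : ∀ i j : Fin ls.length,
      f ls[i.val] (List.getElem_mem _) = f ls[j.val] (List.getElem_mem _) → i = j := by
    intro i j hij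
    rcases lt_trichotomy i.val j.val with hlt | heq | hlt
    · have := List.pairwise_iff_getElem.1 hpw i.val j.val i.isLt j.isLt hlt
      rw [(hfR _ (List.getElem_mem _)).same (hij ▸ hfR _ (List.getElem_mem _))] at this
      exact absurd this (by simp)
    · exact Fin.ext heq
    · have := List.pairwise_iff_getElem.1 hpw j.val i.val j.isLt i.isLt hlt
      rw [(hfR _ (List.getElem_mem _)).same (hij ▸ hfR _ (List.getElem_mem _))] at this
      exact absurd this (by simp)
  let F : Fin ls.length → packSub G e ls hG h :=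
    fun i => ⟨⟨f ls[i.val] (List.getElem_mem _), hfG _ _⟩, ⟨_, List.getElem_mem _, hfR _ _⟩⟩
  have hF : Function.Bijective F := by
    refine ⟨fun i j hij => hinj i j (congrArg (fun z : packSub G e ls hG h => ((z : G) : Equiv.Perm α)) hij), ?_⟩
    rintro ⟨⟨g, hg⟩, l, hl, hr⟩
    obtain ⟨i, hi, rfl⟩ := List.getElem_of_mem hl
    exact ⟨⟨i, hi⟩, Subtype.ext (Subtype.ext ((hfR _ _).unique hr))⟩
  rw [← Nat.card_congr (Equiv.ofBijective F hF), Nat.card_fin]

end Cfsg.Agent.Mathieu
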