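import Cfsg.Agent.Lib.Mathieu.Sift

/-!
Certificates about a subgroup `S` of a permutation group `H`, given by packed generators: `S` is
self-normalising in `H` (pruned search modulo `S` through elements commuting with the central
involution), and every nontrivial subgroup of `S` closed under `H`-conjugation inside `S` is `S`.
-/

set_option autoImplicit false

namespace Cfsg.Agent.Mathieu

variable {α : Type*} {n : ℕ} {e : α ≃ Fin n}

/-- The same permutation of the numbers below `n`. -/
def sameP (n a b : ℕ) : Bool := (List.range n).all fun i => app a i == app b i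

theorem sameP_of_rep {σ : Equiv.Perm α} {a b : ℕ} (ha : Rep e σ a) (hb : Rep e σ b) :
    sameP n a b = true := by
  simp only [sameP, List.all_eq_true, List.mem_range, beq_iff_eq]
  intro i hi
  have h1 := ha (e.symm ⟨i, hi⟩)
  have h2 := hb (e.symm ⟨i, hi⟩)
  rw [e.apply_symm_apply] at h1 h2
  exact h1.symm.trans h2

theorem Rep.congr {σ : Equiv.Perm α} {a b : ℕ} (ha : Rep e σ a) (h : sameP n a b = true) :
    Rep e σ b := by
  intro x
  simp only [sameP, List.all_eq_true, List.mem_range, beq_iff_eq] at h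
  rw [ha x, h _ (e x).isLt]

/-- `x` is one of the listed permutations. -/
def inList (n : ℕ) (E : List ℕ) (x : ℕ) : Bool := E.any fun y => sameP n y x

/-- The two packed permutations commute. -/
def commP (n a b : ℕ) : Bool := (List.range n).all fun i => app a (app b i) == app b (app a i)

theorem commP_iff {σ τ : Equiv.Perm α} {a b : ℕ} (ha : Rep e σ a) (hb : Rep e τ b) :
    commP n a b = true ↔ σ * τ = τ * σ := by
  simp only [commP, List.all_eq_true, List.mem_range, beq_iff_eq]
  constructor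
  · intro h
    refine Equiv.ext fun x => e.injective (Fin.ext ?_)
    rw [Equiv.Perm.mul_apply, Equiv.Perm.mul_apply, ha, hb, hb, ha, h _ (e x).isLt]
  · intro h i hi
    have h1 := congrArg (fun p : Equiv.Perm α => (e (p (e.symm ⟨i, hi⟩))).val) h
    simp only [Equiv.Perm.mul_apply] at h1
    rwa [ha, hb, hb, ha, e.apply_symm_apply] at h1

theorem isId_of_rep_one {l : ℕ} (h : Rep e (1 : Equiv.Perm α) l) : isId n l = true := by
  simp only [isId, List.all_eq_true, List.mem_range, beq_iff_eq]
  intro i hi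
  have := h (e.symm ⟨i, hi⟩)
  rw [Equiv.Perm.one_apply, e.apply_symm_apply] at this
  exact this.symm

variable [NeZero n]

theorem apply_idx_eq_iff {σ : Equiv.Perm α} {l b c : ℕ} (hl : Rep e σ l) (hb : b < n) (hc : c < n) :
    σ (idx e b) = idx e c ↔ app l b = c := by
  rw [hl.apply_idx hb]
  constructor
  · intro h; rw [← idx_val (e := e) (hl.app_lt hb), h, idx_val hc]
  · intro h; rw [h]

/-- Skip the branch sending base point `b` to `c`: incompatible with commuting with `z`, or `c` is
not least in its orbit under the still available elements `Ek`. -/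
def skipPt (z : ℕ) (done : List (ℕ × ℕ)) (Ek : List ℕ) (b c : ℕ) : Bool :=
  (app z b == b && app z c != c) || done.any (fun d => app z b == d.1 && app z c != d.2) ||
    Ek.any fun x => decide (app x c < c)

/-- All unskipped products of representatives satisfy `P`. -/
def searchOK (n z : ℕ) (P : ℕ → Bool) : List CertLevel → ℕ → List (ℕ × ℕ) → List ℕ → Bool
  | [], g, _, _ => P g
  | p :: rest, g, done, Ek => p.2.2.all fun t =>
      skipPt z done Ek p.1 (app g (app t p.1)) ||
        searchOK n z P rest (packMul n g t) ((p.1, app g (app t p.1)) :: done)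
          (Ek.filter fun x => app x (app g (app t p.1)) == app g (app t p.1))

/-- If every unskipped product of representatives satisfying `N` is `Good`, then `N` is,
for a set `N` of elements commuting with `z` and closed under left multiplication by `S`. -/
theorem search_good {H S : Subgroup (Equiv.Perm α)} {N Good : Equiv.Perm α → Prop}
    (hNH : ∀ g, N g → g ∈ H) (hNS : ∀ s ∈ S, ∀ g, N g → N (s * g))
    {z : ℕ} {ζ : Equiv.Perm α} (hz : Rep e ζ z) (hNz : ∀ g, N g → g * ζ = ζ * g)
    (hGS : ∀ s ∈ S, ∀ g, N g → Good (s * g) → Good g)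
    {P : ℕ → Bool} (hP : ∀ g l, N g → Rep e g l → P l = true → Good g) :
    ∀ (levels : List CertLevel) (done : List (ℕ × ℕ)) (K : Subgroup (Equiv.Perm α))
      (g0 : ℕ) (σ0 : Equiv.Perm α) (Ek : List ℕ),
      (∀ d ∈ done, d.1 < n ∧ d.2 < n) →
      (∀ σ ∈ H, (∀ d ∈ done, σ (idx e d.1) = idx e d.1) → σ ∈ K) →
      levelsOK n (done.map fun d => d.1) levels = true →
      (∀ t ∈ allReps levels, ∃ σ ∈ H, Rep e σ t) →
      Upper e K levels → fixList K (levels.map fun p => idx e p.1) = ⊥ →
      Rep e σ0 g0 → σ0 ∈ H → (∀ d ∈ done, σ0 (idx e d.1) = idx e d.2) →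
      (∀ x ∈ Ek, ∃ s ∈ S, Rep e s x ∧ ∀ d ∈ done, s (idx e d.2) = idx e d.2) →
      searchOK n z P levels g0 done Ek = true →
      ∀ g, N g → (∀ d ∈ done, g (idx e d.1) = idx e d.2) → Good g := by
  intro levels
  induction levels with
  | nil =>
    intro done K g0 σ0 Ek _ hK _ _ _ hbot hg0 hσ0 hσd _ hok g hg hgd
    simp only [List.map_nil, fixList] at hbot
    have h : σ0⁻¹ * g ∈ K := hK _ (H.mul_mem (H.inv_mem hσ0) (hNH g hg)) fun d hd => by
      rw [Equiv.Perm.mul_apply, hgd d hd, ← hσd d hd, Equiv.Perm.inv_def, Equiv.symm_apply_apply]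
    rw [hbot, Subgroup.mem_bot, inv_mul_eq_one] at h
    subst h
    exact hP _ g0 hg hg0 hok
  | cons p rest ih =>
    obtain ⟨b, orb, ts⟩ := p
    intro done K g0 σ0 Ek hdn hK hlev hrep hup hbot hg0 hσ0 hσd hEk hok g hg hgd
    simp only [levelsOK, Bool.and_eq_true, decide_eq_true_eq, beq_iff_eq,
      List.all_eq_true] at hlev
    obtain ⟨⟨⟨⟨⟨hb, -⟩, -⟩, hmap⟩, hfix⟩, hrest⟩ := hlev
    -- minimise the image of `b` by left multiplication
    classical
    let Q : ℕ → Prop := fun v =>
      ∃ s ∈ S, (∀ d ∈ done, s (idx e d.2) = idx e d.2) ∧ (e (s (g (idx e b)))).val = v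
    have hQ : ∃ v, Q v := ⟨_, 1, S.one_mem, fun d _ => rfl, rfl⟩
    obtain ⟨s, hs, hsd, hsv⟩ := Nat.find_spec hQ
    have hmin : ∀ v, Q v → Nat.find hQ ≤ v := fun v hv => Nat.find_min' hQ hv
    have hg' : N (s * g) := hNS s hs g hg
    have hg'd : ∀ d ∈ done, (s * g) (idx e d.1) = idx e d.2 := fun d hd => by
      rw [Equiv.Perm.mul_apply, hgd d hd, hsd d hd]
    set h := s * g with hh
    have hτK : σ0⁻¹ * h ∈ K := hK _ (H.mul_mem (H.inv_mem hσ0) (hNH _ hg')) fun d hd => by
      rw [Equiv.Perm.mul_apply, hg'd d hd, ← hσd d hd, Equiv.Perm.inv_def, Equiv.symm_apply_apply]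
    have horb := hup.1 _ hτK
    obtain ⟨t, ht, htb⟩ : ∃ t ∈ ts, app t b = (e ((σ0⁻¹ * h) (idx e b))).val := by
      rw [← hmap] at horb; simpa using horb
    obtain ⟨τ, hτH, hτ⟩ := hrep t (List.mem_flatMap.2 ⟨(b, orb, ts), List.mem_cons_self, ht⟩)
    have hτb : τ (idx e b) = (σ0⁻¹ * h) (idx e b) := by rw [hτ.apply_idx hb, htb, idx_self]
    have htbn : app t b < n := hτ.app_lt hb
    set c := app g0 (app t b) with hc
    have hcn : c < n := hg0.app_lt htbn
    have hhb : h (idx e b) = idx e c := by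
      have : σ0 (τ (idx e b)) = h (idx e b) := by rw [hτb]; simp
      rw [← this, hτ.apply_idx hb, hg0.apply_idx htbn]
    have hcfind : c = Nat.find hQ := by
      rw [← hsv]
      change c = (e (h (idx e b))).val
      rw [hhb, idx_val hcn]
    simp only [searchOK, List.all_eq_true, Bool.or_eq_true] at hok
    rcases hok t ht with hskip | hrec
    · exfalso
      simp only [skipPt, Bool.or_eq_true, Bool.and_eq_true, beq_iff_eq, bne_iff_ne,
        List.any_eq_true, decide_eq_true_eq] at hskip
      have hcomm : ∀ x, h (ζ x) = ζ (h x) := fun x => congrArg (fun p : Equiv.Perm α => p x) (hNz h hg')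
      rcases hskip with (⟨hzb, hzc⟩ | ⟨d, hd, hzb, hzc⟩) | ⟨x, hx, hlt⟩
      · apply hzc
        have h1 := hcomm (idx e b)
        rw [(apply_idx_eq_iff hz hb hb).2 hzb, hhb] at h1
        exact (apply_idx_eq_iff hz hcn hcn).1 h1.symm
      · apply hzc
        have h1 := hcomm (idx e b)
        rw [(apply_idx_eq_iff hz hb (hdn d hd).1).2 hzb, hg'd d hd, hhb] at h1
        exact (apply_idx_eq_iff hz hcn (hdn d hd).2).1 h1.symm
      · obtain ⟨u, hu, hux, hud⟩ := hEk x hx
        have hQ' : Q (app x c) := by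
          refine ⟨u * s, S.mul_mem hu hs, fun d hd => ?_, ?_⟩
          · rw [Equiv.Perm.mul_apply, hsd d hd, hud d hd]
          · have hgb : s (g (idx e b)) = idx e c := hhb
            rw [Equiv.Perm.mul_apply, hgb, hux, idx_val hcn]
        exact absurd (hmin _ hQ') (by rw [← hcfind]; exact Nat.not_le.2 hlt)
    · have hres : Good h := by
        refine ih ((b, c) :: done) (K ⊓ MulAction.stabilizer (Equiv.Perm α) (idx e b))
          (packMul n g0 t) (σ0 * τ) _ ?_ ?_ hrest
          (fun t' ht' => hrep t' (by rw [allReps, List.flatMap_cons]; exact List.mem_append_right _ ht'))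
          hup.2 hbot (rep_packMul hg0 hτ) (H.mul_mem hσ0 hτH) ?_ ?_ hrec h hg' ?_
        · exact List.forall_mem_cons.2 ⟨⟨hb, hcn⟩, hdn⟩
        · intro σ hσ hσfix
          exact Subgroup.mem_inf.2 ⟨hK σ hσ fun d hd => hσfix d (List.mem_cons_of_mem _ hd),
            hσfix (b, c) List.mem_cons_self⟩
        · refine List.forall_mem_cons.2 ⟨?_, fun d hd => ?_⟩
          · rw [Equiv.Perm.mul_apply, hτb]; simpa using hhb
          · rw [Equiv.Perm.mul_apply, hτ.apply_idx (hdn d hd).1,
              hfix t ht d.1 (List.mem_map.2 ⟨d, hd, rfl⟩), hσd d hd]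
        · intro x hx
          rw [List.mem_filter, beq_iff_eq] at hx
          obtain ⟨u, hu, hux, hud⟩ := hEk x hx.1
          exact ⟨u, hu, hux, List.forall_mem_cons.2 ⟨(apply_idx_eq_iff hux hcn hcn).2 hx.2, hud⟩⟩
        · exact List.forall_mem_cons.2 ⟨hhb, hg'd⟩
      exact hGS s hs g hg hres

/-- `search_good` with `Good` the membership in `S`. -/
theorem search_sound {H S : Subgroup (Equiv.Perm α)} {N : Equiv.Perm α → Prop}
    (hNH : ∀ g, N g → g ∈ H) (hNS : ∀ s ∈ S, ∀ g, N g → N (s * g))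
    {z : ℕ} {ζ : Equiv.Perm α} (hz : Rep e ζ z) (hNz : ∀ g, N g → g * ζ = ζ * g)
    {P : ℕ → Bool} (hP : ∀ g l, N g → Rep e g l → P l = true → g ∈ S) :
    ∀ (levels : List CertLevel) (done : List (ℕ × ℕ)) (K : Subgroup (Equiv.Perm α))
      (g0 : ℕ) (σ0 : Equiv.Perm α) (Ek : List ℕ),
      (∀ d ∈ done, d.1 < n ∧ d.2 < n) →
      (∀ σ ∈ H, (∀ d ∈ done, σ (idx e d.1) = idx e d.1) → σ ∈ K) →
      levelsOK n (done.map fun d => d.1) levels = true →
      (∀ t ∈ allReps levels, ∃ σ ∈ H, Rep e σ t) →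
      Upper e K levels → fixList K (levels.map fun p => idx e p.1) = ⊥ →
      Rep e σ0 g0 → σ0 ∈ H → (∀ d ∈ done, σ0 (idx e d.1) = idx e d.2) →
      (∀ x ∈ Ek, ∃ s ∈ S, Rep e s x ∧ ∀ d ∈ done, s (idx e d.2) = idx e d.2) →
      searchOK n z P levels g0 done Ek = true →
      ∀ g, N g → (∀ d ∈ done, g (idx e d.1) = idx e d.2) → g ∈ S :=
  search_good (Good := fun g => g ∈ S) hNH hNS hz hNz
    (fun _ hs _ _ h => (S.mul_mem_cancel_left hs).1 h) hP

/-- Steps `(y, i, j, g)`: for `g = 0`, `y` is the product of the known elements number `i` and `j`;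
otherwise `y` lies in the listed group and is the conjugate of number `i` by `g`. -/
def closedStepsOK (n : ℕ) (memH : ℕ → Bool) (E : List ℕ) : List ℕ → List (ℕ × ℕ × ℕ × ℕ) → Bool
  | _, [] => true
  | known, (y, i, j, g) :: rest =>
    (match known[i]?, known[j]? with
      | some a, some b =>
        if g == 0 then compOK n y a b
        else memH g && inList n E y &&
          (List.range n).all fun k => app y (app g k) == app g (app a k)
      | _, _ => false) && closedStepsOK n memH E (y :: known) rest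

omit [NeZero n] in
theorem closedSteps_sound {H S T : Subgroup (Equiv.Perm α)} {memH : ℕ → Bool} {E : List ℕ}
    (hmem : ∀ g, memH g = true → ∃ σ ∈ H, Rep e σ g) (hE : ∀ l ∈ E, ∃ σ ∈ S, Rep e σ l)
    (hT : ∀ x ∈ T, ∀ h ∈ H, h * x * h⁻¹ ∈ S → h * x * h⁻¹ ∈ T) :
    ∀ (steps : List (ℕ × ℕ × ℕ × ℕ)) (known : List ℕ), (∀ l ∈ known, ∃ σ ∈ T, Rep e σ l) →
      closedStepsOK n memH E known steps = true →
      ∀ l, (l ∈ known ∨ l ∈ steps.map (fun s => s.1)) → ∃ σ ∈ T, Rep e σ l := by
  intro steps
  induction steps with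
  | nil => intro known hk _ l hl; exact hk l (by simpa using hl)
  | cons s rest ih =>
    obtain ⟨y, i, j, g⟩ := s
    intro known hk hok l hl
    simp only [closedStepsOK, Bool.and_eq_true] at hok
    obtain ⟨h1, h2⟩ := hok
    have hy : ∀ x ∈ y :: known, ∃ σ ∈ T, Rep e σ x := by
      intro x hx
      rcases List.mem_cons.1 hx with rfl | hx
      · rcases hi : known[i]? with _ | a
        · rw [hi] at h1; simp at h1
        rcases hj : known[j]? with _ | b
        · rw [hi, hj] at h1; simp at h1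
        rw [hi, hj] at h1
        obtain ⟨σ, hσT, hσ⟩ := hk a (List.mem_of_getElem? hi)
        obtain ⟨τ, hτT, hτ⟩ := hk b (List.mem_of_getElem? hj)
        by_cases hg : g = 0
        · simp only [hg, beq_self_eq_true, if_true] at h1
          exact ⟨σ * τ, T.mul_mem hσT hτT, hσ.mul hτ h1⟩
        · simp only [beq_iff_eq, hg, if_false, Bool.and_eq_true, List.all_eq_true,
            List.mem_range] at h1
          obtain ⟨⟨hgH, hyE⟩, hconj⟩ := h1
          obtain ⟨γ, hγH, hγ⟩ := hmem g hgH
          simp only [inList, List.any_eq_true] at hyE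
          obtain ⟨w, hw, hwx⟩ := hyE
          obtain ⟨ω, hωS, hω⟩ := hE w hw
          have hωx := hω.congr hwx
          have heq : ω = γ * σ * γ⁻¹ := by
            rw [eq_mul_inv_iff_mul_eq]
            refine Equiv.ext fun v => e.injective (Fin.ext ?_)
            rw [Equiv.Perm.mul_apply, Equiv.Perm.mul_apply, hωx, hγ, hγ, hσ, hconj _ (e v).isLt]
          exact ⟨ω, heq ▸ hT σ hσT γ hγH (heq ▸ hωS), hωx⟩
      · exact hk x hx
    refine ih (y :: known) hy h2 l ?_
    simp only [List.map_cons, List.mem_cons] at hl ⊢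
    tauto

omit [NeZero n] in
/-- Every product of representatives is in the subgroup containing them. -/
theorem rep_of_mem_prodList (hn : n ≤ 256) {S : Subgroup (Equiv.Perm α)} :
    ∀ {levels : List CertLevel}, (∀ t ∈ allReps levels, ∃ σ ∈ S, Rep e σ t) →
      ∀ l ∈ prodList n levels, ∃ σ ∈ S, Rep e σ l := by
  intro levels
  induction levels with
  | nil =>
    intro _ l hl
    rw [prodList, List.mem_singleton] at hl
    exact ⟨1, S.one_mem, hl ▸ rep_packId hn⟩
  | cons p rest ih =>
    intro hrep l hl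
    simp only [prodList, List.mem_flatMap, List.mem_map] at hl
    obtain ⟨t, ht, r, hr, rfl⟩ := hl
    obtain ⟨σ, hσS, hσ⟩ := hrep t (List.mem_flatMap.2 ⟨p, List.mem_cons_self, ht⟩)
    obtain ⟨τ, hτS, hτ⟩ := ih (fun t' ht' => hrep t'
      (by rw [allReps, List.flatMap_cons]; exact List.mem_append_right _ ht')) r hr
    exact ⟨σ * τ, S.mul_mem hσS hτS, rep_packMul hσ hτ⟩

omit [NeZero n] in
/-- Elements of the group generated by `gens` commuting with all generators commute with it. -/
theorem comm_genGroup {gens : List ℕ} {σ : Equiv.Perm α} {l : ℕ} (hσ : Rep e σ l)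
    (h : gens.all (fun p => commP n l p) = true) :
    ∀ τ ∈ genGroup e gens, σ * τ = τ * σ := by
  intro τ hτ
  induction hτ using Subgroup.closure_induction with
  | mem x hx =>
    obtain ⟨p, hp, hxp⟩ := hx
    exact (commP_iff hσ hxp).1 (List.all_eq_true.1 h p hp)
  | one => simp
  | mul x y _ _ hx hy => rw [← mul_assoc, hx, mul_assoc, hy, mul_assoc]
  | inv x _ hx => exact (Commute.inv_right hx).eq

/-- Certificate data for a Sylow-like subgroup. -/
structure SubgroupCert where
  /-- packed generators, newest first -/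
  gens : List ℕ
  /-- products leading to the representatives -/
  slp : List (ℕ × ℕ × ℕ)
  /-- a stabiliser chain of the subgroup -/
  levels : List CertLevel
  /-- its central involution -/
  z : ℕ
  /-- steps generating the subgroup from `z` by products and conjugations -/
  steps : List (ℕ × ℕ × ℕ × ℕ)

/-- The elements of the subgroup of a certificate. -/
def SubgroupCert.elts (C : SubgroupCert) (n : ℕ) : List ℕ := prodList n C.levels

/-- The checks on the subgroup alone. -/
def SubgroupCert.groupOK (C : SubgroupCert) (n : ℕ) (memH : ℕ → Bool) : Bool :=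
  C.gens.all (permOK n) && C.gens.all memH && slpOK n C.gens C.slp &&
    (allReps C.levels).all (fun t => (C.gens ++ C.slp.map fun s => s.1).contains t) &&
    !C.levels.isEmpty && levelsOK n [] C.levels && idRepOK n C.levels && closedOK n C.levels &&
    C.gens.all (sift n C.levels)

/-- The centre consists of the identity and `z`. -/
def SubgroupCert.centerOK (C : SubgroupCert) (n : ℕ) : Bool :=
  inList n (C.elts n) C.z && !isId n C.z && C.gens.all (fun p => commP n C.z p) &&
    (C.elts n).all fun l => !(C.gens.all fun p => commP n l p) || isId n l || sameP n C.z l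

/-- Every nontrivial closed subgroup is the whole. -/
def SubgroupCert.closedStepsAll (C : SubgroupCert) (n : ℕ) (memH : ℕ → Bool) : Bool :=
  closedStepsOK n memH (C.elts n) [C.z] C.steps &&
    C.gens.all fun p => inList n ([C.z] ++ C.steps.map fun s => s.1) p

/-- Leaf test of the normaliser search. -/
def SubgroupCert.leafOK (C : SubgroupCert) (n l : ℕ) : Bool :=
  !commP n l C.z || inList n (C.elts n) l ||
    (leftInvOK n (invPack n l) l &&
      !C.gens.all fun p => inList n (C.elts n) (packMul n (packMul n l p) (invPack n l)))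

section
variable [Finite α] [DecidableEq α] {H : Subgroup (Equiv.Perm α)} {C : SubgroupCert}
  {memH : ℕ → Bool}

theorem cert_group (hn : n ≤ 256) (hmem : ∀ σ g, Rep e σ g → memH g = true → σ ∈ H)
    (h : C.groupOK n memH = true) :
    genGroup e C.gens ≤ H ∧
      Nat.card (genGroup e C.gens) = (C.levels.map fun p => p.2.1.length).prod ∧
      (∀ t ∈ allReps C.levels, ∃ σ ∈ genGroup e C.gens, Rep e σ t) ∧
      (∀ g ∈ genGroup e C.gens, ∃ l ∈ C.elts n, Rep e g l) := by
  simp only [SubgroupCert.groupOK, Bool.and_eq_true, Bool.not_eq_eq_eq_not, Bool.not_true,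
    List.isEmpty_eq_false_iff] at h
  obtain ⟨⟨⟨⟨⟨⟨⟨⟨hgen, hgm⟩, hslp⟩, hsub⟩, hne⟩, hlev⟩, hid⟩, hclosed⟩, hsift⟩ := h
  have hreps := reps_genGroup (e := e) hgen hslp hsub
  have hin : ∀ σ ∈ genGroup e C.gens, InProd e C.levels σ :=
    inProd_of_mem_closure hn hclosed hne (fun t ht => (hreps t ht).imp fun _ h => h.2)
      fun σ ⟨l, hl, hσ⟩ => ⟨l, hσ, List.all_eq_true.1 hsift l hl⟩
  obtain ⟨hup, hbot⟩ := upper_fixList_of_inProd C.levels [] _ hlev hid hin
  exact ⟨genGroup_le fun σ l hl hσ => hmem σ l hσ (List.all_eq_true.1 hgm l hl),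
    card_of_cert hlev hreps hup hbot, hreps,
    exists_mem_prodList_aux hn C.levels [] _ (by simp) (fun _ hσ _ => hσ) hlev hreps hup hbot⟩

theorem cert_center (hn : n ≤ 256) (hmem : ∀ σ g, Rep e σ g → memH g = true → σ ∈ H)
    (hg : C.groupOK n memH = true) (hc : C.centerOK n = true) :
    ∃ ζ : Equiv.Perm α, Rep e ζ C.z ∧ ζ ∈ genGroup e C.gens ∧ ζ ≠ 1 ∧
      (∀ τ ∈ genGroup e C.gens, ζ * τ = τ * ζ) ∧
      ∀ σ ∈ genGroup e C.gens, (∀ τ ∈ genGroup e C.gens, σ * τ = τ * σ) → σ = 1 ∨ σ = ζ := by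
  obtain ⟨-, -, hreps, hlist⟩ := cert_group hn hmem hg
  simp only [SubgroupCert.centerOK, Bool.and_eq_true, Bool.not_eq_eq_eq_not, Bool.not_true,
    List.all_eq_true, inList, List.any_eq_true] at hc
  obtain ⟨⟨⟨⟨w, hw, hwz⟩, hz1⟩, hzc⟩, hall⟩ := hc
  obtain ⟨ζ, hζS, hζw⟩ := rep_of_mem_prodList hn hreps w hw
  have hζ := hζw.congr hwz
  refine ⟨ζ, hζ, hζS, fun h => ?_, comm_genGroup hζ (List.all_eq_true.2 hzc), fun σ hσ hcomm => ?_⟩
  · subst h; rw [isId_of_rep_one hζ] at hz1; exact Bool.noConfusion hz1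
  · obtain ⟨l, hl, hσl⟩ := hlist σ hσ
    have hgen : C.gens.all (fun p => commP n l p) = true := by
      rw [List.all_eq_true]
      intro p hp
      obtain ⟨π, hπ⟩ := exists_rep (e := e) (n := n) (l := p) (by
        simp only [SubgroupCert.groupOK, Bool.and_eq_true] at hg
        exact List.all_eq_true.1 hg.1.1.1.1.1.1.1.1 p hp)
      exact (commP_iff hσl hπ).2 (hcomm π (Subgroup.subset_closure ⟨p, hp, hπ⟩))
    have h := hall l hl
    simp only [hgen, Bool.not_true, Bool.false_or, Bool.or_eq_true] at h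
    rcases h with h | h
    · exact Or.inl (hσl.eq_one h)
    · exact Or.inr (hσl.unique (hζ.congr h))

/-- The subgroup is self-normalising in `H`. -/
theorem cert_normalizer (hn : n ≤ 256) (hmem : ∀ σ g, Rep e σ g → memH g = true → σ ∈ H)
    (hg : C.groupOK n memH = true) (hc : C.centerOK n = true) {levels : List CertLevel}
    (hlev : levelsOK n [] levels = true) (hrep : ∀ t ∈ allReps levels, ∃ σ ∈ H, Rep e σ t)
    (hup : Upper e H levels) (hbot : fixList H (levels.map fun p => idx e p.1) = ⊥)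
    (hsearch : searchOK n C.z (C.leafOK n) levels (packId n) [] (C.elts n) = true)
    {g : Equiv.Perm α} (hgH : g ∈ H)
    (hgN : ∀ x, x ∈ genGroup e C.gens ↔ g * x * g⁻¹ ∈ genGroup e C.gens) :
    g ∈ genGroup e C.gens := by
  obtain ⟨hSH, -, hreps, hlist⟩ := cert_group hn hmem hg
  obtain ⟨ζ, hζ, hζS, hζ1, hζc, huniq⟩ := cert_center hn hmem hg hc
  set S := genGroup e C.gens with hS
  have hcz : ∀ k : Equiv.Perm α, (∀ x, x ∈ S ↔ k * x * k⁻¹ ∈ S) → k * ζ = ζ * k := by
    intro k hk
    rcases huniq _ ((hk ζ).1 hζS) (fun τ hτ => by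
      have h1 : k⁻¹ * τ * k ∈ S := (hk _).2 (by simpa [mul_assoc] using hτ)
      have h2 := congrArg (fun x => k * x * k⁻¹) (hζc _ h1)
      simpa [mul_assoc] using h2) with h | h
    · exact absurd (conj_eq_one_iff.1 h) hζ1
    · exact mul_inv_eq_iff_eq_mul.1 h
  refine search_sound (H := H) (S := S)
    (N := fun k => k ∈ H ∧ ∀ x, x ∈ S ↔ k * x * k⁻¹ ∈ S) (fun k hk => hk.1)
    (fun s hs k hk => ⟨H.mul_mem (hSH hs) hk.1, fun x => ?_⟩) hζ (fun k hk => hcz k hk.2)
    (P := C.leafOK n) ?_ levels [] H (packId n) 1 (C.elts n) (by simp) (fun σ hσ _ => hσ) hlev hrep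
    hup hbot (rep_packId hn) H.one_mem (by simp) ?_ hsearch g ⟨hgH, hgN⟩ (by simp)
  · have e1 : s * k * x * (s * k)⁻¹ = s * (k * x * k⁻¹) * s⁻¹ := by group
    rw [hk.2 x, e1, S.mul_mem_cancel_right (S.inv_mem hs), S.mul_mem_cancel_left hs]
  · intro k l hk hkl hleaf
    simp only [SubgroupCert.leafOK, Bool.or_eq_true, Bool.and_eq_true, Bool.not_eq_eq_eq_not,
      Bool.not_true] at hleaf
    rcases hleaf with (h | h) | ⟨hinv, h⟩
    · rw [(commP_iff hkl hζ).2 (hcz k hk.2)] at h; exact Bool.noConfusion h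
    · simp only [inList, List.any_eq_true] at h
      obtain ⟨w, hw, hwl⟩ := h
      obtain ⟨ω, hω, hωw⟩ := rep_of_mem_prodList hn hreps w hw
      exact hkl.unique (hωw.congr hwl) ▸ hω
    · exfalso
      have hall : C.gens.all (fun p =>
          inList n (C.elts n) (packMul n (packMul n l p) (invPack n l))) = true := by
        rw [List.all_eq_true]
        intro p hp
        obtain ⟨π, hπ⟩ := exists_rep (e := e) (n := n) (l := p) (by
          simp only [SubgroupCert.groupOK, Bool.and_eq_true] at hg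
          exact List.all_eq_true.1 hg.1.1.1.1.1.1.1.1 p hp)
        obtain ⟨w, hw, hwr⟩ := hlist _ ((hk.2 π).1 (Subgroup.subset_closure ⟨p, hp, hπ⟩))
        simp only [inList, List.any_eq_true]
        exact ⟨w, hw, sameP_of_rep hwr
          (rep_packMul (rep_packMul hkl hπ) (hkl.inv_of_leftInvOK hinv))⟩
      rw [hall] at h
      exact Bool.noConfusion h
  · intro x hx
    obtain ⟨s, hs, hsx⟩ := rep_of_mem_prodList hn hreps x hx
    exact ⟨s, hs, hsx, by simp⟩

/-- A subgroup of `S` closed under `H`-conjugation inside `S` and containing a nontrivial central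
element of `S` is `S`. -/
theorem cert_closed (hn : n ≤ 256) (hmem : ∀ σ g, Rep e σ g → memH g = true → σ ∈ H)
    (hperm : ∀ g, memH g = true → permOK n g = true)
    (hg : C.groupOK n memH = true) (hc : C.centerOK n = true)
    (hst : C.closedStepsAll n memH = true) {T : Subgroup (Equiv.Perm α)}
    (hTS : T ≤ genGroup e C.gens)
    (hT : ∀ x ∈ T, ∀ h ∈ H, h * x * h⁻¹ ∈ genGroup e C.gens → h * x * h⁻¹ ∈ T)
    {x : Equiv.Perm α} (hxT : x ∈ T) (hx1 : x ≠ 1)
    (hxc : ∀ τ ∈ genGroup e C.gens, x * τ = τ * x) : T = genGroup e C.gens := by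
  obtain ⟨-, -, hreps, -⟩ := cert_group hn hmem hg
  obtain ⟨ζ, hζ, -, -, -, huniq⟩ := cert_center hn hmem hg hc
  rcases huniq x (hTS hxT) hxc with h | h
  · exact absurd h hx1
  subst h
  simp only [SubgroupCert.closedStepsAll, Bool.and_eq_true, List.all_eq_true, inList,
    List.any_eq_true] at hst
  obtain ⟨hsteps, hgens⟩ := hst
  refine le_antisymm hTS ((Subgroup.closure_le _).2 fun π hπ => ?_)
  obtain ⟨p, hp, hπp⟩ := hπ
  obtain ⟨w, hw, hwp⟩ := hgens p hp
  obtain ⟨ω, hω, hωw⟩ := closedSteps_sound (H := H) (S := genGroup e C.gens) (T := T)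
    (fun g hgm => by
      obtain ⟨γ, hγ⟩ := exists_rep (e := e) (hperm g hgm)
      exact ⟨γ, hmem γ g hγ hgm, hγ⟩)
    (rep_of_mem_prodList hn hreps) hT C.steps [C.z]
    (fun l hl => ⟨x, hxT, by rw [List.mem_singleton.1 hl]; exact hζ⟩) hsteps w
    (List.mem_append.1 hw)
  exact hπp.unique (hωw.congr hwp) ▸ hω

end

end Cfsg.Agent.Mathieu
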