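import Cfsg.Agent.Lib.Mathieu.Rigid
import Cfsg.Agent.Lib.Mathieu.SylowCert
import Cfsg.Agent.Lib.Mathieu.PackSub

/-!
Small generated groups as full lists of packed permutations, produced by a straight-line program
and closed under right multiplication by the generators.
-/

set_option autoImplicit false

namespace Cfsg.Agent.Mathieu

variable {α : Type*} {n : ℕ} {e : α ≃ Fin n}

/-- The elements produced by a program. -/
def slpList (gens : List ℕ) (steps : List (ℕ × ℕ × ℕ)) : List ℕ := gens ++ steps.map fun s => s.1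

/-- The produced elements contain the identity and are closed under the generators. -/
def listGroupOK (n : ℕ) (gens : List ℕ) (steps : List (ℕ × ℕ × ℕ)) : Bool :=
  gens.all (permOK n) && slpOK n gens steps && (slpList gens steps).contains (packId n) &&
    gens.all fun g => (slpList gens steps).all fun a => (slpList gens steps).contains (packMulS n a g)

theorem slpList_mem {gens : List ℕ} {steps : List (ℕ × ℕ × ℕ)}
    (h : listGroupOK n gens steps = true) {l : ℕ} (hl : l ∈ slpList gens steps) :
    ∃ σ ∈ genGroup e gens, Rep e σ l := by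
  simp only [listGroupOK, Bool.and_eq_true] at h
  obtain ⟨⟨⟨hgen, hslp⟩, -⟩, -⟩ := h
  refine rep_of_slp gens steps (fun g hg => ?_) hslp l (List.mem_append.1 hl)
  obtain ⟨σ, hσ⟩ := exists_rep (e := e) (List.all_eq_true.1 hgen g hg)
  exact ⟨σ, Subgroup.subset_closure ⟨g, hg, hσ⟩, hσ⟩

theorem mem_genGroup_iff [Finite α] (hn : n ≤ 256) {gens : List ℕ} {steps : List (ℕ × ℕ × ℕ)}
    (h : listGroupOK n gens steps = true) {σ : Equiv.Perm α} :
    σ ∈ genGroup e gens ↔ ∃ l ∈ slpList gens steps, Rep e σ l := by
  refine ⟨fun hσ => ?_, fun ⟨l, hl, hr⟩ => ?_⟩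
  · simp only [listGroupOK, Bool.and_eq_true, List.all_eq_true, List.contains_iff_mem] at h
    obtain ⟨⟨-, hid⟩, hclosed⟩ := h
    rw [genGroup, ← Subgroup.mem_toSubmonoid, Subgroup.closure_toSubmonoid_of_finite] at hσ
    suffices ∀ τ : Equiv.Perm α, (∃ l ∈ slpList gens steps, Rep e τ l) →
        ∃ l ∈ slpList gens steps, Rep e (τ * σ) l by
      simpa using this 1 ⟨_, hid, rep_packId hn⟩
    induction hσ using Submonoid.closure_induction with
    | mem x hx =>
      obtain ⟨g, hg, hgr⟩ := hx
      rintro τ ⟨l, hl, hr⟩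
      exact ⟨_, hclosed g hg l hl, by rw [packMulS_eq]; exact rep_packMul hr hgr⟩
    | one => intro τ hτ; simpa using hτ
    | mul x y _ _ hx hy => intro τ hτ; rw [← mul_assoc]; exact hy _ (hx τ hτ)
  · obtain ⟨τ, hτ, hτr⟩ := slpList_mem (e := e) h hl
    exact hr.unique hτr ▸ hτ

theorem card_genGroup_of_list [Finite α] (hn : n ≤ 256) {gens : List ℕ}
    {steps : List (ℕ × ℕ × ℕ)} (h : listGroupOK n gens steps = true)
    (hd : distinctList n (slpList gens steps) = true) :
    Nat.card (genGroup e gens) = (slpList gens steps).length := by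
  have hpw := pairwise_of_distinctList hd
  have hl : ∀ i : Fin (slpList gens steps).length,
      ∃ σ ∈ genGroup e gens, Rep e σ (slpList gens steps)[i.val] :=
    fun i => slpList_mem h (List.getElem_mem _)
  choose f hfG hfR using hl
  have hbij : Function.Bijective fun i => (⟨f i, hfG i⟩ : genGroup e gens) := by
    refine ⟨fun i j hij => ?_, fun σ => ?_⟩
    · have hij' : f i = f j := congrArg Subtype.val hij
      rcases lt_trichotomy i.val j.val with hlt | heq | hlt
      · have := List.pairwise_iff_getElem.1 hpw i.val j.val i.isLt j.isLt hlt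
        rw [(hfR i).same (hij' ▸ hfR j)] at this
        exact absurd this (by simp)
      · exact Fin.ext heq
      · have := List.pairwise_iff_getElem.1 hpw j.val i.val j.isLt i.isLt hlt
        rw [(hfR j).same (hij'.symm ▸ hfR i)] at this
        exact absurd this (by simp)
    · obtain ⟨l, hl, hr⟩ := (mem_genGroup_iff hn h).1 σ.2
      obtain ⟨i, hi, rfl⟩ := List.getElem_of_mem hl
      exact ⟨⟨i, hi⟩, Subtype.ext ((hfR ⟨i, hi⟩).unique hr)⟩
  rw [← Nat.card_congr (Equiv.ofBijective _ hbij), Nat.card_fin]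

/-- `l` fails to conjugate `p` into the list: no listed `q` has `q * l = l * p`. -/
def conjOut (n : ℕ) (E : List ℕ) (l p : ℕ) : Bool :=
  E.all fun q => (List.range n).any fun i => !(app q (app l i) == app l (app p i))

theorem conjOut_false [NeZero n] {E : List ℕ} {κ π : Equiv.Perm α} {l p : ℕ} (hl : Rep e κ l)
    (hp : Rep e π p) (h : ∃ q ∈ E, Rep e (κ * π * κ⁻¹) q) : conjOut n E l p = false := by
  obtain ⟨q, hq, hqr⟩ := h
  rw [Bool.eq_false_iff]
  intro hc
  simp only [conjOut, List.all_eq_true, List.any_eq_true, List.mem_range, Bool.not_eq_eq_eq_not,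
    Bool.not_true, beq_eq_false_iff_ne] at hc
  obtain ⟨i, hi, hne⟩ := hc q hq
  apply hne
  have h1 : (κ * π * κ⁻¹) (κ (idx e i)) = κ (π (idx e i)) := by simp
  rw [hl.apply_idx hi, hqr.apply_idx (hl.app_lt hi), hp.apply_idx hi,
    hl.apply_idx (hp.app_lt hi)] at h1
  have h2 := congrArg (fun x => (e x).val) h1
  simp only [idx_val (hqr.app_lt (hl.app_lt hi)), idx_val (hl.app_lt (hp.app_lt hi))] at h2
  exact h2

/-- Steps `(y, i, j, g)`: for `g = 0` a product of known elements, otherwise `y` is in the list `E`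
and is the conjugate of number `i` by the known element `g`. -/
def closeStepsOK (n : ℕ) (K E : List ℕ) : List ℕ → List (ℕ × ℕ × ℕ × ℕ) → Bool
  | _, [] => true
  | known, (y, i, j, g) :: rest =>
    (match known[i]?, known[j]? with
      | some a, some b =>
        if g == 0 then compOK n y a b
        else K.contains g && E.contains y && (List.range n).all fun k => app y (app g k) == app g (app a k)
      | _, _ => false) && closeStepsOK n K E (y :: known) rest

theorem closeSteps_sound {H S T : Subgroup (Equiv.Perm α)} {K E : List ℕ}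
    (hK : ∀ g ∈ K, ∃ σ ∈ H, Rep e σ g) (hE : ∀ l ∈ E, ∃ σ ∈ S, Rep e σ l)
    (hT : ∀ x ∈ T, ∀ h ∈ H, h * x * h⁻¹ ∈ S → h * x * h⁻¹ ∈ T) :
    ∀ (steps : List (ℕ × ℕ × ℕ × ℕ)) (known : List ℕ), (∀ l ∈ known, ∃ σ ∈ T, Rep e σ l) →
      closeStepsOK n K E known steps = true →
      ∀ l, (l ∈ known ∨ l ∈ steps.map (fun s => s.1)) → ∃ σ ∈ T, Rep e σ l := by
  intro steps
  induction steps with
  | nil => intro known hk _ l hl; exact hk l (by simpa using hl)
  | cons s rest ih =>
    obtain ⟨y, i, j, g⟩ := s
    intro known hk hok l hl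
    simp only [closeStepsOK, Bool.and_eq_true] at hok
    obtain ⟨h1, h2⟩ := hok
    have hy : ∀ x ∈ y :: known, ∃ σ ∈ T, Rep e σ x := by
      intro x hx
      rcases List.mem_cons.1 hx with rfl | hx
      · rcases hi : known[i]? with _ | a
        · rw [hi] at h1; simp at h1
        rcases hj : known[j]? with _ | b
        · rw [hi, hj] at h1; simp at h1
        rw [hi, hj] at h1
        obtain ⟨σ, hσT, hσ⟩ := hk a (List.mem_of_getElem? hi)
        obtain ⟨τ, hτT, hτ⟩ := hk b (List.mem_of_getElem? hj)
        by_cases hg : g = 0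
        · simp only [hg, beq_self_eq_true, if_true] at h1
          exact ⟨σ * τ, T.mul_mem hσT hτT, hσ.mul hτ h1⟩
        · simp only [beq_iff_eq, hg, if_false, Bool.and_eq_true, List.all_eq_true,
            List.mem_range, List.contains_iff_mem] at h1
          obtain ⟨⟨hgH, hyE⟩, hconj⟩ := h1
          obtain ⟨γ, hγH, hγ⟩ := hK g hgH
          obtain ⟨ω, hωS, hω⟩ := hE _ hyE
          have heq : ω = γ * σ * γ⁻¹ := by
            rw [eq_mul_inv_iff_mul_eq]
            refine Equiv.ext fun v => e.injective (Fin.ext ?_)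
            rw [Equiv.Perm.mul_apply, Equiv.Perm.mul_apply, hω, hγ, hγ, hσ, hconj _ (e v).isLt]
          exact ⟨ω, heq ▸ hT σ hσT γ hγH (heq ▸ hωS), hω⟩
      · exact hk x hx
    refine ih (y :: known) hy h2 l ?_
    simp only [List.map_cons, List.mem_cons] at hl ⊢
    tauto

end Cfsg.Agent.Mathieu
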