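import Cfsg.Agent.Lib.Mathieu.OneBlockBase
import Cfsg.Agent.Lib.Mathieu.OneBlockData

/-!
M₂₂ has one 2-block.
-/

set_option autoImplicit false
set_option maxRecDepth 20000

namespace Cfsg.Agent.Mathieu

open Cfsg

theorem perm_of_mem22 (g : ℕ) (h : mem22 g = true) : permOK 24 g = true := by
  simp only [mem22, mem23, Bool.and_eq_true] at h
  exact perm_of_mem24 g h.1.1

theorem M22_upper : Upper ptEnc Spor.M22 levels22 ∧
    fixList Spor.M22 (levels22.map fun p => idx ptEnc p.1) = ⊥ :=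
  m24_upper (H := Spor.M22) (pre := [23, 0]) (l := levels22) (O := octadA) (steps := closeA)
    (by decide +kernel) M22_le_M24
    (by simpa [idx_none, idx_zero] using fun σ hσ => (mem_M22_iff.1 hσ).2)

theorem M22_reps : ∀ t ∈ allReps levels22, ∃ σ ∈ Spor.M22, Rep ptEnc σ t := by
  have hrep := reps_genGroup (e := ptEnc) (gens := gens22) (steps := slp22) (levels := levels22)
    (by decide +kernel) (by decide +kernel) (by decide +kernel)
  rwa [M22_cert.1] at hrep

theorem M22_factorization_two : (Nat.card Spor.M22).factorization 2 = 7 := by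
  rw [card_M22, show (443520 : ℕ) = 2 ^ 7 * 3465 by norm_num,
    Nat.factorization_mul (by norm_num) (by norm_num),
    Nat.Prime.factorization_pow Nat.prime_two]
  simp [Nat.factorization_eq_zero_of_not_dvd (by norm_num : ¬ 2 ∣ 3465)]

/-- The elements of orders 7 and 11 and the orders of the normalisers of their subgroups. -/
theorem M22_elements :
    (∃ x g : Spor.M22, orderOf x = 7 ∧ g * x * g⁻¹ = x ^ 2 ∧
      Nat.card (Subgroup.normalizer
        ((Subgroup.zpowers x : Subgroup Spor.M22) : Set Spor.M22)) ≤ 21) ∧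
    (∃ x g : Spor.M22, orderOf x = 11 ∧ g * x * g⁻¹ = x ^ 3 ∧
      Nat.card (Subgroup.normalizer
        ((Subgroup.zpowers x : Subgroup Spor.M22) : Set Spor.M22)) ≤ 55) := by
  constructor
  · obtain ⟨x, hx⟩ := exists_elt (H := Spor.M22) (l := elt22_7) mem22_sound (by decide +kernel)
    obtain ⟨g, hg⟩ := exists_conj_pow mem22_sound (g := pow22_7) (k := 2) hx (by decide +kernel)
    have ho : orderOf x = 7 := orderOf_of_prime_pack (by norm_num) hx (by decide +kernel)
    refine ⟨x, g, ho, hg, ?_⟩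
    obtain ⟨C, m, hC, hdvd, hm, hcard⟩ := normalizer_bound (levels := levels22)
      (by decide +kernel) M22_reps M22_upper.1 M22_upper.2 hx (L := cent22_7) (by decide +kernel)
    have hC' : C ≤ 7 := le_trans hC (le_of_eq (by decide +kernel))
    rw [ho] at hdvd hm
    rw [show Nat.totient 7 = 6 by decide] at hm
    have hm6 : m ≤ 6 := Nat.le_of_dvd (by norm_num) hm
    haveI : Fact (Nat.Prime 7) := ⟨by norm_num⟩
    have hmod := index_normalizer_zpowers_modEq ho (by rw [card_M22]; norm_num)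
    have hidx := Subgroup.card_mul_index (Subgroup.normalizer
      ((Subgroup.zpowers x : Subgroup Spor.M22) : Set Spor.M22))
    rw [card_M22, hcard] at hidx
    rw [hcard]
    have hCm : C = 7 := by
      obtain ⟨t, rfl⟩ := hdvd
      rcases t with _ | _ | t
      · simp at hidx
      · rfl
      · omega
    subst hCm
    unfold Nat.ModEq at hmod
    interval_cases m <;> omega
  · obtain ⟨x, hx⟩ := exists_elt (H := Spor.M22) (l := elt22_11) mem22_sound (by decide +kernel)
    obtain ⟨g, hg⟩ := exists_conj_pow mem22_sound (g := pow22_11) (k := 3) hx (by decide +kernel)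
    have ho : orderOf x = 11 := orderOf_of_prime_pack (by norm_num) hx (by decide +kernel)
    refine ⟨x, g, ho, hg, ?_⟩
    obtain ⟨C, m, hC, hdvd, hm, hcard⟩ := normalizer_bound (levels := levels22)
      (by decide +kernel) M22_reps M22_upper.1 M22_upper.2 hx (L := cent22_11) (by decide +kernel)
    have hC' : C ≤ 11 := le_trans hC (le_of_eq (by decide +kernel))
    rw [ho] at hdvd hm
    rw [show Nat.totient 11 = 10 by decide] at hm
    have hm6 : m ≤ 10 := Nat.le_of_dvd (by norm_num) hm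
    haveI : Fact (Nat.Prime 11) := ⟨by norm_num⟩
    have hmod := index_normalizer_zpowers_modEq ho (by rw [card_M22]; norm_num)
    have hidx := Subgroup.card_mul_index (Subgroup.normalizer
      ((Subgroup.zpowers x : Subgroup Spor.M22) : Set Spor.M22))
    rw [card_M22, hcard] at hidx
    rw [hcard]
    have hCm : C = 11 := by
      obtain ⟨t, rfl⟩ := hdvd
      rcases t with _ | _ | t
      · simp at hidx
      · rfl
      · omega
    subst hCm
    unfold Nat.ModEq at hmod
    interval_cases m <;> omega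

theorem q7_min {u v : ℤ} :
    (7 ∣ 3 * (u + v) - 128 → 24 ≤ 3 * (u ^ 2 + v ^ 2) + 9 * (u - v) ^ 2) ∧
    (7 ∣ 3 * (u + v) - 383 → 24 ≤ 3 * (u ^ 2 + v ^ 2) + 9 * (u - v) ^ 2) ∧
    (7 ∣ 3 * (u + v) - 640 → 12 ≤ 3 * (u ^ 2 + v ^ 2) + 9 * (u - v) ^ 2) := by
  refine ⟨?_, ?_, ?_⟩
  all_goals
    intro h
    by_contra hq
    have h1 : -2 ≤ u ∧ u ≤ 2 ∧ -2 ≤ v ∧ v ≤ 2 := by
      refine ⟨?_, ?_, ?_, ?_⟩ <;> nlinarith
    obtain ⟨a, b, c, d⟩ := h1
    interval_cases u <;> interval_cases v <;> omega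

theorem q11_min {u v : ℤ} (h : 11 ∣ 5 * (u + v) - 383) :
    40 ≤ 5 * (u ^ 2 + v ^ 2) + 25 * (u - v) ^ 2 := by
  by_contra hq
  have h1 : -2 ≤ u ∧ u ≤ 2 ∧ -2 ≤ v ∧ v ≤ 2 := by
    refine ⟨?_, ?_, ?_, ?_⟩ <;> nlinarith
  obtain ⟨a, b, c, d⟩ := h1
  interval_cases u <;> interval_cases v <;> omega

/-- No character degree of M₂₂ is divisible by 128. -/
theorem M22_no_defect_zero (χ : IrrCharacter Spor.M22) : ¬ 128 ∣ charDegree χ.1 := by
  classical
  intro hq
  haveI := Fintype.ofFinite Spor.M22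
  obtain ⟨hdvd, hsq, hd, ⟨k, hk⟩⟩ := degree_facts χ hq
  rw [card_M22] at hdvd hsq
  rw [hk] at hdvd hsq hd
  have hk6 : k ≤ 5 := by nlinarith
  have hne : χ.1 ≠ fun _ => 1 := fun h => by
    rw [h] at hd
    have h' : ((1 : ℕ) : ℂ) = ((128 * k : ℕ) : ℂ) := by simpa using hd
    have h'' := Nat.cast_inj.1 h'
    omega
  obtain ⟨⟨x, g, ho, hg, hN⟩, ⟨y, h, ho', hh, hN'⟩⟩ := M22_elements
  have hχ := Char.irr_isCharacter χ
  obtain ⟨c, hc0, hc⟩ : ∃ c : ℤ, (k = 3 → c = -1) ∧ (k ≠ 3 → c = 0) := by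
    by_cases hk3 : k = 3
    · exact ⟨-1, fun _ => rfl, fun h => absurd hk3 h⟩
    · exact ⟨0, fun h => absurd h hk3, fun _ => rfl⟩
  obtain ⟨m, hm, hm7⟩ := prime_order_bound (p := 7) (by norm_num) hχ c ho (k := 2) (by decide) hg
    hN [(0, 1), (1, 3), (3, 3)] hd (by decide)
  obtain ⟨n, hn, hn11⟩ := prime_order_bound (p := 11) (by norm_num) hχ c ho' (k := 3) (by decide)
    hh hN' [(0, 1), (1, 5), (2, 5)] hd (by decide)
  have htot := orderSum_total hne c hd {7, 11} (by decide)
  rw [Finset.sum_pair (by norm_num)] at htot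
  rw [card_M22] at htot hm7 hn11
  simp only [List.map_cons, List.map_nil, List.sum_cons, List.sum_nil] at hm hm7 hn hn11
  push_cast at hm hm7 hn hn11 htot
  set a := m 0; set u := m 1 - m 0 with hu; set v := m 3 - m 0 with hv
  set u' := n 1 - n 0 with hu'; set v' := n 2 - n 0 with hv'
  have e7 : (21120 : ℝ) * ((3 * (u ^ 2 + v ^ 2) + 9 * (u - v) ^ 2 : ℤ) : ℝ) ≤
      orderSum χ.1 c 7 := by
    have hmR := congrArg (fun z : ℤ => (z : ℝ)) hm
    push_cast at hmR
    rw [← hmR] at hm7
    rw [hu, hv]; push_cast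
    linarith
  have e11 : (8064 : ℝ) * ((5 * (u' ^ 2 + v' ^ 2) + 25 * (u' - v') ^ 2 : ℤ) : ℝ) ≤
      orderSum χ.1 c 11 := by
    have hnR := congrArg (fun z : ℤ => (z : ℝ)) hn
    push_cast at hnR
    rw [← hnR] at hn11
    rw [hu', hv']; push_cast
    linarith
  have key : ((128 * k : ℤ) + c) ^ 2 + 21120 * (3 * (u ^ 2 + v ^ 2) + 9 * (u - v) ^ 2) +
      8064 * (5 * (u' ^ 2 + v' ^ 2) + 25 * (u' - v') ^ 2) ≤ 443520 * (1 + c ^ 2) := by
    rw [← Int.cast_le (R := ℝ)]; push_cast at e7 e11 ⊢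
    linarith
  have hu7 : 7 ∣ 3 * (u + v) - ((128 * k : ℤ) + c) := ⟨-a, by rw [hu, hv]; linarith⟩
  have hq11 : 0 ≤ 5 * (u' ^ 2 + v' ^ 2) + 25 * (u' - v') ^ 2 := by positivity
  interval_cases k
  · norm_num at hdvd
  · obtain rfl := hc (by norm_num)
    norm_num at hu7 key
    have := q7_min.1 hu7
    linarith
  · norm_num at hdvd
  · obtain rfl := hc0 rfl
    norm_num at hu7 key
    have := q7_min.2.1 hu7
    have h11 := q11_min (u := u') (v := v') ⟨-n 0, by rw [hu', hv']; push_cast at hn; linarith⟩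
    linarith
  · norm_num at hdvd
  · obtain rfl := hc (by norm_num)
    norm_num at hu7 key
    have := q7_min.2.2 hu7
    linarith

/-- M₂₂ has one 2-block. -/
theorem M22_one_block {M : Ideal AlgInt} (hM : IsPModular 2 M) (χ ψ : IrrCharacter Spor.M22) :
    SameBlock M χ.1 ψ.1 := by
  refine one_block_criterion hM (fun y hy => ?_) (fun φ => ?_) χ ψ
  · obtain ⟨z, hz, c, hc⟩ := involution_cases (H := Spor.M22) (by norm_num) mem22_sound
      (C := syl22) (by decide +kernel) (k := 7) (by decide +kernel) M22_factorization_two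
      (cs := involConj22) (zs := [invol22_8.z]) (by decide +kernel) (by decide +kernel) y hy
    obtain rfl := List.mem_singleton.1 hz
    exact constrained_of_cert (by norm_num) mem22_sound (levels := levels22) (by decide +kernel)
      M22_reps M22_upper.1 M22_upper.2 (C := invol22_8) (by decide +kernel) y c hc
  · rw [M22_factorization_two]; exact M22_no_defect_zero φ

end Cfsg.Agent.Mathieu
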