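import Cfsg.Agent.Lib.Mathieu.RigidData

/-!
The outer automorphism groups of the Mathieu groups: the chains of `Groups` with the certificates
of `RigidData`.
-/

set_option autoImplicit false
set_option maxRecDepth 20000
set_option maxHeartbeats 1000000

namespace Cfsg.Agent.Mathieu

open Cfsg
open scoped Pointwise

theorem stab_of_cert {G : Subgroup (Equiv.Perm GolayPt)} {gens : List ℕ}
    {steps : List (ℕ × ℕ × ℕ)} {levels : List CertLevel} (hG : genGroup ptEnc gens = G)
    (hgen : gens.all (permOK 24) = true) (hslp : slpOK 24 gens steps = true)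
    (hsub : (allReps levels).all (fun t => (gens ++ steps.map fun s => s.1).contains t) = true)
    (hlev : levelsOK 24 [] levels = true)
    (hup : Upper ptEnc G levels) (hbot : fixList G (levels.map fun p => idx ptEnc p.1) = ⊥) :
    Stab ptEnc G levels :=
  ⟨by norm_num, hlev, fun t ht => hG ▸ reps_genGroup hgen hslp hsub t ht, hup, hbot⟩

theorem stab24 : Stab ptEnc M24 levels24 := by
  have h := m24_upper (H := M24) (pre := []) (l := levels24) (O := octadA) (steps := closeA)
    (by decide +kernel) le_rfl (by simp)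
  exact stab_of_cert M24_cert.1 (steps := slp24) (by decide +kernel) (by decide +kernel)
    (by decide +kernel) (by decide +kernel) h.1 h.2

theorem stab23 : Stab ptEnc Spor.M23 levels23 := by
  have h := m24_upper (H := Spor.M23) (pre := [23]) (l := levels23) (O := octadA) (steps := closeA)
    (by decide +kernel) M23_le_M24 (by simpa [idx_none] using fun σ hσ => (mem_M23_iff.1 hσ).2)
  exact stab_of_cert M23_cert.1 (steps := slp23) (by decide +kernel) (by decide +kernel)
    (by decide +kernel) (by decide +kernel) h.1 h.2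

theorem stab22 : Stab ptEnc Spor.M22 levels22 := by
  have h := m24_upper (H := Spor.M22) (pre := [23, 0]) (l := levels22) (O := octadA)
    (steps := closeA) (by decide +kernel) M22_le_M24
    (by simpa [idx_none, idx_zero] using fun σ hσ => (mem_M22_iff.1 hσ).2)
  exact stab_of_cert M22_cert.1 (steps := slp22) (by decide +kernel) (by decide +kernel)
    (by decide +kernel) (by decide +kernel) h.1 h.2

theorem stab12 : Stab ptEnc Spor.M12 levels12 := by
  refine stab_of_cert M12_cert.1 (steps := slp12) (by decide +kernel) (by decide +kernel)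
    (by decide +kernel) (by decide +kernel) ?_ ?_
  · refine upper_full _ [] dodMask _ (by decide +kernel) (by simp) fun σ hσ => ?_
    rw [← squareDodecad_eq]; exact (mem_M12_iff.1 hσ).2
  · rw [eq_bot_iff]
    intro σ hσ
    rw [mem_fixList] at hσ
    rw [Subgroup.mem_bot]
    refine eq_one_of_fix_five (mem_M12_iff.1 hσ.1).1 (fun i hi => ?_) (mem_M12_iff.1 hσ.1).2
    have : i ∈ levels12.map fun p => p.1 := by revert i; decide +kernel
    obtain ⟨p, hp, rfl⟩ := List.mem_map.1 this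
    exact hσ.2 _ (List.mem_map.2 ⟨p, hp, rfl⟩)

theorem stab11 : Stab ptEnc Spor.M11 levels11 := by
  refine stab_of_cert M11_cert.1 (steps := slp11) (by decide +kernel) (by decide +kernel)
    (by decide +kernel) (by decide +kernel) ?_ ?_
  · refine upper_full _ [0] dodMask _ (by decide +kernel)
      (by simpa [idx_zero] using fun σ hσ => (mem_M11_iff.1 hσ).2) fun σ hσ => ?_
    rw [← squareDodecad_eq]; exact (mem_M12_iff.1 (mem_M11_iff.1 hσ).1).2
  · rw [eq_bot_iff]
    intro σ hσ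
    rw [mem_fixList, mem_M11_iff, mem_M12_iff] at hσ
    rw [Subgroup.mem_bot]
    refine eq_one_of_fix_five hσ.1.1.1 (fun i hi => ?_) hσ.1.1.2
    have : i = 0 ∨ i ∈ levels11.map fun p => p.1 := by revert i; decide +kernel
    rcases this with rfl | h
    · rw [idx_zero]; exact hσ.1.2
    · obtain ⟨p, hp, rfl⟩ := List.mem_map.1 h
      exact hσ.2 _ (List.mem_map.2 ⟨p, hp, rfl⟩)

theorem exists_rep_M24 {l : ℕ} (h : (permOK 24 l && presCode l) = true) :
    ∃ σ ∈ M24, Rep ptEnc σ l := by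
  rw [Bool.and_eq_true] at h
  obtain ⟨σ, hσ⟩ := exists_rep (e := ptEnc) h.1
  exact ⟨σ, mem_M24_of_rep hσ h.2, hσ⟩

/-- Membership of the packed elements of a certificate in M24. -/
theorem rigid_mem24 : ∀ l ∈ [rigid24.x, rigid24.y, rigid24.t], ∃ σ ∈ M24, Rep ptEnc σ l := by
  intro l hl
  refine exists_rep_M24 ?_
  revert l; decide +kernel

theorem rigid_mem23 :
    ∀ l ∈ [rigid23.x, rigid23.y, rigid23.t], ∃ σ ∈ Spor.M23, Rep ptEnc σ l := by
  intro l hl
  have hc : (permOK 24 l && presCode l) = true ∧ app l 23 = 23 := by revert l; decide +kernel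
  obtain ⟨σ, hσ, hr⟩ := exists_rep_M24 hc.1
  refine ⟨σ, mem_M23_iff.2 ⟨hσ, ?_⟩, hr⟩
  have h1 := hr.apply_idx (show 23 < 24 by norm_num)
  rwa [hc.2, idx_none] at h1

theorem rigid_mem22 :
    ∀ l ∈ [rigid22.x, rigid22.y, rigid22.t], ∃ σ ∈ Spor.M22, Rep ptEnc σ l := by
  intro l hl
  have hc : (permOK 24 l && presCode l) = true ∧ app l 23 = 23 ∧ app l 0 = 0 := by
    revert l; decide +kernel
  obtain ⟨σ, hσ, hr⟩ := exists_rep_M24 hc.1
  have h1 := hr.apply_idx (show 23 < 24 by norm_num)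
  have h2 := hr.apply_idx (show 0 < 24 by norm_num)
  rw [hc.2.1, idx_none] at h1
  rw [hc.2.2, idx_zero] at h2
  exact ⟨σ, mem_M22_iff.2 ⟨hσ, h1, h2⟩, hr⟩

theorem rigid_mem12 :
    ∀ l ∈ [rigid12.x, rigid12.y, rigid12.t], ∃ σ ∈ Spor.M12, Rep ptEnc σ l := by
  intro l hl
  have hc : (permOK 24 l && presCode l) = true ∧ mapsMask l dodMask dodMask = true := by
    revert l; decide +kernel
  obtain ⟨σ, hσ, hr⟩ := exists_rep_M24 hc.1
  refine ⟨σ, mem_M12_iff.2 ⟨hσ, ?_⟩, hr⟩
  rw [squareDodecad_eq, ← mapsMask_iff hr]; exact hc.2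

theorem rigid_mem11 :
    ∀ l ∈ [rigid11.x, rigid11.y, rigid11.t], ∃ σ ∈ Spor.M11, Rep ptEnc σ l := by
  intro l hl
  have hc : (permOK 24 l && presCode l) = true ∧ mapsMask l dodMask dodMask = true ∧
      app l 0 = 0 := by revert l; decide +kernel
  obtain ⟨σ, hσ, hr⟩ := exists_rep_M24 hc.1
  have h0 := hr.apply_idx (show 0 < 24 by norm_num)
  rw [hc.2.2, idx_zero] at h0
  refine ⟨σ, mem_M11_iff.2 ⟨mem_M12_iff.2 ⟨hσ, ?_⟩, h0⟩, hr⟩
  rw [squareDodecad_eq, ← mapsMask_iff hr]; exact hc.2.1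

theorem exists_delta {dl di : ℕ} (h : (permOK 24 dl && presCode dl) = true)
    (h' : permOK 24 di = true) (hinv : isId 24 (packMul 24 dl di) = true) :
    ∃ δ ∈ M24, Rep ptEnc δ dl ∧ Rep ptEnc δ⁻¹ di := by
  obtain ⟨δ, hδ, hr⟩ := exists_rep_M24 h
  obtain ⟨τ, hτ⟩ := exists_rep (e := ptEnc) h'
  have h1 := (rep_packMul hr hτ).eq_one hinv
  exact ⟨δ, hδ, hr, eq_inv_of_mul_eq_one_right h1 ▸ hτ⟩

theorem map_conj_eq {G : Subgroup (Equiv.Perm GolayPt)} {δ : Equiv.Perm GolayPt}
    (h : ∀ σ ∈ G, δ * σ * δ⁻¹ ∈ G) : G.map (MulAut.conj δ).toMonoidHom = G := by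
  refine Subgroup.eq_of_le_of_card_ge ?_ ?_
  · rintro _ ⟨σ, hσ, rfl⟩; exact h σ hσ
  · rw [Subgroup.card_map_of_injective (MulAut.conj δ).injective]

/-- Swapping the two fixed points normalises M22. -/
theorem conj_mem_M22 {δ σ : Equiv.Perm GolayPt} (hδ : δ ∈ M24) (h1 : δ none = some 0)
    (h2 : δ (some 0) = none) (hσ : σ ∈ Spor.M22) : δ * σ * δ⁻¹ ∈ Spor.M22 := by
  obtain ⟨hσ, hn, h0⟩ := mem_M22_iff.1 hσ
  have e1 : δ⁻¹ none = some 0 := by rw [Equiv.Perm.inv_eq_iff_eq, h2]
  have e2 : δ⁻¹ (some 0) = none := by rw [Equiv.Perm.inv_eq_iff_eq, h1]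
  refine mem_M22_iff.2 ⟨M24.mul_mem (M24.mul_mem hδ hσ) (M24.inv_mem hδ), ?_, ?_⟩
  · rw [Equiv.Perm.mul_apply, Equiv.Perm.mul_apply, e1, h0, h2]
  · rw [Equiv.Perm.mul_apply, Equiv.Perm.mul_apply, e2, hn, h1]

/-- An element exchanging the dodecad and its complement normalises M12. -/
theorem conj_mem_M12 {δ σ : Equiv.Perm GolayPt} (hδ : δ ∈ M24)
    (h : δ • ptsOf dodMask = ptsOf ((2 ^ 24 - 1) ^^^ dodMask)) (hσ : σ ∈ Spor.M12) :
    δ * σ * δ⁻¹ ∈ Spor.M12 := by
  obtain ⟨hσ, hD⟩ := mem_M12_iff.1 hσ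
  refine mem_M12_iff.2 ⟨M24.mul_mem (M24.mul_mem hδ hσ) (M24.inv_mem hδ), ?_⟩
  rw [squareDodecad_eq] at hD ⊢
  have h2 : δ • ptsOf ((2 ^ 24 - 1) ^^^ dodMask) = ptsOf dodMask := by
    conv_lhs => rw [ptsOf_xor, smul_symmDiff_pts, smul_full, h]
    rw [← ptsOf_xor, ← Nat.xor_assoc, Nat.xor_self, Nat.zero_xor]
  have h3 : δ⁻¹ • ptsOf dodMask = ptsOf ((2 ^ 24 - 1) ^^^ dodMask) := by
    rw [inv_smul_eq_iff, h2]
  rw [mul_smul, mul_smul, h3, ptsOf_xor, smul_symmDiff_pts, smul_full, hD, ← ptsOf_xor, h2]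

theorem out_M11 : Nat.card (Out Spor.M11) = 1 :=
  outer_card_eq_one stab11 M11_cert.1 rigid11 (by norm_num [rigid11])
    (by rw [card_M11]; norm_num [rigid11]) rigid_mem11 (by decide +kernel) (by decide +kernel)
    (by decide +kernel) rfl

theorem out_M23 : Nat.card (Out Spor.M23) = 1 :=
  outer_card_eq_one stab23 M23_cert.1 rigid23 (by norm_num [rigid23])
    (by rw [card_M23]; norm_num [rigid23]) rigid_mem23 (by decide +kernel) (by decide +kernel)
    (by decide +kernel) rfl

theorem out_M24 : Nat.card (Out M24) = 1 :=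
  outer_card_eq_one stab24 M24_cert.1 rigid24 (by norm_num [rigid24])
    (by rw [card_M24]; norm_num [rigid24]) rigid_mem24 (by decide +kernel) (by decide +kernel)
    (by decide +kernel) rfl

theorem out_M22 : Nat.card (Out Spor.M22) = 2 := by
  obtain ⟨δ, hδ, hr, hri⟩ := exists_delta (dl := dl22) (di := di22) (by decide +kernel)
    (by decide +kernel) (by decide +kernel)
  have h1 := hr.apply_idx (show 23 < 24 by norm_num)
  have h2 := hr.apply_idx (show 0 < 24 by norm_num)
  rw [show app dl22 23 = 0 by decide +kernel, idx_none, idx_zero] at h1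
  rw [show app dl22 0 = 23 by decide +kernel, idx_none, idx_zero] at h2
  exact outer_card_eq_two stab22 M22_cert.1 rigid22 (by norm_num [rigid22])
    (by rw [card_M22]; norm_num [rigid22]) rigid_mem22 (by decide +kernel) (by decide +kernel)
    (by decide +kernel) rfl hr hri (map_conj_eq fun σ hσ => conj_mem_M22 hδ h1 h2 hσ)
    (xd := xd22) (td := td22) (by decide +kernel) (by decide +kernel) (by decide +kernel)

theorem out_M12 : Nat.card (Out Spor.M12) = 2 := by
  obtain ⟨δ, hδ, hr, hri⟩ := exists_delta (dl := dl12) (di := di12) (by decide +kernel)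
    (by decide +kernel) (by decide +kernel)
  have h : δ • ptsOf dodMask = ptsOf ((2 ^ 24 - 1) ^^^ dodMask) :=
    (mapsMask_iff hr).1 (by decide +kernel)
  exact outer_card_eq_two stab12 M12_cert.1 rigid12 (by norm_num [rigid12])
    (by rw [card_M12]; norm_num [rigid12]) rigid_mem12 (by decide +kernel) (by decide +kernel)
    (by decide +kernel) rfl hr hri (map_conj_eq fun σ hσ => conj_mem_M12 hδ h hσ)
    (xd := xd12) (td := td12) (by decide +kernel) (by decide +kernel) (by decide +kernel)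

end Cfsg.Agent.Mathieu
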