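import Cfsg.Agent.Lib.Mathieu.FreeClassCheck
import Cfsg.Agent.Lib.Mathieu.Stab.Labelled
import Cfsg.Agent.Lib.Mathieu.Sextets

/-!
Elements of orders 2 and 3 of `M₂₄`: the possible numbers of fixed points, and one conjugacy class
for each of those without fixed points.
-/

set_option autoImplicit false
set_option maxRecDepth 20000

namespace Cfsg.Agent.Mathieu

open Cfsg
open scoped Pointwise

theorem fixCount_eq {g : Equiv.Perm GolayPt} {l : ℕ} (h : Rep ptEnc g l) :
    (Finset.univ.filter fun p => g p = p).card = fixCount l := by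
  classical
  rw [fixCount, ← List.toFinset_card_of_nodup (List.Nodup.filter _ List.nodup_range)]
  refine Finset.card_nbij (fun p => (ptEnc p).val) ?_ ?_ ?_
  · intro p hp
    simp only [Finset.coe_filter, Finset.mem_univ, true_and, Set.mem_ofPred_eq] at hp
    simp only [List.coe_toFinset, List.mem_filter, List.mem_range, beq_iff_eq, Set.mem_ofPred_eq]
    refine ⟨Fin.isLt _, ?_⟩
    have := h p
    rw [hp] at this
    exact this.symm
  · exact fun p _ q _ e => ptEnc.injective (Fin.ext e)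
  · intro i hi
    simp only [List.coe_toFinset, List.mem_filter, List.mem_range, beq_iff_eq, Set.mem_ofPred_eq] at hi
    refine ⟨idx ptEnc i, ?_, idx_val hi.1⟩
    simp only [Finset.coe_filter, Finset.mem_univ, true_and, Set.mem_ofPred_eq]
    rw [h.apply_idx hi.1, hi.2]

theorem octad_avoiding {a b : GolayPt} (hab : a ≠ b) : ∃ o ∈ octads, a ∈ o ∧ b ∉ o := by
  obtain ⟨σ, hσ, e1, e2⟩ := M24_exists_map_pair
    (p := idx ptEnc 23) (q := idx ptEnc 4) (by decide +kernel) hab
  refine ⟨σ • ptsOf octadA, M24_smul_octad hσ octadA_mem, ?_, fun h => ?_⟩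
  · rw [← e1]; exact apply_mem_smul_pts.2 (by decide +kernel)
  · rw [← e2, apply_mem_smul_pts] at h
    exact absurd h (by decide +kernel)

/-- No element of `M₂₄` moves only points among three. -/
theorem exists_moved_outside {g : Equiv.Perm GolayPt} (hg : g ∈ M24) {a : GolayPt} (ha : g a ≠ a)
    {S : Finset GolayPt} (hS : S.card ≤ 3) : ∃ b, b ∉ S ∧ g b ≠ b := by
  classical
  by_contra hall
  push Not at hall
  obtain ⟨o, ho, hao, hbo⟩ := octad_avoiding (Ne.symm ha)
  have hsub : o \ S ⊆ g • o ∩ o := fun p hp => by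
    rw [Finset.mem_sdiff] at hp
    refine Finset.mem_inter.2 ⟨?_, hp.1⟩
    rw [← hall p hp.2]
    exact apply_mem_smul_pts.2 hp.1
  have h5 : 5 ≤ (g • o ∩ o).card := by
    have h1 := Finset.card_le_card hsub
    have h2 := Finset.le_card_sdiff S o
    have := octad_card ho
    omega
  have := octad_eq_of_five_le (M24_smul_octad hg ho) ho h5
  exact hbo (this ▸ apply_mem_smul_pts.2 hao)

/-- An element with given images of the first five points is such an element times a fixer. -/
theorem exists_rep_five {g : Equiv.Perm GolayPt} (hg : g ∈ M24) {l₀ : ℕ} (hp : permOK 24 l₀ = true)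
    (hc : presCode l₀ = true) (h : ∀ i, i < 5 → (ptEnc (g (idx ptEnc i))).val = app l₀ i) :
    ∃ s ∈ fiveList, Rep ptEnc g (packMul 24 l₀ s) := by
  have hrep := rep_decode hp
  obtain ⟨s, hs, hsr⟩ := mem_fiveList (σ := (decode l₀)⁻¹ * g)
    (M24.mul_mem (M24.inv_mem (mem_M24_of_rep hrep hc)) hg) fun i hi => by
      rw [Equiv.Perm.mul_apply, Equiv.Perm.inv_def, Equiv.symm_apply_eq,
        hrep.apply_idx (by omega), ← h i hi, idx_self]
  refine ⟨s, hs, ?_⟩
  have := rep_packMul hrep hsr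
  rwa [mul_inv_cancel_left] at this

theorem pattern_spec {L pre : List ℕ} {start : ℕ} (h : fivePattern L pre start = true) {k : ℕ}
    (hk : k < L.length) : permOK 24 (L.getD k 0) = true ∧ presCode (L.getD k 0) = true ∧
      ∀ i, i < 5 → app (L.getD k 0) i = (pre ++ [start + k]).getD i 0 := by
  simp only [fivePattern, List.all_eq_true, List.mem_range, Bool.and_eq_true, beq_iff_eq] at h
  exact ⟨(h k hk).1.1, (h k hk).1.2, (h k hk).2⟩

/-- Five distinct points sent to `0, …, 4`. -/
theorem exists_to_firstFive (p : Fin 5 → GolayPt) (hp : Function.Injective p) :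
    ∃ σ ∈ M24, ∀ i, σ (p i) = firstFive i :=
  M24_exists_map le_rfl ⟨p, hp⟩ firstFive

theorem normal_involution {t : Equiv.Perm GolayPt} (ht : t ∈ M24) (h2 : t * t = 1) (hne : t ≠ 1) :
    ∃ σ ∈ M24, ∃ g ∈ fiveTwo, ∃ s ∈ fiveList, Rep ptEnc (σ * t * σ⁻¹) (packMul 24 g s) := by
  classical
  have htt : ∀ x, t (t x) = x := fun x => by rw [← Equiv.Perm.mul_apply, h2]; rfl
  obtain ⟨a, ha⟩ : ∃ a, t a ≠ a := by
    by_contra h
    push Not at h
    exact hne (Equiv.ext h)
  obtain ⟨b, hbS, hb⟩ := exists_moved_outside ht ha (S := {a, t a})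
    (le_trans Finset.card_le_two (by norm_num))
  simp only [Finset.mem_insert, Finset.mem_singleton, not_or] at hbS
  obtain ⟨c, hc⟩ : ({a, t a, b, t b} : Finset GolayPt)ᶜ.Nonempty := Finset.card_pos.1 (by
    have h4 : ({a, t a, b, t b} : Finset GolayPt).card ≤ 4 := Finset.card_le_four
    rw [Finset.card_compl, ← Finset.card_univ, card_univ_pts]
    omega)
  simp only [Finset.mem_compl, Finset.mem_insert, Finset.mem_singleton, not_or] at hc
  obtain ⟨hca, hcta, hcb, hctb⟩ := hc
  have n1 : t b ≠ a := fun e => hbS.2 (by rw [← e, htt])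
  have n2 : t b ≠ t a := fun e => hbS.1 (t.injective e)
  obtain ⟨σ, hσ, hσp⟩ := exists_to_firstFive ![a, t a, b, t b, c] (by
    intro i j e
    fin_cases i <;> fin_cases j <;>
      simp [ha, ha.symm, hb, hb.symm, hbS.1, Ne.symm hbS.1, hbS.2, Ne.symm hbS.2, hca, Ne.symm hca,
        hcta, Ne.symm hcta, hcb, Ne.symm hcb, hctb, Ne.symm hctb, n1, n1.symm, n2, n2.symm] at e ⊢)
  set u := σ * t * σ⁻¹ with hu
  have hum : u ∈ M24 := M24.mul_mem (M24.mul_mem hσ ht) (M24.inv_mem hσ)
  have hux : ∀ x, u (σ x) = σ (t x) := fun x => by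
    simp [hu, Equiv.Perm.mul_apply]
  have p0 : σ a = idx ptEnc 0 := hσp 0
  have p1 : σ (t a) = idx ptEnc 1 := hσp 1
  have p2 : σ b = idx ptEnc 2 := hσp 2
  have p3 : σ (t b) = idx ptEnc 3 := hσp 3
  have p4 : σ c = idx ptEnc 4 := hσp 4
  have h0 : u (idx ptEnc 0) = idx ptEnc 1 := by rw [← p0, hux, p1]
  have h1 : u (idx ptEnc 1) = idx ptEnc 0 := by rw [← p1, hux, htt, p0]
  have h2' : u (idx ptEnc 2) = idx ptEnc 3 := by rw [← p2, hux, p3]
  have h3 : u (idx ptEnc 3) = idx ptEnc 2 := by rw [← p3, hux, htt, p2]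
  have hf : 4 ≤ (ptEnc (u (idx ptEnc 4))).val := by
    by_contra hlt
    push Not at hlt
    have e : ∀ j, j < 5 → (ptEnc (u (idx ptEnc 4))).val = j → u (idx ptEnc 4) = idx ptEnc j :=
      fun j _ hj => by rw [← hj, idx_self]
    have hinj : ∀ i j, i < 24 → j < 24 → idx ptEnc i = idx ptEnc j → i = j := fun i j hi hj h => by
      rw [← idx_val (e := ptEnc) hi, h, idx_val hj]
    rcases (show (ptEnc (u (idx ptEnc 4))).val = 0 ∨ (ptEnc (u (idx ptEnc 4))).val = 1 ∨
        (ptEnc (u (idx ptEnc 4))).val = 2 ∨ (ptEnc (u (idx ptEnc 4))).val = 3 by omega) with h | h | h | h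
    · exact absurd (hinj _ _ (by norm_num) (by norm_num) (u.injective ((e 0 (by norm_num) h).trans h1.symm)))
        (by norm_num)
    · exact absurd (hinj _ _ (by norm_num) (by norm_num) (u.injective ((e 1 (by norm_num) h).trans h0.symm)))
        (by norm_num)
    · exact absurd (hinj _ _ (by norm_num) (by norm_num) (u.injective ((e 2 (by norm_num) h).trans h3.symm)))
        (by norm_num)
    · exact absurd (hinj _ _ (by norm_num) (by norm_num) (u.injective ((e 3 (by norm_num) h).trans h2'.symm)))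
        (by norm_num)
  have hp := fiveTwo_pattern
  simp only [Bool.and_eq_true, beq_iff_eq] at hp
  obtain ⟨⟨⟨hpat, hlen⟩, -⟩, -⟩ := hp
  set k := (ptEnc (u (idx ptEnc 4))).val - 4 with hk
  have hk20 : k < fiveTwo.length := by
    have := (ptEnc (u (idx ptEnc 4))).isLt
    omega
  obtain ⟨gp, gc, gi⟩ := pattern_spec hpat hk20
  obtain ⟨s, hs, hrep⟩ := exists_rep_five hum gp gc fun i hi => by
    rw [gi i hi]
    interval_cases i
    · rw [h0, idx_val (by norm_num)]; rfl
    · rw [h1, idx_val (by norm_num)]; rfl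
    · rw [h2', idx_val (by norm_num)]; rfl
    · rw [h3, idx_val (by norm_num)]; rfl
    · show _ = 4 + k
      omega
  refine ⟨σ, hσ, _, ?_, s, hs, hrep⟩
  rw [List.getD_eq_getElem _ _ hk20]
  exact List.getElem_mem _

theorem normal_three {t : Equiv.Perm GolayPt} (ht : t ∈ M24) (h3 : t * (t * t) = 1) (hne : t ≠ 1) :
    ∃ σ ∈ M24, ∃ g ∈ fiveThree, ∃ s ∈ fiveList, Rep ptEnc (σ * t * σ⁻¹) (packMul 24 g s) := by
  classical
  have httt : ∀ x, t (t (t x)) = x := fun x => by
    show (t * (t * t)) x = x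
    rw [h3]; rfl
  obtain ⟨a, ha⟩ : ∃ a, t a ≠ a := by
    by_contra h
    push Not at h
    exact hne (Equiv.ext h)
  obtain ⟨b, hbS, hb⟩ := exists_moved_outside ht ha (S := {a, t a, t (t a)}) Finset.card_le_three
  simp only [Finset.mem_insert, Finset.mem_singleton, not_or] at hbS
  have m1 : t (t a) ≠ a := fun e => ha (by conv_lhs => rw [← e, httt])
  have m2 : t (t a) ≠ t a := fun e => ha (t.injective e)
  have n1 : t b ≠ a := fun e => hbS.2.2 (by rw [← e, httt])
  have n2 : t b ≠ t a := fun e => hbS.1 (t.injective e)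
  have n3 : t b ≠ t (t a) := fun e => hbS.2.1 (t.injective e)
  obtain ⟨σ, hσ, hσp⟩ := exists_to_firstFive ![a, t a, t (t a), b, t b] (by
    intro i j e
    fin_cases i <;> fin_cases j <;>
      simp [ha, ha.symm, hb, hb.symm, m1, m1.symm, m2, m2.symm, hbS.1, Ne.symm hbS.1, hbS.2.1,
        Ne.symm hbS.2.1, hbS.2.2, Ne.symm hbS.2.2, n1, n1.symm, n2, n2.symm, n3, n3.symm] at e ⊢)
  set u := σ * t * σ⁻¹ with hu
  have hum : u ∈ M24 := M24.mul_mem (M24.mul_mem hσ ht) (M24.inv_mem hσ)
  have hux : ∀ x, u (σ x) = σ (t x) := fun x => by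
    simp [hu, Equiv.Perm.mul_apply]
  have p0 : σ a = idx ptEnc 0 := hσp 0
  have p1 : σ (t a) = idx ptEnc 1 := hσp 1
  have p2 : σ (t (t a)) = idx ptEnc 2 := hσp 2
  have p3 : σ b = idx ptEnc 3 := hσp 3
  have p4 : σ (t b) = idx ptEnc 4 := hσp 4
  have h0 : u (idx ptEnc 0) = idx ptEnc 1 := by rw [← p0, hux, p1]
  have h1 : u (idx ptEnc 1) = idx ptEnc 2 := by rw [← p1, hux, p2]
  have h2' : u (idx ptEnc 2) = idx ptEnc 0 := by rw [← p2, hux, httt, p0]
  have h3' : u (idx ptEnc 3) = idx ptEnc 4 := by rw [← p3, hux, p4]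
  have hf : 5 ≤ (ptEnc (u (idx ptEnc 4))).val := by
    by_contra hlt
    push Not at hlt
    have e : ∀ j, (ptEnc (u (idx ptEnc 4))).val = j → σ (t (t b)) = idx ptEnc j := fun j hj => by
      rw [← hux, p4, ← hj, idx_self]
    rcases (show (ptEnc (u (idx ptEnc 4))).val = 0 ∨ (ptEnc (u (idx ptEnc 4))).val = 1 ∨
        (ptEnc (u (idx ptEnc 4))).val = 2 ∨ (ptEnc (u (idx ptEnc 4))).val = 3 ∨
        (ptEnc (u (idx ptEnc 4))).val = 4 by omega) with h | h | h | h | h
    · have := σ.injective ((e 0 h).trans p0.symm)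
      exact hbS.2.1 (by rw [← httt b, this])
    · have := σ.injective ((e 1 h).trans p1.symm)
      exact n1 (t.injective this)
    · have := σ.injective ((e 2 h).trans p2.symm)
      exact hbS.1 (t.injective (t.injective this))
    · have := σ.injective ((e 3 h).trans p3.symm)
      exact hb (by conv_lhs => rw [← this, httt])
    · have := σ.injective ((e 4 h).trans p4.symm)
      exact hb (t.injective this)
  have hp := fiveTwo_pattern
  simp only [Bool.and_eq_true, beq_iff_eq] at hp
  obtain ⟨⟨-, hpat⟩, hlen⟩ := hp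
  set k := (ptEnc (u (idx ptEnc 4))).val - 5 with hk
  have hk19 : k < fiveThree.length := by
    have := (ptEnc (u (idx ptEnc 4))).isLt
    omega
  obtain ⟨gp, gc, gi⟩ := pattern_spec hpat hk19
  obtain ⟨s, hs, hrep⟩ := exists_rep_five hum gp gc fun i hi => by
    rw [gi i hi]
    interval_cases i
    · rw [h0, idx_val (by norm_num)]; rfl
    · rw [h1, idx_val (by norm_num)]; rfl
    · rw [h2', idx_val (by norm_num)]; rfl
    · rw [h3', idx_val (by norm_num)]; rfl
    · show _ = 5 + k
      omega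
  refine ⟨σ, hσ, _, ?_, s, hs, hrep⟩
  rw [List.getD_eq_getElem _ _ hk19]
  exact List.getElem_mem _

theorem fix_conj (σ g : Equiv.Perm GolayPt) :
    (Finset.univ.filter fun p => (σ * g * σ⁻¹) p = p).card =
      (Finset.univ.filter fun p => g p = p).card := by
  classical
  refine (Finset.card_bij (fun p _ => σ p) (fun p hp => ?_) (fun p _ q _ e => σ.injective e)
    fun q hq => ⟨σ⁻¹ q, ?_, σ.apply_symm_apply q⟩).symm
  · simp only [Finset.mem_filter, Finset.mem_univ, true_and] at hp ⊢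
    simp [Equiv.Perm.mul_apply, hp]
  · simp only [Finset.mem_filter, Finset.mem_univ, true_and] at hq ⊢
    have := congrArg σ.symm hq
    simpa [Equiv.Perm.mul_apply, Equiv.Perm.inv_def] using this

theorem freeConj_spec {c : ℕ} (hc : c ∈ invFree :: threeFree :: (invFreeConj ++ threeFreeConj)) :
    decode c ∈ M24 ∧ Rep ptEnc (decode c) c := by
  have h := List.all_eq_true.1 freeConj_mem c hc
  simp only [Bool.and_eq_true] at h
  exact ⟨mem_M24_of_rep (rep_decode h.1) h.2, rep_decode h.1⟩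

theorem class_of_conj {t σ : Equiv.Perm GolayPt} (hσ : σ ∈ M24) {l r c : ℕ}
    (hl : Rep ptEnc (σ * t * σ⁻¹) l) (hr : Rep ptEnc (decode r) r) (hcM : decode c ∈ M24)
    (hc : Rep ptEnc (decode c) c)
    (he : samePack 24 (packMulS 24 c r) (packMulS 24 l c) = true) :
    ∃ k ∈ M24, t = k * decode r * k⁻¹ := by
  rw [packMulS_eq, packMulS_eq] at he
  have e : decode c * decode r = σ * t * σ⁻¹ * decode c :=
    ((rep_packMul hc hr).of_same he).unique (rep_packMul hl hc)
  refine ⟨σ⁻¹ * decode c, M24.mul_mem (M24.inv_mem hσ) hcM, ?_⟩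
  rw [show σ⁻¹ * decode c * decode r = σ⁻¹ * (decode c * decode r) from mul_assoc _ _ _, e]
  group

theorem involution_fix {t : Equiv.Perm GolayPt} (ht : t ∈ M24) (h2 : t * t = 1) (hne : t ≠ 1) :
    (Finset.univ.filter fun p => t p = p).card = 8 ∨
    ((Finset.univ.filter fun p => t p = p).card = 0 ∧
      ∃ k ∈ M24, t = k * decode invFree * k⁻¹) := by
  obtain ⟨σ, hσ, g, hg, s, hs, hrep⟩ := normal_involution ht h2 hne
  have h := List.all_eq_true.1 (List.all_eq_true.1 two_classes g hg) s hs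
  rw [force_eq, packMulS_eq] at h
  simp only [isIdS, force_eq, packMulS_eq, Bool.or_eq_true, Bool.not_eq_true', Bool.and_eq_true,
    beq_iff_eq, List.any_eq_true] at h
  rw [← fix_conj σ t, fixCount_eq hrep]
  rcases h with (h | h) | ⟨h0, c, hc, he⟩
  · exfalso
    have hsq : σ * t * σ⁻¹ * (σ * t * σ⁻¹) = 1 := by
      rw [show σ * t * σ⁻¹ * (σ * t * σ⁻¹) = σ * (t * t) * σ⁻¹ by group, h2]
      group
    have := (rep_packMul hrep hrep)
    rw [hsq] at this
    refine Bool.false_ne_true (h.symm.trans ?_)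
    simp only [isId, List.all_eq_true, List.mem_range, beq_iff_eq]
    intro i hi
    have h' := this (idx ptEnc i)
    rw [idx_val hi] at h'
    rw [← h', Equiv.Perm.one_apply, idx_val hi]
  · exact Or.inl h
  · obtain ⟨hcM, hcr⟩ := freeConj_spec (c := c) (by simp [hc])
    exact Or.inr ⟨h0, class_of_conj hσ hrep (freeConj_spec (c := invFree) (by simp)).2 hcM hcr
      (by rw [packMulS_eq, packMulS_eq]; exact he)⟩

theorem order_three_fix {t : Equiv.Perm GolayPt} (ht : t ∈ M24) (h3 : t * (t * t) = 1) (hne : t ≠ 1) :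
    (Finset.univ.filter fun p => t p = p).card = 6 ∨
    ((Finset.univ.filter fun p => t p = p).card = 0 ∧
      ∃ k ∈ M24, t = k * decode threeFree * k⁻¹) := by
  obtain ⟨σ, hσ, g, hg, s, hs, hrep⟩ := normal_three ht h3 hne
  have h := List.all_eq_true.1 (List.all_eq_true.1 three_classes g hg) s hs
  rw [force_eq, packMulS_eq] at h
  simp only [isIdS, force_eq, packMulS_eq, Bool.or_eq_true, Bool.not_eq_true', Bool.and_eq_true,
    beq_iff_eq, List.any_eq_true] at h
  rw [← fix_conj σ t, fixCount_eq hrep]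
  rcases h with (h | h) | ⟨h0, c, hc, he⟩
  · exfalso
    have hsq : σ * t * σ⁻¹ * (σ * t * σ⁻¹ * (σ * t * σ⁻¹)) = 1 := by
      rw [show σ * t * σ⁻¹ * (σ * t * σ⁻¹ * (σ * t * σ⁻¹)) = σ * (t * (t * t)) * σ⁻¹ by group, h3]
      group
    have := rep_packMul hrep (rep_packMul hrep hrep)
    rw [hsq] at this
    refine Bool.false_ne_true (h.symm.trans ?_)
    simp only [isId, List.all_eq_true, List.mem_range, beq_iff_eq]
    intro i hi
    have h' := this (idx ptEnc i)
    rw [idx_val hi] at h'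
    rw [← h', Equiv.Perm.one_apply, idx_val hi]
  · exact Or.inl h
  · obtain ⟨hcM, hcr⟩ := freeConj_spec (c := c) (by simp [hc])
    exact Or.inr ⟨h0, class_of_conj hσ hrep (freeConj_spec (c := threeFree) (by simp)).2 hcM hcr
      (by rw [packMulS_eq, packMulS_eq]; exact he)⟩

end Cfsg.Agent.Mathieu
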