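import Cfsg.Agent.Lib.Mathieu.SylowCert

/-!
Certificate data for the class of elements of order 3 of M22: a Sylow 3-subgroup, a representative, conjugators
(checked in `Cfsg.Agent.Lib.Mathieu.M22Three`).
-/

set_option autoImplicit false

namespace Cfsg.Agent.Mathieu

/-- A Sylow 3-subgroup of M₂₂ (only the group part of the certificate is used). -/
def syl22Three : SubgroupCert where
  gens := [0x170e1510160614111213050a0d0709080c0f0b0204030100, 0x1710090b1406050d12111607130c08150a0f0e0403020100]
  slp := [
    (0x171315110e0f101406160b07050c09080a120d0302040100, 0, 0),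
    (0x17161514131211100f0e0d0c0b0a09080706050403020100, 0, 1),
    (0x1714090511120d0b0f10130a0e0708150c06160302040100, 1, 3),
    (0x170508160d12130e0f0b1107100c15090a06140204030100, 0, 0),
    (0x170d08130b0f0e160605100a140715090c12110403020100, 0, 3),
    (0x1711090d100f0b0506140e0c160a08150712130204030100, 0, 1),
    (0x170b080e05061613120d140c110a1509070f100302040100, 0, 0)]
  levels := [
    (5, [5, 11, 13, 14, 19, 22, 17, 20, 16], [0x17161514131211100f0e0d0c0b0a09080706050403020100, 0x170e1510160614111213050a0d0709080c0f0b0204030100, 0x171315110e0f101406160b07050c09080a120d0302040100, 0x1710090b1406050d12111607130c08150a0f0e0403020100, 0x1711090d100f0b0506140e0c160a08150712130204030100, 0x1714090511120d0b0f10130a0e0708150c06160302040100, 0x170d08130b0f0e160605100a140715090c12110403020100, 0x170508160d12130e0f0b1107100c15090a06140204030100, 0x170b080e05061613120d140c110a1509070f100302040100])]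
  z := 0
  steps := []

/-- An element of order 3 of M₂₂. -/
def three22 : ℕ := 0x170e1510160614111213050a0d0709080c0f0b0204030100

/-- Conjugators covering the elements of order 3 of the Sylow subgroup. -/
def threeConj22 : List ℕ := [
  0x17161514131211100f0e0d0c0b0a09080706050403020100,
  0x171109131412160e0610050c0b0715080a0f0d0304020100,
  0x171302050b0a110e071416060d0f0403120c100915080100,
  0x170e0a110d02160b0414101513090c070803050f12060100,
  0x170b120510151416080e110213040f0603090d0a0c070100,
  0x1714020d0b0716100a13110f05060304120c0e1509080100,
  0x170d06051309161408110e0310040f1202150b0c0a070100,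
  0x17140a130d041005020e16091115070c08030b120f060100]

end Cfsg.Agent.Mathieu
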