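import Cfsg.Agent.Lib.Mathieu.Trans
import Cfsg.Agent.Lib.Mathieu.SylowTwoData
import Cfsg.Agent.Lib.Mathieu.FusionSimple

/-!
Sylow 2-subgroups of the Mathieu groups: of order 16, 64, 128, 128, 1024, self-normalising, with
simple fusion systems.
-/

set_option autoImplicit false
set_option maxRecDepth 20000

namespace Cfsg.Agent.Mathieu

open Cfsg
open scoped Pointwise

/-- Membership test for M₂₄. -/
def mem24 (l : ℕ) : Bool := permOK 24 l && presCode l
/-- Membership test for M₂₃. -/
def mem23 (l : ℕ) : Bool := mem24 l && app l 23 == 23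
/-- Membership test for M₂₂. -/
def mem22 (l : ℕ) : Bool := mem23 l && app l 0 == 0
/-- Membership test for M₁₂. -/
def mem12 (l : ℕ) : Bool := mem24 l && mapsMask l dodMask dodMask
/-- Membership test for M₁₁. -/
def mem11 (l : ℕ) : Bool := mem12 l && app l 0 == 0

theorem mem24_sound (σ : Equiv.Perm GolayPt) (g : ℕ) (h : Rep ptEnc σ g) (hg : mem24 g = true) :
    σ ∈ M24 := by
  rw [mem24, Bool.and_eq_true] at hg
  exact mem_M24_of_rep h hg.2

theorem mem23_sound (σ : Equiv.Perm GolayPt) (g : ℕ) (h : Rep ptEnc σ g) (hg : mem23 g = true) :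
    σ ∈ Spor.M23 := by
  rw [mem23, Bool.and_eq_true, beq_iff_eq] at hg
  refine mem_M23_iff.2 ⟨mem24_sound σ g h hg.1, ?_⟩
  have := h.apply_idx (show 23 < 24 by norm_num)
  rwa [hg.2, idx_none] at this

theorem mem22_sound (σ : Equiv.Perm GolayPt) (g : ℕ) (h : Rep ptEnc σ g) (hg : mem22 g = true) :
    σ ∈ Spor.M22 := by
  rw [mem22, Bool.and_eq_true, beq_iff_eq] at hg
  obtain ⟨h1, h2⟩ := mem_M23_iff.1 (mem23_sound σ g h hg.1)
  refine mem_M22_iff.2 ⟨h1, h2, ?_⟩
  have := h.apply_idx (show 0 < 24 by norm_num)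
  rwa [hg.2, idx_zero] at this

theorem mem12_sound (σ : Equiv.Perm GolayPt) (g : ℕ) (h : Rep ptEnc σ g) (hg : mem12 g = true) :
    σ ∈ Spor.M12 := by
  rw [mem12, Bool.and_eq_true, mapsMask_iff h, ← squareDodecad_eq] at hg
  exact mem_M12_iff.2 ⟨mem24_sound σ g h hg.1, hg.2⟩

theorem mem11_sound (σ : Equiv.Perm GolayPt) (g : ℕ) (h : Rep ptEnc σ g) (hg : mem11 g = true) :
    σ ∈ Spor.M11 := by
  rw [mem11, Bool.and_eq_true, beq_iff_eq] at hg
  refine mem_M11_iff.2 ⟨mem12_sound σ g h hg.1, ?_⟩
  have := h.apply_idx (show 0 < 24 by norm_num)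
  rwa [hg.2, idx_zero] at this

/-- Sylow facts for a subgroup `H` from a certificate. -/
theorem sylowTwo_cert {H : Subgroup (Equiv.Perm GolayPt)} {C : SubgroupCert} {memH : ℕ → Bool}
    (hmem : ∀ σ g, Rep ptEnc σ g → memH g = true → σ ∈ H)
    (hperm : ∀ g, memH g = true → permOK 24 g = true) {levels : List CertLevel}
    (hrep : ∀ t ∈ allReps levels, ∃ σ ∈ H, Rep ptEnc σ t) (hup : Upper ptEnc H levels)
    (hbot : fixList H (levels.map fun p => idx ptEnc p.1) = ⊥)
    (hlev : levelsOK 24 [] levels = true) {k m : ℕ} (hH : Nat.card H = 2 ^ k * m) (hm : Odd m)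
    (hg : C.groupOK 24 memH = true) (hk : (C.levels.map fun p => p.2.1.length).prod = 2 ^ k)
    (hc : C.centerOK 24 = true) (hst : C.closedStepsAll 24 memH = true)
    (hsearch : searchOK 24 C.z (C.leafOK 24) levels (packId 24) [] (C.elts 24) = true)
    (S : Sylow 2 H) :
    Nat.card (S : Subgroup H) = 2 ^ k ∧
      Subgroup.normalizer ((S : Subgroup H) : Set H) = (S : Subgroup H) ∧
      (groupFusionSystem (S : Subgroup H)).IsSimple 2 := by
  obtain ⟨hSH, hcard, -, -⟩ := cert_group (e := ptEnc) (by norm_num) hmem hg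
  rw [hk] at hcard
  set S₁ : Subgroup H := (genGroup ptEnc C.gens).subgroupOf H with hS₁
  have hfac : (Nat.card H).factorization 2 = k := by
    rw [hH, Nat.factorization_mul (by positivity) hm.pos.ne', Nat.Prime.factorization_pow Nat.prime_two]
    simp [Nat.factorization_eq_zero_of_not_dvd (fun h => (Nat.not_even_iff_odd.2 hm) (even_iff_two_dvd.2 h))]
  have hc₁ : Nat.card S₁ = 2 ^ (Nat.card H).factorization 2 := by
    rw [hfac, ← hcard]
    exact Nat.card_congr (Subgroup.subgroupOfEquivOfLe hSH).toEquiv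
  let S₀ : Sylow 2 H := Sylow.ofCard S₁ hc₁
  have hS₀ : (S₀ : Subgroup H) = S₁ := rfl
  refine ⟨by rw [Sylow.card_eq_multiplicity, hfac], ?_⟩
  refine sylow_facts S₀ ?_ ?_ ?_ S
  · intro h
    obtain ⟨ζ, -, hζ, hζ1, -, -⟩ := cert_center (e := ptEnc) (by norm_num) hmem hg hc
    have : (⟨ζ, hSH hζ⟩ : H) ∈ (S₀ : Subgroup H) := hζ
    rw [h, Subgroup.mem_bot] at this
    exact hζ1 (congrArg Subtype.val this)
  · intro g hgN
    refine cert_normalizer (e := ptEnc) (by norm_num) hmem hg hc hlev hrep hup hbot hsearch g.2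
      fun x => ⟨fun hx => (hgN ⟨x, hSH hx⟩).1 hx, fun hx => ?_⟩
    have hxH : x ∈ H := by
      have := H.mul_mem (H.mul_mem (H.inv_mem g.2) (hSH hx)) g.2
      simpa [mul_assoc] using this
    exact (hgN ⟨x, hxH⟩).2 hx
  · intro T hT hcl x hxT hx1 hxc
    have := cert_closed (e := ptEnc) (by norm_num) hmem hperm hg hc hst
      (T := T.map H.subtype) ?_ ?_ (x := x.1) ⟨x, hxT, rfl⟩
      (fun h => hx1 (Subtype.ext h))
      fun τ hτ => congrArg Subtype.val (hxc ⟨τ, hSH hτ⟩ hτ)
    · rw [hS₀, hS₁, ← this]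
      exact (Subgroup.comap_map_eq_self_of_injective H.subtype_injective T).symm
    · rintro _ ⟨y, hy, rfl⟩; exact hT hy
    · rintro _ ⟨y, hy, rfl⟩ h hh hmem'
      exact ⟨⟨h, hh⟩ * y * ⟨h, hh⟩⁻¹, hcl y hy ⟨h, hh⟩ hmem', rfl⟩

theorem perm_of_mem24 (g : ℕ) (h : mem24 g = true) : permOK 24 g = true := by
  rw [mem24, Bool.and_eq_true] at h; exact h.1

theorem M24_sylow_two (S : Sylow 2 M24) :
    Nat.card (S : Subgroup M24) = 1024 ∧
      Subgroup.normalizer ((S : Subgroup M24) : Set M24) = (S : Subgroup M24) ∧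
      (groupFusionSystem (S : Subgroup M24)).IsSimple 2 := by
  have h := m24_upper (H := M24) (pre := []) (l := levels24) (O := octadA) (steps := closeA)
    (by decide +kernel) le_rfl (by simp)
  have hrep := reps_genGroup (e := ptEnc) (gens := gens24) (steps := slp24) (levels := levels24)
    (by decide +kernel) (by decide +kernel) (by decide +kernel)
  rw [M24_cert.1] at hrep
  exact sylowTwo_cert (C := syl24) (k := 10) (m := 239085) mem24_sound perm_of_mem24 hrep h.1 h.2
    (by decide +kernel) (by rw [card_M24]; norm_num) (by decide) (by decide +kernel)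
    (by decide +kernel) (by decide +kernel) (by decide +kernel) (by decide +kernel) S

theorem M23_sylow_two (S : Sylow 2 Spor.M23) :
    Nat.card (S : Subgroup Spor.M23) = 128 ∧
      Subgroup.normalizer ((S : Subgroup Spor.M23) : Set Spor.M23) = (S : Subgroup Spor.M23) ∧
      (groupFusionSystem (S : Subgroup Spor.M23)).IsSimple 2 := by
  have h := m24_upper (H := Spor.M23) (pre := [23]) (l := levels23) (O := octadA) (steps := closeA)
    (by decide +kernel) M23_le_M24 (by simpa [idx_none] using fun σ hσ => (mem_M23_iff.1 hσ).2)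
  have hrep := reps_genGroup (e := ptEnc) (gens := gens23) (steps := slp23) (levels := levels23)
    (by decide +kernel) (by decide +kernel) (by decide +kernel)
  rw [M23_cert.1] at hrep
  exact sylowTwo_cert (C := syl23) (k := 7) (m := 79695) mem23_sound
    (fun g hg => perm_of_mem24 g (by rw [mem23, Bool.and_eq_true] at hg; exact hg.1)) hrep h.1 h.2
    (by decide +kernel) (by rw [card_M23]; norm_num) (by decide) (by decide +kernel)
    (by decide +kernel) (by decide +kernel) (by decide +kernel) (by decide +kernel) S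

theorem M22_sylow_two (S : Sylow 2 Spor.M22) :
    Nat.card (S : Subgroup Spor.M22) = 128 ∧
      Subgroup.normalizer ((S : Subgroup Spor.M22) : Set Spor.M22) = (S : Subgroup Spor.M22) ∧
      (groupFusionSystem (S : Subgroup Spor.M22)).IsSimple 2 := by
  have h := m24_upper (H := Spor.M22) (pre := [23, 0]) (l := levels22) (O := octadA)
    (steps := closeA) (by decide +kernel) M22_le_M24
    (by simpa [idx_none, idx_zero] using fun σ hσ => (mem_M22_iff.1 hσ).2)
  have hrep := reps_genGroup (e := ptEnc) (gens := gens22) (steps := slp22) (levels := levels22)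
    (by decide +kernel) (by decide +kernel) (by decide +kernel)
  rw [M22_cert.1] at hrep
  exact sylowTwo_cert (C := syl22) (k := 7) (m := 3465) mem22_sound
    (fun g hg => perm_of_mem24 g (by
      simp only [mem22, mem23, Bool.and_eq_true] at hg; exact hg.1.1)) hrep h.1 h.2
    (by decide +kernel) (by rw [card_M22]; norm_num) (by decide) (by decide +kernel)
    (by decide +kernel) (by decide +kernel) (by decide +kernel) (by decide +kernel) S

theorem M12_sylow_two (S : Sylow 2 Spor.M12) :
    Nat.card (S : Subgroup Spor.M12) = 64 ∧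
      Subgroup.normalizer ((S : Subgroup Spor.M12) : Set Spor.M12) = (S : Subgroup Spor.M12) ∧
      (groupFusionSystem (S : Subgroup Spor.M12)).IsSimple 2 := by
  have hup : Upper ptEnc Spor.M12 levels12 := by
    refine upper_full _ [] dodMask _ (by decide +kernel) (by simp) fun σ hσ => ?_
    rw [← squareDodecad_eq]; exact (mem_M12_iff.1 hσ).2
  have hbot : fixList Spor.M12 (levels12.map fun p => idx ptEnc p.1) = ⊥ := by
    rw [eq_bot_iff]
    intro σ hσ
    rw [mem_fixList] at hσ
    rw [Subgroup.mem_bot]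
    refine eq_one_of_fix_five (mem_M12_iff.1 hσ.1).1 (fun i hi => hσ.2 _ ?_) (mem_M12_iff.1 hσ.1).2
    revert i
    decide +kernel
  have hrep := reps_genGroup (e := ptEnc) (gens := gens12) (steps := slp12) (levels := levels12)
    (by decide +kernel) (by decide +kernel) (by decide +kernel)
  rw [M12_cert.1] at hrep
  exact sylowTwo_cert (C := syl12) (k := 6) (m := 1485) mem12_sound
    (fun g hg => perm_of_mem24 g (by rw [mem12, Bool.and_eq_true] at hg; exact hg.1)) hrep hup hbot
    (by decide +kernel) (by rw [card_M12]; norm_num) (by decide) (by decide +kernel)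
    (by decide +kernel) (by decide +kernel) (by decide +kernel) (by decide +kernel) S

theorem M11_sylow_two (S : Sylow 2 Spor.M11) :
    Nat.card (S : Subgroup Spor.M11) = 16 ∧
      Subgroup.normalizer ((S : Subgroup Spor.M11) : Set Spor.M11) = (S : Subgroup Spor.M11) ∧
      (groupFusionSystem (S : Subgroup Spor.M11)).IsSimple 2 := by
  have hup : Upper ptEnc Spor.M11 levels11 := by
    refine upper_full _ [0] dodMask _ (by decide +kernel)
      (by simpa [idx_zero] using fun σ hσ => (mem_M11_iff.1 hσ).2) fun σ hσ => ?_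
    rw [← squareDodecad_eq]; exact (mem_M12_iff.1 (mem_M11_iff.1 hσ).1).2
  have hbot : fixList Spor.M11 (levels11.map fun p => idx ptEnc p.1) = ⊥ := by
    rw [eq_bot_iff]
    intro σ hσ
    rw [mem_fixList, mem_M11_iff, mem_M12_iff] at hσ
    rw [Subgroup.mem_bot]
    refine eq_one_of_fix_five hσ.1.1.1 (fun i hi => ?_) hσ.1.1.2
    have : i = 0 ∨ idx ptEnc i ∈ levels11.map fun p => idx ptEnc p.1 := by revert i; decide +kernel
    rcases this with rfl | h
    · rw [idx_zero]; exact hσ.1.2
    · exact hσ.2 _ h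
  have hrep := reps_genGroup (e := ptEnc) (gens := gens11) (steps := slp11) (levels := levels11)
    (by decide +kernel) (by decide +kernel) (by decide +kernel)
  rw [M11_cert.1] at hrep
  exact sylowTwo_cert (C := syl11) (k := 4) (m := 495) mem11_sound
    (fun g hg => perm_of_mem24 g (by
      simp only [mem11, mem12, Bool.and_eq_true] at hg; exact hg.1.1)) hrep hup hbot
    (by decide +kernel) (by rw [card_M11]; norm_num) (by decide) (by decide +kernel)
    (by decide +kernel) (by decide +kernel) (by decide +kernel) (by decide +kernel) S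

end Cfsg.Agent.Mathieu
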