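import Cfsg.Agent.Lib.Mathieu.Classes
import Cfsg.Agent.Lib.Mathieu.M22ThreeData
import Cfsg.Agent.Lib.Mathieu.SylowTwo

/-!
M₂₂ has one class of elements of order 3.
-/

set_option autoImplicit false
set_option maxRecDepth 20000

namespace Cfsg.Agent.Mathieu

open Cfsg

theorem M22_factorization_three : (Nat.card Spor.M22).factorization 3 = 2 := by
  rw [card_M22, show (443520 : ℕ) = 3 ^ 2 * 49280 by norm_num,
    Nat.factorization_mul (by norm_num) (by norm_num),
    Nat.Prime.factorization_pow Nat.prime_three]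
  simp [Nat.factorization_eq_zero_of_not_dvd (by norm_num : ¬ 3 ∣ 49280)]

/-- The elements of order 3 of M₂₂ are conjugate. -/
theorem M22_three_conj {x y : Spor.M22} (hx : orderOf x = 3) (hy : orderOf y = 3) : IsConj x y := by
  haveI : Fact (Nat.Prime 3) := ⟨Nat.prime_three⟩
  have key : ∀ w : Spor.M22, orderOf w = 3 →
      ∃ c : Spor.M22, Rep ptEnc ((c * w * c⁻¹ : Spor.M22) : Equiv.Perm GolayPt) three22 := by
    intro w hw
    obtain ⟨z, hz, c, hc⟩ := prime_order_cases (H := Spor.M22) (by norm_num) mem22_sound (C := syl22Three)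
      (by decide +kernel) (k := 2) (by decide +kernel) M22_factorization_three (cs := threeConj22)
      (zs := [three22]) (by decide +kernel) (by decide +kernel) w hw
    rw [List.mem_singleton] at hz
    exact ⟨c, hz ▸ hc⟩
  obtain ⟨c, hc⟩ := key x hx
  obtain ⟨d, hd⟩ := key y hy
  have he : c * x * c⁻¹ = d * y * d⁻¹ := Subtype.ext (Equiv.ext fun a => ptEnc.injective (Fin.ext ((hc a).trans (hd a).symm)))
  exact (isConj_iff.mpr ⟨c, he⟩).trans (isConj_iff.mpr ⟨d, rfl⟩).symm

end Cfsg.Agent.Mathieu
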