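import Cfsg.Agent.Lib.BlockCount.CentralizerBlocks

/-!
A criterion for a group to have a single `p`-block: the centraliser of every element of order `p`
has a normal `p`-subgroup containing its centraliser, and no character degree is divisible by the
full power of `p` in the group order.
-/

set_option autoImplicit false
set_option linter.style.haveILetI false

open Cfsg
open scoped Cfsg.Agent.Blocks

namespace Cfsg.Agent.Mathieu

universe u

variable {G : Type u} [Group G] [Finite G] {p : ℕ} [Fact p.Prime] {M : Ideal AlgInt}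

/-- A group with a normal `p`-subgroup containing its centraliser has one `p`-block. -/
theorem sameBlock_of_normal_pSubgroup (hM : IsPModular p M) (Q : Subgroup G) [hQn : Q.Normal]
    (hQ : IsPGroup p Q) (hconstr : Subgroup.centralizer (Q : Set G) ≤ Q) (χ ψ : IrrCharacter G) :
    SameBlock M (χ : G → ℂ) (ψ : G → ℂ) := by
  haveI := hM.2.1
  have hpM := hM.2.2
  haveI := Blocks.charP_residue hpM
  refine Blocks.sameBlock_of_regular hpM fun g hg => ?_
  by_cases hgC : ∀ x, IsConj g x → x ∉ Subgroup.centralizer (Q : Set G)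
  · have key : ∀ η : IrrCharacter G, MemLocalIdeal M (centralChar η.1 g) := by
      intro η
      have hz : Blocks.IsCentralElt (Blocks.classSum (AlgInt ⧸ M) g) :=
        Blocks.isCentralElt_classSum g
      obtain ⟨n, hn⟩ := Blocks.isNilpotent_of_central (p := p) Q hQ hz
        (fun x hx => by rw [Blocks.coeff_classSum, if_neg fun h => hgC x h hx])
      rw [← Blocks.redA_classSum, ← Blocks.redA_pow (Blocks.scoeff_classSum g),
        Blocks.redA_eq_zero_iff (Blocks.SCoeff.pow (Blocks.scoeff_classSum g) n)] at hn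
      have := Blocks.memLocalIdeal_omega η
        (Blocks.IsCentralElt.pow (Blocks.isCentralElt_classSum g) n) hn
      rw [Blocks.omega_pow η (Blocks.isCentralElt_classSum g),
        Blocks.omega_classSum (Blocks.irr_classFun η)] at this
      exact Blocks.MemLocalIdeal.of_pow (Blocks.memLocalRing_centralChar η g) this
    exact Blocks.MemLocalIdeal.sub (key χ) (key ψ)
  · push Not at hgC
    obtain ⟨x, hx, hxC⟩ := hgC
    obtain ⟨c, hc⟩ := isConj_iff.1 hx
    have h1 : g ∈ Q := by
      have := hQn.conj_mem x (hconstr hxC) c⁻¹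
      rwa [show c⁻¹ * x * c⁻¹⁻¹ = g by rw [← hc]; group] at this
    have hg1 : g = 1 := by
      obtain ⟨k, hk⟩ := IsPGroup.iff_orderOf.1 hQ ⟨g, h1⟩
      rw [Subgroup.orderOf_mk] at hk
      have hk0 : k = 0 := by
        by_contra hk0
        exact hg (by rw [hk]; exact dvd_pow_self p hk0)
      rw [hk0, pow_zero, orderOf_eq_one_iff] at hk
      exact hk
    subst hg1
    have h2 : ∀ η : IrrCharacter G, centralChar η.1 1 = 1 := fun η => by
      rw [centralChar, mul_div_assoc, div_self (Blocks.irr_one_ne_zero η), mul_one]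
      have : Subgroup.centralizer ({(1 : G)} : Set G) = ⊤ := by
        ext y; simp [Subgroup.mem_centralizer_singleton_iff]
      rw [this, Subgroup.index_top, Nat.cast_one]
    rw [h2, h2, sub_self]
    exact Blocks.memLocalIdeal_zero

/-- A single `p`-block from constrained centralisers and no character of defect zero. -/
theorem one_block_criterion (hM : IsPModular p M)
    (hcent : ∀ y : G, orderOf y = p → ∃ Q : Subgroup G, IsPGroup p Q ∧
      Q ≤ Subgroup.centralizer ({y} : Set G) ∧
      (∀ g ∈ Subgroup.centralizer ({y} : Set G), ∀ q ∈ Q, g * q * g⁻¹ ∈ Q) ∧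
      ∀ g ∈ Subgroup.centralizer ({y} : Set G), (∀ q ∈ Q, q * g = g * q) → g ∈ Q)
    (hdz : ∀ χ : IrrCharacter G, ¬ p ^ (Nat.card G).factorization p ∣ charDegree (χ : G → ℂ))
    (χ ψ : IrrCharacter G) : SameBlock M (χ : G → ℂ) (ψ : G → ℂ) := by
  haveI := hM.2.1
  have hpM := hM.2.2
  haveI := Fintype.ofFinite G
  have key : ∀ φ : IrrCharacter G, blockOf M (φ : G → ℂ) = principalBlock M G := by
    intro φ
    by_contra hne
    have hB : IsPBlock M (blockOf M (φ : G → ℂ)) := Blocks.isPBlock_blockOf φ
    by_cases hd : 0 < blockDefect p (blockOf M (φ : G → ℂ))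
    · obtain ⟨y, hy, b, hb, hbne, -⟩ :=
        BlockCount.exists_centralizer_nonprincipal hpM hB hne hd
      obtain ⟨Q, hQp, hQC, hQn, hQc⟩ := hcent y hy
      set C := Subgroup.centralizer ({y} : Set G)
      haveI : (Q.subgroupOf C).Normal :=
        ⟨fun q hq g => hQn g g.2 q hq⟩
      have hp' : IsPGroup p (Q.subgroupOf C) :=
        hQp.of_equiv (Subgroup.subgroupOfEquivOfLe hQC).symm
      have hc' : Subgroup.centralizer ((Q.subgroupOf C : Subgroup C) : Set C) ≤ Q.subgroupOf C := by
        intro g hg
        rw [Subgroup.mem_centralizer_iff] at hg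
        exact hQc g g.2 fun q hq => congrArg Subtype.val (hg ⟨q, hQC hq⟩ hq)
      obtain ⟨ξ, rfl⟩ := hb
      exact hbne (Blocks.blockOf_eq (sameBlock_of_normal_pSubgroup hM (Q.subgroupOf C) hp' hc' ξ
        (Char.trivialChar C)))
    · have h0 : blockDefect p (blockOf M (φ : G → ℂ)) = 0 := Nat.eq_zero_of_not_pos hd
      have hle := Nat.sInf_le (s := (fun χ : IrrCharacter G =>
        (charDegree (χ : G → ℂ)).factorization p) '' blockOf M (φ : G → ℂ))
        ⟨φ, Blocks.mem_blockOf_self φ, rfl⟩
      rw [blockDefect] at h0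
      beta_reduce at hle
      refine hdz φ (dvd_trans (pow_dvd_pow p ?_) (Nat.ordProj_dvd _ p))
      omega
  have h1 : χ ∈ blockOf M (ψ : G → ℂ) := by
    rw [key ψ, ← key χ]; exact Blocks.mem_blockOf_self χ
  exact Blocks.SameBlock.symm (Blocks.mem_blockOf.1 h1)

end Cfsg.Agent.Mathieu
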