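import Cfsg.Agent.Lib.Mathieu.SylowCert
import Cfsg.Agent.Lib.Mathieu.OneBlock

/-!
Certificates on a permutation group `H`: classes of elements of order two, their centralisers
(an elementary abelian normal subgroup containing its centraliser) and orders of centralisers.
-/

set_option autoImplicit false

namespace Cfsg.Agent.Mathieu

open Cfsg

variable {α : Type*} {n : ℕ} {e : α ≃ Fin n}

/-- `g * a = b * g`. -/
def conjP (n g a b : ℕ) : Bool := (List.range n).all fun i => app b (app g i) == app g (app a i)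

theorem conjP_iff {σ τ ρ : Equiv.Perm α} {g a b : ℕ} (hg : Rep e σ g) (ha : Rep e τ a)
    (hb : Rep e ρ b) : conjP n g a b = true ↔ σ * τ = ρ * σ := by
  simp only [conjP, List.all_eq_true, List.mem_range, beq_iff_eq]
  constructor
  · intro h
    refine Equiv.ext fun x => e.injective (Fin.ext ?_)
    rw [Equiv.Perm.mul_apply, Equiv.Perm.mul_apply, hg, ha, hb, hg, h _ (e x).isLt]
  · intro h i hi
    have h1 := congrArg (fun p : Equiv.Perm α => (e (p (e.symm ⟨i, hi⟩))).val) h
    simp only [Equiv.Perm.mul_apply] at h1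
    rw [hg, ha, hb, hg, e.apply_symm_apply] at h1
    exact h1.symm

theorem conj_eq_of_conjP {σ τ ρ : Equiv.Perm α} {g a b : ℕ} (hg : Rep e σ g) (ha : Rep e τ a)
    (hb : Rep e ρ b) (h : conjP n g a b = true) : σ * τ * σ⁻¹ = ρ :=
  mul_inv_eq_iff_eq_mul.2 ((conjP_iff hg ha hb).1 h)

theorem inList_iff {σ : Equiv.Perm α} {L : List ℕ} {l : ℕ} (hl : Rep e σ l) :
    inList n L l = true ↔ ∃ w ∈ L, Rep e σ w := by
  simp only [inList, List.any_eq_true]
  refine ⟨fun ⟨w, hw, h⟩ => ⟨w, hw, ?_⟩, fun ⟨w, hw, h⟩ => ⟨w, hw, sameP_of_rep h hl⟩⟩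
  intro x
  simp only [sameP, List.all_eq_true, List.mem_range, beq_iff_eq] at h
  rw [hl x, h _ (e x).isLt]

/-! ### Orders of centralisers -/

/-- Leaf test: an element commuting with `z` is listed. -/
def centLeaf (n z : ℕ) (L : List ℕ) (l : ℕ) : Bool := !commP n l z || inList n L l

/-- The centraliser of an element has at most as many elements as the list. -/
theorem card_centralizer_le [Finite α] [NeZero n] (hn : n ≤ 256) {H : Subgroup (Equiv.Perm α)}
    {levels : List CertLevel} (hlev : levelsOK n [] levels = true)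
    (hrep : ∀ t ∈ allReps levels, ∃ σ ∈ H, Rep e σ t) (hup : Upper e H levels)
    (hbot : fixList H (levels.map fun p => idx e p.1) = ⊥)
    (x : H) {z : ℕ} (hz : Rep e (x : Equiv.Perm α) z) {L : List ℕ}
    (hs : searchOK n z (centLeaf n z L) levels (packId n) [] [] = true) :
    Nat.card (Subgroup.centralizer ({x} : Set H)) ≤ L.length := by
  classical
  have key : ∀ g : Subgroup.centralizer ({x} : Set H), ∃ i : Fin L.length,
      Rep e ((g : H) : Equiv.Perm α) L[i.val] := by
    intro g
    have h := search_good (e := e) (H := H) (S := (⊥ : Subgroup (Equiv.Perm α)))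
      (N := fun a => a ∈ H ∧ a * x = x * a) (Good := fun a => ∃ l ∈ L, Rep e a l)
      (fun _ h => h.1) (by
        intro s hs' a ha
        rw [Subgroup.mem_bot.1 hs', one_mul]; exact ha)
      hz (fun _ h => h.2) (by
        intro s hs' a _ ha
        rwa [Subgroup.mem_bot.1 hs', one_mul] at ha)
      (P := centLeaf n z L) (fun a l ha hal hleaf => by
        simp only [centLeaf, Bool.or_eq_true, Bool.not_eq_eq_eq_not, Bool.not_true] at hleaf
        rcases hleaf with h | h
        · rw [(commP_iff hal hz).2 ha.2] at h; exact Bool.noConfusion h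
        · exact (inList_iff hal).1 h)
      levels [] H (packId n) 1 [] (by simp) (fun σ hσ _ => hσ) hlev hrep hup hbot (rep_packId hn)
      H.one_mem (by simp) (by simp) hs ((g : H) : Equiv.Perm α)
      ⟨(g : H).2, congrArg Subtype.val (Subgroup.mem_centralizer_singleton_iff.1 g.2)⟩ (by simp)
    obtain ⟨l, hl, hgl⟩ := h
    obtain ⟨i, hi, rfl⟩ := List.mem_iff_getElem.1 hl
    exact ⟨⟨i, hi⟩, hgl⟩
  choose f hf using key
  calc Nat.card (Subgroup.centralizer ({x} : Set H)) ≤ Nat.card (Fin L.length) :=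
        Nat.card_le_card_of_injective f fun a b hab => by
          have h1 := hf a
          rw [hab] at h1
          exact Subtype.ext (Subtype.ext (h1.unique (hf b)))
    _ = L.length := Nat.card_fin _

/-! ### Involutions -/

/-- An involution and an elementary abelian subgroup: a basis and all elements. -/
structure InvolCert where
  /-- the packed involution -/
  z : ℕ
  /-- commuting involutions generating the subgroup -/
  B : List ℕ
  /-- all elements of the subgroup -/
  Q : List ℕ

/-- All products of sublists. -/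
def spanList (n : ℕ) : List ℕ → List ℕ
  | [] => [packId n]
  | b :: bs => spanList n bs ++ (spanList n bs).map (packMul n b)

theorem rep_of_mem_spanList (hn : n ≤ 256) {S : Subgroup (Equiv.Perm α)} :
    ∀ {B : List ℕ}, (∀ b ∈ B, ∃ σ ∈ S, Rep e σ b) → ∀ l ∈ spanList n B, ∃ σ ∈ S, Rep e σ l
  | [], _, l, hl => ⟨1, S.one_mem, (List.mem_singleton.1 hl) ▸ rep_packId hn⟩
  | b :: bs, hB, l, hl => by
    have ih := rep_of_mem_spanList hn (S := S) (B := bs) fun c hc => hB c (List.mem_cons_of_mem _ hc)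
    rcases List.mem_append.1 hl with h | h
    · exact ih l h
    · obtain ⟨r, hr, rfl⟩ := List.mem_map.1 h
      obtain ⟨σ, hσS, hσ⟩ := hB b List.mem_cons_self
      obtain ⟨τ, hτS, hτ⟩ := ih r hr
      exact ⟨σ * τ, S.mul_mem hσS hτS, rep_packMul hσ hτ⟩

/-- Leaf test: an element commuting with `z` normalises `Q`, and lies in it if centralising it. -/
def InvolCert.leaf (C : InvolCert) (n l : ℕ) : Bool :=
  !commP n l C.z || ((C.B.all fun q => C.Q.any fun w => conjP n l q w) &&
    (!(C.B.all fun q => commP n l q) || inList n C.Q l))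

/-- The checks for one involution. -/
def InvolCert.ok (C : InvolCert) (n : ℕ) (memH : ℕ → Bool) (levels : List CertLevel) : Bool :=
  C.B.all (permOK n) && C.B.all memH && (C.Q == spanList n C.B) &&
    C.B.all (fun a => C.B.all fun b => commP n a b) &&
    C.B.all (fun a => isId n (packMul n a a)) && inList n C.Q C.z &&
    searchOK n C.z (C.leaf n) levels (packId n) [] C.Q

/-- Every element of order two of the list `E` is conjugate by a listed element to some `z`. -/
def involCoverOK (n : ℕ) (memH : ℕ → Bool) (E : List ℕ) (cs zs : List ℕ) : Bool :=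
  cs.all (fun g => permOK n g && memH g) &&
    E.all fun x => !isId n (packMul n x x) || isId n x ||
      zs.any fun z => cs.any fun g => conjP n g z x

variable [Finite α] [DecidableEq α] {H : Subgroup (Equiv.Perm α)} {memH : ℕ → Bool}

/-- Every involution of `H` is conjugate to one of the listed ones. -/
theorem involution_cases [NeZero n] (hn : n ≤ 256) (hmem : ∀ σ g, Rep e σ g → memH g = true → σ ∈ H)
    {C : SubgroupCert} (hg : C.groupOK n memH = true) {k : ℕ}
    (hk : (C.levels.map fun p => p.2.1.length).prod = 2 ^ k)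
    (hfac : (Nat.card H).factorization 2 = k) {cs zs : List ℕ}
    (hcov : involCoverOK n memH (C.elts n) cs zs = true) (hzs : zs.all (permOK n) = true)
    (y : H) (hy : orderOf y = 2) :
    ∃ z ∈ zs, ∃ c : H, Rep e ((c * y * c⁻¹ : H) : Equiv.Perm α) z := by
  obtain ⟨hSH, hcard, -, hlist⟩ := cert_group (e := e) hn hmem hg
  set S₁ : Subgroup H := (genGroup e C.gens).subgroupOf H with hS₁
  have hc₁ : Nat.card S₁ = 2 ^ (Nat.card H).factorization 2 := by
    rw [hfac, ← hk, ← hcard]
    exact Nat.card_congr (Subgroup.subgroupOfEquivOfLe hSH).toEquiv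
  obtain ⟨P, hP⟩ := (IsPGroup.of_card (n := 1) (by rw [Nat.card_zpowers, hy, pow_one]) :
    IsPGroup 2 (Subgroup.zpowers y)).exists_le_sylow
  obtain ⟨d, hd⟩ := MulAction.exists_smul_eq H P (Sylow.ofCard S₁ hc₁)
  set x : H := d * y * d⁻¹ with hx
  have hxS : x ∈ S₁ := by
    have : x ∈ ((d • P : Sylow 2 H) : Subgroup H) := by
      rw [Sylow.coe_subgroup_smul]
      exact ⟨y, hP (Subgroup.mem_zpowers y), rfl⟩
    rw [hd] at this; exact this
  obtain ⟨l, hl, hxl⟩ := hlist _ hxS
  replace hxl : Rep e (x : Equiv.Perm α) l := hxl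
  have hxo : orderOf x = 2 := by
    rw [hx, ← hy]; exact (orderOf_injective (MulAut.conj d).toMonoidHom (MulAut.conj d).injective y)
  simp only [involCoverOK, Bool.and_eq_true, List.all_eq_true, Bool.or_eq_true,
    Bool.not_eq_eq_eq_not, Bool.not_true, List.any_eq_true] at hcov
  obtain ⟨hcs, hE⟩ := hcov
  rcases hE l hl with (h | h) | ⟨z, hz, g, hgc, hconj⟩
  · exfalso
    have h2 : Rep e (1 : Equiv.Perm α) (packMul n l l) := by
      have := rep_packMul hxl hxl
      rwa [← Subgroup.coe_mul, ← pow_two, ← hxo, pow_orderOf_eq_one] at this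
    rw [isId_of_rep_one h2] at h
    exact Bool.noConfusion h
  · exfalso
    have : x = 1 := Subtype.ext (hxl.eq_one h)
    rw [this, orderOf_one] at hxo
    omega
  · obtain ⟨γ, hγ⟩ := exists_rep (e := e) (hcs g hgc).1
    obtain ⟨ζ, hζ⟩ := exists_rep (e := e) (List.all_eq_true.1 hzs z hz)
    have hγH : γ ∈ H := hmem γ g hγ (hcs g hgc).2
    refine ⟨z, hz, (⟨γ, hγH⟩ : H)⁻¹ * d, ?_⟩
    have he : ((((⟨γ, hγH⟩ : H)⁻¹ * d) * y * ((⟨γ, hγH⟩ : H)⁻¹ * d)⁻¹ : H) : Equiv.Perm α) =
        γ⁻¹ * (x : Equiv.Perm α) * γ := by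
      rw [hx]; simp [mul_assoc]
    rw [he, ← conj_eq_of_conjP hγ hζ hxl hconj]
    simpa [mul_assoc] using hζ

/-- The centraliser of a certified involution, and of every conjugate, is constrained. -/
theorem constrained_of_cert [NeZero n] (hn : n ≤ 256)
    (hmem : ∀ σ g, Rep e σ g → memH g = true → σ ∈ H)
    {levels : List CertLevel} (hlev : levelsOK n [] levels = true)
    (hrep : ∀ t ∈ allReps levels, ∃ σ ∈ H, Rep e σ t) (hup : Upper e H levels)
    (hbot : fixList H (levels.map fun p => idx e p.1) = ⊥)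
    {C : InvolCert} (hC : C.ok n memH levels = true)
    (y c : H) (hcy : Rep e ((c * y * c⁻¹ : H) : Equiv.Perm α) C.z) :
    ∃ Q : Subgroup H, IsPGroup 2 Q ∧ Q ≤ Subgroup.centralizer ({y} : Set H) ∧
      (∀ g ∈ Subgroup.centralizer ({y} : Set H), ∀ q ∈ Q, g * q * g⁻¹ ∈ Q) ∧
      ∀ g ∈ Subgroup.centralizer ({y} : Set H), (∀ q ∈ Q, q * g = g * q) → g ∈ Q := by
  set x : H := c * y * c⁻¹ with hx
  simp only [InvolCert.ok, Bool.and_eq_true, List.all_eq_true, beq_iff_eq] at hC
  obtain ⟨⟨⟨⟨⟨⟨hperm, hBH⟩, hspan⟩, hcomm⟩, hsq⟩, hzQ⟩, hs⟩ := hC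
  have hrepB : ∀ a ∈ C.B, ∃ σ : Equiv.Perm α, Rep e σ a := fun a ha => exists_rep (hperm a ha)
  let S : Subgroup (Equiv.Perm α) := genGroup e C.B
  have hrepQ : ∀ a ∈ C.Q, ∃ σ : Equiv.Perm α, σ ∈ S ∧ Rep e σ a := fun a ha => by
    refine rep_of_mem_spanList hn (fun b hb => ?_) a (hspan ▸ ha)
    obtain ⟨σ, hσ⟩ := hrepB b hb
    exact ⟨σ, Subgroup.subset_closure ⟨b, hb, hσ⟩, hσ⟩
  have hSH : S ≤ H := genGroup_le fun σ b hb hσ => hmem σ b hσ (hBH b hb)
  have hScomm : ∀ a ∈ S, ∀ b ∈ S, a * b = b * a := by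
    intro a ha b hb
    induction ha using Subgroup.closure_induction with
    | mem σ hσ =>
      obtain ⟨p, hp, hσp⟩ := hσ
      exact comm_genGroup hσp (List.all_eq_true.2 fun q hq => hcomm p hp q hq) b hb
    | one => simp
    | mul σ τ _ _ h h' => rw [mul_assoc, h', ← mul_assoc, h, mul_assoc]
    | inv σ _ h => exact (Commute.inv_left h).eq
  have hTsq : ∀ σ ∈ S, σ * σ = 1 := by
    intro σ hσ
    induction hσ using Subgroup.closure_induction with
    | mem τ hτ =>
      obtain ⟨p, hp, hτp⟩ := hτ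
      exact (rep_packMul hτp hτp).eq_one (hsq p hp)
    | one => simp
    | mul a b ha hb h h' =>
      rw [mul_assoc, ← mul_assoc b, hScomm b hb a ha, mul_assoc a b b, h', mul_one, h]
    | inv a _ h => rw [← mul_inv_rev, h, inv_one]
  have hmemQ : ∀ {σ : Equiv.Perm α} {l : ℕ}, Rep e σ l → inList n C.Q l = true → σ ∈ S := by
    intro σ l hσl hl
    obtain ⟨w, hw, hσw⟩ := (inList_iff hσl).1 hl
    obtain ⟨τ, hτS, hτ⟩ := hrepQ w hw
    exact hσw.unique hτ ▸ hτS
  have hxS : (x : Equiv.Perm α) ∈ S := hmemQ hcy hzQ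
  have hSx : ∀ a ∈ S, a * x = x * a := fun a ha => hScomm a ha x hxS
  have hEk : ∀ l ∈ C.Q, ∃ s ∈ S, Rep e s l ∧ ∀ d ∈ ([] : List (ℕ × ℕ)),
      s (idx e d.2) = idx e d.2 := fun l hl => by
    obtain ⟨σ, hσS, hσ⟩ := hrepQ l hl
    exact ⟨σ, hσS, hσ, by simp⟩
  have hnorm : ∀ g ∈ H, g * x = x * g → ∀ a ∈ S, g * a * g⁻¹ ∈ S := by
    intro g hgH hgx
    exact search_good (e := e) (H := H) (S := S) (N := fun a => a ∈ H ∧ a * x = x * a)
      (Good := fun a => ∀ b ∈ S, a * b * a⁻¹ ∈ S) (fun _ h => h.1)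
      (fun s hs' a ha => ⟨H.mul_mem (hSH hs') ha.1, by
        rw [mul_assoc, ha.2, ← mul_assoc, hSx s hs', mul_assoc]⟩)
      hcy (fun _ h => h.2)
      (fun s hs' a _ ha b hb => by
        have h1 := ha b hb
        have h2 : a * b * a⁻¹ = s⁻¹ * ((s * a) * b * (s * a)⁻¹) * s := by group
        rw [h2]; exact S.mul_mem (S.mul_mem (S.inv_mem hs') h1) hs')
      (P := C.leaf n) (fun a l ha hal hleaf => by
        simp only [InvolCert.leaf, Bool.or_eq_true, Bool.and_eq_true, Bool.not_eq_eq_eq_not,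
          Bool.not_true, List.all_eq_true, List.any_eq_true] at hleaf
        rcases hleaf with h | ⟨h, -⟩
        · rw [(commP_iff hal hcy).2 ha.2] at h; exact Bool.noConfusion h
        · have hle : S ≤ S.comap (MulAut.conj a).toMonoidHom := by
            refine (Subgroup.closure_le _).2 fun b hb => ?_
            obtain ⟨q, hq, hbq⟩ := hb
            obtain ⟨w, hw, hconj⟩ := h q hq
            obtain ⟨ω, hωS, hω⟩ := hrepQ w hw
            change a * b * a⁻¹ ∈ S
            rw [conj_eq_of_conjP hal hbq hω hconj]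
            exact hωS
          exact fun b hb => hle hb)
      levels [] H (packId n) 1 C.Q (by simp) (fun σ hσ _ => hσ) hlev hrep hup hbot (rep_packId hn)
      H.one_mem (by simp) hEk hs g ⟨hgH, hgx⟩ (by simp)
  have hcent : ∀ g ∈ H, g * x = x * g → (∀ a ∈ S, a * g = g * a) → g ∈ S := by
    intro g hgH hgx hga
    exact search_good (e := e) (H := H) (S := S)
      (N := fun a => a ∈ H ∧ a * x = x * a ∧ ∀ b ∈ S, b * a = a * b)
      (Good := fun a => a ∈ S) (fun _ h => h.1)
      (fun s hs' a ha => ⟨H.mul_mem (hSH hs') ha.1, by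
        rw [mul_assoc, ha.2.1, ← mul_assoc, hSx s hs', mul_assoc], fun b hb => by
        rw [← mul_assoc, hScomm b hb s hs', mul_assoc, ha.2.2 b hb, mul_assoc]⟩)
      hcy (fun _ h => h.2.1) (fun s hs' a _ ha => (S.mul_mem_cancel_left hs').1 ha)
      (P := C.leaf n) (fun a l ha hal hleaf => by
        simp only [InvolCert.leaf, Bool.or_eq_true, Bool.and_eq_true, Bool.not_eq_eq_eq_not,
          Bool.not_true] at hleaf
        rcases hleaf with h | ⟨-, h | h⟩
        · rw [(commP_iff hal hcy).2 ha.2.1] at h; exact Bool.noConfusion h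
        · have hall : (C.B.all fun q => commP n l q) = true := by
            rw [List.all_eq_true]
            intro q hq
            obtain ⟨σ, hσ⟩ := hrepB q hq
            exact (commP_iff hal hσ).2 (ha.2.2 σ (Subgroup.subset_closure ⟨q, hq, hσ⟩)).symm
          rw [hall] at h; exact Bool.noConfusion h
        · exact hmemQ hal h)
      levels [] H (packId n) 1 C.Q (by simp) (fun σ hσ _ => hσ) hlev hrep hup hbot (rep_packId hn)
      H.one_mem (by simp) hEk hs g ⟨hgH, hgx, hga⟩ (by simp)
  -- transport to `y`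
  let f : H →* Equiv.Perm α := H.subtype.comp (MulAut.conj c).toMonoidHom
  have hf : ∀ g : H, f g = ((c * g * c⁻¹ : H) : Equiv.Perm α) := fun g => rfl
  have hfy : f y = x := rfl
  have hfinj : Function.Injective f :=
    H.subtype_injective.comp (MulAut.conj c).injective
  refine ⟨S.comap f, ?_, ?_, ?_, ?_⟩
  · intro g
    refine ⟨1, Subtype.ext (hfinj ?_)⟩
    rw [pow_one, pow_two, Subgroup.coe_mul, map_mul, Subgroup.coe_one, map_one]
    exact hTsq _ g.2
  · intro g hg
    rw [Subgroup.mem_centralizer_singleton_iff]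
    exact hfinj (by rw [map_mul, map_mul, hfy]; exact hSx _ hg)
  · intro g hg q hq
    have hg' : f g * x = x * f g := by
      rw [← hfy, ← map_mul, ← map_mul, Subgroup.mem_centralizer_singleton_iff.1 hg]
    rw [Subgroup.mem_comap, map_mul, map_mul, map_inv]
    exact hnorm _ (SetLike.coe_mem _) hg' _ hq
  · intro g hg hgq
    have hg' : f g * x = x * f g := by
      rw [← hfy, ← map_mul, ← map_mul, Subgroup.mem_centralizer_singleton_iff.1 hg]
    refine hcent _ (SetLike.coe_mem _) hg' fun a ha => ?_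
    have ha' : f (c⁻¹ * ⟨a, hSH ha⟩ * c) = a := by simp [hf, mul_assoc]
    rw [← ha', ← map_mul, ← map_mul, hgq _ (by rw [Subgroup.mem_comap, ha']; exact ha)]

end Cfsg.Agent.Mathieu
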