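import Cfsg.Agent.Lib.Mathieu.PowerSums

/-!
Lower bounds for `∑ ‖χ g + c‖ ^ 2` over the elements of a given order, from one cyclic subgroup.
-/

set_option autoImplicit false

open Cfsg

namespace Cfsg.Agent.Mathieu

variable {n : ℕ} [NeZero n]

/-- A sum over `ZMod n` of a function constant on the listed orbits of multiplication by `k`,
weighted by `h`. -/
theorem sum_orbits {R : Type*} [CommSemiring R] {m : ZMod n → ℤ} {k : ZMod n}
    (hm : ∀ r, m (k * r) = m r) (h : ZMod n → R) (f : ℤ → R) (L : List (ZMod n × ℕ))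
    (hL : (Finset.univ : Finset (ZMod n)).val =
      ↑(L.flatMap fun ae => (List.range ae.2).map fun i => k ^ i * ae.1)) :
    ∑ r, h r * f (m r) =
      (L.map fun ae => ((List.range ae.2).map fun i => h (k ^ i * ae.1)).sum * f (m ae.1)).sum := by
  have hpow : ∀ i r, m (k ^ i * r) = m r := by
    intro i
    induction i with
    | zero => simp
    | succ i ih => intro r; rw [pow_succ, mul_assoc, ih, hm]
  rw [Finset.sum, hL, Multiset.map_coe, Multiset.sum_coe]
  clear hL
  induction L with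
  | nil => simp
  | cons ae L ih =>
    rw [List.flatMap_cons, List.map_append, List.sum_append, ih, List.map_cons, List.sum_cons]
    congr 1
    rw [List.map_map, ← List.sum_map_mul_right]
    refine congrArg _ (List.map_congr_left fun i _ => ?_)
    simp [hpow]

/-- The two sums needed for the squared norms. -/
theorem sums_of_orbits {m : ZMod n → ℤ} {k : ZMod n} (hm : ∀ r, m (k * r) = m r)
    (L : List (ZMod n × ℕ))
    (hL : (Finset.univ : Finset (ZMod n)).val =
      ↑(L.flatMap fun ae => (List.range ae.2).map fun i => k ^ i * ae.1)) :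
    (∑ r, m r) = (L.map fun ae => (ae.2 : ℤ) * m ae.1).sum ∧
      (∑ r, m r ^ 2) = (L.map fun ae => (ae.2 : ℤ) * m ae.1 ^ 2).sum := by
  constructor
  · have := sum_orbits hm (fun _ => (1 : ℤ)) (fun z => z) L hL
    simpa using this
  · have := sum_orbits hm (fun _ => (1 : ℤ)) (fun z => z ^ 2) L hL
    simpa using this

variable {G : Type*} [Group G] [Fintype G]

/-- The function whose sum is bounded. -/
noncomputable def sqDev (χ : G → ℂ) (c : ℤ) (g : G) : ℝ := ‖χ g + c‖ ^ 2

theorem sqDev_nonneg (χ : G → ℂ) (c : ℤ) (g : G) : 0 ≤ sqDev χ c g := sq_nonneg _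

theorem sqDev_conj {χ : G → ℂ} (hχ : IsCharacter G χ) (c : ℤ) (g h : G) :
    sqDev χ c (h * g * h⁻¹) = sqDev χ c g := by
  rw [sqDev, sqDev, CharInt.char_conj_apply hχ]

/-- The sum over the elements of order `d`. -/
noncomputable def orderSum [DecidableEq G] (χ : G → ℂ) (c : ℤ) (d : ℕ) : ℝ :=
  ∑ g ∈ Finset.univ.filter (fun g => orderOf g = d), sqDev χ c g

theorem orderSum_nonneg [DecidableEq G] (χ : G → ℂ) (c : ℤ) (d : ℕ) : 0 ≤ orderSum χ c d :=
  Finset.sum_nonneg fun g _ => sqDev_nonneg χ c g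

/-- The sums over distinct orders do not exceed the whole. -/
theorem orderSum_total [DecidableEq G] {χ : IrrCharacter G} (hχ : χ.1 ≠ fun _ => 1) (c : ℤ)
    {d : ℕ} (hd : χ.1 1 = d) (ds : Finset ℕ) (h1 : 1 ∉ ds) :
    ((d : ℝ) + c) ^ 2 + ∑ k ∈ ds, orderSum χ.1 c k ≤ (Nat.card G : ℝ) * (1 + c ^ 2) := by
  rw [← sum_normSq_add_const hχ c]
  have hone : sqDev χ.1 c 1 = ((d : ℝ) + c) ^ 2 := by
    rw [sqDev, hd, show ((d : ℂ) + (c : ℂ)) = (((d : ℝ) + c : ℝ) : ℂ) by push_cast; ring,
      Complex.norm_real, Real.norm_eq_abs, sq_abs]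
  have h := Finset.sum_fiberwise_eq_sum_filter Finset.univ ds (fun g : G => orderOf g)
    (sqDev χ.1 c)
  simp only [orderSum]
  rw [h, ← hone]
  calc sqDev χ.1 c 1 + ∑ g ∈ Finset.univ.filter (fun g => orderOf g ∈ ds), sqDev χ.1 c g
      = ∑ g ∈ insert 1 (Finset.univ.filter fun g => orderOf g ∈ ds), sqDev χ.1 c g := by
        rw [Finset.sum_insert (by simp [h1])]
    _ ≤ ∑ g, sqDev χ.1 c g :=
        Finset.sum_le_sum_of_subset_of_nonneg (Finset.subset_univ _)
          fun g _ _ => sqDev_nonneg χ.1 c g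

/-- Two orbits on the nontrivial elements of a group of prime order, or one. -/
theorem prime_order_bound [DecidableEq G] {p : ℕ} (hp : p.Prime) {χ : G → ℂ}
    (hχ : IsCharacter G χ) (c : ℤ) {x : G} (hx : orderOf x = p) {k : ℕ} (hk : Nat.Coprime k p)
    {g : G} (hg : g * x * g⁻¹ = x ^ k) {N : ℕ}
    (hN : Nat.card (Subgroup.normalizer ((Subgroup.zpowers x : Subgroup G) : Set G)) ≤ N)
    (L : List (ZMod p × ℕ)) {d : ℕ} (hd : χ 1 = d) [NeZero p]
    (hL : (Finset.univ : Finset (ZMod p)).val =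
      ↑(L.flatMap fun ae => (List.range ae.2).map fun i => (k : ZMod p) ^ i * ae.1)) :
    ∃ m : ZMod p → ℤ, (L.map fun ae => (ae.2 : ℤ) * m ae.1).sum = (d : ℤ) + c ∧
      (Nat.card G : ℝ) * (((p : ℤ) * (L.map fun ae => (ae.2 : ℤ) * m ae.1 ^ 2).sum -
        ((d : ℤ) + c) ^ 2 : ℤ) : ℝ) ≤ N * orderSum χ c p := by
  obtain ⟨m, hf, hsum, hinv⟩ := exists_multiplicities hχ hx c hk hg
  obtain ⟨h1, h2⟩ := sums_of_orbits hinv L hL
  have hv : ∑ r, m r = (d : ℤ) + c := by
    have : ((∑ r, m r : ℤ) : ℂ) = (((d : ℤ) + c : ℤ) : ℂ) := by push_cast; rw [hsum, hd]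
    exact_mod_cast this
  refine ⟨m, by rw [← h1, hv], ?_⟩
  have hb := card_mul_sum_pow_le (sqDev_nonneg χ c) (sqDev_conj hχ c) hx
    (J := Finset.univ.erase (0 : ZMod p)) (d := p) (N := N) (fun j hj => by
      have h0 : 0 < j.val := Nat.pos_of_ne_zero fun h =>
        (Finset.mem_erase.1 hj).1 ((ZMod.val_eq_zero j).1 h)
      rw [(hp.coprime_iff_not_dvd.2 fun h =>
        absurd (Nat.le_of_dvd h0 h) (Nat.not_le.2 (ZMod.val_lt j)) : p.gcd j.val = 1), Nat.div_one])
    (by rwa [Nat.div_self hp.pos, pow_one])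
  refine le_trans (le_of_eq ?_) hb
  congr 1
  have htot := fourier_normSq (f := fun j : ZMod p => χ (x ^ j.val) + c) hf
  rw [← Finset.add_sum_erase _ _ (Finset.mem_univ (0 : ZMod p))] at htot
  rw [← h2]
  simp only [ZMod.val_zero, pow_zero, hd] at htot
  have hn : ‖(d : ℂ) + (c : ℂ)‖ ^ 2 = ((d : ℝ) + c) ^ 2 := by
    rw [show ((d : ℂ) + (c : ℂ)) = (((d : ℝ) + c : ℝ) : ℂ) by push_cast; ring,
      Complex.norm_real, Real.norm_eq_abs, sq_abs]
  rw [hn] at htot
  push_cast
  simp only [sqDev]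
  linarith

theorem stdAddChar_seven_add : (ZMod.stdAddChar (7 : ZMod 21) : ℂ) + ZMod.stdAddChar (14 : ZMod 21)
    = -1 := by
  set w : ℂ := ZMod.stdAddChar (7 : ZMod 21) with hw
  have h2 : (ZMod.stdAddChar (14 : ZMod 21) : ℂ) = w ^ 2 := by
    rw [hw, ← AddChar.map_nsmul_eq_pow]; rfl
  have h3 : w ^ 3 = 1 := by
    rw [hw, ← AddChar.map_nsmul_eq_pow, show (3 : ℕ) • (7 : ZMod 21) = 0 from by decide,
      AddChar.map_zero_eq_one]
  have h1 : w - 1 ≠ 0 := by
    rw [hw, sub_ne_zero, ← (ZMod.stdAddChar (N := 21)).map_zero_eq_one]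
    exact fun h => absurd (ZMod.injective_stdAddChar h) (by decide)
  rw [h2]
  refine mul_left_cancel₀ h1 ?_
  linear_combination h3

/-- A cyclic subgroup of order 21 normalised so that a generator becomes its square:
the sums over the elements of orders 3, 7 and 21 in terms of the six multiplicities. -/
theorem twentyOne_bound [DecidableEq G] {χ : G → ℂ} (hχ : IsCharacter G χ) {x : G}
    (hx : orderOf x = 21) {g : G} (hg : g * x * g⁻¹ = x ^ 2) {N₇ N₃ : ℕ}
    (h7 : Nat.card (Subgroup.normalizer ((Subgroup.zpowers (x ^ 3) : Subgroup G) : Set G)) ≤ N₇)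
    (h3 : Nat.card (Subgroup.normalizer ((Subgroup.zpowers (x ^ 7) : Subgroup G) : Set G)) ≤ N₃)
    {d : ℕ} (hd : χ 1 = d) :
    ∃ a b v V s t : ℤ, a + 2 * b + 3 * v + 3 * V + 6 * s + 6 * t = d ∧
      (Nat.card G : ℝ) * ((21 * (a ^ 2 + 2 * b ^ 2 + 3 * v ^ 2 + 3 * V ^ 2 + 6 * s ^ 2 + 6 * t ^ 2)
        - (d : ℤ) ^ 2 - 2 * (a - b + 3 * v + 3 * V - 3 * s - 3 * t) ^ 2 : ℤ) : ℝ) ≤
          N₇ * (orderSum χ 0 7 + orderSum χ 0 21) ∧
      (Nat.card G : ℝ) * ((2 * (a - b + 3 * v + 3 * V - 3 * s - 3 * t) ^ 2 : ℤ) : ℝ) ≤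
          N₃ * orderSum χ 0 3 := by
  obtain ⟨m, hf, hsum, hinv⟩ := exists_multiplicities (n := 21) hχ hx 0 (k := 2) (by decide) hg
  have hL : (Finset.univ : Finset (ZMod 21)).val =
      ↑(([(0, 1), (7, 2), (3, 3), (9, 3), (1, 6), (5, 6)] : List (ZMod 21 × ℕ)).flatMap
        fun ae => (List.range ae.2).map fun i => ((2 : ℕ) : ZMod 21) ^ i * ae.1) := by decide
  obtain ⟨hs1, hs2⟩ := sums_of_orbits hinv _ hL
  set A : ℤ := m 0 - m 7 + 3 * m 3 + 3 * m 9 - 3 * m 1 - 3 * m 5 with hA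
  have hv : ∑ r, m r = (d : ℤ) := by
    have : ((∑ r, m r : ℤ) : ℂ) = ((d : ℤ) : ℂ) := by push_cast; rw [hsum, hd]; simp
    exact_mod_cast this
  have htot := fourier_normSq (f := fun j : ZMod 21 => χ (x ^ j.val) + ((0 : ℤ) : ℂ)) hf
  have hsq : ∑ r, m r ^ 2 = m 0 ^ 2 + 2 * m 7 ^ 2 + 3 * m 3 ^ 2 + 3 * m 9 ^ 2 + 6 * m 1 ^ 2
      + 6 * m 5 ^ 2 := by
    rw [hs2]; simp; ring
  -- the value at `x ^ 7`
  have hA7 : χ (x ^ (7 : ℕ)) = (A : ℂ) ∧ χ (x ^ (14 : ℕ)) = (A : ℂ) := by
    have hval : ∀ j : ZMod 21, j = 7 ∨ j = 14 → χ (x ^ j.val) = (A : ℂ) := by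
      intro j hj
      have h := hf j
      rw [Int.cast_zero, add_zero] at h
      have := sum_orbits hinv (fun r => (ZMod.stdAddChar (r * j) : ℂ)) (fun z => (z : ℂ)) _ hL
      rw [h, Finset.sum_congr rfl fun r _ => mul_comm _ _, this]
      have hw := stdAddChar_seven_add
      rcases hj with rfl | rfl
      all_goals
        simp only [List.map_cons, List.map_nil, List.sum_cons, List.sum_nil, List.range_succ,
          List.range_zero, List.nil_append, List.cons_append, add_zero, hA]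
        norm_num
        simp only [show (21 : ZMod 21) = 0 from rfl, show (28 : ZMod 21) = 7 from rfl, show (35 : ZMod 21) = 14 from rfl, show (42 : ZMod 21) = 0 from rfl, show (49 : ZMod 21) = 7 from rfl, show (56 : ZMod 21) = 14 from rfl, show (63 : ZMod 21) = 0 from rfl, show (70 : ZMod 21) = 7 from rfl, show (84 : ZMod 21) = 0 from rfl, show (98 : ZMod 21) = 14 from rfl, show (112 : ZMod 21) = 7 from rfl, show (126 : ZMod 21) = 0 from rfl, show (140 : ZMod 21) = 14 from rfl, show (168 : ZMod 21) = 0 from rfl, show (196 : ZMod 21) = 7 from rfl, show (224 : ZMod 21) = 14 from rfl, show (252 : ZMod 21) = 0 from rfl, show (280 : ZMod 21) = 7 from rfl, show (448 : ZMod 21) = 7 from rfl, show (504 : ZMod 21) = 0 from rfl, show (560 : ZMod 21) = 14 from rfl, show (1120 : ZMod 21) = 7 from rfl, show (2240 : ZMod 21) = 14 from rfl,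
          AddChar.map_zero_eq_one]
        linear_combination (m 7 : ℂ) * hw + 3 * ((m 1 : ℂ) + m 5) * hw
    exact ⟨hval 7 (Or.inl rfl), hval 14 (Or.inr rfl)⟩
  refine ⟨m 0, m 7, m 3, m 9, m 1, m 5, ?_, ?_, ?_⟩
  · rw [← hv, hs1]; simp; ring
  · rw [← hsq, ← hA]
    have b7 := card_mul_sum_pow_le (sqDev_nonneg χ 0) (sqDev_conj hχ 0) hx
      (J := Finset.univ.filter fun j : ZMod 21 => 21 / Nat.gcd 21 j.val = 7) (d := 7) (N := N₇)
      (fun j hj => (Finset.mem_filter.1 hj).2) h7
    have b21 := card_mul_sum_pow_le (sqDev_nonneg χ 0) (sqDev_conj hχ 0) hx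
      (J := Finset.univ.filter fun j : ZMod 21 => 21 / Nat.gcd 21 j.val = 21) (d := 21) (N := N₇)
      (fun j hj => (Finset.mem_filter.1 hj).2) (by
        rw [Nat.div_self (by norm_num : 0 < 21), pow_one]
        refine le_trans (Subgroup.card_le_of_le ?_) h7
        intro k hk
        rw [Subgroup.mem_normalizer_iff] at hk
        have hkx := (hk x).1 (Subgroup.mem_zpowers x)
        obtain ⟨i, hi⟩ := Subgroup.mem_zpowers_iff.1 hkx
        have hle : (Subgroup.zpowers (x ^ 3)).map (MulAut.conj k).toMonoidHom ≤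
            Subgroup.zpowers (x ^ 3) := by
          rw [MonoidHom.map_zpowers, Subgroup.zpowers_le]
          refine Subgroup.mem_zpowers_iff.2 ⟨i, ?_⟩
          change (x ^ 3) ^ i = k * x ^ 3 * k⁻¹
          rw [← conj_pow, ← hi, ← zpow_natCast (x ^ i) 3, ← zpow_natCast x 3, ← zpow_mul,
            ← zpow_mul, mul_comm]
        have heq := Subgroup.eq_of_le_of_card_ge hle (le_of_eq
          (Subgroup.card_map_of_injective (MulAut.conj k).injective).symm)
        rw [Subgroup.mem_normalizer_iff]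
        intro z
        conv_rhs => rw [← heq]
        exact (Subgroup.mem_map_iff_mem (f := (MulAut.conj k).toMonoidHom)
          (MulAut.conj k).injective).symm)
    have hsplit : (Finset.univ : Finset (ZMod 21)) = ({0, 7, 14} : Finset (ZMod 21)) ∪
        ((Finset.univ.filter fun j : ZMod 21 => 21 / Nat.gcd 21 j.val = 7) ∪
          (Finset.univ.filter fun j : ZMod 21 => 21 / Nat.gcd 21 j.val = 21)) := by decide
    rw [hsplit, Finset.sum_union (by decide), Finset.sum_union (by decide)] at htot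
    rw [Finset.sum_insert (by decide), Finset.sum_insert (by decide), Finset.sum_singleton,
      ← hsplit] at htot
    simp only [ZMod.val_zero, pow_zero, hd, show (7 : ZMod 21).val = 7 from rfl,
      show (14 : ZMod 21).val = 14 from rfl, hA7.1, hA7.2, Int.cast_zero, add_zero,
      Complex.norm_natCast, Complex.norm_intCast, sq_abs] at htot
    simp only [sqDev, Int.cast_zero, add_zero] at b7 b21
    simp only [orderSum, sqDev, Int.cast_zero, add_zero]
    rw [mul_add]
    refine le_trans (le_of_eq ?_) (add_le_add b7 b21)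
    rw [← mul_add]
    congr 1
    push_cast at htot ⊢
    linarith
  · rw [← hA]
    have b3 := card_mul_sum_pow_le (sqDev_nonneg χ 0) (sqDev_conj hχ 0) hx
      (J := ({7, 14} : Finset (ZMod 21))) (d := 3) (N := N₃) (by decide) h3
    refine le_trans (le_of_eq ?_) b3
    rw [Finset.sum_insert (by decide), Finset.sum_singleton]
    simp only [sqDev, show (7 : ZMod 21).val = 7 from rfl, show (14 : ZMod 21).val = 14 from rfl,
      hA7.1, hA7.2, Int.cast_zero, add_zero, Complex.norm_intCast, sq_abs]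
    push_cast
    ring

end Cfsg.Agent.Mathieu
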