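import Cfsg.Agent.Lib.Mathieu.Simple
import Cfsg.Agent.Lib.Mathieu.SylowTwo
import Cfsg.Agent.Lib.Mathieu.BlockCert
import Cfsg.Agent.Lib.Mathieu.DegreeBound
import Cfsg.Agent.Lib.Char.Descend

/-!
Elements of the Mathieu groups from packed permutations, their orders and normalisers, and the
degrees that a character of full 2-power degree could have.
-/

set_option autoImplicit false

namespace Cfsg.Agent.Mathieu

open Cfsg

variable {H : Subgroup (Equiv.Perm GolayPt)} {memH : ℕ → Bool}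

/-- A packed element of `H`. -/
theorem exists_elt (hmem : ∀ σ g, Rep ptEnc σ g → memH g = true → σ ∈ H) {l : ℕ}
    (h : (permOK 24 l && memH l) = true) : ∃ x : H, Rep ptEnc (x : Equiv.Perm GolayPt) l := by
  rw [Bool.and_eq_true] at h
  obtain ⟨σ, hσ⟩ := exists_rep (e := ptEnc) h.1
  exact ⟨⟨σ, hmem σ l hσ h.2⟩, hσ⟩

theorem rep_pow_coe {x : H} {l : ℕ} (hx : Rep ptEnc (x : Equiv.Perm GolayPt) l) (k : ℕ) :
    Rep ptEnc ((x ^ k : H) : Equiv.Perm GolayPt) (packPow 24 l k) := by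
  rw [Subgroup.coe_pow]; exact rep_packPow (by norm_num) hx k

theorem pow_eq_one_of_packPow {x : H} {l k : ℕ} (hx : Rep ptEnc (x : Equiv.Perm GolayPt) l)
    (h : isId 24 (packPow 24 l k) = true) : x ^ k = 1 :=
  Subtype.ext ((rep_pow_coe hx k).eq_one h)

theorem pow_ne_one_of_packPow {x : H} {l k : ℕ} (hx : Rep ptEnc (x : Equiv.Perm GolayPt) l)
    (h : isId 24 (packPow 24 l k) = false) : x ^ k ≠ 1 := fun he => by
  have h1 := rep_pow_coe hx k
  rw [he, Subgroup.coe_one] at h1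
  rw [isId_of_rep_one h1] at h
  exact Bool.noConfusion h

theorem orderOf_of_prime_pack {p : ℕ} (hp : p.Prime) {x : H} {l : ℕ}
    (hx : Rep ptEnc (x : Equiv.Perm GolayPt) l)
    (h : (isId 24 (packPow 24 l p) && !isId 24 (packPow 24 l 1)) = true) : orderOf x = p := by
  rw [Bool.and_eq_true, Bool.not_eq_eq_eq_not, Bool.not_true] at h
  haveI := Fact.mk hp
  exact orderOf_eq_prime (pow_eq_one_of_packPow hx h.1)
    (by simpa using pow_ne_one_of_packPow hx h.2)

theorem exists_conj_pow (hmem : ∀ σ g, Rep ptEnc σ g → memH g = true → σ ∈ H) {x : H} {l g k : ℕ}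
    (hx : Rep ptEnc (x : Equiv.Perm GolayPt) l)
    (h : (permOK 24 g && memH g && conjP 24 g l (packPow 24 l k)) = true) :
    ∃ γ : H, γ * x * γ⁻¹ = x ^ k := by
  rw [Bool.and_eq_true] at h
  obtain ⟨γ, hγ⟩ := exists_elt hmem h.1
  exact ⟨γ, Subtype.ext (conj_eq_of_conjP hγ hx (rep_pow_coe hx k) h.2)⟩

/-- `|N(⟨x⟩)| = |C(x)| m` with `m` a divisor of `φ(|x|)`, and `|C(x)|` bounded by a search. -/
theorem normalizer_bound {levels : List CertLevel} (hlev : levelsOK 24 [] levels = true)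
    (hrep : ∀ t ∈ allReps levels, ∃ σ ∈ H, Rep ptEnc σ t) (hup : Upper ptEnc H levels)
    (hbot : fixList H (levels.map fun p => idx ptEnc p.1) = ⊥)
    {x : H} {z : ℕ} (hz : Rep ptEnc (x : Equiv.Perm GolayPt) z) {L : List ℕ}
    (hs : searchOK 24 z (centLeaf 24 z L) levels (packId 24) [] [] = true) :
    ∃ C m : ℕ, C ≤ L.length ∧ orderOf x ∣ C ∧ m ∣ (orderOf x).totient ∧
      Nat.card (Subgroup.normalizer ((Subgroup.zpowers x : Subgroup H) : Set H)) = C * m := by
  obtain ⟨m, hm, hcard⟩ := card_normalizer_zpowers x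
  refine ⟨_, m, card_centralizer_le (by norm_num) hlev hrep hup hbot x hz hs, ?_, hm, hcard⟩
  rw [← Nat.card_zpowers]
  exact Subgroup.card_dvd_of_le (Subgroup.zpowers_le.2
    (Subgroup.mem_centralizer_singleton_iff.2 rfl))

/-- A degree divisible by the full power of two is an odd multiple of it, not exceeding the
square root of the order. -/
theorem degree_facts {G : Type*} [Group G] [Fintype G] (χ : IrrCharacter G) {q : ℕ}
    (hq : q ∣ charDegree χ.1) :
    charDegree χ.1 ∣ Nat.card G ∧ charDegree χ.1 ^ 2 ≤ Nat.card G ∧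
      χ.1 1 = (charDegree χ.1 : ℂ) ∧ q ∣ charDegree χ.1 := by
  rw [Blocks.charDegree_eq] at hq ⊢
  refine ⟨?_, ?_, Char.apply_one_eq_degree χ, hq⟩
  · have h := Char.charDegree_dvd_card χ
    rwa [Blocks.charDegree_eq] at h
  · rw [← Char.sum_degree_sq (G := G)]
    exact Finset.single_le_sum (fun φ _ => Nat.zero_le (Char.degree φ ^ 2)) (Finset.mem_univ χ)

end Cfsg.Agent.Mathieu
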