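import Cfsg.Agent.Lib.Mathieu.InvCentCheck
import Cfsg.Agent.Lib.Mathieu.SevenData

/-!
Kernel checks for the normaliser of a subgroup of order seven.
-/

set_option autoImplicit false
set_option maxRecDepth 20000

namespace Cfsg.Agent.Mathieu

open Cfsg

/-- The permutations of `0, 1, 2`. -/
def perm3 : List (List ℕ) := [[0, 1, 2], [0, 2, 1], [1, 0, 2], [1, 2, 0], [2, 0, 1], [2, 1, 0]]

/-- The elements carrying `sevenElt` to its `j`-th power, with `j`. -/
def sevenFix : List (ℕ × ℕ) :=
  sevenTab.flatMap fun a => moveFour.flatMap fun b => force (packMulS 24 a b) fun f =>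
    (List.range 6).flatMap fun j => force (sevenPow.getD (j + 1) 0) fun y =>
      if app f 4 == app y (app f 3) then
        (commFive f sevenElt y).map fun s => (j + 1, key24 (packMulS 24 f s))
      else []

theorem sevenTab_pattern : (sevenTab.length == 126 && (List.range 6).all fun k =>
    (List.range 21).all fun a => force (sevenTab.getD (21 * k + a) 0) fun g =>
      permOK 24 g && presCode g && app g 0 == (perm3.getD k []).getD 0 0 &&
        app g 1 == (perm3.getD k []).getD 1 0 && app g 2 == (perm3.getD k []).getD 2 0 &&
        app g 3 == a + 3) = true := by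
  decide +kernel

theorem sevenPow_pattern : (permOK 24 sevenElt && presCode sevenElt && sevenPow.length == 7 &&
    app sevenElt 3 == 4 && isIdS 24 (sevenPow.getD 0 0) && permOK 24 (sevenPow.getD 0 0) &&
    isIdS 24 (packMulS 24 sevenElt (sevenPow.getD 6 0)) &&
    (List.range 6).all (fun j => samePack 24 (packMulS 24 sevenElt (sevenPow.getD j 0))
      (sevenPow.getD (j + 1) 0) && (List.range 24).all fun i =>
        (app (sevenPow.getD (j + 1) 0) i == i) == i.blt 3)) = true := by
  decide +kernel

theorem sevenFix_eq : ((sevenFix.map Prod.snd == sevenNorm) &&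
    ((sevenFix.filter fun p => p.1 == 1).map Prod.snd == sevenCent)) = true := by
  decide +kernel

theorem sevenNorm_ok : (sevenNorm.length == 126 && sevenCent.length == 42 &&
    sevenCent.contains sevenPair.1 && sevenCent.contains sevenPair.2 &&
    !samePack 24 (packMulS 24 sevenPair.1 sevenPair.2) (packMulS 24 sevenPair.2 sevenPair.1) &&
    sevenTrio.blt 3795 && sevenNorm.all fun c =>
      (trioAt sevenTrio).all fun m => force (pimg c m) (trioAt sevenTrio).contains) = true := by
  decide +kernel

theorem sevenNorm_nodup : (sevenNorm.map key24).Nodup := by decide +kernel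

theorem sevenCent_nodup : (sevenCent.map key24).Nodup := by decide +kernel

end Cfsg.Agent.Mathieu
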