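import Cfsg.Agent.Lib.Mathieu.InvCent
import Cfsg.Agent.Lib.Mathieu.SevenCheck

/-!
The normaliser of a subgroup of order seven: order 126, centraliser non-abelian of order 42, and a
fixed trio.
-/

set_option autoImplicit false
set_option maxRecDepth 20000

namespace Cfsg.Agent.Mathieu

open Cfsg
open scoped Pointwise

theorem sevenElt_rep : decode sevenElt ∈ M24 ∧ Rep ptEnc (decode sevenElt) sevenElt := by
  have h := sevenPow_pattern
  simp only [Bool.and_eq_true] at h
  obtain ⟨⟨⟨⟨⟨⟨⟨hp, hc⟩, -⟩, -⟩, -⟩, -⟩, -⟩, -⟩ := h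
  exact ⟨mem_M24_of_rep (rep_decode hp) hc, rep_decode hp⟩

theorem rep_sevenPow {j : ℕ} (hj : j < 7) :
    Rep ptEnc (decode sevenElt ^ j) (sevenPow.getD j 0) := by
  have h := sevenPow_pattern
  simp only [Bool.and_eq_true, List.all_eq_true, List.mem_range] at h
  obtain ⟨⟨⟨⟨-, hid⟩, hp0⟩, -⟩, hstep⟩ := h
  induction j with
  | zero =>
    have := rep_decode hp0
    rw [this.eq_one (by simpa [isIdS, force_eq] using hid)] at this
    simpa using this
  | succ j ih =>
    have hs := (hstep j (by omega)).1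
    rw [packMulS_eq] at hs
    rw [pow_succ']
    exact (rep_packMul sevenElt_rep.2 (ih (by omega))).of_same hs

theorem sevenElt_pow_seven : decode sevenElt ^ 7 = 1 := by
  have h := sevenPow_pattern
  simp only [Bool.and_eq_true] at h
  rw [pow_succ']
  refine (rep_packMul sevenElt_rep.2 (rep_sevenPow (j := 6) (by norm_num))).eq_one ?_
  simpa [isIdS, force_eq, packMulS_eq] using h.1.2

theorem sevenPow_fix {j : ℕ} (hj : j < 6) (p : GolayPt) :
    (decode sevenElt ^ (j + 1)) p = p ↔ (ptEnc p).val < 3 := by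
  have h := sevenPow_pattern
  simp only [Bool.and_eq_true, List.all_eq_true, List.mem_range] at h
  have h' := beq_iff_eq.1 ((h.2 j hj).2 _ (ptEnc p).isLt)
  have hr := rep_sevenPow (j := j + 1) (by omega) p
  constructor
  · intro e
    rw [e] at hr
    rw [← hr, beq_self_eq_true] at h'
    have h'' := h'.symm
    rwa [Nat.blt_eq] at h''
  · intro hlt
    rw [show (ptEnc p).val.blt 3 = true by rwa [Nat.blt_eq], beq_iff_eq] at h'
    exact ptEnc.injective (Fin.ext (hr.trans h'))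

theorem perm3_complete : ∀ a b c : Fin 3, a ≠ b → a ≠ c → b ≠ c →
    [a.val, b.val, c.val] ∈ perm3 := by
  decide +kernel

theorem sevenFix_mem {c : Equiv.Perm GolayPt} (hc : c ∈ M24) {j : ℕ} (hj : j < 6)
    (hcc : c * decode sevenElt = decode sevenElt ^ (j + 1) * c) :
    ∃ l, (j + 1, l) ∈ sevenFix ∧ Rep ptEnc c l := by
  have hy := rep_sevenPow (j := j + 1) (by omega)
  have hx := sevenElt_rep.2
  have hcx : ∀ z, c (decode sevenElt z) = (decode sevenElt ^ (j + 1)) (c z) :=
    fun z => Equiv.Perm.ext_iff.1 hcc z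
  have hfix : ∀ i, i < 3 → (ptEnc (c (idx ptEnc i))).val < 3 := fun i hi => by
    rw [← sevenPow_fix hj, ← hcx]
    have := (sevenPow_fix (j := 0) (by norm_num) (idx ptEnc i)).2 (by rw [idx_val (by omega)]; exact hi)
    rw [pow_one] at this
    rw [this]
  have hinj : ∀ i k, i < 24 → k < 24 → i ≠ k →
      (ptEnc (c (idx ptEnc i))).val ≠ (ptEnc (c (idx ptEnc k))).val := fun i k hi hk hne e => hne (by
    rw [← idx_val (e := ptEnc) hi, ← idx_val (e := ptEnc) hk,
      c.injective (ptEnc.injective (Fin.ext e))])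
  have hperm := perm3_complete ⟨_, hfix 0 (by norm_num)⟩ ⟨_, hfix 1 (by norm_num)⟩
    ⟨_, hfix 2 (by norm_num)⟩
    (fun e => hinj 0 1 (by norm_num) (by norm_num) (by norm_num) (by simpa using congrArg Fin.val e))
    (fun e => hinj 0 2 (by norm_num) (by norm_num) (by norm_num) (by simpa using congrArg Fin.val e))
    (fun e => hinj 1 2 (by norm_num) (by norm_num) (by norm_num) (by simpa using congrArg Fin.val e))
  obtain ⟨k, hk, hkeq⟩ := List.mem_iff_getElem.1 hperm
  set a := (ptEnc (c (idx ptEnc 3))).val with ha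
  have ha3 : 3 ≤ a := by
    by_contra hlt
    push Not at hlt
    have h1 := (sevenPow_fix hj (c (idx ptEnc 3))).2 hlt
    rw [← hcx, hx.apply_idx (by norm_num)] at h1
    have h2 := congrArg (fun z => (ptEnc z).val) (c.injective h1)
    rw [idx_val (show 3 < 24 by norm_num), idx_val (hx.app_lt (by norm_num))] at h2
    exact absurd h2 (by decide +kernel)
  have hA := sevenTab_pattern
  simp only [Bool.and_eq_true, beq_iff_eq, List.all_eq_true, List.mem_range, force_eq] at hA
  obtain ⟨hlen, hpat⟩ := hA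
  have hk6 : k < 6 := hk
  have ha21 : a - 3 < 21 := by
    have : a < 24 := Fin.isLt _
    omega
  obtain ⟨⟨⟨⟨⟨ap, ac⟩, a0⟩, a1⟩, a2⟩, a3⟩ := hpat k hk6 (a - 3) ha21
  set A := sevenTab.getD (21 * k + (a - 3)) 0 with hAdef
  rw [List.getD_eq_getElem _ _ hk, hkeq] at a0 a1 a2
  obtain ⟨b, hb, s, hs, hrep⟩ := exists_rep_four hc ap ac fun i hi => by
    interval_cases i
    · rw [a0]; rfl
    · rw [a1]; rfl
    · rw [a2]; rfl
    · rw [a3]; omega
  have hcomm : ∀ i, i < 24 → app (packMul 24 A b) (app s (app sevenElt i)) =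
      app (sevenPow.getD (j + 1) 0) (app (packMul 24 A b) (app s i)) := fun i hi => by
    have l1 := rep_packMul hrep hx
    have l2 := rep_packMul hy hrep
    rw [hcc] at l1
    have := (l1 (idx ptEnc i)).symm.trans (l2 (idx ptEnc i))
    rwa [idx_val hi, app_packMul hi, app_packMul hi, app_packMul hi, app_packMul (hx.app_lt hi)] at this
  have hfl := fiveLevels_check
  simp only [Bool.and_eq_true, List.all_eq_true, List.mem_range, beq_iff_eq] at hfl
  obtain ⟨⟨⟨⟨⟨⟨-, hl⟩, -⟩, -⟩, -⟩, -⟩, -⟩ := hfl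
  obtain ⟨⟨-, -⟩, sfix⟩ := hl s hs
  refine ⟨key24 (packMul 24 (packMul 24 A b) s), ?_, rep_key24 hrep⟩
  simp only [sevenFix, List.mem_flatMap, force_eq, packMulS_eq, List.mem_range]
  refine ⟨A, ?_, b, hb, j, hj, ?_⟩
  · rw [hAdef, List.getD_eq_getElem _ _ (by omega : 21 * k + (a - 3) < sevenTab.length)]
    exact List.getElem_mem _
  · have h34 := hcomm 3 (by norm_num)
    have hx3 : app sevenElt 3 = 4 := by decide +kernel
    rw [hx3, sfix 4 (by norm_num), sfix 3 (by norm_num)] at h34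
    rw [if_pos (beq_iff_eq.2 h34)]
    refine List.mem_map.2 ⟨s, ?_, rfl⟩
    simp only [commFive, force_eq, List.mem_filter, Bool.and_eq_true, beq_iff_eq, List.all_eq_true,
      List.mem_range]
    refine ⟨hs, ?_, hcomm⟩
    rw [hcomm 4 (by norm_num), sfix 4 (by norm_num)]

theorem sevenFix_spec {j l : ℕ} (h : (j, l) ∈ sevenFix) :
    ∃ c ∈ M24, c * decode sevenElt = decode sevenElt ^ j * c ∧ Rep ptEnc c l := by
  simp only [sevenFix, List.mem_flatMap, force_eq, packMulS_eq, List.mem_range] at h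
  obtain ⟨A, hA, b, hb, i, hi, h⟩ := h
  split at h
  swap
  · simp at h
  obtain ⟨s, hs, e⟩ := List.mem_map.1 h
  obtain ⟨rfl, rfl⟩ : i + 1 = j ∧ key24 (packMul 24 (packMul 24 A b) s) = l := by simpa using e
  simp only [commFive, force_eq, List.mem_filter, Bool.and_eq_true, beq_iff_eq, List.all_eq_true,
    List.mem_range] at hs
  obtain ⟨hs, -, hcomm⟩ := hs
  have hA' := sevenTab_pattern
  simp only [Bool.and_eq_true, beq_iff_eq, List.all_eq_true, List.mem_range, force_eq] at hA'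
  obtain ⟨n, hn, rfl⟩ := List.mem_iff_getElem.1 hA
  obtain ⟨⟨⟨⟨⟨ap, ac⟩, -⟩, -⟩, -⟩, -⟩ := hA'.2 (n / 21) (by omega) (n % 21) (Nat.mod_lt _ (by norm_num))
  rw [Nat.div_add_mod, List.getD_eq_getElem _ _ hn] at ap ac
  have hb' := moveFour_pattern
  simp only [Bool.and_eq_true, beq_iff_eq, List.all_eq_true, List.mem_range, force_eq] at hb'
  obtain ⟨m, hm, rfl⟩ := List.mem_iff_getElem.1 hb
  obtain ⟨⟨⟨⟨⟨⟨bp, bc⟩, -⟩, -⟩, -⟩, -⟩, -⟩ := hb'.2 m (by omega)
  rw [List.getD_eq_getElem _ _ hm] at bp bc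
  have hfl := fiveLevels_check
  simp only [Bool.and_eq_true, List.all_eq_true, List.mem_range, beq_iff_eq] at hfl
  obtain ⟨⟨⟨⟨⟨⟨-, hl5⟩, -⟩, -⟩, -⟩, -⟩, -⟩ := hfl
  obtain ⟨⟨sp, sc⟩, -⟩ := hl5 s hs
  have hrA := rep_decode ap
  have hrb := rep_decode bp
  have hrs := rep_decode sp
  have hrep := rep_packMul (rep_packMul hrA hrb) hrs
  have hx := sevenElt_rep.2
  have hy := rep_sevenPow (j := i + 1) (by omega)
  refine ⟨_, M24.mul_mem (M24.mul_mem (mem_M24_of_rep hrA ac) (mem_M24_of_rep hrb bc))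
    (mem_M24_of_rep hrs sc), ?_, rep_key24 hrep⟩
  have l1 := rep_packMul hrep hx
  have l2 := rep_packMul hy hrep
  refine Equiv.ext fun z => ptEnc.injective (Fin.ext ?_)
  rw [l1 z, l2 z, app_packMul (Fin.isLt _), app_packMul (Fin.isLt _),
    app_packMul (hx.app_lt (Fin.isLt _)), app_packMul (Fin.isLt _)]
  exact hcomm _ (Fin.isLt _)

theorem sevenElt_order : orderOf (decode sevenElt) = 7 := by
  have : Fact (Nat.Prime 7) := ⟨by norm_num⟩
  refine orderOf_eq_prime sevenElt_pow_seven fun e => ?_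
  have h := (sevenPow_fix (j := 0) (by norm_num) (idx ptEnc 3)).1 (by rw [pow_one, e]; rfl)
  rw [idx_val (by norm_num)] at h
  omega

theorem mem_zpowers_seven {y : Equiv.Perm GolayPt} :
    y ∈ Subgroup.zpowers (decode sevenElt) ↔ ∃ j, j < 7 ∧ decode sevenElt ^ j = y := by
  classical
  rw [mem_zpowers_iff_mem_range_orderOf, sevenElt_order, Finset.mem_image]
  simp

theorem norm_seven_iff {c : Equiv.Perm GolayPt} :
    (∀ y, y ∈ Subgroup.zpowers (decode sevenElt) ↔ c * y * c⁻¹ ∈ Subgroup.zpowers (decode sevenElt)) ↔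
      ∃ j, j < 6 ∧ c * decode sevenElt = decode sevenElt ^ (j + 1) * c := by
  classical
  constructor
  · intro h
    obtain ⟨j, hj, e⟩ := mem_zpowers_seven.1 ((h _).1 (Subgroup.mem_zpowers _))
    rcases j with _ | j
    · exfalso
      rw [pow_zero] at e
      have h1 : decode sevenElt = 1 := by
        have := congrArg (fun z => c⁻¹ * z * c) e
        simpa [mul_assoc] using this.symm
      have := sevenElt_order
      rw [h1, orderOf_one] at this
      norm_num at this
    · exact ⟨j, by omega, by rw [e]; group⟩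
  · rintro ⟨j, hj, e⟩
    have hconj : c * decode sevenElt * c⁻¹ = decode sevenElt ^ (j + 1) := by rw [e]; group
    set Z := Subgroup.zpowers (decode sevenElt) with hZ
    have himg : Z.map (MulAut.conj c).toMonoidHom = Z := by
      rw [hZ, MonoidHom.map_zpowers]
      show Subgroup.zpowers (c * decode sevenElt * c⁻¹) = _
      rw [hconj]
      refine le_antisymm (Subgroup.zpowers_le.2 (pow_mem (Subgroup.mem_zpowers _) _)) ?_
      refine Subgroup.zpowers_le.2 ?_
      have hcop : Nat.Coprime (j + 1) (orderOf (decode sevenElt)) := by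
        rw [sevenElt_order]
        interval_cases j <;> decide
      obtain ⟨m, hm⟩ := exists_pow_eq_self_of_coprime (x := decode sevenElt) hcop
      have hmem := pow_mem (Subgroup.mem_zpowers (decode sevenElt ^ (j + 1))) m
      rwa [hm] at hmem
    intro y
    conv_rhs => rw [← himg]
    exact (Subgroup.mem_map_iff_mem (MulAut.conj c).injective).symm

/-- The statement for the reference subgroup of order seven. -/
theorem seven_base : ∃ S₀ : Subgroup ↥M24, Nat.card S₀ = 7 ∧
    Nat.card ↥(Subgroup.normalizer (S₀ : Set ↥M24)) = 126 ∧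
    Nat.card ↥(Subgroup.centralizer (S₀ : Set ↥M24)) = 42 ∧
    (∃ x ∈ Subgroup.centralizer (S₀ : Set ↥M24), ∃ y ∈ Subgroup.centralizer (S₀ : Set ↥M24),
      x * y ≠ y * x) ∧
    ∃ T ∈ trios, ∀ n ∈ Subgroup.normalizer (S₀ : Set ↥M24), ((n : ↥M24) : Equiv.Perm GolayPt) • T = T := by
  classical
  let x : ↥M24 := ⟨decode sevenElt, sevenElt_rep.1⟩
  refine ⟨Subgroup.zpowers x, ?_, ?_⟩
  · rw [Nat.card_zpowers, ← Subgroup.orderOf_coe]
    exact sevenElt_order
  have hmem : ∀ y : ↥M24, y ∈ Subgroup.zpowers x ↔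
      (y : Equiv.Perm GolayPt) ∈ Subgroup.zpowers (decode sevenElt) := fun y => by
    rw [Subgroup.mem_zpowers_iff, Subgroup.mem_zpowers_iff]
    exact exists_congr fun k => by rw [Subtype.ext_iff, SubgroupClass.coe_zpow]
  have hN : ∀ n : ↥M24, n ∈ Subgroup.normalizer (Subgroup.zpowers x : Set ↥M24) ↔
      ∃ j, j < 6 ∧ (n : Equiv.Perm GolayPt) * decode sevenElt =
        decode sevenElt ^ (j + 1) * (n : Equiv.Perm GolayPt) := by
    intro n
    rw [← norm_seven_iff, Subgroup.mem_normalizer_iff]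
    constructor
    · intro h y
      constructor
      · intro hy
        have hyM : y ∈ M24 := (Subgroup.zpowers_le.2 sevenElt_rep.1) hy
        exact (hmem _).1 ((h ⟨y, hyM⟩).1 ((hmem _).2 hy))
      · intro hy
        have hyM : y ∈ M24 := by
          have := M24.mul_mem (M24.mul_mem (M24.inv_mem n.2) ((Subgroup.zpowers_le.2 sevenElt_rep.1) hy)) n.2
          simpa [mul_assoc] using this
        exact (hmem _).1 ((h ⟨y, hyM⟩).2 ((hmem _).2 hy))
    · intro h y
      rw [hmem, hmem]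
      exact h y
  have hC : ∀ n : ↥M24, n ∈ Subgroup.centralizer (Subgroup.zpowers x : Set ↥M24) ↔
      (n : Equiv.Perm GolayPt) * decode sevenElt = decode sevenElt ^ 1 * (n : Equiv.Perm GolayPt) := by
    intro n
    rw [Subgroup.zpowers_eq_closure, Subgroup.centralizer_closure, Subgroup.mem_centralizer_singleton_iff,
      Subtype.ext_iff, pow_one]
    rfl
  have count : ∀ (L : List ℕ) (P : ↥M24 → Prop), (L.map key24).Nodup →
      (∀ l ∈ L, ∃ n, P n ∧ Rep ptEnc ((n : ↥M24) : Equiv.Perm GolayPt) l) →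
      (∀ n, P n → ∃ l ∈ L, Rep ptEnc ((n : ↥M24) : Equiv.Perm GolayPt) l) →
      Nat.card {n : ↥M24 // P n} = L.length := by
    intro L P hnd hin hout
    choose g hgP hgR using hin
    let f : {l : ℕ // l ∈ L.toFinset} → {n : ↥M24 // P n} := fun l =>
      ⟨g l.1 (List.mem_toFinset.1 l.2), hgP _ _⟩
    have hf : Function.Bijective f := by
      constructor
      · intro a b e
        have e' : g a.1 (List.mem_toFinset.1 a.2) = g b.1 (List.mem_toFinset.1 b.2) :=
          congrArg Subtype.val e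
        have ra := hgR a.1 (List.mem_toFinset.1 a.2)
        have rb := hgR b.1 (List.mem_toFinset.1 b.2)
        rw [e'] at ra
        refine Subtype.ext (List.inj_on_of_nodup_map hnd (List.mem_toFinset.1 a.2) (List.mem_toFinset.1 b.2) ?_)
        unfold key24
        refine List.foldr_ext _ _ _ fun i hi acc => ?_
        rw [List.mem_range] at hi
        have h1 := ra (idx ptEnc i)
        have h2 := rb (idx ptEnc i)
        rw [idx_val hi] at h1 h2
        rw [← h1, ← h2]
      · rintro ⟨n, hn⟩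
        obtain ⟨l, hl, hrep⟩ := hout n hn
        exact ⟨⟨l, List.mem_toFinset.2 hl⟩, Subtype.ext (Subtype.ext ((hgR l _).unique hrep))⟩
    rw [← Nat.card_eq_of_bijective f hf, Nat.card_eq_finsetCard,
      List.toFinset_card_of_nodup (hnd.of_map _)]
  have hok := sevenNorm_ok
  simp only [Bool.and_eq_true, beq_iff_eq, List.all_eq_true, force_eq, List.contains_iff_mem,
    Bool.not_eq_true', Nat.blt_eq] at hok
  obtain ⟨⟨⟨⟨⟨⟨hlenN, hlenC⟩, hp1⟩, hp2⟩, hpne⟩, htrio⟩, htfix⟩ := hok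
  have heq := sevenFix_eq
  simp only [Bool.and_eq_true, beq_iff_eq] at heq
  have hCout : ∀ l ∈ sevenCent, ∃ n : ↥M24,
      n ∈ Subgroup.centralizer (Subgroup.zpowers x : Set ↥M24) ∧
        Rep ptEnc ((n : ↥M24) : Equiv.Perm GolayPt) l := fun l hl => by
    rw [← heq.2] at hl
    obtain ⟨⟨j, l'⟩, hmem', rfl⟩ := List.mem_map.1 hl
    obtain ⟨hf, hj⟩ := List.mem_filter.1 hmem'
    obtain ⟨c, hc, hcc, hrep⟩ := sevenFix_spec hf
    obtain rfl : j = 1 := by simpa using hj
    exact ⟨⟨c, hc⟩, (hC _).2 hcc, hrep⟩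
  refine ⟨?_, ?_, ?_, setOfMasks (trioAt sevenTrio), setOfMasks_trioAt_mem htrio, fun n hn => ?_⟩
  · rw [← hlenN]
    refine count sevenNorm _ sevenNorm_nodup (fun l hl => ?_) fun n hn => ?_
    · rw [← heq.1] at hl
      obtain ⟨⟨j, l'⟩, hf, rfl⟩ := List.mem_map.1 hl
      obtain ⟨c, hc, hcc, hrep⟩ := sevenFix_spec hf
      have hj : ∃ i, i < 6 ∧ i + 1 = j := by
        simp only [sevenFix, List.mem_flatMap, force_eq, packMulS_eq, List.mem_range] at hf
        obtain ⟨A, -, b, -, i, hi, h⟩ := hf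
        split at h
        · obtain ⟨s, -, e⟩ := List.mem_map.1 h
          exact ⟨i, hi, (Prod.ext_iff.1 e).1⟩
        · simp at h
      obtain ⟨i, hi, rfl⟩ := hj
      exact ⟨⟨c, hc⟩, (hN _).2 ⟨i, hi, hcc⟩, hrep⟩
    · obtain ⟨j, hj, hcc⟩ := (hN n).1 hn
      obtain ⟨l, hl, hrep⟩ := sevenFix_mem n.2 hj hcc
      exact ⟨l, heq.1 ▸ List.mem_map.2 ⟨_, hl, rfl⟩, hrep⟩
  · rw [← hlenC]
    refine count sevenCent _ sevenCent_nodup hCout fun n hn => ?_
    obtain ⟨l, hl, hrep⟩ := sevenFix_mem n.2 (j := 0) (by norm_num) ((hC n).1 hn)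
    exact ⟨l, heq.2 ▸ List.mem_map.2 ⟨(1, l), List.mem_filter.2 ⟨hl, rfl⟩, rfl⟩, hrep⟩
  · obtain ⟨a, ha, hra⟩ := hCout _ hp1
    obtain ⟨b, hb, hrb⟩ := hCout _ hp2
    refine ⟨a, ha, b, hb, fun e => ?_⟩
    have e' : (a : Equiv.Perm GolayPt) * b = b * a := congrArg Subtype.val e
    have r1 := rep_packMul hra hrb
    have r2 := rep_packMul hrb hra
    rw [e'] at r1
    refine Bool.false_ne_true (hpne.symm.trans ?_)
    simp only [samePack, force_eq, packMulS_eq, List.all_eq_true, List.mem_range, beq_iff_eq]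
    intro i hi
    have h1 := r1 (idx ptEnc i)
    have h2 := r2 (idx ptEnc i)
    rw [idx_val hi] at h1 h2
    rw [← h1, ← h2]
  · obtain ⟨j, hj, hcc⟩ := (hN n).1 hn
    obtain ⟨l, hl, hrep⟩ := sevenFix_mem n.2 hj hcc
    exact smul_sextet_of_pimg hrep fun m hm => htfix l (heq.1 ▸ List.mem_map.2 ⟨_, hl, rfl⟩) m hm

theorem seven_facts (S : Subgroup ↥M24) (hS : Nat.card S = 7) :
    Nat.card ↥(Subgroup.normalizer (S : Set ↥M24)) = 126 ∧
    Nat.card ↥(Subgroup.centralizer (S : Set ↥M24)) = 42 ∧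
    (∃ x ∈ Subgroup.centralizer (S : Set ↥M24), ∃ y ∈ Subgroup.centralizer (S : Set ↥M24),
      x * y ≠ y * x) ∧
    ∃ T ∈ trios, ∀ n ∈ Subgroup.normalizer (S : Set ↥M24),
      ((n : ↥M24) : Equiv.Perm GolayPt) • T = T := by
  classical
  obtain ⟨S₀, h7, hN, hC, ⟨a, ha, b, hb, hne⟩, T, hT, hfix⟩ := seven_base
  have : Fact (Nat.Prime 7) := ⟨by norm_num⟩
  have hf : (Nat.card ↥M24).factorization 7 = 1 := by
    rw [card_M24, show (244823040 : ℕ) = 7 * 34974720 from rfl,
      Nat.factorization_mul (by norm_num) (by norm_num), Finsupp.add_apply,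
      Nat.Prime.factorization_self (by norm_num),
      Nat.factorization_eq_zero_of_not_dvd (by norm_num)]
  let P : Sylow 7 ↥M24 := Sylow.ofCard S (by rw [hS, hf]; norm_num)
  let P₀ : Sylow 7 ↥M24 := Sylow.ofCard S₀ (by rw [h7, hf]; norm_num)
  obtain ⟨k, hk⟩ := MulAction.exists_smul_eq ↥M24 P₀ P
  have hS' : S = S₀.map (MulAut.conj k).toMonoidHom :=
    (congrArg (fun Q : Sylow 7 ↥M24 => (Q : Subgroup ↥M24)) hk).symm
  have hmem : ∀ y, y ∈ S ↔ k⁻¹ * y * k ∈ S₀ := fun y => by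
    rw [hS', Subgroup.mem_map_equiv]
    rfl
  have hNiff : ∀ n, k⁻¹ * n * k ∈ Subgroup.normalizer (S₀ : Set ↥M24) ↔
      n ∈ Subgroup.normalizer (S : Set ↥M24) := fun n => by
    rw [Subgroup.mem_normalizer_iff, Subgroup.mem_normalizer_iff]
    constructor
    · intro h y
      rw [hmem, hmem, h (k⁻¹ * y * k)]
      refine iff_of_eq (congrArg (· ∈ S₀) ?_)
      group
    · intro h y
      have h' := h (k * y * k⁻¹)
      rw [hmem, hmem] at h'
      simpa [mul_assoc] using h'
  have hCiff : ∀ n, k⁻¹ * n * k ∈ Subgroup.centralizer (S₀ : Set ↥M24) ↔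
      n ∈ Subgroup.centralizer (S : Set ↥M24) := fun n => by
    rw [Subgroup.mem_centralizer_iff, Subgroup.mem_centralizer_iff]
    constructor
    · intro h y hy
      have h' := h _ ((hmem y).1 hy)
      calc y * n = k * (k⁻¹ * y * k * (k⁻¹ * n * k)) * k⁻¹ := by group
        _ = k * (k⁻¹ * n * k * (k⁻¹ * y * k)) * k⁻¹ := by rw [h']
        _ = n * y := by group
    · intro h y hy
      have h' := h (k * y * k⁻¹) ((hmem _).2 (by simpa [mul_assoc] using hy))
      calc y * (k⁻¹ * n * k) = k⁻¹ * (k * y * k⁻¹ * n) * k := by group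
        _ = k⁻¹ * (n * (k * y * k⁻¹)) * k := by rw [h']
        _ = k⁻¹ * n * k * y := by group
  refine ⟨?_, ?_, ⟨k * a * k⁻¹, (hCiff _).1 ?_, k * b * k⁻¹, (hCiff _).1 ?_, ?_⟩,
    (k : Equiv.Perm GolayPt) • T, M24_smul_mem_trios k.2 hT, fun n hn => ?_⟩
  · rw [← hN]
    refine Nat.card_congr (Equiv.subtypeEquiv (MulAut.conj k⁻¹).toEquiv fun n => ?_)
    show _ ↔ k⁻¹ * n * k⁻¹⁻¹ ∈ _
    rw [inv_inv]
    exact (hNiff n).symm
  · rw [← hC]
    refine Nat.card_congr (Equiv.subtypeEquiv (MulAut.conj k⁻¹).toEquiv fun n => ?_)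
    show _ ↔ k⁻¹ * n * k⁻¹⁻¹ ∈ _
    rw [inv_inv]
    exact (hCiff n).symm
  · simpa [mul_assoc] using ha
  · simpa [mul_assoc] using hb
  · intro e
    refine hne ?_
    have := congrArg (fun z => k⁻¹ * z * k) e
    simpa [mul_assoc] using this
  · have h := hfix _ ((hNiff n).2 hn)
    rw [Subgroup.coe_mul, Subgroup.coe_mul, Subgroup.coe_inv, mul_smul, mul_smul,
      inv_smul_eq_iff] at h
    exact h

end Cfsg.Agent.Mathieu
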