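import Cfsg.Agent.Lib.Mathieu.OrbitTree
import Cfsg.Agent.Lib.Mathieu.BlocksData

/-!
Kernel checks on the lists of octads, trios and sextets.
-/

set_option autoImplicit false
set_option maxRecDepth 20000

namespace Cfsg.Agent.Mathieu

open Cfsg

/-- The masks packed in a number, 24 bits each. -/
def masksOf : ℕ → ℕ → List ℕ
  | 0, _ => []
  | k + 1, c => c % 16777216 :: masksOf k (c / 16777216)

/-- Insert into an increasing list. -/
def ins (a : ℕ) : List ℕ → List ℕ
  | [] => [a]
  | b :: l => if a.ble b then a :: b :: l else b :: ins a l

/-- Insertion sort. -/
def isort : List ℕ → List ℕ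
  | [] => []
  | a :: l => ins a (isort l)

/-- A strictly increasing list of masks below `2 ^ 24`. -/
def canonList : List ℕ → Bool
  | [] => true
  | [a] => a.blt 16777216
  | a :: b :: l => a.blt b && canonList (b :: l)

/-- Strictly increasing. -/
def incr : List ℕ → Bool
  | [] => true
  | [_] => true
  | a :: b :: l => a.blt b && incr (b :: l)

/-- The `i`-th octad. -/
def octAt (i : ℕ) : ℕ := atP 24 octBig i

/-- The list of octads. -/
def octL : List ℕ := (List.range 759).map octAt

theorem octList_check : (octL == maskList 8) = true := by decide +kernel

/-- The masks of the `i`-th trio. -/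
def trioAt (i : ℕ) : List ℕ := masksOf 3 (atP 72 trioBig i)

/-- All trios, listed by their member through the extra point and the smaller other member. -/
def trioEnum : List (List ℕ) :=
  (octL.filter fun a => a.testBit 23).flatMap fun a =>
    (octL.filter fun b => Nat.beq (Nat.land a b) 0 && b.blt (16777215 ^^^ a ^^^ b)).map fun b =>
      isort [a, b, 16777215 ^^^ a ^^^ b]

theorem trioList_check : ((List.range 3795).map trioAt == trioEnum) = true := by decide +kernel

/-- A trio: three disjoint octads. -/
def blockTrioOK (i : ℕ) : Bool :=
  canonList (trioAt i) && (trioAt i).all (fun m => inCode m && popc 24 m == 8) &&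
    match trioAt i with
    | [a, b, c] => a &&& b == 0 && a &&& c == 0 && b &&& c == 0
    | _ => false

theorem blockTrio_check : ((List.range 3795).all blockTrioOK) = true := by decide +kernel

/-- Key along which the list of trios increases. -/
def trioKey : List ℕ → ℕ
  | [x, _, z] => z % 4096 * 4096 + x % 4096
  | _ => 0

theorem trioKey_check : incr ((List.range 3795).map fun i => trioKey (trioAt i)) = true := by
  decide +kernel

/-- The masks of the `i`-th sextet. -/
def sextAt (i : ℕ) : List ℕ := masksOf 6 (atP 144 sextBig i)

/-- The tetrads through the extra point. -/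
def tetList : List ℕ :=
  (List.range 23).flatMap fun c => (List.range c).flatMap fun b => (List.range b).map fun a =>
    8388608 ||| 2 ^ a ||| 2 ^ b ||| 2 ^ c

theorem tetList_length : tetList.length = 1771 := by decide +kernel

/-- A sextet: six disjoint tetrads, the last the given one, forming octads with the last. -/
def blockSextOK (i t : ℕ) : Bool :=
  canonList (sextAt i) && (sextAt i).length == 6 && (sextAt i).getD 5 0 == t &&
    (sextAt i).all fun u => popc 24 u == 4 && (u == t || inCode (t ||| u)) &&
      (sextAt i).all fun v => u == v || u &&& v == 0

theorem blockSext_check : (((List.range 1771).zip tetList).all fun x => blockSextOK x.1 x.2) = true := by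
  decide +kernel

theorem sextKey_check : incr ((List.range 1771).map fun i => (sextAt i).getD 5 0) = true := by
  decide +kernel

end Cfsg.Agent.Mathieu
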