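import Cfsg.Agent.Lib.Mathieu.SixPoints
import Cfsg.Agent.Lib.Mathieu.Rigid
import Cfsg.Agent.Lib.Mathieu.Stab.Labelled
import Cfsg.Agent.Lib.Mathieu.BlocksCheck
import Cfsg.Agent.Lib.Mathieu.InvCentData
import Cfsg.Agent.Lib.Mathieu.FreeClassData

/-!
Kernel checks for the centraliser of an involution without fixed points.
-/

set_option autoImplicit false
set_option maxRecDepth 20000

namespace Cfsg.Agent.Mathieu

open Cfsg

/-- `f * s` commutes with the packed permutation `x` up to replacing it by `y`: `f s x = y f s`. -/
def commFive (f x y : ℕ) : List ℕ :=
  force (app x 4) fun u => force (app y (app f 4)) fun w =>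
    fiveList.filter fun s => app f (app s u) == w &&
      (List.range 24).all fun i => app f (app s (app x i)) == app y (app f (app s i))

/-- The elements commuting with the involution that fix `0`. -/
def invCentFix : List ℕ :=
  invCentA.flatMap fun a => moveFour.flatMap fun b => force (packMulS 24 a b) fun f =>
    (commFive f invFree invFree).map fun s => key24 (packMulS 24 f s)

theorem invCentA_pattern : (invCentA.length == 22 && (List.range 22).all fun k =>
    force (invCentA.getD k 0) fun g => permOK 24 g && presCode g &&
      app g 0 == 0 && app g 1 == 1 && app g 2 == k + 2 && app g 3 == app invFree (k + 2)) = true := by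
  decide +kernel

theorem moveFour_pattern : (moveFour.length == 20 && (List.range 20).all fun k =>
    force (moveFour.getD k 0) fun g => permOK 24 g && presCode g &&
      app g 0 == 0 && app g 1 == 1 && app g 2 == 2 && app g 3 == 3 && app g 4 == k + 4) = true := by
  decide +kernel

theorem invCentFix_eq : (invCentFix == invCentList) = true := by decide +kernel

theorem invCentList_ok : (invCentList.length == 320 &&
    invCentList.all (fun c =>
      (sextAt invCentSextet).all fun m => force (pimg c m) (sextAt invCentSextet).contains)) = true := by
  decide +kernel

theorem invCentList_nodup : (invCentList.map key24).Nodup := by decide +kernel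

theorem invCentMoves_ok : (invCentMoves.length == 24 && (List.range 24).all fun p =>
    force (invCentMoves.getD p 0) fun c => permOK 24 c && presCode c && app c 0 == p &&
      samePack 24 (packMulS 24 c invFree) (packMulS 24 invFree c) &&
      (sextAt invCentSextet).all fun m => force (pimg c m) (sextAt invCentSextet).contains) = true := by
  decide +kernel

theorem invCentSextet_fixed : (invCentSextet.blt 1771 &&
    (sextAt invCentSextet).all fun m => force (pimg invFree m) (sextAt invCentSextet).contains) = true := by
  decide +kernel

theorem invFree_head : (app invFree 0 == 1 && app invFree 1 == 0 && app invFree 2 == 3 &&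
    app invFree 3 == 2) = true := by
  decide +kernel

end Cfsg.Agent.Mathieu
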