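import Cfsg.Agent.Lib.Mathieu.Blocks
import Cfsg.Agent.Lib.Mathieu.FreeClasses
import Cfsg.Agent.Lib.Mathieu.InvCentCheck

/-!
The centraliser of an involution without fixed points: order 7680, transitive on the points, fixing
a sextet.
-/

set_option autoImplicit false
set_option maxRecDepth 20000

namespace Cfsg.Agent.Mathieu

open Cfsg
open scoped Pointwise

theorem rep_key24 {σ : Equiv.Perm GolayPt} {l : ℕ} (h : Rep ptEnc σ l) :
    Rep ptEnc σ (key24 l) := by
  intro a
  rw [h a, key24, app_packMul_aux (fun i => app l i) _ (fun i _ => Nat.mod_lt _ (by norm_num))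
    (ptEnc a).val (by simp)]
  simp

theorem app_packMul {n a b i : ℕ} (hi : i < n) : app (packMul n a b) i = app a (app b i) := by
  rw [packMul, app_packMul_aux (fun i => app a (app b i)) _ (fun i _ => Nat.mod_lt _ (by norm_num)) i
    (by simpa using hi)]
  simp

/-- An element with given images of `0, …, 3` is such an element, a mover of `4`, and a fixer of
`0, …, 4`. -/
theorem exists_rep_four {g : Equiv.Perm GolayPt} (hg : g ∈ M24) {A : ℕ} (hp : permOK 24 A = true)
    (hc : presCode A = true) (h : ∀ i, i < 4 → (ptEnc (g (idx ptEnc i))).val = app A i) :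
    ∃ b ∈ moveFour, ∃ s ∈ fiveList, Rep ptEnc g (packMul 24 (packMul 24 A b) s) := by
  have hA := rep_decode hp
  set u := (decode A)⁻¹ * g with hu
  have hum : u ∈ M24 := M24.mul_mem (M24.inv_mem (mem_M24_of_rep hA hc)) hg
  have hu4 : ∀ i, i < 4 → u (idx ptEnc i) = idx ptEnc i := fun i hi => by
    rw [hu, Equiv.Perm.mul_apply, Equiv.Perm.inv_def, Equiv.symm_apply_eq,
      hA.apply_idx (by omega), ← h i hi, idx_self]
  have hr : 4 ≤ (ptEnc (u (idx ptEnc 4))).val := by
    by_contra hlt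
    push Not at hlt
    have h4 := hu4 _ hlt
    rw [idx_self] at h4
    have := congrArg (fun p => (ptEnc p).val) (u.injective h4)
    simp only [idx_val (show 4 < 24 by norm_num)] at this
    omega
  have hchk := moveFour_pattern
  simp only [Bool.and_eq_true, beq_iff_eq, List.all_eq_true, List.mem_range, force_eq] at hchk
  obtain ⟨hlen, hpat⟩ := hchk
  set k := (ptEnc (u (idx ptEnc 4))).val - 4 with hk
  have hk20 : k < 20 := by
    have := (ptEnc (u (idx ptEnc 4))).isLt
    omega
  obtain ⟨⟨⟨⟨⟨⟨bp, bc⟩, b0⟩, b1⟩, b2⟩, b3⟩, b4⟩ := hpat k hk20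
  have hb := rep_decode bp
  have hbmap : ∀ i, i < 5 → decode (moveFour.getD k 0) (idx ptEnc i) = u (idx ptEnc i) := fun i hi => by
    rw [hb.apply_idx (by omega)]
    interval_cases i
    · rw [b0, hu4 0 (by norm_num)]
    · rw [b1, hu4 1 (by norm_num)]
    · rw [b2, hu4 2 (by norm_num)]
    · rw [b3, hu4 3 (by norm_num)]
    · rw [b4, hk, Nat.sub_add_cancel hr, idx_self]
  obtain ⟨s, hs, hsr⟩ := mem_fiveList (σ := (decode (moveFour.getD k 0))⁻¹ * u)
    (M24.mul_mem (M24.inv_mem (mem_M24_of_rep hb bc)) hum) fun i hi => by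
      rw [Equiv.Perm.mul_apply, ← hbmap i hi, Equiv.Perm.inv_def, Equiv.symm_apply_apply]
  refine ⟨moveFour.getD k 0, ?_, s, hs, ?_⟩
  · rw [List.getD_eq_getElem _ _ (by omega : k < moveFour.length)]
    exact List.getElem_mem _
  · have h2 := rep_packMul (rep_packMul hA hb) hsr
    rwa [show decode A * decode (moveFour.getD k 0) * ((decode (moveFour.getD k 0))⁻¹ * u) = g by
      rw [hu]; group] at h2

/-- The centraliser in `M24`. -/
def centM (x : Equiv.Perm GolayPt) : Subgroup (Equiv.Perm GolayPt) :=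
  M24 ⊓ Subgroup.centralizer {x}

theorem mem_centM {x c : Equiv.Perm GolayPt} : c ∈ centM x ↔ c ∈ M24 ∧ c * x = x * c := by
  simp [centM, Subgroup.mem_centralizer_singleton_iff]

theorem invFree_rep : decode invFree ∈ M24 ∧ Rep ptEnc (decode invFree) invFree :=
  freeConj_spec (by simp)

theorem invCentFix_mem {c : Equiv.Perm GolayPt} (hc : c ∈ centM (decode invFree))
    (h0 : c (idx ptEnc 0) = idx ptEnc 0) : ∃ l ∈ invCentList, Rep ptEnc c l := by
  obtain ⟨hcM, hcc⟩ := mem_centM.1 hc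
  have hx := invFree_rep.2
  have hh := invFree_head
  simp only [Bool.and_eq_true, beq_iff_eq] at hh
  obtain ⟨⟨⟨x0, x1⟩, x2⟩, x3⟩ := hh
  have hcx : ∀ z, c (decode invFree z) = decode invFree (c z) := fun z => Equiv.Perm.ext_iff.1 hcc z
  have e1 : decode invFree (idx ptEnc 0) = idx ptEnc 1 := by rw [hx.apply_idx (by norm_num), x0]
  have e3 : decode invFree (idx ptEnc 2) = idx ptEnc 3 := by rw [hx.apply_idx (by norm_num), x2]
  have h1 : c (idx ptEnc 1) = idx ptEnc 1 := by rw [← e1, hcx, h0]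
  set p := (ptEnc (c (idx ptEnc 2))).val with hp
  have hp2 : 2 ≤ p := by
    by_contra hlt
    push Not at hlt
    have e : c (idx ptEnc 2) = idx ptEnc p := (idx_self _).symm
    rcases (show p = 0 ∨ p = 1 by omega) with h | h <;> rw [h] at e
    · have := congrArg (fun z => (ptEnc z).val) (c.injective (e.trans h0.symm))
      simp only [idx_val (show 2 < 24 by norm_num), idx_val (show 0 < 24 by norm_num)] at this
      omega
    · have := congrArg (fun z => (ptEnc z).val) (c.injective (e.trans h1.symm))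
      simp only [idx_val (show 2 < 24 by norm_num), idx_val (show 1 < 24 by norm_num)] at this
      omega
  have hp24 : p < 24 := Fin.isLt _
  have hA := invCentA_pattern
  simp only [Bool.and_eq_true, beq_iff_eq, List.all_eq_true, List.mem_range, force_eq] at hA
  obtain ⟨hlen, hpat⟩ := hA
  obtain ⟨⟨⟨⟨⟨ap, ac⟩, a0⟩, a1⟩, a2⟩, a3⟩ := hpat (p - 2) (by omega)
  set A := invCentA.getD (p - 2) 0
  obtain ⟨b, hb, s, hs, hrep⟩ := exists_rep_four hcM ap ac fun i hi => by
    interval_cases i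
    · rw [h0, idx_val (by norm_num), a0]
    · rw [h1, idx_val (by norm_num), a1]
    · rw [a2]; omega
    · rw [← e3, hcx, a3, show p - 2 + 2 = p by omega, hp, hx _]
  have hcomm : ∀ i, i < 24 → app (packMul 24 A b) (app s (app invFree i)) =
      app invFree (app (packMul 24 A b) (app s i)) := fun i hi => by
    have l1 := rep_packMul hrep hx
    have l2 := rep_packMul hx hrep
    rw [hcc] at l1
    have := (l1 (idx ptEnc i)).symm.trans (l2 (idx ptEnc i))
    rw [idx_val hi, app_packMul hi, app_packMul hi, app_packMul hi] at this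
    rwa [app_packMul (hx.app_lt hi)] at this
  refine ⟨key24 (packMul 24 (packMul 24 A b) s), ?_, rep_key24 hrep⟩
  rw [← beq_iff_eq.1 invCentFix_eq]
  simp only [invCentFix, List.mem_flatMap, List.mem_map, force_eq, packMulS_eq, commFive]
  refine ⟨A, ?_, b, hb, s, List.mem_filter.2 ⟨hs, ?_⟩, rfl⟩
  · show invCentA.getD (p - 2) 0 ∈ invCentA
    rw [List.getD_eq_getElem _ _ (by omega : p - 2 < invCentA.length)]
    exact List.getElem_mem _
  · rw [Bool.and_eq_true, beq_iff_eq, List.all_eq_true]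
    refine ⟨?_, fun i hi => beq_iff_eq.2 (hcomm i (List.mem_range.1 hi))⟩
    rw [hcomm 4 (by norm_num)]
    have hs4 : app s 4 = 4 := by
      have hfl := fiveLevels_check
      simp only [Bool.and_eq_true, List.all_eq_true, List.mem_range, beq_iff_eq] at hfl
      obtain ⟨⟨⟨⟨⟨⟨-, hl⟩, -⟩, -⟩, -⟩, -⟩, -⟩ := hfl
      exact (hl s hs).2 4 (by norm_num)
    rw [hs4]

theorem invCentList_mem {l : ℕ} (hl : l ∈ invCentList) :
    ∃ c ∈ centM (decode invFree), c (idx ptEnc 0) = idx ptEnc 0 ∧ Rep ptEnc c l := by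
  rw [← beq_iff_eq.1 invCentFix_eq] at hl
  simp only [invCentFix, List.mem_flatMap, List.mem_map, force_eq, packMulS_eq, commFive,
    List.mem_filter, Bool.and_eq_true, List.all_eq_true, List.mem_range, beq_iff_eq] at hl
  obtain ⟨A, hA, b, hb, s, ⟨hs, -, hcomm⟩, rfl⟩ := hl
  have hA' := invCentA_pattern
  simp only [Bool.and_eq_true, beq_iff_eq, List.all_eq_true, List.mem_range, force_eq] at hA'
  obtain ⟨i, hi, rfl⟩ := List.mem_iff_getElem.1 hA
  obtain ⟨⟨⟨⟨⟨ap, ac⟩, a0⟩, -⟩, -⟩, -⟩ := hA'.2 i (by omega)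
  rw [List.getD_eq_getElem _ _ hi] at ap ac a0
  have hb' := moveFour_pattern
  simp only [Bool.and_eq_true, beq_iff_eq, List.all_eq_true, List.mem_range, force_eq] at hb'
  obtain ⟨j, hj, rfl⟩ := List.mem_iff_getElem.1 hb
  obtain ⟨⟨⟨⟨⟨⟨bp, bc⟩, b0⟩, -⟩, -⟩, -⟩, -⟩ := hb'.2 j (by omega)
  rw [List.getD_eq_getElem _ _ hj] at bp bc b0
  have hfl := fiveLevels_check
  simp only [Bool.and_eq_true, List.all_eq_true, List.mem_range, beq_iff_eq] at hfl
  obtain ⟨⟨⟨⟨⟨⟨-, hl5⟩, -⟩, -⟩, -⟩, -⟩, -⟩ := hfl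
  obtain ⟨⟨sp, sc⟩, sfix⟩ := hl5 s hs
  have hrA := rep_decode ap
  have hrb := rep_decode bp
  have hrs := rep_decode sp
  have hrep := rep_packMul (rep_packMul hrA hrb) hrs
  refine ⟨_, mem_centM.2 ⟨M24.mul_mem (M24.mul_mem (mem_M24_of_rep hrA ac) (mem_M24_of_rep hrb bc))
    (mem_M24_of_rep hrs sc), ?_⟩, ?_, rep_key24 hrep⟩
  · have hx := invFree_rep.2
    have l1 := rep_packMul hrep hx
    have l2 := rep_packMul hx hrep
    refine Equiv.ext fun z => ptEnc.injective (Fin.ext ?_)
    rw [l1 z, l2 z, app_packMul (Fin.isLt _), app_packMul (Fin.isLt _),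
      app_packMul (hx.app_lt (Fin.isLt _)), app_packMul (Fin.isLt _)]
    exact hcomm _ (Fin.isLt _)
  · rw [Equiv.Perm.mul_apply, Equiv.Perm.mul_apply, hrs.apply_idx (by norm_num), sfix 0 (by norm_num),
      hrb.apply_idx (by norm_num), b0, hrA.apply_idx (by norm_num), a0]

theorem smul_sextet_of_pimg {σ : Equiv.Perm GolayPt} {l : ℕ} (hl : Rep ptEnc σ l) {L : List ℕ}
    (h : ∀ m ∈ L, pimg l m ∈ L) : σ • setOfMasks L = setOfMasks L := by
  refine Finset.eq_of_subset_of_card_le (fun t ht => ?_) (by rw [Finset.card_smul_finset])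
  obtain ⟨u, hu, rfl⟩ := Finset.mem_smul_finset.1 ht
  obtain ⟨m, hm, rfl⟩ := Finset.mem_image.1 hu
  rw [smul_ptsOf_pimg hl]
  exact Finset.mem_image_of_mem _ (List.mem_toFinset.2 (h m (List.mem_toFinset.1 hm)))

theorem invCent_moves (p : GolayPt) : ∃ c ∈ centM (decode invFree), c (idx ptEnc 0) = p ∧
    c • setOfMasks (sextAt invCentSextet) = setOfMasks (sextAt invCentSextet) := by
  have h := invCentMoves_ok
  simp only [Bool.and_eq_true, beq_iff_eq, List.all_eq_true, List.mem_range, force_eq] at h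
  obtain ⟨⟨⟨⟨cp, cc⟩, c0⟩, cx⟩, cS⟩ := h.2 _ (ptEnc p).isLt
  set c := invCentMoves.getD (ptEnc p).val 0
  have hc := rep_decode cp
  refine ⟨decode c, mem_centM.2 ⟨mem_M24_of_rep hc cc, ?_⟩, ?_, ?_⟩
  · rw [packMulS_eq, packMulS_eq] at cx
    exact ((rep_packMul hc invFree_rep.2).of_same cx).unique (rep_packMul invFree_rep.2 hc)
  · rw [hc.apply_idx (by norm_num), c0, idx_self]
  · exact smul_sextet_of_pimg hc fun m hm => List.contains_iff_mem.1 (cS m hm)

theorem invCent_fixes_sextet {c : Equiv.Perm GolayPt} (hc : c ∈ centM (decode invFree)) :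
    c • setOfMasks (sextAt invCentSextet) = setOfMasks (sextAt invCentSextet) := by
  obtain ⟨m, hm, hm0, hmS⟩ := invCent_moves (c (idx ptEnc 0))
  obtain ⟨l, hl, hrep⟩ := invCentFix_mem (c := m⁻¹ * c) ((centM _).mul_mem ((centM _).inv_mem hm) hc) (by
    rw [Equiv.Perm.mul_apply, Equiv.Perm.inv_def, Equiv.symm_apply_eq, hm0])
  have h := invCentList_ok
  simp only [Bool.and_eq_true, beq_iff_eq, List.all_eq_true, force_eq] at h
  have h1 := smul_sextet_of_pimg hrep fun m hm => List.contains_iff_mem.1 (h.2 l hl m hm)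
  rwa [mul_smul, inv_smul_eq_iff, hmS] at h1

theorem card_invCent : Nat.card (centM (decode invFree)) = 7680 := by
  classical
  set C := centM (decode invFree) with hC
  have horb : MulAction.orbit C (idx ptEnc 0) = Set.univ := Set.eq_univ_of_forall fun p => by
    obtain ⟨c, hc, h0, -⟩ := invCent_moves p
    exact ⟨⟨c, hc⟩, h0⟩
  have h := Subgroup.index_mul_card (MulAction.stabilizer C (idx ptEnc 0))
  rw [MulAction.index_stabilizer, horb, Set.ncard_univ, show Nat.card GolayPt = 24 by simp] at h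
  rw [← h]
  suffices hcard : Nat.card (MulAction.stabilizer C (idx ptEnc 0)) = 320 by rw [hcard]
  have hlist := invCentList_ok
  simp only [Bool.and_eq_true, beq_iff_eq] at hlist
  let f : {l : ℕ // l ∈ invCentList.toFinset} → MulAction.stabilizer C (idx ptEnc 0) := fun l =>
    ⟨⟨(invCentList_mem (List.mem_toFinset.1 l.2)).choose,
      (invCentList_mem (List.mem_toFinset.1 l.2)).choose_spec.1⟩,
      (invCentList_mem (List.mem_toFinset.1 l.2)).choose_spec.2.1⟩
  have hnd := invCentList_nodup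
  have hf : Function.Bijective f := by
    constructor
    · intro a b e
      have e' := congrArg (fun g : MulAction.stabilizer C (idx ptEnc 0) => ((g : C) : Equiv.Perm GolayPt)) e
      have ra := (invCentList_mem (List.mem_toFinset.1 a.2)).choose_spec.2.2
      have rb := (invCentList_mem (List.mem_toFinset.1 b.2)).choose_spec.2.2
      simp only [f] at e'
      rw [e'] at ra
      refine Subtype.ext (List.inj_on_of_nodup_map hnd (List.mem_toFinset.1 a.2) (List.mem_toFinset.1 b.2) ?_)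
      unfold key24
      refine List.foldr_ext _ _ _ fun i hi acc => ?_
      rw [List.mem_range] at hi
      have h1 := ra (idx ptEnc i)
      have h2 := rb (idx ptEnc i)
      rw [idx_val hi] at h1 h2
      rw [← h1, ← h2]
    · rintro ⟨⟨c, hc⟩, h0⟩
      obtain ⟨l, hl, hrep⟩ := invCentFix_mem hc h0
      refine ⟨⟨l, List.mem_toFinset.2 hl⟩, Subtype.ext (Subtype.ext ?_)⟩
      exact ((invCentList_mem (List.mem_toFinset.1 (List.mem_toFinset.2 hl))).choose_spec.2.2).unique hrep
  rw [← Nat.card_eq_of_bijective f hf, Nat.card_eq_finsetCard,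
    List.toFinset_card_of_nodup (hnd.of_map _), hlist.1]

theorem invCent_facts {t : Equiv.Perm GolayPt} (ht : t ∈ M24) (h2 : orderOf t = 2)
    (h0 : ∀ p, t p ≠ p) :
    Nat.card {c : Equiv.Perm GolayPt // c ∈ M24 ∧ c * t = t * c} = 7680 ∧
    (∀ p q : GolayPt, ∃ c ∈ M24, c * t = t * c ∧ c p = q) ∧
    ∃ S ∈ sextets, t • S = S ∧ ∀ c ∈ M24, c * t = t * c → c • S = S := by
  classical
  have hsq : t * t = 1 := by
    have := pow_orderOf_eq_one t
    rwa [h2, pow_two] at this
  have hne : t ≠ 1 := fun e => by simp [e] at h2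
  rcases involution_fix ht hsq hne with h | ⟨-, k, hk, rfl⟩
  · rw [Finset.filter_eq_empty_iff.2 fun p _ => h0 p] at h
    simp at h
  have key : ∀ c, c ∈ M24 ∧ c * (k * decode invFree * k⁻¹) = k * decode invFree * k⁻¹ * c ↔
      k⁻¹ * c * k ∈ centM (decode invFree) := by
    intro c
    rw [mem_centM]
    constructor
    · rintro ⟨hc, hcc⟩
      refine ⟨M24.mul_mem (M24.mul_mem (M24.inv_mem hk) hc) hk, ?_⟩
      rw [show k⁻¹ * c * k * decode invFree = k⁻¹ * (c * (k * decode invFree * k⁻¹)) * k by group, hcc]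
      group
    · rintro ⟨hc, hcc⟩
      refine ⟨?_, ?_⟩
      · have := M24.mul_mem (M24.mul_mem hk hc) (M24.inv_mem hk)
        simpa [mul_assoc] using this
      · rw [show c * (k * decode invFree * k⁻¹) = k * (k⁻¹ * c * k * decode invFree) * k⁻¹ by group, hcc]
        group
  refine ⟨?_, fun p q => ?_, k • setOfMasks (sextAt invCentSextet), ?_, ?_, fun c hc hcc => ?_⟩
  · rw [← card_invCent]
    refine Nat.card_congr (Equiv.subtypeEquiv (MulAut.conj k⁻¹).toEquiv fun c => ?_)
    show _ ↔ k⁻¹ * c * k⁻¹⁻¹ ∈ _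
    rw [inv_inv]
    exact key c
  · obtain ⟨a, ha, ha0, -⟩ := invCent_moves (k⁻¹ p)
    obtain ⟨b, hb, hb0, -⟩ := invCent_moves (k⁻¹ q)
    obtain ⟨h1, h2⟩ := (key (k * (b * a⁻¹) * k⁻¹)).2 (by
      rw [show k⁻¹ * (k * (b * a⁻¹) * k⁻¹) * k = b * a⁻¹ by group]
      exact (centM _).mul_mem hb ((centM _).inv_mem ha))
    refine ⟨_, h1, h2, ?_⟩
    have : a⁻¹ (k⁻¹ p) = idx ptEnc 0 := by rw [← ha0, Equiv.Perm.inv_def, Equiv.symm_apply_apply]
    rw [Equiv.Perm.mul_apply, Equiv.Perm.mul_apply, Equiv.Perm.mul_apply, this, hb0,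
      Equiv.Perm.inv_def, Equiv.apply_symm_apply]
  · have h := invCentSextet_fixed
    simp only [Bool.and_eq_true, Nat.blt_eq] at h
    exact M24_smul_mem_sextets hk (sext_spec h.1).1
  · have h := invCentSextet_fixed
    simp only [Bool.and_eq_true, List.all_eq_true, force_eq] at h
    rw [← mul_smul, show k * decode invFree * k⁻¹ * k = k * decode invFree by group, mul_smul,
      smul_sextet_of_pimg invFree_rep.2 fun m hm => List.contains_iff_mem.1 (h.2 m hm)]
  · have := invCent_fixes_sextet ((key c).1 ⟨hc, hcc⟩)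
    rwa [mul_smul, mul_smul, inv_smul_eq_iff] at this

end Cfsg.Agent.Mathieu
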