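import Cfsg.Agent.Lib.Mathieu.Octads

/-!
Certificates for the orbits of a subgroup of `M₂₄` on a list of objects: every listed object is
reached from one of the roots by the generators, and an invariant separates the roots.
-/

set_option autoImplicit false

namespace Cfsg.Agent.Mathieu

open Cfsg
open scoped Pointwise

/-- The `i`-th block of `w` bits of a number. -/
def atP (w big i : ℕ) : ℕ := (big >>> (w * i)) % 2 ^ w

/-- Step `i` of a tree: the rank, parent and generator of `i` are packed in one number. -/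
def stepOK {κ : Type} [BEq κ] (act : ℕ → κ → κ) (get : ℕ → κ) (gens : List ℕ)
    (tree : ℕ) (roots : List ℕ) (i : ℕ) : Bool :=
  roots.contains i ||
    (let x := atP 32 tree i
     let p := x / 8 % 4096
     (atP 32 tree p / 32768).blt (x / 32768) && (gens.drop (x % 8)).head?.any fun g =>
      act g (get p) == get i)

/-- Every index below `n` is reached. -/
def orbTreeOK {κ : Type} [BEq κ] (act : ℕ → κ → κ) (get : ℕ → κ) (gens : List ℕ)
    (tree : ℕ) (roots : List ℕ) (n : ℕ) : Bool :=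
  (List.range n).all fun i => (atP 32 tree i / 8 % 4096).blt n &&
    stepOK act get gens tree roots i

theorem reach_of_treeOK {κ : Type} [DecidableEq κ] {X : Type*} [MulAction (Equiv.Perm GolayPt) X]
    {act : ℕ → κ → κ} {get : ℕ → κ} {dec : κ → X} {gens : List ℕ} {tree : ℕ}
    {roots : List ℕ} {n : ℕ} (hok : orbTreeOK act get gens tree roots n = true)
    {H : Subgroup (Equiv.Perm GolayPt)}
    (hgen : ∀ l ∈ gens, ∃ σ ∈ H, ∀ i, i < n → σ • dec (get i) = dec (act l (get i))) :
    ∀ i, i < n → ∃ r ∈ roots, dec (get i) ∈ MulAction.orbit H (dec (get r)) := by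
  suffices h : ∀ k i, i < n → atP 32 tree i / 32768 = k →
      ∃ r ∈ roots, dec (get i) ∈ MulAction.orbit H (dec (get r)) from fun i hi => h _ i hi rfl
  intro k
  induction k using Nat.strong_induction_on with
  | _ k ih =>
    intro i hi hk
    simp only [orbTreeOK, List.all_eq_true, List.mem_range, Bool.and_eq_true] at hok
    obtain ⟨hp, hstep⟩ := hok i hi
    simp only [stepOK, Bool.or_eq_true, Bool.and_eq_true, List.contains_iff_mem] at hstep
    rcases hstep with hr | ⟨hlt, hact⟩
    · exact ⟨i, hr, MulAction.mem_orbit_self _⟩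
    · rcases hg : (gens.drop (atP 32 tree i % 8)).head? with _ | g
      · rw [hg] at hact; simp at hact
      rw [hg, Option.any_some, beq_iff_eq] at hact
      have hgm : g ∈ gens := List.mem_of_mem_drop (List.mem_of_mem_head? (by rw [hg]; exact rfl))
      rw [Nat.blt_eq] at hlt hp
      obtain ⟨r, hr, horb⟩ := ih _ (hk ▸ hlt) (atP 32 tree i / 8 % 4096) hp rfl
      obtain ⟨σ, hσ, hmap⟩ := hgen g hgm
      refine ⟨r, hr, ?_⟩
      rw [← MulAction.orbit_eq_iff.2 horb, ← hact, ← hmap _ hp]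
      exact ⟨⟨σ, hσ⟩, rfl⟩

/-- Orbits are the classes of an invariant that separates the roots. -/
theorem mem_orbit_iff_sig {κ : Type} {X : Type*} [MulAction (Equiv.Perm GolayPt) X]
    {get : ℕ → κ} {dec : κ → X} {roots : List ℕ} {n : ℕ} {H : Subgroup (Equiv.Perm GolayPt)}
    {A : Set X} (hA : ∀ x, x ∈ A ↔ ∃ i, i < n ∧ dec (get i) = x)
    (hHA : ∀ σ ∈ H, ∀ x ∈ A, σ • x ∈ A)
    (hreach : ∀ i, i < n → ∃ r ∈ roots, dec (get i) ∈ MulAction.orbit H (dec (get r)))
    (sig : X → ℕ) (hsig : ∀ σ ∈ H, ∀ x, sig (σ • x) = sig x)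
    (hroots : (roots.map fun r => sig (dec (get r))).Nodup) (hrn : ∀ r ∈ roots, r < n)
    {r : ℕ} (hr : r ∈ roots) (x : X) :
    x ∈ MulAction.orbit H (dec (get r)) ↔ x ∈ A ∧ sig x = sig (dec (get r)) := by
  constructor
  · rintro ⟨⟨σ, hσ⟩, rfl⟩
    exact ⟨hHA σ hσ _ ((hA _).2 ⟨r, hrn r hr, rfl⟩), hsig σ hσ _⟩
  · rintro ⟨hx, he⟩
    obtain ⟨i, hi, rfl⟩ := (hA x).1 hx
    obtain ⟨r', hr', ⟨⟨σ, hσ⟩, horb⟩⟩ := hreach i hi
    have : sig (dec (get r')) = sig (dec (get r)) := by
      rw [← he, ← horb]; exact (hsig σ hσ _).symm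
    rw [List.inj_on_of_nodup_map hroots hr' hr this] at horb
    exact ⟨⟨σ, hσ⟩, horb⟩

/-- The number of objects in a class. -/
def classSize (key : ℕ → ℕ) (r n : ℕ) : ℕ :=
  ((List.range n).filter fun i => key i == key r).length

theorem ncard_orbit_eq {κ : Type} {X : Type*} [MulAction (Equiv.Perm GolayPt) X]
    {get : ℕ → κ} {dec : κ → X} {roots : List ℕ} {n : ℕ} {H : Subgroup (Equiv.Perm GolayPt)}
    {A : Set X} (hA : ∀ x, x ∈ A ↔ ∃ i, i < n ∧ dec (get i) = x)
    (hinj : ∀ i, i < n → ∀ j, j < n → dec (get i) = dec (get j) → i = j)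
    (hHA : ∀ σ ∈ H, ∀ x ∈ A, σ • x ∈ A)
    (hreach : ∀ i, i < n → ∃ r ∈ roots, dec (get i) ∈ MulAction.orbit H (dec (get r)))
    (sig : X → ℕ) (hsig : ∀ σ ∈ H, ∀ x, sig (σ • x) = sig x) (key : ℕ → ℕ)
    (hkey : ∀ i, i < n → sig (dec (get i)) = key i) (hroots : (roots.map key).Nodup)
    (hrn : ∀ r ∈ roots, r < n) {r : ℕ} (hr : r ∈ roots) :
    (MulAction.orbit H (dec (get r))).ncard = classSize key r n := by
  classical
  have hroots' : (roots.map fun r => sig (dec (get r))).Nodup := by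
    rwa [List.map_congr_left fun r hr => hkey r (hrn r hr)]
  have hset : MulAction.orbit H (dec (get r)) =
      (fun i => dec (get i)) ''
        (((List.range n).filter fun i => key i == key r).toFinset : Set ℕ) := by
    ext x
    rw [mem_orbit_iff_sig hA hHA hreach sig hsig hroots' hrn hr]
    simp only [List.coe_toFinset, Set.mem_image, Set.mem_ofPred_eq, List.mem_filter, List.mem_range,
      beq_iff_eq]
    constructor
    · rintro ⟨hx, he⟩
      obtain ⟨i, hi, rfl⟩ := (hA x).1 hx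
      exact ⟨i, ⟨hi, by rw [← hkey i hi, he, hkey r (hrn r hr)]⟩, rfl⟩
    · rintro ⟨i, ⟨hi, he⟩, rfl⟩
      exact ⟨(hA _).2 ⟨i, hi, rfl⟩, by rw [hkey i hi, he, hkey r (hrn r hr)]⟩
  rw [hset, Set.InjOn.ncard_image, Set.ncard_coe_finset,
    List.toFinset_card_of_nodup (List.Nodup.filter _ List.nodup_range), classSize]
  intro i hi j hj h
  simp only [List.coe_toFinset, Set.mem_ofPred_eq, List.mem_filter, List.mem_range] at hi hj
  exact hinj i hi.1 j hj.1 h

/-! ### Images of masks -/

theorem testBit_foldr_two_pow {ι : Type*} (f : ι → ℕ) (P : ι → Bool) (j : ℕ) :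
    ∀ is : List ι, (is.foldr (fun i acc => if P i then 2 ^ f i ||| acc else acc) 0).testBit j =
      is.any fun i => P i && decide (f i = j) := by
  intro is
  induction is with
  | nil => simp
  | cons i is ih =>
    simp only [List.foldr_cons, List.any_cons]
    cases P i <;> simp [ih, Nat.testBit_two_pow]

theorem smul_ptsOf_pimg {σ : Equiv.Perm GolayPt} {l : ℕ} (hl : Rep ptEnc σ l) (m : ℕ) :
    σ • ptsOf m = ptsOf (pimg l m) := by
  ext p
  obtain ⟨q, rfl⟩ := σ.surjective p
  rw [apply_mem_smul_pts, mem_ptsOf, mem_ptsOf, hasPt, hasPt, pimg,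
    testBit_foldr_two_pow (app l) (m.testBit ·), List.any_eq_true]
  constructor
  · intro h
    exact ⟨(ptEnc q).val, List.mem_range.2 (Fin.isLt _), by simp [h, hl q]⟩
  · rintro ⟨i, hi, h⟩
    simp only [Bool.and_eq_true, decide_eq_true_eq] at h
    have hi' := List.mem_range.1 hi
    have hq : q = idx ptEnc i := σ.injective (ptEnc.injective (Fin.ext (by
      rw [hl.apply_idx hi', idx_val (hl.app_lt hi'), h.2])))
    rw [hq, idx_val hi']
    exact h.1

/-- A checked list of packed permutations, as elements of `M24`. -/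
theorem exists_M24_of_gens {gens : List ℕ}
    (h : gens.all (fun l => permOK 24 l && presCode l) = true) {l : ℕ} (hl : l ∈ gens) :
    ∃ σ ∈ M24, Rep ptEnc σ l := by
  have h' := List.all_eq_true.1 h l hl
  rw [Bool.and_eq_true] at h'
  obtain ⟨σ, hσ⟩ := exists_rep (e := ptEnc) h'.1
  exact ⟨σ, mem_M24_of_rep hσ h'.2, hσ⟩

end Cfsg.Agent.Mathieu
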