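import Cfsg.Prelude.Def_SporadicCombinatorics
import Cfsg.Agent.Lib.Mathieu.OrbitTree
import Cfsg.Agent.Lib.Mathieu.BlocksCheck

/-!
Complete lists of the octads, trios and sextets, with the action of packed permutations.
-/

set_option autoImplicit false
set_option maxRecDepth 20000

namespace Cfsg.Agent.Mathieu

open Cfsg
open scoped Pointwise

/-! ### Packed sets of masks -/

theorem mem_ins {a x : ℕ} : ∀ {l : List ℕ}, x ∈ ins a l ↔ x = a ∨ x ∈ l := by
  intro l
  induction l with
  | nil => simp [ins]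
  | cons b l ih =>
    rw [ins]
    split_ifs with h
    · simp
    · simp only [List.mem_cons, ih]; tauto

theorem mem_isort {x : ℕ} : ∀ {l : List ℕ}, x ∈ isort l ↔ x ∈ l := by
  intro l
  induction l with
  | nil => simp [isort]
  | cons a l ih => simp [isort, mem_ins, ih]

/-- The set of point sets packed in `l`. -/
def setOfMasks (l : List ℕ) : Finset (Finset GolayPt) := l.toFinset.image ptsOf

theorem setOfMasks_congr {l l' : List ℕ} (h : ∀ x, x ∈ l ↔ x ∈ l') :
    setOfMasks l = setOfMasks l' := by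
  rw [setOfMasks, setOfMasks]
  refine congrArg _ ?_
  ext x
  simp [h]

/-- The action on a list of masks, sorted. -/
def actMasks (g : ℕ) (l : List ℕ) : List ℕ := isort (l.map (pimg g))

theorem smul_setOfMasks {σ : Equiv.Perm GolayPt} {g : ℕ} (hg : Rep ptEnc σ g) (l : List ℕ) :
    σ • setOfMasks l = setOfMasks (actMasks g l) := by
  rw [actMasks, setOfMasks_congr fun _ => mem_isort]
  ext s
  simp only [setOfMasks, Finset.mem_smul_finset, Finset.mem_image, List.mem_toFinset, List.mem_map]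
  constructor
  · rintro ⟨_, ⟨m, hm, rfl⟩, rfl⟩
    exact ⟨_, ⟨m, hm, rfl⟩, (smul_ptsOf_pimg hg m).symm⟩
  · rintro ⟨_, ⟨m, hm, rfl⟩, rfl⟩
    exact ⟨_, ⟨m, hm, rfl⟩, smul_ptsOf_pimg hg m⟩

theorem canonList_spec : ∀ {l : List ℕ}, canonList l = true →
    l.Pairwise (· < ·) ∧ ∀ x ∈ l, x < 2 ^ 24 := by
  intro l
  induction l with
  | nil => simp
  | cons a l ih =>
    intro h
    rcases l with _ | ⟨b, l⟩
    · simpa [canonList, Nat.blt_eq] using h
    · rw [canonList, Bool.and_eq_true, Nat.blt_eq] at h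
      obtain ⟨hp, hlt⟩ := ih h.2
      have hb : ∀ x ∈ b :: l, a < x := fun x hx => by
        rcases List.mem_cons.1 hx with rfl | hx
        · exact h.1
        · exact h.1.trans ((List.pairwise_cons.1 hp).1 x hx)
      refine ⟨List.pairwise_cons.2 ⟨hb, hp⟩, fun x hx => ?_⟩
      rcases List.mem_cons.1 hx with rfl | hx
      · exact h.1.trans (hlt b List.mem_cons_self)
      · exact hlt x hx

theorem setOfMasks_inj {l l' : List ℕ} (h : canonList l = true) (h' : canonList l' = true)
    (he : setOfMasks l = setOfMasks l') : l = l' := by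
  obtain ⟨hp, hb⟩ := canonList_spec h
  obtain ⟨hp', hb'⟩ := canonList_spec h'
  refine List.Perm.eq_of_pairwise (fun a b _ _ h1 h2 => absurd h1 (lt_asymm h2)) hp hp' ?_
  refine (List.perm_ext_iff_of_nodup (hp.imp fun h => h.ne) (hp'.imp fun h => h.ne)).2 fun x => ?_
  constructor
  · intro hx
    have : ptsOf x ∈ setOfMasks l' := he ▸ Finset.mem_image_of_mem _ (List.mem_toFinset.2 hx)
    obtain ⟨y, hy, e⟩ := Finset.mem_image.1 this
    rw [List.mem_toFinset] at hy
    rwa [← ptsOf_inj (hb' y hy) (hb x hx) e]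
  · intro hx
    have : ptsOf x ∈ setOfMasks l := he.symm ▸ Finset.mem_image_of_mem _ (List.mem_toFinset.2 hx)
    obtain ⟨y, hy, e⟩ := Finset.mem_image.1 this
    rw [List.mem_toFinset] at hy
    rwa [← ptsOf_inj (hb y hy) (hb' x hx) e]

theorem sum_setOfMasks {β : Type*} [AddCommMonoid β] {l : List ℕ} (h : canonList l = true)
    (f : Finset GolayPt → β) : ∑ t ∈ setOfMasks l, f t = (l.map fun m => f (ptsOf m)).sum := by
  obtain ⟨hp, hb⟩ := canonList_spec h
  rw [setOfMasks, Finset.sum_image fun a ha b hb' e => ptsOf_inj (hb a (List.mem_toFinset.1 ha))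
    (hb b (List.mem_toFinset.1 hb')) e, List.sum_toFinset _ (hp.imp fun h => h.ne)]

/-! ### Octads -/

theorem octList_eq : (List.range 759).map octAt = maskList 8 := beq_iff_eq.1 octList_check

theorem octL_eq : octL = maskList 8 := octList_eq

theorem octAt_mem {i : ℕ} (hi : i < 759) : octAt i ∈ maskList 8 :=
  octList_eq ▸ List.mem_map.2 ⟨i, List.mem_range.2 hi, rfl⟩

theorem octads_eq (x : Finset GolayPt) : x ∈ octads ↔ ∃ i, i < 759 ∧ ptsOf (octAt i) = x := by
  rw [mem_octads_iff, ← octList_eq]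
  simp

theorem octAt_inj : ∀ i, i < 759 → ∀ j, j < 759 → ptsOf (octAt i) = ptsOf (octAt j) → i = j := by
  intro i hi j hj h
  have hnd : ((List.range 759).map octAt).Nodup := by
    rw [octList_eq]; exact List.Nodup.filter _ codeList_nodup
  refine List.inj_on_of_nodup_map hnd (List.mem_range.2 hi) (List.mem_range.2 hj) ?_
  exact ptsOf_inj (inCode_spec (mem_maskList.1 (octAt_mem hi)).1).1
    (inCode_spec (mem_maskList.1 (octAt_mem hj)).1).1 h

/-! ### Trios -/

theorem trioList_eq : (List.range 3795).map trioAt = trioEnum := beq_iff_eq.1 trioList_check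

theorem incr_pairwise : ∀ {l : List ℕ}, incr l = true → l.Pairwise (· < ·) := by
  intro l
  induction l with
  | nil => simp
  | cons a l ih =>
    intro h
    rcases l with _ | ⟨b, l⟩
    · simp
    · rw [incr, Bool.and_eq_true, Nat.blt_eq] at h
      refine List.pairwise_cons.2 ⟨fun x hx => ?_, ih h.2⟩
      rcases List.mem_cons.1 hx with rfl | hx
      · exact h.1
      · exact h.1.trans ((List.pairwise_cons.1 (ih h.2)).1 x hx)

theorem inj_of_incr {κ : Type*} {get : ℕ → κ} {key : κ → ℕ} {n : ℕ}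
    (h : incr ((List.range n).map fun i => key (get i)) = true) {i j : ℕ} (hi : i < n) (hj : j < n)
    (e : get i = get j) : i = j :=
  List.inj_on_of_nodup_map ((incr_pairwise h).imp fun h => h.ne) (List.mem_range.2 hi)
    (List.mem_range.2 hj) (congrArg key e)

theorem trioAt_inj : ∀ i, i < 3795 → ∀ j, j < 3795 →
    setOfMasks (trioAt i) = setOfMasks (trioAt j) → i = j := by
  intro i hi j hj h
  have hc : ∀ k, k < 3795 → canonList (trioAt k) = true := fun k hk => by
    have := List.all_eq_true.1 blockTrio_check k (List.mem_range.2 hk)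
    simp only [blockTrioOK, Bool.and_eq_true] at this
    exact this.1.1
  exact inj_of_incr (key := trioKey) trioKey_check hi hj
    (setOfMasks_inj (hc i hi) (hc j hj) h)

theorem disjoint_ptsOf {a b : ℕ} (h : a &&& b = 0) : Disjoint (ptsOf a) (ptsOf b) := by
  rw [Finset.disjoint_iff_inter_eq_empty, ← ptsOf_and, h]
  ext p
  simp [mem_ptsOf, hasPt]

theorem setOfMasks_trioAt_mem {i : ℕ} (hi : i < 3795) : setOfMasks (trioAt i) ∈ trios := by
  have h := List.all_eq_true.1 blockTrio_check i (List.mem_range.2 hi)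
  simp only [blockTrioOK, Bool.and_eq_true, List.all_eq_true, beq_iff_eq] at h
  obtain ⟨⟨hc, hoct⟩, hm⟩ := h
  rcases ht : trioAt i with _ | ⟨a, _ | ⟨b, _ | ⟨c, _ | ⟨d, l⟩⟩⟩⟩ <;> rw [ht] at hm hc hoct <;>
    simp only [Bool.and_eq_true, beq_iff_eq, Bool.false_eq_true] at hm
  obtain ⟨hp, hb⟩ := canonList_spec hc
  refine ⟨?_, ?_, ?_⟩
  · rw [Finset.card_eq_sum_ones, sum_setOfMasks hc]; simp
  · intro o ho
    obtain ⟨m, hm', rfl⟩ := Finset.mem_image.1 ho
    exact ptsOf_mem_octads (hoct m (List.mem_toFinset.1 hm')).1 (hoct m (List.mem_toFinset.1 hm')).2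
  · intro o ho o' ho' hne
    obtain ⟨m, hmm, rfl⟩ := Finset.mem_image.1 ho
    obtain ⟨m', hmm', rfl⟩ := Finset.mem_image.1 ho'
    simp only [List.mem_toFinset, List.mem_cons, List.not_mem_nil, or_false] at hmm hmm'
    rcases hmm with rfl | rfl | rfl <;> rcases hmm' with rfl | rfl | rfl
    all_goals first
      | exact absurd rfl hne
      | exact disjoint_ptsOf hm.1.1
      | exact (disjoint_ptsOf hm.1.1).symm
      | exact disjoint_ptsOf hm.1.2
      | exact (disjoint_ptsOf hm.1.2).symm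
      | exact disjoint_ptsOf hm.2
      | exact (disjoint_ptsOf hm.2).symm

theorem eq_of_cover {α : Type*} [DecidableEq α] [Fintype α] {u v w : Finset α} (huv : Disjoint u v)
    (huw : Disjoint u w) (hvw : Disjoint v w) (hall : ∀ p, p ∈ u ∨ p ∈ v ∨ p ∈ w) :
    w = symmDiff (symmDiff Finset.univ u) v := by
  ext p
  have h := hall p
  have h1 := fun hp : p ∈ u => Finset.disjoint_left.1 huv hp
  have h2 := fun hp : p ∈ u => Finset.disjoint_left.1 huw hp
  have h3 := fun hp : p ∈ v => Finset.disjoint_left.1 hvw hp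
  simp only [Finset.mem_symmDiff, Finset.mem_univ, true_and, not_true, and_false, or_false]
  tauto

theorem trios_eq (x : Finset (Finset GolayPt)) :
    x ∈ trios ↔ ∃ i, i < 3795 ∧ setOfMasks (trioAt i) = x := by
  refine ⟨fun hx => ?_, fun ⟨i, hi, e⟩ => e ▸ setOfMasks_trioAt_mem hi⟩
  obtain ⟨h3, hoct, hdis⟩ := hx
  have hsum : ∑ o ∈ x, o.card = 24 := by
    rw [Finset.sum_congr rfl fun o ho => octad_card (hoct o ho), Finset.sum_const, h3]; rfl
  have huniv : x.biUnion id = Finset.univ := by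
    refine Finset.eq_univ_of_card _ ?_
    show (x.biUnion fun o => o).card = _
    rw [Finset.card_biUnion (fun o ho o' ho' hne => hdis o ho o' ho' hne)]
    simpa using hsum
  obtain ⟨A, hA, hAn⟩ := Finset.mem_biUnion.1 (huniv ▸ Finset.mem_univ (none : GolayPt))
  rw [id_eq] at hAn
  obtain ⟨B, C, hBC, hrest⟩ := Finset.card_eq_two.1
    (by rw [Finset.card_erase_of_mem hA, h3] : (x.erase A).card = 2)
  have hBm : B ∈ x.erase A := by simp [hrest]
  have hCm : C ∈ x.erase A := by simp [hrest]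
  rw [Finset.mem_erase] at hBm hCm
  obtain ⟨a, ha, rfl⟩ := mem_octads_iff.1 (hoct A hA)
  obtain ⟨b, hb, rfl⟩ := mem_octads_iff.1 (hoct B hBm.2)
  obtain ⟨c, hc, rfl⟩ := mem_octads_iff.1 (hoct C hCm.2)
  have lt : ∀ {m}, m ∈ maskList 8 → m < 2 ^ 24 := fun hm => (inCode_spec (mem_maskList.1 hm).1).1
  have hx' : x = setOfMasks [a, b, c] := by
    rw [← Finset.insert_erase hA, hrest]
    simp [setOfMasks]
  have hd : ∀ {m m'}, m < 2 ^ 24 → Disjoint (ptsOf m) (ptsOf m') → m &&& m' = 0 := fun {m m'} hm h =>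
    ptsOf_inj (lt_of_le_of_lt Nat.and_le_left hm) (by norm_num) (by
      rw [ptsOf_and, Finset.disjoint_iff_inter_eq_empty.1 h]
      ext p; simp [mem_ptsOf, hasPt])
  have hab := hd (lt ha) (hdis _ hA _ hBm.2 (Ne.symm hBm.1))
  have hac := hd (lt ha) (hdis _ hA _ hCm.2 (Ne.symm hCm.1))
  have hbc := hd (lt hb) (hdis _ hBm.2 _ hCm.2 hBC)
  have hA23 : a.testBit 23 = true := by simpa [mem_ptsOf, hasPt, ptEnc] using hAn
  have hfull : ∀ p, p ∈ ptsOf a ∨ p ∈ ptsOf b ∨ p ∈ ptsOf c := fun p => by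
    obtain ⟨o, ho, hp⟩ := Finset.mem_biUnion.1 (huniv ▸ Finset.mem_univ p)
    rw [id_eq] at hp
    rw [hx'] at ho
    simp only [setOfMasks, Finset.mem_image, List.mem_toFinset, List.mem_cons, List.not_mem_nil,
      or_false] at ho
    obtain ⟨m, hm, rfl⟩ := ho
    rcases hm with rfl | rfl | rfl <;> simp_all
  have third : ∀ u v w : ℕ, w < 2 ^ 24 → u < 2 ^ 24 → v < 2 ^ 24 → u &&& v = 0 → u &&& w = 0 →
      v &&& w = 0 → (∀ p, p ∈ ptsOf u ∨ p ∈ ptsOf v ∨ p ∈ ptsOf w) →
      w = 16777215 ^^^ u ^^^ v := by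
    intro u v w hw hu hv huv huw hvw hall
    refine ptsOf_inj hw (Nat.xor_lt_two_pow (Nat.xor_lt_two_pow (by norm_num) hu) hv) ?_
    rw [ptsOf_xor, ptsOf_xor, show (16777215 : ℕ) = 2 ^ 24 - 1 from rfl, ptsOf_full]
    exact eq_of_cover (disjoint_ptsOf huv) (disjoint_ptsOf huw) (disjoint_ptsOf hvw) hall
  have hmem : ∀ u v : ℕ, u ∈ maskList 8 → v ∈ maskList 8 → u.testBit 23 = true → u &&& v = 0 →
      v < 16777215 ^^^ u ^^^ v → isort [u, v, 16777215 ^^^ u ^^^ v] ∈ trioEnum := by
    intro u v hu hv h23 huv hlt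
    rw [trioEnum, octL_eq, List.mem_flatMap]
    refine ⟨u, List.mem_filter.2 ⟨hu, h23⟩, List.mem_map.2 ⟨v, List.mem_filter.2 ⟨hv, ?_⟩, rfl⟩⟩
    rw [Bool.and_eq_true, Nat.blt_eq, Nat.beq_eq]
    exact ⟨huv, hlt⟩
  have hfin : ∀ u v w : ℕ, isort [u, v, w] ∈ trioEnum →
      ∃ i, i < 3795 ∧ setOfMasks (trioAt i) = setOfMasks [u, v, w] := by
    intro u v w hm
    rw [← trioList_eq, List.mem_map] at hm
    obtain ⟨i, hi, e⟩ := hm
    exact ⟨i, List.mem_range.1 hi, by rw [e]; exact setOfMasks_congr fun _ => mem_isort⟩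
  rw [hx']
  rcases lt_trichotomy b c with hlt | heq | hgt
  · have hc' := third a b c (lt hc) (lt ha) (lt hb) hab hac hbc hfull
    rw [hc'] at hlt ⊢
    exact hfin _ _ _ (hmem a b ha hb hA23 hab hlt)
  · exact absurd (by rw [heq]) hBC
  · have hb' := third a c b (lt hb) (lt ha) (lt hc) hac hab (by rw [Nat.land_comm]; exact hbc)
      (fun p => (hfull p).imp id Or.symm)
    obtain ⟨i, hi, e⟩ := hfin a c _ (hmem a c ha hc hA23 hac (hb' ▸ hgt))
    exact ⟨i, hi, e.trans (setOfMasks_congr fun m => by rw [hb']; simp; tauto)⟩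

/-! ### Sextets -/

/-- The five octads through four points are determined by these. -/
theorem card_octads_through_le {t : Finset GolayPt} (ht : t.card = 4) (O : Finset (Finset GolayPt))
    (hO : ∀ o ∈ O, o ∈ octads ∧ t ⊆ o) : O.card ≤ 5 := by
  have hd : (O : Set (Finset GolayPt)).PairwiseDisjoint fun o => o \ t := by
    intro o ho o' ho' hne
    rw [Function.onFun, Finset.disjoint_left]
    intro p hp hp'
    rw [Finset.mem_sdiff] at hp hp'
    refine hne (octad_eq_of_five_le (hO o ho).1 (hO o' ho').1 ?_)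
    have h := Finset.card_le_card (Finset.insert_subset (Finset.mem_inter.2 ⟨hp.1, hp'.1⟩)
      (Finset.subset_inter (hO o ho).2 (hO o' ho').2))
    rwa [Finset.card_insert_of_notMem hp.2, ht] at h
  have hsub : O.biUnion (fun o => o \ t) ⊆ Finset.univ \ t := fun p hp => by
    obtain ⟨o, -, hp⟩ := Finset.mem_biUnion.1 hp
    exact Finset.mem_sdiff.2 ⟨Finset.mem_univ p, (Finset.mem_sdiff.1 hp).2⟩
  have := Finset.card_le_card hsub
  rw [Finset.card_biUnion hd, Finset.card_sdiff_of_subset (Finset.subset_univ _), Finset.card_univ,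
    Finset.sum_congr rfl (fun o ho => by
      rw [Finset.card_sdiff_of_subset (hO o ho).2, octad_card (hO o ho).1, ht]),
    Finset.sum_const, ht, show Fintype.card GolayPt = 24 by simp, smul_eq_mul] at this
  omega

theorem sextet_disjoint {S : Finset (Finset GolayPt)} (hS : S ∈ sextets) {t u : Finset GolayPt}
    (ht : t ∈ S) (hu : u ∈ S) (hne : t ≠ u) : Disjoint t u := by
  rw [Finset.disjoint_iff_inter_eq_empty, ← Finset.card_eq_zero]
  have h := Finset.card_union_add_card_inter t u
  rw [octad_card (hS.2.2 t ht u hu hne), hS.2.1 t ht, hS.2.1 u hu] at h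
  omega

/-- A sextet is determined by any one of its tetrads. -/
theorem sextet_unique {S S' : Finset (Finset GolayPt)} (hS : S ∈ sextets) (hS' : S' ∈ sextets)
    {t : Finset GolayPt} (ht : t ∈ S) (ht' : t ∈ S') : S = S' := by
  classical
  suffices H : ∀ {R R' : Finset (Finset GolayPt)}, R ∈ sextets → R' ∈ sextets → t ∈ R → t ∈ R' →
      R ⊆ R' from (H hS hS' ht ht').antisymm (H hS' hS ht' ht)
  intro R R' hR hR' hm hm' u hu
  rcases eq_or_ne u t with rfl | hne
  · exact hm'
  set O := insert (t ∪ u) ((R'.erase t).image fun v => t ∪ v) with hO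
  have himg : ∀ v ∈ R'.erase t, v = (t ∪ v) \ t := fun v hv => by
    rw [Finset.mem_erase] at hv
    rw [Finset.union_sdiff_left,
      Finset.sdiff_eq_self_of_disjoint (sextet_disjoint hR' hv.2 hm' hv.1)]
  have h5 : ((R'.erase t).image fun v => t ∪ v).card = 5 := by
    rw [Finset.card_image_of_injOn fun v hv w hw e => by
      rw [himg v hv, himg w hw]; exact congrArg (· \ t) e,
      Finset.card_erase_of_mem hm', hR'.1]
  have hle := card_octads_through_le (hR.2.1 t hm) O fun o ho => by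
    rw [hO, Finset.mem_insert, Finset.mem_image] at ho
    rcases ho with rfl | ⟨v, hv, rfl⟩
    · exact ⟨hR.2.2 t hm u hu hne.symm, Finset.subset_union_left⟩
    · rw [Finset.mem_erase] at hv
      exact ⟨hR'.2.2 t hm' v hv.2 hv.1.symm, Finset.subset_union_left⟩
  have hin : t ∪ u ∈ (R'.erase t).image fun v => t ∪ v := by
    by_contra hc
    rw [hO, Finset.card_insert_of_notMem hc, h5] at hle
    omega
  obtain ⟨v, hv, e⟩ := Finset.mem_image.1 hin
  have hvu : v = u := by
    rw [himg v hv, e, Finset.union_sdiff_left,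
      Finset.sdiff_eq_self_of_disjoint (sextet_disjoint hR hu hm hne)]
  exact hvu ▸ Finset.mem_of_mem_erase hv

theorem sext_spec {i : ℕ} (hi : i < 1771) :
    setOfMasks (sextAt i) ∈ sextets ∧ canonList (sextAt i) = true ∧
      ptsOf (tetList.getD i 0) ∈ setOfMasks (sextAt i) := by
  have hlen := tetList_length
  have hmem : (i, tetList.getD i 0) ∈ (List.range 1771).zip tetList := by
    rw [List.getD_eq_getElem _ _ (hlen ▸ hi), List.mem_iff_getElem]
    exact ⟨i, by simp [hlen, hi], by simp⟩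
  have h := List.all_eq_true.1 blockSext_check _ hmem
  simp only [blockSextOK, Bool.and_eq_true, List.all_eq_true, beq_iff_eq, Bool.or_eq_true] at h
  obtain ⟨⟨⟨hc, hl⟩, ht⟩, hall⟩ := h
  set t := tetList.getD i 0
  have htm : t ∈ sextAt i := by
    rw [← ht, List.getD_eq_getElem _ _ (by omega)]
    exact List.getElem_mem _
  refine ⟨⟨?_, ?_, ?_⟩, hc, Finset.mem_image_of_mem _ (List.mem_toFinset.2 htm)⟩
  · rw [Finset.card_eq_sum_ones, sum_setOfMasks hc]
    simp [hl]
  · intro u hu
    obtain ⟨m, hm, rfl⟩ := Finset.mem_image.1 hu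
    rw [card_ptsOf]
    exact (hall m (List.mem_toFinset.1 hm)).1.1
  · intro u hu v hv hne
    obtain ⟨m, hm, rfl⟩ := Finset.mem_image.1 hu
    obtain ⟨m', hm', rfl⟩ := Finset.mem_image.1 hv
    rw [List.mem_toFinset] at hm hm'
    have hdj : ∀ a ∈ sextAt i, ∀ b ∈ sextAt i, a ≠ b → Disjoint (ptsOf a) (ptsOf b) :=
      fun a ha b hb hab => disjoint_ptsOf ((((hall a ha).2) b hb).resolve_left hab)
    have h8 : ∀ a ∈ sextAt i, ∀ b ∈ sextAt i, a ≠ b → popc 24 (a ||| b) = 8 := fun a ha b hb hab => by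
      rw [← card_ptsOf, ptsOf_or, Finset.card_union_of_disjoint (hdj a ha b hb hab), card_ptsOf,
        card_ptsOf, (hall a ha).1.1, (hall b hb).1.1]
    have hmm : m ≠ m' := fun e => hne (by rw [e])
    rw [← ptsOf_or]
    refine ptsOf_mem_octads ?_ (h8 m hm m' hm' hmm)
    rcases eq_or_ne m t with rfl | hmt
    · exact (hall m' hm').1.2.resolve_left hmm.symm
    rcases eq_or_ne m' t with rfl | hmt'
    · rw [Nat.lor_comm]; exact (hall m hm).1.2.resolve_left hmt
    have e : (t ||| m) ^^^ (t ||| m') = m ||| m' := Nat.eq_of_testBit_eq fun k => by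
      have hb : ∀ a ∈ sextAt i, ∀ b ∈ sextAt i, a ≠ b → ¬(a.testBit k = true ∧ b.testBit k = true) := by
        intro a ha b hb hab hk
        have := congrArg (Nat.testBit · k) ((((hall a ha).2) b hb).resolve_left hab)
        simp [hk.1, hk.2] at this
      have h1 := hb t htm m hm hmt.symm
      have h2 := hb t htm m' hm' hmt'.symm
      have h3 := hb m hm m' hm' hmm
      rw [Nat.testBit_xor, Nat.testBit_or, Nat.testBit_or, Nat.testBit_or]
      revert h1 h2 h3
      cases t.testBit k <;> cases m.testBit k <;> cases m'.testBit k <;> simp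
    rw [← e]
    exact inCode_xor ((hall m hm).1.2.resolve_left hmt) ((hall m' hm').1.2.resolve_left hmt')

theorem sextets_eq (x : Finset (Finset GolayPt)) :
    x ∈ sextets ↔ ∃ i, i < 1771 ∧ setOfMasks (sextAt i) = x := by
  refine ⟨fun hx => ?_, fun ⟨i, hi, e⟩ => e ▸ (sext_spec hi).1⟩
  classical
  have huniv : x.biUnion id = Finset.univ := by
    refine Finset.eq_univ_of_card _ ?_
    show (x.biUnion fun o => o).card = _
    rw [Finset.card_biUnion fun o ho o' ho' hne => sextet_disjoint hx ho ho' hne,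
      Finset.sum_congr rfl (fun o ho => hx.2.1 o ho), Finset.sum_const,
      hx.1]
    simp
  obtain ⟨t, ht, htn⟩ := Finset.mem_biUnion.1 (huniv ▸ Finset.mem_univ (none : GolayPt))
  rw [id_eq] at htn
  set s : Finset (Fin 24) := (t.erase none).image ptEnc with hs
  have hs3 : s.card = 3 := by
    rw [hs, Finset.card_image_of_injective _ ptEnc.injective, Finset.card_erase_of_mem htn,
      hx.2.1 t ht]
  let f := s.orderEmbOfFin hs3
  set a := (f 0).val; set b := (f 1).val; set c := (f 2).val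
  have hab : a < b := f.strictMono (show (0 : Fin 3) < 1 by decide)
  have hbc : b < c := f.strictMono (show (1 : Fin 3) < 2 by decide)
  have hc23 : c < 23 := by
    have hm := s.orderEmbOfFin_mem hs3 2
    obtain ⟨p, hp, e⟩ := Finset.mem_image.1 hm
    have hpn := (Finset.mem_erase.1 hp).1
    have : (ptEnc p).val ≠ 23 := fun h => hpn (ptEnc.injective (Fin.ext h))
    have hval : (ptEnc p).val = c := congrArg Fin.val e
    have h24 : c < 24 := (f 2).isLt
    omega
  have htm : t = ptsOf (8388608 ||| 2 ^ a ||| 2 ^ b ||| 2 ^ c) := by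
    refine (Finset.eq_of_subset_of_card_le ?_ (le_of_eq ?_)).symm
    · intro p hp
      rw [ptsOf_or, ptsOf_or, ptsOf_or, show (8388608 : ℕ) = 2 ^ 23 from rfl,
        ptsOf_two_pow (by norm_num), ptsOf_two_pow (f 0).isLt, ptsOf_two_pow (f 1).isLt,
        ptsOf_two_pow (f 2).isLt] at hp
      simp only [Finset.mem_union, Finset.mem_singleton] at hp
      have hf : ∀ k, ptEnc.symm (f k) ∈ t := fun k => by
        obtain ⟨q, hq, e⟩ := Finset.mem_image.1 (s.orderEmbOfFin_mem hs3 k)
        rw [← e, Equiv.symm_apply_apply]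
        exact Finset.mem_of_mem_erase hq
      rcases hp with ((rfl | rfl) | rfl) | rfl
      · exact htn
      exacts [hf 0, hf 1, hf 2]
    · rw [hx.2.1 t ht, ptsOf_or, ptsOf_or, ptsOf_or, show (8388608 : ℕ) = 2 ^ 23 from rfl,
        ptsOf_two_pow (by norm_num), ptsOf_two_pow (f 0).isLt, ptsOf_two_pow (f 1).isLt,
        ptsOf_two_pow (f 2).isLt]
      have := (f 0).isLt; have := (f 1).isLt
      have h01 : (f 0).val < (f 1).val := hab
      have h12 : (f 1).val < (f 2).val := hbc
      have h2 : (f 2).val < 23 := hc23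
      rw [Finset.card_union_of_disjoint, Finset.card_union_of_disjoint,
        Finset.card_union_of_disjoint] <;>
        simp [Fin.ext_iff] <;> omega
  have hmem : 8388608 ||| 2 ^ a ||| 2 ^ b ||| 2 ^ c ∈ tetList := by
    simp only [tetList, List.mem_flatMap, List.mem_range, List.mem_map]
    exact ⟨c, hc23, b, hbc, a, hab, rfl⟩
  obtain ⟨i, hi, e⟩ := List.mem_iff_getElem.1 hmem
  have hlen := tetList_length
  refine ⟨i, hlen ▸ hi, ?_⟩
  obtain ⟨h1, -, h3⟩ := sext_spec (hlen ▸ hi)
  rw [List.getD_eq_getElem _ _ hi, e, ← htm] at h3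
  exact sextet_unique h1 hx h3 ht

theorem sextAt_inj : ∀ i, i < 1771 → ∀ j, j < 1771 →
    setOfMasks (sextAt i) = setOfMasks (sextAt j) → i = j := by
  intro i hi j hj h
  exact inj_of_incr (key := fun l => l.getD 5 0) sextKey_check hi hj
    (setOfMasks_inj (sext_spec hi).2.1 (sext_spec hj).2.1 h)

theorem M24_smul_mem_trios {σ : Equiv.Perm GolayPt} (hσ : σ ∈ M24) {T : Finset (Finset GolayPt)}
    (hT : T ∈ trios) : σ • T ∈ trios := by
  obtain ⟨h3, hoct, hdis⟩ := hT
  refine ⟨by rw [Finset.card_smul_finset, h3], fun o ho => ?_, fun o ho o' ho' hne => ?_⟩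
  · obtain ⟨u, hu, rfl⟩ := Finset.mem_smul_finset.1 ho
    exact M24_smul_octad hσ (hoct u hu)
  · obtain ⟨u, hu, rfl⟩ := Finset.mem_smul_finset.1 ho
    obtain ⟨v, hv, rfl⟩ := Finset.mem_smul_finset.1 ho'
    refine Finset.disjoint_left.2 fun p hp hp' => ?_
    rw [mem_smul_pts] at hp hp'
    exact Finset.disjoint_left.1 (hdis u hu v hv fun e => hne (by rw [e])) hp hp'

theorem M24_smul_mem_sextets {σ : Equiv.Perm GolayPt} (hσ : σ ∈ M24) {S : Finset (Finset GolayPt)}
    (hS : S ∈ sextets) : σ • S ∈ sextets := by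
  obtain ⟨h6, h4, hoct⟩ := hS
  refine ⟨by rw [Finset.card_smul_finset, h6], fun o ho => ?_, fun o ho o' ho' hne => ?_⟩
  · obtain ⟨u, hu, rfl⟩ := Finset.mem_smul_finset.1 ho
    rw [Finset.card_smul_finset, h4 u hu]
  · obtain ⟨u, hu, rfl⟩ := Finset.mem_smul_finset.1 ho
    obtain ⟨v, hv, rfl⟩ := Finset.mem_smul_finset.1 ho'
    rw [← Finset.smul_finset_union]
    exact M24_smul_octad hσ (hoct u hu v hv fun e => hne (by rw [e]))

end Cfsg.Agent.Mathieu
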