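import Cfsg.Agent.Lib.Mathieu.SylowCert

/-!
Certificate data for the classes of elements of order 3 of M24: a Sylow 3-subgroup, two
representatives, conjugators (checked in `Cfsg.Agent.Lib.Mathieu.Classes`).
-/

set_option autoImplicit false

namespace Cfsg.Agent.Mathieu

/-- A Sylow 3-subgroup of M₂₄ (only the group part of the certificate is used). -/
def syl24Three : SubgroupCert where
  gens := [0x9010a130b1502000f0e171014120d08071605110304060c, 0x20615130b120009050e1117140a040f07010810030c160d, 0x4130a0f051502110107170908120006030b160d0e10140c]
  slp := [
    (0xd051201160a10021403040006150c0b0e08131707110f09, 2, 2),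
    (0x17161514131211100f0e0d0c0b0a09080706050403020100, 3, 0),
    (0x100b0a0508150c00160702040f120d01031406110e091317, 3, 4),
    (0x110b120f050a04020607090d08150c16031401170e001310, 3, 5),
    (0xc01150b14120d04080e0002130a100507160f0903170611, 5, 5),
    (0x141205080a100c010704110f151706031316020e0d0b09, 7, 5),
    (0x208150116120d100b030017060a09130e0f1404070c0511, 8, 2),
    (0x17051506011200041303110c160a10140e080b0907020f0d, 0, 2),
    (0x170b15080f120d090107000c050a0406031416100e021311, 0, 0)]
  levels := [
    (23, [23, 4, 2, 9, 13, 16, 17, 12, 0], [0x17161514131211100f0e0d0c0b0a09080706050403020100, 0x4130a0f051502110107170908120006030b160d0e10140c, 0x20615130b120009050e1117140a040f07010810030c160d, 0x9010a130b1502000f0e171014120d08071605110304060c, 0xd051201160a10021403040006150c0b0e08131707110f09, 0x100b0a0508150c00160702040f120d01031406110e091317, 0x110b120f050a04020607090d08150c16031401170e001310, 0xc01150b14120d04080e0002130a100507160f0903170611, 0x141205080a100c010704110f151706031316020e0d0b09]),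
    (0, [0, 13, 17], [0x17161514131211100f0e0d0c0b0a09080706050403020100, 0x17051506011200041303110c160a10140e080b0907020f0d, 0x170b15080f120d090107000c050a0406031416100e021311]),
    (1, [1], [0x17161514131211100f0e0d0c0b0a09080706050403020100]),
    (2, [2], [0x17161514131211100f0e0d0c0b0a09080706050403020100]),
    (3, [3], [0x17161514131211100f0e0d0c0b0a09080706050403020100]),
    (5, [5], [0x17161514131211100f0e0d0c0b0a09080706050403020100]),
    (4, [4], [0x17161514131211100f0e0d0c0b0a09080706050403020100])]
  z := 0
  steps := []

/-- An element of order 3 fixing six points. -/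
def three24_6 : ℕ := 0xc01150b14120d04080e0002130a100507160f0903170611

/-- An element of order 3 without fixed points. -/
def three24_0 : ℕ := 0xd1312080f0a09171607100005150201030b060c0e111404

/-- Conjugators covering the elements of order 3 of the Sylow subgroup. -/
def threeConj24 : List ℕ := [
  0x17161514131211100f0e0d0c0b0a09080706050403020100,
  0x171608120a050c0213071009150f110b030614040e0d0100,
  0x17160b050f14090d0a03021108130c150e06120407100100,
  0x17060b120a14020c0f03091015130d08071605040e110100,
  0x170f030d10061311150714040201090a1608120c0e00050b,
  0x1705001416150807041101020f120e090d1310030a0c060b,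
  0x170615050f120d09130e1102080a100b03161404070c0100,
  0x17140a16131211070f040d020815030b1005060e090c0100,
  0x9170b160a130306150f11051207140210080e0c0d0401,
  0x171300100415010e1611080c0912070f0a0514030d02060b,
  0x17060814130510110a070c0d0b0f02150e16120403090100,
  0x1708031215061409100713000a0111020e0f0d0c1604050b,
  0x101708060a0f071615130d141203050c090b0e02110401,
  0x17050a060f120d031304110c0b1507080914160e10020100,
  0x17161514131211100f0e0d0c0b0a09080706050403020100,
  0x170a050f1216100d150c040708131101090b060e00021403,
  0x17030d060e09150407081102010c1214160513100b0a0f00,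
  0x170c060e10080400110a091401130d03120b0f0515020716,
  0x170212091015071100050408140a0e0d130f061601030c0b,
  0x170615050f120d09130e1102080a100b03161404070c0100,
  0x170a060e1508160412140d0c110b0503010210090f130700,
  0x170312060e150100070c100f090a131404020d0b11080516,
  0x17031514071213100e0c000f0d0a0106110209160408050b,
  0x17140d0805041109160b000a030210060f070e12010c1315,
  0x1716041314000711080a09011002030f120c0d05150e060b,
  0x171605040f0b120d1301100e0906150008021107140a0c03]

end Cfsg.Agent.Mathieu
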