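import Cfsg.Agent.Lib.Mathieu.OneBlockBase
import Cfsg.Agent.Lib.Mathieu.ClassesData

/-!
Classes of elements of prime order from a Sylow subgroup, and fixed points of packed permutations.
-/

set_option autoImplicit false
set_option maxRecDepth 20000

namespace Cfsg.Agent.Mathieu

open Cfsg

section General

variable {α : Type*} {n : ℕ} [NeZero n] {e : α ≃ Fin n}

/-- Every element of order `p` of the list `E` is conjugate by a listed element to some `z`. -/
def primeCoverOK (n p : ℕ) (memH : ℕ → Bool) (E : List ℕ) (cs zs : List ℕ) : Bool :=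
  cs.all (fun g => permOK n g && memH g) &&
    E.all fun x => !isId n (packPow n x p) || isId n x ||
      zs.any fun z => cs.any fun g => conjP n g z x

variable [Finite α] [DecidableEq α] {H : Subgroup (Equiv.Perm α)} {memH : ℕ → Bool}

/-- Every element of prime order `p` of `H` is conjugate to one of the listed ones. -/
theorem prime_order_cases (hn : n ≤ 256) (hmem : ∀ σ g, Rep e σ g → memH g = true → σ ∈ H)
    {p : ℕ} [Fact p.Prime] {C : SubgroupCert} (hg : C.groupOK n memH = true) {k : ℕ}
    (hk : (C.levels.map fun q => q.2.1.length).prod = p ^ k)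
    (hfac : (Nat.card H).factorization p = k) {cs zs : List ℕ}
    (hcov : primeCoverOK n p memH (C.elts n) cs zs = true) (hzs : zs.all (permOK n) = true)
    (y : H) (hy : orderOf y = p) :
    ∃ z ∈ zs, ∃ c : H, Rep e ((c * y * c⁻¹ : H) : Equiv.Perm α) z := by
  obtain ⟨hSH, hcard, -, hlist⟩ := cert_group (e := e) hn hmem hg
  set S₁ : Subgroup H := (genGroup e C.gens).subgroupOf H with hS₁
  have hc₁ : Nat.card S₁ = p ^ (Nat.card H).factorization p := by
    rw [hfac, ← hk, ← hcard]
    exact Nat.card_congr (Subgroup.subgroupOfEquivOfLe hSH).toEquiv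
  obtain ⟨P, hP⟩ := (IsPGroup.of_card (n := 1) (by rw [Nat.card_zpowers, hy, pow_one]) :
    IsPGroup p (Subgroup.zpowers y)).exists_le_sylow
  obtain ⟨d, hd⟩ := MulAction.exists_smul_eq H P (Sylow.ofCard S₁ hc₁)
  set x : H := d * y * d⁻¹ with hx
  have hxS : x ∈ S₁ := by
    have : x ∈ ((d • P : Sylow p H) : Subgroup H) := by
      rw [Sylow.coe_subgroup_smul]
      exact ⟨y, hP (Subgroup.mem_zpowers y), rfl⟩
    rw [hd] at this; exact this
  obtain ⟨l, hl, hxl⟩ := hlist _ hxS
  replace hxl : Rep e (x : Equiv.Perm α) l := hxl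
  have hxo : orderOf x = p := by
    rw [hx, ← hy]
    exact orderOf_injective (MulAut.conj d).toMonoidHom (MulAut.conj d).injective y
  simp only [primeCoverOK, Bool.and_eq_true, List.all_eq_true, Bool.or_eq_true,
    Bool.not_eq_eq_eq_not, Bool.not_true, List.any_eq_true] at hcov
  obtain ⟨hcs, hE⟩ := hcov
  rcases hE l hl with (h | h) | ⟨z, hz, g, hgc, hconj⟩
  · exfalso
    have h2 := rep_packPow hn hxl p
    rw [← Subgroup.coe_pow, ← hxo, pow_orderOf_eq_one, Subgroup.coe_one, hxo] at h2
    rw [isId_of_rep_one h2] at h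
    exact Bool.noConfusion h
  · exfalso
    have : x = 1 := Subtype.ext (hxl.eq_one h)
    rw [this, orderOf_one] at hxo
    exact (Fact.out : p.Prime).one_lt.ne hxo
  · obtain ⟨γ, hγ⟩ := exists_rep (e := e) (hcs g hgc).1
    obtain ⟨ζ, hζ⟩ := exists_rep (e := e) (List.all_eq_true.1 hzs z hz)
    have hγH : γ ∈ H := hmem γ g hγ (hcs g hgc).2
    refine ⟨z, hz, (⟨γ, hγH⟩ : H)⁻¹ * d, ?_⟩
    have he : ((((⟨γ, hγH⟩ : H)⁻¹ * d) * y * ((⟨γ, hγH⟩ : H)⁻¹ * d)⁻¹ : H) : Equiv.Perm α) =
        γ⁻¹ * (x : Equiv.Perm α) * γ := by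
      rw [hx]; simp [mul_assoc]
    rw [he, ← conj_eq_of_conjP hγ hζ hxl hconj]
    simpa [mul_assoc] using hζ

end General

/-- The fixed points have the given mask. -/
def fixOK (l m : ℕ) : Bool := (List.range 24).all fun i => m.testBit i == (app l i == i)

theorem filter_fix_eq {σ : Equiv.Perm GolayPt} {l m : ℕ} (h : Rep ptEnc σ l)
    (hm : fixOK l m = true) : (Finset.univ.filter fun p => σ p = p) = ptsOf m := by
  simp only [fixOK, List.all_eq_true, List.mem_range, beq_iff_eq] at hm
  ext p
  rw [Finset.mem_filter, mem_ptsOf, hasPt, hm _ (ptEnc p).isLt, beq_iff_eq, ← h p, Fin.val_inj,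
    ptEnc.injective.eq_iff]
  simp

theorem filter_fix_conj (c σ : Equiv.Perm GolayPt) :
    (Finset.univ.filter fun p => (c * σ * c⁻¹) p = p) =
      (Finset.univ.filter fun p => σ p = p).image c := by
  ext p
  rw [Finset.mem_filter]
  simp only [Finset.mem_filter, Finset.mem_univ, true_and, Finset.mem_image, Equiv.Perm.mul_apply]
  constructor
  · exact fun h => ⟨c⁻¹ p, c.injective (by simpa using h), by simp⟩
  · rintro ⟨q, hq, rfl⟩; simp [hq]

theorem M24_factorization_three : (Nat.card M24).factorization 3 = 3 := by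
  rw [card_M24, show (244823040 : ℕ) = 3 ^ 3 * 9067520 by norm_num,
    Nat.factorization_mul (by norm_num) (by norm_num),
    Nat.Prime.factorization_pow Nat.prime_three]
  simp [Nat.factorization_eq_zero_of_not_dvd (by norm_num : ¬ 3 ∣ 9067520)]

/-- Every element of order 3 of M₂₄ is conjugate to one of two. -/
theorem M24_three_cases (y : M24) (hy : orderOf y = 3) :
    ∃ z ∈ [three24_6, three24_0], ∃ c : M24,
      Rep ptEnc ((c * y * c⁻¹ : M24) : Equiv.Perm GolayPt) z := by
  haveI : Fact (Nat.Prime 3) := ⟨Nat.prime_three⟩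
  exact prime_order_cases (H := M24) (by norm_num) mem24_sound (C := syl24Three) (by decide +kernel)
    (k := 3) (by decide +kernel) M24_factorization_three (cs := threeConj24) (by decide +kernel)
    (by decide +kernel) y hy

end Cfsg.Agent.Mathieu
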