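import Cfsg.Prelude.Def_Sporadic_a

/-!
The binary Golay code of `Def_Sporadic_a` as a set of bit masks: `golayCode` consists of the words
`wordOf m` with `inCode m`, a Boolean test evaluated quickly by the kernel.
-/

set_option autoImplicit false

namespace Cfsg.Agent.Mathieu

open Cfsg

/-- The 24 points numbered by residue, with `23` for the extra point. -/
def ptEnc : GolayPt ≃ Fin 24 where
  toFun p := match p with
    | none => 23
    | some x => ⟨x.val, lt_trans x.val_lt (by norm_num)⟩
  invFun i := if h : i.val < 23 then some (⟨i.val, h⟩ : Fin 23) else none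
  left_inv := by decide +kernel
  right_inv := by decide +kernel

/-- Whether the point `p` is in the mask `m`. -/
def hasPt (m : ℕ) (p : GolayPt) : Bool := m.testBit (ptEnc p).val

/-- The set of points with mask `m`. -/
def ptsOf (m : ℕ) : Finset GolayPt := Finset.univ.filter fun p => hasPt m p = true

/-- The word with mask `m`. -/
def wordOf (m : ℕ) : GolayPt → ZMod 2 := fun p => if hasPt m p then 1 else 0

theorem mem_ptsOf {m : ℕ} {p : GolayPt} : p ∈ ptsOf m ↔ hasPt m p = true := by simp [ptsOf]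

theorem wordOf_xor (a b : ℕ) : wordOf (a ^^^ b) = wordOf a + wordOf b := by
  funext p
  simp only [wordOf, hasPt, Nat.testBit_xor, Pi.add_apply]
  rcases Bool.eq_false_or_eq_true (a.testBit (ptEnc p).val) with h | h <;>
    rcases Bool.eq_false_or_eq_true (b.testBit (ptEnc p).val) with h' | h' <;>
    simp [h, h'] ; try decide

theorem support₂_wordOf (m : ℕ) : support₂ (wordOf m) = ptsOf m := by
  ext p
  by_cases h : hasPt m p = true <;> simp [support₂, mem_ptsOf, wordOf, h]

theorem testBit_idx (m : ℕ) (i : Fin 24) : hasPt m (ptEnc.symm i) = m.testBit i.val := by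
  simp [hasPt]

theorem mask_ext {a b : ℕ} (ha : a < 2 ^ 24) (hb : b < 2 ^ 24)
    (h : ∀ p, hasPt a p = hasPt b p) : a = b := by
  refine Nat.eq_of_testBit_eq fun i => ?_
  rcases lt_or_ge i 24 with hi | hi
  · simpa [testBit_idx] using h (ptEnc.symm ⟨i, hi⟩)
  · have h' := Nat.pow_le_pow_right (show 1 ≤ 2 by norm_num) hi
    rw [Nat.testBit_lt_two_pow (lt_of_lt_of_le ha h'), Nat.testBit_lt_two_pow (lt_of_lt_of_le hb h')]

theorem ptsOf_inj {a b : ℕ} (ha : a < 2 ^ 24) (hb : b < 2 ^ 24) (h : ptsOf a = ptsOf b) :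
    a = b :=
  mask_ext ha hb fun p => by
    have := Finset.ext_iff.1 h p
    simp only [mem_ptsOf] at this
    exact Bool.eq_iff_iff.2 this

theorem wordOf_inj {a b : ℕ} (ha : a < 2 ^ 24) (hb : b < 2 ^ 24) (h : wordOf a = wordOf b) :
    a = b :=
  ptsOf_inj ha hb (by rw [← support₂_wordOf, ← support₂_wordOf, h])

theorem ptsOf_and (a b : ℕ) : ptsOf (a &&& b) = ptsOf a ∩ ptsOf b := by
  ext p; simp [mem_ptsOf, hasPt]

theorem ptsOf_or (a b : ℕ) : ptsOf (a ||| b) = ptsOf a ∪ ptsOf b := by
  ext p; simp [mem_ptsOf, hasPt]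

theorem ptsOf_xor (a b : ℕ) : ptsOf (a ^^^ b) = symmDiff (ptsOf a) (ptsOf b) := by
  ext p
  simp only [mem_ptsOf, hasPt, Finset.mem_symmDiff, Nat.testBit_xor]
  cases a.testBit (ptEnc p).val <;> cases b.testBit (ptEnc p).val <;> simp

theorem ptsOf_two_pow {i : ℕ} (hi : i < 24) : ptsOf (2 ^ i) = {ptEnc.symm ⟨i, hi⟩} := by
  ext p
  simp only [mem_ptsOf, hasPt, Nat.testBit_two_pow, decide_eq_true_eq, Finset.mem_singleton,
    Equiv.eq_symm_apply, Fin.ext_iff]
  exact eq_comm

theorem exists_mask (s : Finset GolayPt) : ∃ m < 2 ^ 24, ptsOf m = s := by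
  induction s using Finset.induction_on with
  | empty => exact ⟨0, by norm_num, by ext; simp [mem_ptsOf, hasPt]⟩
  | @insert a s _ ih =>
    obtain ⟨m, hm, rfl⟩ := ih
    refine ⟨2 ^ (ptEnc a).val ||| m,
      Nat.or_lt_two_pow (Nat.pow_lt_pow_right (by norm_num) (ptEnc a).isLt) hm, ?_⟩
    rw [ptsOf_or, ptsOf_two_pow (ptEnc a).isLt]
    simp

/-- Number of set bits among the first `n`. -/
def popc : ℕ → ℕ → ℕ
  | 0, _ => 0
  | n + 1, m => m % 2 + popc n (m / 2)

theorem card_range_testBit (n m : ℕ) :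
    ((Finset.range n).filter fun i => m.testBit i = true).card = popc n m := by
  induction n generalizing m with
  | zero => rfl
  | succ n ih =>
    rw [popc, ← ih, Finset.card_filter, Finset.sum_range_succ', Finset.card_filter, add_comm]
    congr 1
    · rcases Nat.mod_two_eq_zero_or_one m with h | h <;> simp [Nat.testBit_zero, h]
    · simp [Nat.testBit_succ]

theorem card_ptsOf (m : ℕ) : (ptsOf m).card = popc 24 m := by
  rw [← card_range_testBit]
  refine Finset.card_nbij (fun p => (ptEnc p).val) ?_ ?_ ?_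
  · intro p hp; simpa [mem_ptsOf, hasPt] using hp
  · intro p _ q _ h; exact ptEnc.injective (Fin.ext h)
  · intro i hi
    simp only [Finset.coe_filter, Finset.mem_range, Set.mem_ofPred_eq] at hi
    exact ⟨ptEnc.symm ⟨i, hi.1⟩, by simpa [mem_ptsOf, testBit_idx] using hi.2, by simp⟩

/-! ### The code -/

/-- A systematic basis of the code: bit `j < 12` of the `i`-th mask is `1` exactly for `j = i`. -/
def codeBasis : List ℕ := [0xc75001, 0x49f002, 0xd4b004, 0x6e3008, 0x9b3010, 0xb66020, 0xecc040, 0x1ed080, 0x3da100, 0x7b4200, 0xb1d400, 0xe3a800]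

/-- The combination of `bs` selected by the bits of `c`. -/
def encC : List ℕ → ℕ → ℕ
  | [], _ => 0
  | b :: bs, c => (if c % 2 = 1 then b else 0) ^^^ encC bs (c / 2)

/-- Membership test for the code. -/
def inCode (m : ℕ) : Bool := encC codeBasis m == m

theorem encC_xor (bs : List ℕ) : ∀ x y, encC bs (x ^^^ y) = encC bs x ^^^ encC bs y := by
  induction bs with
  | nil => intros; simp [encC]
  | cons b bs ih =>
    intro x y
    simp only [encC]
    have h2 : (x ^^^ y) / 2 = (x / 2) ^^^ (y / 2) :=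
      Nat.eq_of_testBit_eq fun i => by simp [Nat.testBit_div_two]
    have h0 : ((x ^^^ y) % 2 = 1) ↔ ¬((x % 2 = 1) ↔ (y % 2 = 1)) := by
      have := Nat.testBit_xor x y 0
      simp only [Nat.testBit_zero] at this
      by_cases hx : x % 2 = 1 <;> by_cases hy : y % 2 = 1 <;> simp_all
    rw [h2, ih, if_congr h0 rfl rfl]
    by_cases hx : x % 2 = 1 <;> by_cases hy : y % 2 = 1 <;>
      simp [hx, hy, Nat.xor_assoc, Nat.xor_left_comm]

theorem inCode_xor {a b : ℕ} (ha : inCode a = true) (hb : inCode b = true) :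
    inCode (a ^^^ b) = true := by
  simp only [inCode, beq_iff_eq] at ha hb ⊢
  rw [encC_xor, ha, hb]

theorem encC_mod (bs : List ℕ) : ∀ c, encC bs (c % 2 ^ bs.length) = encC bs c := by
  induction bs with
  | nil => intros; rfl
  | cons b bs ih =>
    intro c
    simp only [encC, List.length_cons, pow_succ']
    rw [Nat.mod_mul_right_div_self, ih,
      Nat.mod_mod_of_dvd _ (Dvd.intro (2 ^ bs.length) rfl)]

/-- The 4096 masks of the code. -/
def codeList : List ℕ := (List.range 4096).map (encC codeBasis)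

theorem codeList_check :
    ((List.range 4096).all fun c =>
      decide (encC codeBasis c < 2 ^ 24) && encC codeBasis c % 4096 == c &&
      ([0, 8, 12, 16, 24].contains (popc 24 (encC codeBasis c)))) = true := by
  decide +kernel

theorem codeList_spec {c : ℕ} (hc : c < 4096) :
    encC codeBasis c < 2 ^ 24 ∧ encC codeBasis c % 4096 = c ∧
      popc 24 (encC codeBasis c) ∈ [0, 8, 12, 16, 24] := by
  have h := List.all_eq_true.1 codeList_check c (List.mem_range.2 hc)
  simp only [Bool.and_eq_true, decide_eq_true_eq, beq_iff_eq, List.contains_iff_mem] at h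
  exact ⟨h.1.1, h.1.2, h.2⟩

theorem inCode_encC {c : ℕ} (hc : c < 4096) : inCode (encC codeBasis c) = true := by
  rw [inCode, beq_iff_eq, ← encC_mod, show 2 ^ codeBasis.length = 4096 from rfl,
    (codeList_spec hc).2.1]

theorem inCode_iff_mem {m : ℕ} : inCode m = true ↔ m ∈ codeList := by
  simp only [codeList, List.mem_map, List.mem_range]
  constructor
  · intro h
    refine ⟨m % 4096, Nat.mod_lt _ (by norm_num), ?_⟩
    rw [inCode, beq_iff_eq] at h
    rw [show (4096 : ℕ) = 2 ^ codeBasis.length from rfl, encC_mod, h]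
  · rintro ⟨c, hc, rfl⟩; exact inCode_encC hc

theorem inCode_spec {m : ℕ} (h : inCode m = true) :
    m < 2 ^ 24 ∧ popc 24 m ∈ [0, 8, 12, 16, 24] := by
  rw [inCode_iff_mem, codeList, List.mem_map] at h
  obtain ⟨c, hc, rfl⟩ := h
  exact ⟨(codeList_spec (List.mem_range.1 hc)).1, (codeList_spec (List.mem_range.1 hc)).2.2⟩

theorem codeList_nodup : codeList.Nodup :=
  List.Nodup.map_on (fun x hx y hy h => by
    rw [← (codeList_spec (List.mem_range.1 hx)).2.1, h, (codeList_spec (List.mem_range.1 hy)).2.1])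
    List.nodup_range

/-- The masks of the words `qrWord t`. -/
def qrMasks : List ℕ := [0x5335f, 0xa66be, 0x14cd7c, 0x299af8, 0x5335f0, 0x266be1, 0x4cd7c2, 0x19af85, 0x335f0a, 0x66be14, 0x4d7c29, 0x1af853, 0x35f0a6, 0x6be14c, 0x57c299, 0x2f8533, 0x5f0a66, 0x3e14cd, 0x7c299a, 0x785335, 0x70a66b, 0x614cd7, 0x4299af]

theorem qrWord_eq (t : ZMod 23) : qrWord t = wordOf (qrMasks.getD t.val 0) := by
  have h : ∀ (t : ZMod 23) (p : GolayPt), qrWord t p = wordOf (qrMasks.getD t.val 0) p := by
    decide +kernel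
  exact funext (h t)

theorem qrMasks_inCode : qrMasks.all inCode = true := by decide +kernel

theorem one_eq_wordOf : (1 : GolayPt → ZMod 2) = wordOf (2 ^ 24 - 1) := by
  have h : ∀ p : GolayPt, (1 : GolayPt → ZMod 2) p = wordOf (2 ^ 24 - 1) p := by decide +kernel
  exact funext h

/-- For each basis mask, indices of translates of the squares (`23`: the all-ones word) with that
sum. -/
def basisCombs : List (List ℕ) :=
  [[0, 3, 5, 7, 9, 10, 23],
   [3, 4, 8],
   [0, 3, 4, 7, 10, 23],
   [3, 4, 5, 6, 8, 10],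
   [1, 3, 4, 5, 7, 9, 10, 23],
   [0, 1, 2, 4, 7, 8, 9, 10, 23],
   [0, 2, 3, 6, 7, 8, 10, 23],
   [4, 6, 7, 8, 9, 10],
   [0, 1, 6, 8, 10],
   [0, 2, 5, 6],
   [0, 1, 5, 6, 9, 10, 23],
   [0, 2, 5, 9, 10, 23]]

theorem basisCombs_check :
    (basisCombs.map fun l => l.foldr (fun j acc => (qrMasks ++ [2 ^ 24 - 1]).getD j 0 ^^^ acc) 0) =
      codeBasis := by
  decide +kernel

theorem wordOf_mem_of_inCode {m : ℕ} (h : inCode m = true) : wordOf m ∈ golayCode := by
  have h0 : wordOf 0 ∈ golayCode := by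
    convert golayCode.zero_mem using 1
    funext p; simp [wordOf, hasPt]
  have hgen : ∀ j, wordOf ((qrMasks ++ [2 ^ 24 - 1]).getD j 0) ∈ golayCode := by
    intro j
    rcases Nat.lt_trichotomy j 23 with hj | rfl | hj
    · rw [List.getD_append _ _ _ _ (by simpa [qrMasks] using hj)]
      have hv : ((j : ZMod 23)).val = j := ZMod.val_natCast_of_lt hj
      rw [← hv, ← qrWord_eq]
      exact Submodule.subset_span (Or.inl ⟨_, rfl⟩)
    · exact Submodule.subset_span (Or.inr one_eq_wordOf.symm)
    · rw [List.getD_eq_default _ _ (by simp [qrMasks]; omega)]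
      exact h0
  have hb : ∀ b ∈ codeBasis, wordOf b ∈ golayCode := by
    rw [← basisCombs_check]
    intro b hb
    obtain ⟨l, -, rfl⟩ := List.mem_map.1 hb
    clear hb
    induction l with
    | nil => exact h0
    | cons j l ih =>
      rw [List.foldr_cons, wordOf_xor]
      exact golayCode.add_mem (hgen j) ih
  rw [inCode, beq_iff_eq] at h
  rw [← h]
  clear h
  generalize codeBasis = bs at hb
  induction bs generalizing m with
  | nil => exact h0
  | cons b bs ih =>
    rw [encC, wordOf_xor]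
    refine golayCode.add_mem ?_ (ih fun x hx => hb x (List.mem_cons_of_mem _ hx))
    split
    · exact hb b List.mem_cons_self
    · exact h0

theorem mem_golayCode_iff {w : GolayPt → ZMod 2} :
    w ∈ golayCode ↔ ∃ m, inCode m = true ∧ wordOf m = w := by
  constructor
  · intro hw
    induction hw using Submodule.span_induction with
    | mem x hx =>
      rcases hx with ⟨t, rfl⟩ | hx
      · refine ⟨_, ?_, (qrWord_eq t).symm⟩
        have ht : t.val < qrMasks.length := t.val_lt
        rw [List.getD_eq_getElem _ _ ht]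
        exact List.all_eq_true.1 qrMasks_inCode _ (List.getElem_mem ht)
      · rw [Set.mem_singleton_iff] at hx
        exact ⟨2 ^ 24 - 1, by decide +kernel, hx ▸ one_eq_wordOf.symm⟩
    | zero => exact ⟨0, by decide +kernel, by funext p; simp [wordOf, hasPt]⟩
    | add x y _ _ hx hy =>
      obtain ⟨a, ha, rfl⟩ := hx
      obtain ⟨b, hb, rfl⟩ := hy
      exact ⟨a ^^^ b, inCode_xor ha hb, wordOf_xor a b⟩
    | smul c x _ hx =>
      obtain ⟨a, ha, rfl⟩ := hx
      have hc : ∀ c : ZMod 2, c = 0 ∨ c = 1 := by decide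
      rcases hc c with rfl | rfl
      · exact ⟨0, by decide +kernel, by funext p; simp [wordOf, hasPt]⟩
      · exact ⟨a, ha, (one_smul _ _).symm⟩
  · rintro ⟨m, hm, rfl⟩; exact wordOf_mem_of_inCode hm

theorem mem_supports_iff {s : Finset GolayPt} :
    s ∈ supports (golayCode : Set (GolayPt → ZMod 2)) ↔ ∃ m, inCode m = true ∧ ptsOf m = s := by
  simp only [supports, Set.mem_image, SetLike.mem_coe, mem_golayCode_iff]
  constructor
  · rintro ⟨_, ⟨m, hm, rfl⟩, rfl⟩; exact ⟨m, hm, (support₂_wordOf m).symm⟩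
  · rintro ⟨m, hm, rfl⟩; exact ⟨_, ⟨m, hm, rfl⟩, support₂_wordOf m⟩

theorem ptsOf_mem_supports {m : ℕ} (hm : m < 2 ^ 24) :
    ptsOf m ∈ supports (golayCode : Set (GolayPt → ZMod 2)) ↔ inCode m = true := by
  rw [mem_supports_iff]
  refine ⟨fun ⟨a, ha, h⟩ => ?_, fun h => ⟨m, h, rfl⟩⟩
  rwa [← ptsOf_inj (inCode_spec ha).1 hm h]

/-- The masks of the code with `k` bits. -/
def maskList (k : ℕ) : List ℕ := codeList.filter fun m => popc 24 m == k

theorem mem_maskList {m k : ℕ} : m ∈ maskList k ↔ inCode m = true ∧ popc 24 m = k := by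
  simp [maskList, inCode_iff_mem]

theorem mem_wordsOfWeight_iff {s : Finset GolayPt} {k : ℕ} :
    s ∈ wordsOfWeight (golayCode : Set (GolayPt → ZMod 2)) k ↔
      ∃ m ∈ maskList k, ptsOf m = s := by
  simp only [wordsOfWeight, Set.mem_ofPred_eq, mem_supports_iff, mem_maskList]
  constructor
  · rintro ⟨⟨m, hm, rfl⟩, hc⟩; exact ⟨m, ⟨hm, by rw [← card_ptsOf, hc]⟩, rfl⟩
  · rintro ⟨m, ⟨hm, hc⟩, rfl⟩; exact ⟨⟨m, hm, rfl⟩, by rw [card_ptsOf, hc]⟩

theorem mem_octads_iff {s : Finset GolayPt} : s ∈ octads ↔ ∃ m ∈ maskList 8, ptsOf m = s :=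
  mem_wordsOfWeight_iff

theorem mem_dodecads_iff {s : Finset GolayPt} :
    s ∈ dodecads ↔ ∃ m ∈ maskList 12, ptsOf m = s :=
  mem_wordsOfWeight_iff

theorem ptsOf_mem_octads {m : ℕ} (h : inCode m = true) (h8 : popc 24 m = 8) : ptsOf m ∈ octads :=
  mem_octads_iff.2 ⟨m, mem_maskList.2 ⟨h, h8⟩, rfl⟩

theorem ptsOf_mem_dodecads {m : ℕ} (h : inCode m = true) (h12 : popc 24 m = 12) :
    ptsOf m ∈ dodecads :=
  mem_dodecads_iff.2 ⟨m, mem_maskList.2 ⟨h, h12⟩, rfl⟩

theorem ncard_wordsOfWeight (k : ℕ) :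
    (wordsOfWeight (golayCode : Set (GolayPt → ZMod 2)) k).ncard = (maskList k).length := by
  have hset : wordsOfWeight (golayCode : Set (GolayPt → ZMod 2)) k =
      ptsOf '' ((maskList k).toFinset : Set ℕ) := by
    ext s; simp [mem_wordsOfWeight_iff]
  rw [hset, Set.InjOn.ncard_image, Set.ncard_coe_finset,
    List.toFinset_card_of_nodup (l := maskList k) (List.Nodup.filter _ codeList_nodup)]
  intro a ha b hb h
  simp only [List.coe_toFinset, Set.mem_ofPred_eq, mem_maskList] at ha hb
  exact ptsOf_inj (inCode_spec ha.1).1 (inCode_spec hb.1).1 h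

theorem octads_ncard : octads.ncard = 759 := by
  rw [octads, ncard_wordsOfWeight]; decide +kernel

theorem dodecads_ncard : dodecads.ncard = 2576 := by
  rw [dodecads, ncard_wordsOfWeight]; decide +kernel

theorem card_support_cases {s : Finset GolayPt}
    (h : s ∈ supports (golayCode : Set (GolayPt → ZMod 2))) :
    s.card = 0 ∨ s.card = 8 ∨ s.card = 12 ∨ s.card = 16 ∨ s.card = 24 := by
  obtain ⟨m, hm, rfl⟩ := mem_supports_iff.1 h
  simpa [card_ptsOf] using (inCode_spec hm).2

theorem symmDiff_mem_supports {s t : Finset GolayPt}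
    (hs : s ∈ supports (golayCode : Set (GolayPt → ZMod 2)))
    (ht : t ∈ supports (golayCode : Set (GolayPt → ZMod 2))) :
    symmDiff s t ∈ supports (golayCode : Set (GolayPt → ZMod 2)) := by
  obtain ⟨a, ha, rfl⟩ := mem_supports_iff.1 hs
  obtain ⟨b, hb, rfl⟩ := mem_supports_iff.1 ht
  exact mem_supports_iff.2 ⟨a ^^^ b, inCode_xor ha hb, ptsOf_xor a b⟩

theorem card_inter_add_card_symmDiff {ι : Type*} [DecidableEq ι] (s t : Finset ι) :
    2 * (s ∩ t).card + (symmDiff s t).card = s.card + t.card := by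
  have h1 := Finset.card_sdiff_add_card_inter s t
  have h2 := Finset.card_sdiff_add_card_inter t s
  rw [Finset.inter_comm t s] at h2
  rw [symmDiff_def, Finset.sup_eq_union, Finset.card_union_of_disjoint disjoint_sdiff_sdiff]
  omega

theorem finrank_golayCode : Module.finrank (ZMod 2) golayCode = 12 := by
  have hset : (golayCode : Set (GolayPt → ZMod 2)) = wordOf '' (codeList.toFinset : Set ℕ) := by
    ext w; simp [mem_golayCode_iff, inCode_iff_mem]
  have hcard : Nat.card golayCode = 4096 := by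
    change Nat.card ↥(golayCode : Set (GolayPt → ZMod 2)) = 4096
    rw [Nat.card_coe_set_eq, hset, Set.InjOn.ncard_image, Set.ncard_coe_finset,
      List.toFinset_card_of_nodup codeList_nodup, codeList, List.length_map, List.length_range]
    intro a ha b hb h
    simp only [List.coe_toFinset, Set.mem_ofPred_eq, ← inCode_iff_mem] at ha hb
    exact wordOf_inj (inCode_spec ha).1 (inCode_spec hb).1 h
  have h := Module.natCard_eq_pow_finrank (K := ZMod 2) (V := golayCode)
  rw [hcard, Nat.card_zmod] at h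
  exact Nat.pow_right_injective (le_refl 2) (h.symm.trans (by norm_num))

theorem golayCode_orth {v w : GolayPt → ZMod 2} (hv : v ∈ golayCode) (hw : w ∈ golayCode) :
    ∑ i, v i * w i = 0 := by
  have hgen : ∀ a ∈ qrMasks ++ [2 ^ 24 - 1], ∀ b ∈ qrMasks ++ [2 ^ 24 - 1],
      ∑ i, wordOf a i * wordOf b i = (0 : ZMod 2) := by
    intro a ha b hb
    have h : ((qrMasks ++ [2 ^ 24 - 1]).all fun a => (qrMasks ++ [2 ^ 24 - 1]).all fun b =>
        popc 24 (a &&& b) % 2 == 0) = true := by decide +kernel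
    have h' := List.all_eq_true.1 (List.all_eq_true.1 h a ha) b hb
    rw [beq_iff_eq, ← card_ptsOf, ptsOf_and] at h'
    have hsum : ∑ i, wordOf a i * wordOf b i = ((ptsOf a ∩ ptsOf b).card : ZMod 2) := by
      rw [show ptsOf a ∩ ptsOf b =
          Finset.univ.filter (fun i => hasPt a i = true ∧ hasPt b i = true) by
        ext i; simp [mem_ptsOf], Finset.natCast_card_filter]
      refine Finset.sum_congr rfl fun i _ => ?_
      simp only [wordOf]
      cases hasPt a i <;> cases hasPt b i <;> simp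
    rw [hsum, ← ZMod.natCast_mod _ 2, h']; simp
  have hg : ∀ x ∈ Set.range qrWord ∪ {1}, ∃ a ∈ qrMasks ++ [2 ^ 24 - 1], wordOf a = x := by
    rintro x (⟨t, rfl⟩ | hx)
    · have ht : t.val < qrMasks.length := t.val_lt
      exact ⟨qrMasks[t.val], List.mem_append_left _ (List.getElem_mem ht), by
        rw [qrWord_eq, List.getD_eq_getElem _ _ ht]⟩
    · rw [Set.mem_singleton_iff] at hx
      exact ⟨2 ^ 24 - 1, by simp, hx ▸ one_eq_wordOf.symm⟩
  induction hv, hw using Submodule.span_induction₂ with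
  | mem_mem x y hx hy =>
    obtain ⟨a, ha, rfl⟩ := hg x hx
    obtain ⟨b, hb, rfl⟩ := hg y hy
    exact hgen a ha b hb
  | zero_left y hy => simp
  | zero_right x hx => simp
  | add_left x y z _ _ _ h1 h2 =>
    simp only [Pi.add_apply, add_mul, Finset.sum_add_distrib, h1, h2, add_zero]
  | add_right x y z _ _ _ h1 h2 =>
    simp only [Pi.add_apply, mul_add, Finset.sum_add_distrib, h1, h2, add_zero]
  | smul_left r x y _ _ h =>
    simp only [Pi.smul_apply, smul_eq_mul, mul_assoc, ← Finset.mul_sum, h, mul_zero]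
  | smul_right r x y _ _ h =>
    simp only [Pi.smul_apply, smul_eq_mul, mul_left_comm _ r, ← Finset.mul_sum, h, mul_zero]

end Cfsg.Agent.Mathieu
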