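import Cfsg.Agent.Lib.Mathieu.OrbitTree

/-!
Fast kernel evaluation of images and weights of masks by tables.
-/

set_option autoImplicit false

namespace Cfsg.Agent.Mathieu

open Cfsg

theorem popc_add (a b : ℕ) : ∀ m, popc (a + b) m = popc a m + popc b (m / 2 ^ a) := by
  induction a with
  | zero => intro m; simp [popc]
  | succ a ih =>
    intro m
    rw [Nat.succ_add, popc, popc, ih, Nat.div_div_eq_div_mul, pow_succ' 2 a, add_assoc]

theorem popc_mod (a : ℕ) : ∀ m, popc a (m % 2 ^ a) = popc a m := by
  induction a with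
  | zero => intro m; simp [popc]
  | succ a ih =>
    intro m
    rw [popc, popc, pow_succ', Nat.mod_mod_of_dvd _ (Dvd.intro _ rfl), Nat.mod_mul_right_div_self, ih]

/-- The weights of the bytes, 4 bits each. -/
def byteTable : ℕ := (List.range 256).foldr (fun v acc => popc 8 v + 16 * acc) 0

/-- The weight of a mask, by bytes. -/
def popF (m : ℕ) : ℕ :=
  atP 4 byteTable (m % 256) + atP 4 byteTable (m / 256 % 256) + atP 4 byteTable (m / 65536 % 256)

theorem byteTable_check : ((List.range 256).all fun v => atP 4 byteTable v == popc 8 v) = true := by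
  decide +kernel

theorem popF_eq (m : ℕ) : popc 24 m = popF m := by
  have h : ∀ v, v < 256 → atP 4 byteTable v = popc 8 v := fun v hv =>
    beq_iff_eq.1 (List.all_eq_true.1 byteTable_check v (List.mem_range.2 hv))
  rw [popF, h _ (Nat.mod_lt _ (by norm_num)), h _ (Nat.mod_lt _ (by norm_num)),
    h _ (Nat.mod_lt _ (by norm_num)), show (256 : ℕ) = 2 ^ 8 from rfl, popc_mod, popc_mod, popc_mod,
    show (24 : ℕ) = 8 + (8 + 8) from rfl, popc_add, popc_add, Nat.div_div_eq_div_mul, add_assoc]
  norm_num

/-- The image of a mask, from the images of its bytes. -/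
def pimgT (T m : ℕ) : ℕ :=
  atP 24 T (m % 256) ||| atP 24 T (256 + m / 256 % 256) ||| atP 24 T (512 + m / 65536)

/-- `T` lists the images under `l` of the masks contained in one byte. -/
def tableOK (l T : ℕ) : Bool :=
  (List.range 3).all fun c => (List.range 256).all fun v =>
    if Nat.beq (v &&& (v - 1)) 0 then atP 24 T (256 * c + v) == pimg l (v <<< (8 * c))
    else (v &&& (v - 1)).blt v && (v ^^^ (v &&& (v - 1))).blt v &&
      ((v &&& (v - 1)) ||| (v ^^^ (v &&& (v - 1))) == v) &&
      atP 24 T (256 * c + v) ==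
        atP 24 T (256 * c + (v &&& (v - 1))) ||| atP 24 T (256 * c + (v ^^^ (v &&& (v - 1))))

theorem pimg_or (l a b : ℕ) : pimg l (a ||| b) = pimg l a ||| pimg l b := by
  refine Nat.eq_of_testBit_eq fun j => ?_
  rw [pimg, pimg, pimg, Nat.testBit_or, testBit_foldr_two_pow (app l) ((a ||| b).testBit ·),
    testBit_foldr_two_pow (app l) (a.testBit ·), testBit_foldr_two_pow (app l) (b.testBit ·)]
  simp only [Nat.testBit_or]
  induction List.range 24 with
  | nil => simp
  | cons i is ih =>
    simp only [List.any_cons, ih]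
    cases a.testBit i <;> cases b.testBit i <;> cases decide (app l i = j) <;> simp

theorem pimgT_eq {l T m : ℕ} (h : tableOK l T = true) (hm : m < 2 ^ 24) : pimgT T m = pimg l m := by
  simp only [tableOK, List.all_eq_true, List.mem_range] at h
  have key : ∀ c, c < 3 → ∀ v, v < 256 → atP 24 T (256 * c + v) = pimg l (v <<< (8 * c)) := by
    intro c hc v
    induction v using Nat.strong_induction_on with
    | _ v ih =>
      intro hv
      have h' := h c hc v hv
      split_ifs at h' with h0
      · exact beq_iff_eq.1 h'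
      · simp only [Bool.and_eq_true, Nat.blt_eq, beq_iff_eq] at h'
        obtain ⟨⟨⟨hx, hy⟩, hor⟩, heq⟩ := h'
        rw [heq, ih _ hx (hx.trans hv), ih _ hy (hy.trans hv), ← pimg_or,
          ← Nat.shiftLeft_or_distrib, hor]
  have e0 := key 0 (by norm_num) (m % 256) (Nat.mod_lt _ (by norm_num))
  have e1 := key 1 (by norm_num) (m / 256 % 256) (Nat.mod_lt _ (by norm_num))
  have e2 := key 2 (by norm_num) (m / 65536) (by omega)
  simp only [Nat.mul_zero, Nat.zero_add, Nat.mul_one] at e0 e1
  rw [pimgT, e0, e1, show 512 + m / 65536 = 256 * 2 + m / 65536 from rfl, e2, ← pimg_or, ← pimg_or]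
  refine congrArg (pimg l) ?_
  refine Nat.eq_of_testBit_eq fun j => ?_
  simp only [Nat.testBit_or, Nat.testBit_shiftLeft, show (256 : ℕ) = 2 ^ 8 from rfl,
    show (65536 : ℕ) = 2 ^ 16 from rfl, Nat.testBit_mod_two_pow, Nat.testBit_div_two_pow]
  by_cases h8 : j < 8
  · simp [h8, Nat.not_le.2 h8, Nat.not_le.2 (show j < 8 * 2 by omega)]
  · by_cases h16 : j < 16
    · simp [h8, Nat.not_le.2 (show j < 8 * 2 by omega), show 8 ≤ j by omega,
        show j - 8 < 8 by omega]
    · simp [h8, show 8 * 2 ≤ j by omega, show 8 ≤ j by omega, show ¬ j - 8 < 8 by omega,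
        show j - 8 * 2 + 16 = j by omega]

theorem atP_lt (w big i : ℕ) : atP w big i < 2 ^ w := Nat.mod_lt _ (by positivity)

end Cfsg.Agent.Mathieu
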