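import Cfsg.Agent.Lib.Mathieu.BlocksCheck
import Cfsg.Agent.Lib.Mathieu.OrbitFast
import Cfsg.Agent.Lib.Mathieu.FixedData

/-!
Counts of the objects fixed by the representatives of the elements with fixed points.
-/

set_option autoImplicit false
set_option maxRecDepth 20000

namespace Cfsg.Agent.Mathieu

open Cfsg

/-- Whether a table maps the set of masks into itself. -/
def stableMasks (T : ℕ) (L : List ℕ) : Bool := L.all fun m => L.contains (pimgT T m)

/-- The numbers of octads, trios and sextets fixed by the permutation of a table. -/
def fixedCounts (T : ℕ) : List ℕ :=
  [((List.range 759).filter fun i => pimgT T (octAt i) == octAt i).length,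
   ((List.range 3795).filter fun i => stableMasks T (trioAt i)).length,
   ((List.range 1771).filter fun i => stableMasks T (sextAt i)).length]

theorem invEight_counts : fixedCounts invEightTab = [71, 99, 91] := by decide +kernel

theorem threeSix_counts : fixedCounts threeSixTab = [21, 15, 16] := by decide +kernel

theorem threeSix_dodecads :
    ((maskList 12).filter fun m => pimgT threeSixTab m == m).length = 20 := by decide +kernel

end Cfsg.Agent.Mathieu
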