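import Cfsg.Agent.Lib.Mathieu.Stab.OctadGroup
import Cfsg.Agent.Lib.Mathieu.Stab.Labelled
import Cfsg.Agent.Lib.Mathieu.Hexads

/-!
Sets of six points: pointwise and setwise stabilisers in `M₂₄`.
-/

set_option autoImplicit false
set_option maxRecDepth 20000

namespace Cfsg.Agent.Mathieu

open Cfsg
open scoped Pointwise

/-- The elements fixing `0, …, 4`. -/
def fiveList : List ℕ := prodList 24 levelsFive

/-- Those among them fixing `5` as well. -/
def sixList : List ℕ := fiveList.filter fun l => app l 5 == 5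

theorem fiveLevels_check : ((allReps levelsFive).all (fun t => permOK 24 t && presCode t &&
      (List.range 5).all fun i => app t i == i) &&
    (List.range 24).all (fun q => q.blt 5 || (allReps levelsFive).any fun t =>
      app t (if octadB.testBit q then 12 else 5) == q) &&
    fiveList.all (fun l => permOK 24 l && presCode l && (List.range 5).all fun i => app l i == i) &&
    elemsOK sixList && sixList.length == 3 &&
    (List.range 5).all (fun i => octadB.testBit i) && octadB.testBit 12 && !octadB.testBit 5) = true := by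
  decide +kernel

theorem octadB_mem : ptsOf octadB ∈ octads :=
  ptsOf_mem_octads (by decide +kernel) (by decide +kernel)

theorem mem_fiveList {σ : Equiv.Perm GolayPt} (hσ : σ ∈ M24)
    (h5 : ∀ i, i < 5 → σ (idx ptEnc i) = idx ptEnc i) : ∃ l ∈ fiveList, Rep ptEnc σ l := by
  have hfix : ∀ τ ∈ fixList M24 (List.map (idx ptEnc) [4, 3, 2, 1, 0]), ∀ i ∈ [4, 3, 2, 1, 0],
      τ (idx ptEnc i) = idx ptEnc i := fun τ hτ i hi =>
    (mem_fixList.1 hτ).2 _ (List.mem_map.2 ⟨i, hi, rfl⟩)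
  have hup := m24_upper (H := fixList M24 (List.map (idx ptEnc) [4, 3, 2, 1, 0]))
    (pre := [4, 3, 2, 1, 0]) (l := levelsFive) (O := octadB)
    (steps := closeB) (by decide +kernel) (fun τ hτ => (mem_fixList.1 hτ).1) hfix
  have hreps : ∀ t ∈ allReps levelsFive, ∃ τ ∈ M24, Rep ptEnc τ t := by
    intro t ht
    have h := fiveLevels_check
    simp only [Bool.and_eq_true, List.all_eq_true] at h
    obtain ⟨⟨⟨⟨⟨⟨⟨h, -⟩, -⟩, -⟩, -⟩, -⟩, -⟩, -⟩ := h
    obtain ⟨τ, hτ⟩ := exists_rep (e := ptEnc) (h t ht).1.1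
    exact ⟨τ, mem_M24_of_rep hτ (h t ht).1.2, hτ⟩
  exact exists_mem_prodList_aux (H := M24) (e := ptEnc) (by norm_num) levelsFive
    [4, 3, 2, 1, 0] _ (by decide) (fun τ hτ hτfix => mem_fixList.2 ⟨hτ, fun b hb => by
      obtain ⟨i, hi, rfl⟩ := List.mem_map.1 hb
      exact hτfix i hi⟩) (by decide +kernel) hreps hup.1 hup.2 σ
    (mem_fixList.2 ⟨hσ, fun b hb => by
      obtain ⟨i, hi, rfl⟩ := List.mem_map.1 hb
      exact h5 i (by simp at hi; omega)⟩)

/-- The first five points. -/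
def firstFive : Fin 5 ↪ GolayPt :=
  ⟨fun i => idx ptEnc i.val, fun i j h => Fin.ext (by
    have := congrArg (fun p => (ptEnc p).val) h
    simpa only [idx_val (show i.val < 24 by omega), idx_val (show j.val < 24 by omega)] using this)⟩

theorem firstFive_mem_octadB (i : Fin 5) : firstFive i ∈ ptsOf octadB := by
  have h := fiveLevels_check
  simp only [Bool.and_eq_true, List.all_eq_true, List.mem_range] at h
  rw [mem_ptsOf, hasPt]
  show octadB.testBit (ptEnc (idx ptEnc i.val)).val = true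
  rw [idx_val (by omega)]
  exact h.1.1.2 i.val i.isLt

theorem five_fixer_map_base {y y' : GolayPt} (hy : ∀ i, firstFive i ≠ y) (hy' : ∀ i, firstFive i ≠ y')
    (hiff : y ∈ ptsOf octadB ↔ y' ∈ ptsOf octadB) :
    ∃ h ∈ M24, (∀ i, h (firstFive i) = firstFive i) ∧ h y = y' := by
  have hc := fiveLevels_check
  simp only [Bool.and_eq_true, List.all_eq_true, List.mem_range, List.any_eq_true, Bool.or_eq_true,
    Nat.blt_eq, beq_iff_eq] at hc
  obtain ⟨⟨⟨⟨⟨⟨⟨hrep, hmap⟩, -⟩, -⟩, -⟩, -⟩, -⟩, -⟩ := hc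
  have reach : ∀ z : GolayPt, (∀ i, firstFive i ≠ z) → ∃ τ ∈ M24,
      (∀ i, τ (firstFive i) = firstFive i) ∧
      τ (idx ptEnc (if octadB.testBit (ptEnc z).val then 12 else 5)) = z := by
    intro z hz
    rcases hmap (ptEnc z).val (ptEnc z).isLt with h | ⟨t, ht, htz⟩
    · refine absurd ?_ (hz ⟨_, h⟩)
      show idx ptEnc (ptEnc z).val = z
      exact idx_self z
    obtain ⟨⟨hperm, hpres⟩, hfix⟩ := hrep t ht
    obtain ⟨τ, hτ⟩ := exists_rep (e := ptEnc) hperm
    refine ⟨τ, mem_M24_of_rep hτ hpres, fun i => ?_, ?_⟩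
    · show τ (idx ptEnc i.val) = idx ptEnc i.val
      rw [hτ.apply_idx (by omega), hfix i.val i.isLt]
    · rw [hτ.apply_idx (by split <;> norm_num), htz, idx_self]
  obtain ⟨a, ha, haf, hay⟩ := reach y hy
  obtain ⟨b, hb, hbf, hby⟩ := reach y' hy'
  have hbit : octadB.testBit (ptEnc y).val = octadB.testBit (ptEnc y').val :=
    Bool.eq_iff_iff.2 (by simpa [mem_ptsOf, hasPt] using hiff)
  refine ⟨b * a⁻¹, M24.mul_mem hb (M24.inv_mem ha), fun i => ?_, ?_⟩
  · rw [Equiv.Perm.mul_apply, Equiv.Perm.inv_def, (Equiv.symm_apply_eq a).2 (haf i).symm, hbf i]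
  · rw [Equiv.Perm.mul_apply, Equiv.Perm.inv_def, (Equiv.symm_apply_eq a).2 hay.symm, hbit]
    exact hby

/-- Two points outside five given ones, alike with respect to the octad through them. -/
theorem five_fixer_map (x : Fin 5 ↪ GolayPt) {o : Finset GolayPt} (ho : o ∈ octads)
    (hx : ∀ i, x i ∈ o) {y y' : GolayPt} (hy : ∀ i, x i ≠ y) (hy' : ∀ i, x i ≠ y')
    (hiff : y ∈ o ↔ y' ∈ o) : ∃ h ∈ M24, (∀ i, h (x i) = x i) ∧ h y = y' := by
  obtain ⟨σ, hσ, hσo, hσx⟩ := M24_exists_map_octad octadB_mem ho firstFive x firstFive_mem_octadB hx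
  obtain ⟨h, hh, hfix, he⟩ := five_fixer_map_base (y := σ⁻¹ y) (y' := σ⁻¹ y')
    (fun i e => hy i (by rw [← hσx i, e]; simp))
    (fun i e => hy' i (by rw [← hσx i, e]; simp))
    (by rwa [← hσo, mem_smul_pts, mem_smul_pts] at hiff)
  refine ⟨σ * h * σ⁻¹, M24.mul_mem (M24.mul_mem hσ hh) (M24.inv_mem hσ), fun i => ?_, ?_⟩
  · rw [← hσx i, Equiv.Perm.mul_apply, Equiv.Perm.mul_apply, Equiv.Perm.inv_def,
      Equiv.symm_apply_apply, hfix i]
  · rw [Equiv.Perm.mul_apply, Equiv.Perm.mul_apply, he]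
    simp

theorem exists_swap_six {E : Finset GolayPt} (hE : E.card = 6) {a b : GolayPt} (ha : a ∈ E)
    (hb : b ∈ E) (hab : a ≠ b) : ∃ g ∈ M24, ∀ p ∈ E, g p = Equiv.swap a b p := by
  classical
  have h4 : ((E.erase a).erase b).card = 4 := by
    rw [Finset.card_erase_of_mem (Finset.mem_erase.2 ⟨hab.symm, hb⟩), Finset.card_erase_of_mem ha, hE]
  set R := (E.erase a).erase b with hR
  let r : Fin 4 ≃ R := ((Fintype.equivFinOfCardEq (by simp [h4]) : ↥R ≃ Fin 4)).symm
  have hra : ∀ i, (r i : GolayPt) ≠ a := fun i =>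
    (Finset.mem_erase.1 (Finset.mem_of_mem_erase (r i).2)).1
  have hrb : ∀ i, (r i : GolayPt) ≠ b := fun i => (Finset.mem_erase.1 (r i).2).1
  let xa : Fin 5 ↪ GolayPt := ⟨Fin.snoc (fun i => (r i : GolayPt)) a, Fin.snoc_injective_iff.2
    ⟨fun i j h => r.injective (Subtype.ext h), fun ⟨i, h⟩ => hra i h⟩⟩
  let xb : Fin 5 ↪ GolayPt := ⟨Fin.snoc (fun i => (r i : GolayPt)) b, Fin.snoc_injective_iff.2
    ⟨fun i j h => r.injective (Subtype.ext h), fun ⟨i, h⟩ => hrb i h⟩⟩
  obtain ⟨g, hg, hgx⟩ := M24_exists_map le_rfl xa xb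
  have hal : xa (Fin.last 4) = a := by simp only [xa, Function.Embedding.coeFn_mk, Fin.snoc_last]
  have hbl : xb (Fin.last 4) = b := by simp only [xb, Function.Embedding.coeFn_mk, Fin.snoc_last]
  have hac : ∀ i, xa (Fin.castSucc i) = r i := fun i => by
    simp only [xa, Function.Embedding.coeFn_mk, Fin.snoc_castSucc]
  have hbc : ∀ i, xb (Fin.castSucc i) = r i := fun i => by
    simp only [xb, Function.Embedding.coeFn_mk, Fin.snoc_castSucc]
  have hga : g a = b := by
    have := hgx (Fin.last 4)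
    rwa [hal, hbl] at this
  have hgr : ∀ i, g (r i) = r i := fun i => by
    have := hgx i.castSucc
    rwa [hac, hbc] at this
  have hcover : ∀ p ∈ E, p = a ∨ p = b ∨ ∃ i, (r i : GolayPt) = p := fun p hp => by
    rcases eq_or_ne p a with h | h
    · exact Or.inl h
    rcases eq_or_ne p b with h' | h'
    · exact Or.inr (Or.inl h')
    exact Or.inr (Or.inr ⟨r.symm ⟨p, Finset.mem_erase.2 ⟨h', Finset.mem_erase.2 ⟨h, hp⟩⟩⟩, by simp⟩)
  obtain ⟨t, hts, ht⟩ : ∃ t : Finset GolayPt, t = Finset.univ.map xb ∧ t.card = 5 :=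
    ⟨_, rfl, by simp⟩
  obtain ⟨o, ho, hto⟩ := exists_octad ht
  have hxo : ∀ i, xb i ∈ o := fun i => hto (hts.symm ▸ Finset.mem_map_of_mem _ (Finset.mem_univ i))
  have hro : ∀ i, (r i : GolayPt) ∈ o := fun i => hbc i ▸ hxo i.castSucc
  have hbo : b ∈ o := hbl ▸ hxo (Fin.last 4)
  have hne : ∀ z, z ≠ b → (∀ i, (r i : GolayPt) ≠ z) → ∀ i, xb i ≠ z := by
    intro z hzb hzr i
    induction i using Fin.lastCases with
    | last => rw [hbl]; exact hzb.symm
    | cast i => rw [hbc]; exact hzr i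
  have hiff : g b ∈ o ↔ a ∈ o := by
    constructor
    · intro h
      have hsub : ∀ p ∈ E, g p ∈ o := fun p hp => by
        rcases hcover p hp with rfl | rfl | ⟨i, rfl⟩
        · rw [hga]; exact hbo
        · exact h
        · rw [hgr i]; exact hro i
      have hsame : g⁻¹ • o = o := by
        refine octad_eq_of_five_le (M24_smul_octad (M24.inv_mem hg) ho) ho ?_
        rw [← ht, hts]
        refine Finset.card_le_card fun p hp => Finset.mem_inter.2 ⟨?_, hto (hts.symm ▸ hp)⟩
        have hpE : p ∈ E := by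
          obtain ⟨i, -, rfl⟩ := Finset.mem_map.1 hp
          induction i using Fin.lastCases with
          | last => rw [hbl]; exact hb
          | cast i => rw [hbc]; exact Finset.mem_of_mem_erase (Finset.mem_of_mem_erase (r i).2)
        rw [mem_smul_pts]
        exact hsub p hpE
      rw [← hsame, mem_smul_pts]
      show g a ∈ o
      rw [hga]
      exact hbo
    · intro h
      have hsame : g • o = o := by
        refine octad_eq_of_five_le (M24_smul_octad hg ho) ho ?_
        rw [← ht, hts]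
        refine Finset.card_le_card fun p hp => Finset.mem_inter.2 ⟨?_, hto (hts.symm ▸ hp)⟩
        obtain ⟨i, -, rfl⟩ := Finset.mem_map.1 hp
        rw [← hgx i]
        refine apply_mem_smul_pts.2 ?_
        induction i using Fin.lastCases with
        | last => rw [hal]; exact h
        | cast i => rw [hac]; exact hro i
      rw [← hsame, apply_mem_smul_pts]
      exact hbo
  obtain ⟨h, hh, hfix, he⟩ := five_fixer_map xb ho hxo
    (hne (g b) (fun e => hab (g.injective (hga.trans e.symm))) fun i e =>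
      hrb i (g.injective ((hgr i).trans e)))
    (hne a hab fun i => hra i) hiff
  refine ⟨h * g, M24.mul_mem hh hg, fun p hp => ?_⟩
  rw [Equiv.Perm.mul_apply]
  rcases hcover p hp with rfl | rfl | ⟨i, rfl⟩
  · rw [hga, Equiv.swap_apply_left]
    have := hfix (Fin.last 4)
    rwa [hbl] at this
  · rw [Equiv.swap_apply_right, he]
  · rw [hgr i, Equiv.swap_apply_of_ne_of_ne (hra i) (hrb i)]
    have := hfix i.castSucc
    rwa [hbc] at this

/-- The setwise stabiliser acting on a set of points. -/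
def setPerm (E : Finset GolayPt) : MulAction.stabilizer M24 E →* Equiv.Perm ↥E where
  toFun g := ((g : ↥M24) : Equiv.Perm GolayPt).subtypePerm fun x =>
    apply_mem_iff_of_fixed (show ((g : ↥M24) : Equiv.Perm GolayPt) • E = E from g.2) x
  map_one' := by ext x; rfl
  map_mul' _ _ := by ext x; rfl

theorem setPerm_surjective {E : Finset GolayPt} (hE : E.card = 6) :
    Function.Surjective (setPerm E) := by
  classical
  intro π
  induction π using Equiv.Perm.swap_induction_on with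
  | one => exact ⟨1, map_one _⟩
  | swap_mul f a b hab ih =>
    obtain ⟨s, hs⟩ := ih
    obtain ⟨g, hg, hgs⟩ := exists_swap_six hE a.2 b.2 fun e => hab (Subtype.ext e)
    have hstab : g • E = E := by
      refine Finset.eq_of_subset_of_card_le (fun p hp => ?_) (by rw [card_smul_pts])
      obtain ⟨q, hq, rfl⟩ := Finset.mem_smul_finset.1 hp
      rw [Equiv.Perm.smul_def, hgs q hq]
      rcases eq_or_ne q a with rfl | h
      · rw [Equiv.swap_apply_left]; exact b.2
      rcases eq_or_ne q b with rfl | h'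
      · rw [Equiv.swap_apply_right]; exact a.2
      rwa [Equiv.swap_apply_of_ne_of_ne h h']
    refine ⟨⟨⟨g, hg⟩, hstab⟩ * s, ?_⟩
    rw [map_mul, hs]
    refine congrArg (· * f) (Equiv.ext fun x => Subtype.ext ?_)
    show g x = _
    rw [hgs x x.2]
    exact (Function.Injective.swap_apply Subtype.val_injective a b x)

theorem realise_six {E : Finset GolayPt} (hE : E.card = 6) (π : Equiv.Perm ↥E) :
    ∃ g ∈ M24, ∀ p : ↥E, g p = π p := by
  obtain ⟨⟨⟨g, hg⟩, _⟩, rfl⟩ := setPerm_surjective hE π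
  exact ⟨g, hg, fun p => rfl⟩

theorem card_fix_six_octad {E : Finset GolayPt} (hE : E.card = 6) {o : Finset GolayPt}
    (ho : o ∈ octads) (hEo : E ⊆ o) :
    Nat.card {g : Equiv.Perm GolayPt // g ∈ M24 ∧ ∀ p ∈ E, g p = p} = 16 := by
  rw [← card_octFix ho]
  refine Nat.card_congr (Equiv.subtypeEquivRight fun g => ?_)
  rw [mem_octFix]
  refine and_congr_right fun hg => ⟨fun h => ?_, fun h p hp => h p (hEo hp)⟩
  have hgo : g • o = o := by
    refine octad_eq_of_five_le (M24_smul_octad hg ho) ho (le_trans (by omega) (Finset.card_le_card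
      (s := E) fun p hp => Finset.mem_inter.2 ⟨?_, hEo hp⟩))
    rw [← h p hp]
    exact apply_mem_smul_pts.2 (hEo hp)
  obtain ⟨q, hq⟩ : (oᶜ : Finset GolayPt).Nonempty := Finset.card_pos.1 (by
    rw [Finset.card_compl, octad_card ho, ← Finset.card_univ, card_univ_pts]; norm_num)
  rw [Finset.mem_compl] at hq
  obtain ⟨τ, hτ, hc⟩ := exists_factor ho hq hg hgo
  let π : Equiv.Perm ↥o := compToPerm o q ⟨_, hc⟩
  have hval : ∀ x : ↥o, ((π x : ↥o) : GolayPt) = g x := fun x => by
    show (τ⁻¹ * g) x = g x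
    rw [Equiv.Perm.mul_apply, Equiv.Perm.inv_def, Equiv.symm_apply_eq]
    exact ((mem_octFix.1 hτ).2 _ ((apply_mem_iff_of_fixed hgo _).2 x.2)).symm
  have heven : Equiv.Perm.sign π = 1 := by
    have : π ∈ (compToPerm o q).range := ⟨_, rfl⟩
    rwa [compToPerm_range ho hq, Equiv.Perm.mem_alternatingGroup] at this
  have hsupp : π.support.card ≤ 2 := by
    have hd : (o \ E).card = 2 := by rw [Finset.card_sdiff_of_subset hEo, octad_card ho, hE]
    rw [← hd, ← Finset.card_map ⟨Subtype.val, Subtype.val_injective⟩]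
    refine Finset.card_le_card fun x hx => ?_
    obtain ⟨y, hy, rfl⟩ := Finset.mem_map.1 hx
    refine Finset.mem_sdiff.2 ⟨y.2, fun hyE => Equiv.Perm.mem_support.1 hy (Subtype.ext ?_)⟩
    rw [hval]
    exact h _ hyE
  intro x hx
  rw [← hval ⟨x, hx⟩]
  by_cases hne : π = 1
  · rw [hne]; rfl
  · have hswap : π.IsSwap := Equiv.Perm.card_support_eq_two.1
      (le_antisymm hsupp (Equiv.Perm.two_le_card_support_of_ne_one hne))
    rw [hswap.sign_eq] at heven
    exact absurd heven (by decide)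

theorem card_fix_six_base : Nat.card {g : Equiv.Perm GolayPt //
    g ∈ M24 ∧ (∀ i, g (firstFive i) = firstFive i) ∧ g (idx ptEnc 5) = idx ptEnc 5} = 3 := by
  classical
  have hc := fiveLevels_check
  simp only [Bool.and_eq_true, List.all_eq_true, List.mem_range, beq_iff_eq] at hc
  obtain ⟨⟨⟨⟨⟨⟨-, hlist⟩, helems⟩, hlen⟩, -⟩, -⟩, -⟩ := hc
  have hset : {g : Equiv.Perm GolayPt |
      g ∈ M24 ∧ (∀ i, g (firstFive i) = firstFive i) ∧ g (idx ptEnc 5) = idx ptEnc 5} =
      ((sixList.map decode).toFinset : Set (Equiv.Perm GolayPt)) := by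
    ext g
    simp only [List.coe_toFinset, Set.mem_ofPred_eq, List.mem_map]
    constructor
    · rintro ⟨hg, h5, h6⟩
      obtain ⟨l, hl, hrep⟩ := mem_fiveList hg fun i hi => h5 ⟨i, hi⟩
      refine ⟨l, List.mem_filter.2 ⟨hl, ?_⟩, decode_eq (hlist l hl).1.1 hrep⟩
      rw [beq_iff_eq]
      have := hrep (idx ptEnc 5)
      rw [h6, idx_val (by norm_num)] at this
      exact this.symm
    · rintro ⟨l, hl, rfl⟩
      obtain ⟨hl, h6⟩ := List.mem_filter.1 hl
      obtain ⟨⟨hperm, hpres⟩, hfix⟩ := hlist l hl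
      have hrep := rep_decode hperm
      refine ⟨mem_M24_of_rep hrep hpres, fun i => ?_, ?_⟩
      · show decode l (idx ptEnc i.val) = idx ptEnc i.val
        rw [hrep.apply_idx (by omega), hfix i.val i.isLt]
      · rw [hrep.apply_idx (by norm_num), beq_iff_eq.1 h6]
  show Nat.card ↥{g : Equiv.Perm GolayPt |
    g ∈ M24 ∧ (∀ i, g (firstFive i) = firstFive i) ∧ g (idx ptEnc 5) = idx ptEnc 5} = 3
  rw [Nat.card_coe_set_eq, hset, Set.ncard_coe_finset,
    List.toFinset_card_of_nodup (elemsOK_spec helems).2, List.length_map, hlen]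

theorem card_fix_six_spread {E : Finset GolayPt} (hE : E.card = 6)
    (hEo : ¬ ∃ o ∈ octads, E ⊆ o) :
    Nat.card {g : Equiv.Perm GolayPt // g ∈ M24 ∧ ∀ p ∈ E, g p = p} = 3 := by
  classical
  obtain ⟨c, hc⟩ : E.Nonempty := Finset.card_pos.1 (by omega)
  have h5 : (E.erase c).card = 5 := by rw [Finset.card_erase_of_mem hc, hE]
  obtain ⟨x, hx⟩ := exists_embedding_of_le_card h5.ge
  have himg : Finset.univ.map x = E.erase c := Finset.eq_of_subset_of_card_le (fun p hp => by
    obtain ⟨i, -, rfl⟩ := Finset.mem_map.1 hp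
    exact hx i) (by simp [h5])
  obtain ⟨g₁, hg₁, hg₁x⟩ := M24_exists_map le_rfl x firstFive
  have hco : g₁ c ∉ ptsOf octadB := fun h => hEo ⟨g₁⁻¹ • ptsOf octadB,
    M24_smul_octad (M24.inv_mem hg₁) octadB_mem, fun p hp => by
      rw [mem_smul_pts]
      show g₁ p ∈ _
      rcases eq_or_ne p c with rfl | hpc
      · exact h
      · obtain ⟨i, -, rfl⟩ := Finset.mem_map.1 (himg.symm ▸ Finset.mem_erase.2 ⟨hpc, hp⟩ :
          p ∈ Finset.univ.map x)
        rw [hg₁x i]
        exact firstFive_mem_octadB i⟩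
  have h5B : idx ptEnc 5 ∉ ptsOf octadB := by decide +kernel
  obtain ⟨h, hh, hfix, hec⟩ := five_fixer_map_base (y := g₁ c) (y' := idx ptEnc 5)
    (fun i e => by
      rw [← hg₁x i] at e
      exact (Finset.mem_erase.1 (hx i)).1 (g₁.injective e))
    (fun i e => h5B (e ▸ firstFive_mem_octadB i)) (iff_of_false hco h5B)
  set σ := h * g₁ with hσdef
  have hσx : ∀ i, σ (x i) = firstFive i := fun i => by
    rw [hσdef, Equiv.Perm.mul_apply, hg₁x i, hfix i]
  have hσc : σ c = idx ptEnc 5 := hec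
  have hσ : σ ∈ M24 := M24.mul_mem hh hg₁
  rw [← card_fix_six_base]
  refine Nat.card_congr (Equiv.subtypeEquiv (MulAut.conj σ).toEquiv fun g => ?_)
  show (g ∈ M24 ∧ _) ↔ (σ * g * σ⁻¹ ∈ M24 ∧ _ ∧ _)
  have key : ∀ y z, σ y = z → ((σ * g * σ⁻¹) z = z ↔ g y = y) := fun y z e => by
    subst e
    simp [Equiv.Perm.mul_apply]
  constructor
  · rintro ⟨hg, hp⟩
    exact ⟨M24.mul_mem (M24.mul_mem hσ hg) (M24.inv_mem hσ),
      fun i => (key _ _ (hσx i)).2 (hp _ (Finset.mem_of_mem_erase (hx i))),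
      (key _ _ hσc).2 (hp c hc)⟩
  · rintro ⟨hg, hp5, hp6⟩
    refine ⟨?_, fun p hp => ?_⟩
    · have := M24.mul_mem (M24.mul_mem (M24.inv_mem hσ) hg) hσ
      simpa [mul_assoc] using this
    · rcases eq_or_ne p c with rfl | hpc
      · exact (key _ _ hσc).1 hp6
      · obtain ⟨i, -, rfl⟩ := Finset.mem_map.1 (himg.symm ▸ Finset.mem_erase.2 ⟨hpc, hp⟩ :
          p ∈ Finset.univ.map x)
        exact (key _ _ (hσx i)).1 (hp5 i)

theorem card_stab_six {E : Finset GolayPt} (hE : E.card = 6) {k : ℕ}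
    (hk : Nat.card {g : Equiv.Perm GolayPt // g ∈ M24 ∧ ∀ p ∈ E, g p = p} = k) :
    Nat.card ↥(MulAction.stabilizer M24 E) = 720 * k := by
  classical
  rw [← (setPerm E).ker.index_mul_card, Subgroup.index_ker,
    MonoidHom.range_eq_top.2 (setPerm_surjective hE), Subgroup.card_top, Nat.card_perm,
    Nat.card_eq_finsetCard, hE, ← hk]
  refine congrArg₂ (· * ·) rfl (Nat.card_congr ?_)
  refine ⟨fun g => ⟨((g : MulAction.stabilizer M24 E) : ↥M24), (g.1.1).2, fun p hp =>
      congrArg Subtype.val (Equiv.Perm.ext_iff.1 (MonoidHom.mem_ker.1 g.2) ⟨p, hp⟩)⟩,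
    fun g => ⟨⟨⟨g.1, g.2.1⟩, smul_eq_of_fixed g.2.2⟩, MonoidHom.mem_ker.2 (Equiv.ext fun p =>
      Subtype.ext (g.2.2 p.1 p.2))⟩, fun g => rfl, fun g => rfl⟩

end Cfsg.Agent.Mathieu
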