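import Cfsg.Agent.Lib.Mathieu.StabOrbits
import Cfsg.Agent.Lib.Mathieu.SixPoints
import Cfsg.Agent.Lib.Mathieu.Stab.Common
import Cfsg.Agent.Lib.Mathieu.FixedCheck
import Cfsg.Agent.Lib.Mathieu.Rigid

/-!
Involutions with eight fixed points and elements of order three with six: one conjugacy class of
groups each, and their fixed octads, trios, sextets and dodecads.
-/

set_option autoImplicit false
set_option maxRecDepth 20000

namespace Cfsg.Agent.Mathieu

open Cfsg
open scoped Pointwise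

/-! ### Fixed objects of a packed element -/

theorem ncard_listed {X κ : Type} {A : Set X} {get : ℕ → κ} {dec : κ → X} {n : ℕ}
    (hA : ∀ x, x ∈ A ↔ ∃ i, i < n ∧ dec (get i) = x)
    (hinj : ∀ i, i < n → ∀ j, j < n → dec (get i) = dec (get j) → i = j)
    (P : X → Prop) (q : ℕ → Bool) (hq : ∀ i, i < n → (q i = true ↔ P (dec (get i)))) :
    {x | x ∈ A ∧ P x}.ncard = ((List.range n).filter q).length := by
  classical
  have hset : {x | x ∈ A ∧ P x} =
      (fun i => dec (get i)) '' (((List.range n).filter q).toFinset : Set ℕ) := by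
    ext x
    simp only [List.coe_toFinset, Set.mem_image, Set.mem_ofPred_eq, List.mem_filter, List.mem_range]
    constructor
    · rintro ⟨hx, hP⟩
      obtain ⟨i, hi, rfl⟩ := (hA x).1 hx
      exact ⟨i, ⟨hi, (hq i hi).2 hP⟩, rfl⟩
    · rintro ⟨i, ⟨hi, hb⟩, rfl⟩
      exact ⟨(hA _).2 ⟨i, hi, rfl⟩, (hq i hi).1 hb⟩
  rw [hset, Set.InjOn.ncard_image, Set.ncard_coe_finset,
    List.toFinset_card_of_nodup (List.Nodup.filter _ List.nodup_range)]
  intro i hi j hj h
  simp only [List.coe_toFinset, Set.mem_ofPred_eq, List.mem_filter, List.mem_range] at hi hj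
  exact hinj i hi.1 j hj.1 h

theorem pimgT_lt (T m : ℕ) : pimgT T m < 2 ^ 24 :=
  Nat.or_lt_two_pow (Nat.or_lt_two_pow (atP_lt _ _ _) (atP_lt _ _ _)) (atP_lt _ _ _)

theorem stableMasks_iff {σ : Equiv.Perm GolayPt} {l T : ℕ} (hl : Rep ptEnc σ l)
    (hT : tableOK l T = true) {L : List ℕ} (hL : canonList L = true) :
    stableMasks T L = true ↔ σ • setOfMasks L = setOfMasks L := by
  obtain ⟨-, hb⟩ := canonList_spec hL
  have himg : ∀ m ∈ L, σ • ptsOf m = ptsOf (pimgT T m) := fun m hm => by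
    rw [pimgT_eq hT (hb m hm)]; exact smul_ptsOf_pimg hl m
  simp only [stableMasks, List.all_eq_true, List.contains_iff_mem]
  constructor
  · intro h
    refine Finset.eq_of_subset_of_card_le (fun t ht => ?_) (by rw [Finset.card_smul_finset])
    obtain ⟨u, hu, rfl⟩ := Finset.mem_smul_finset.1 ht
    obtain ⟨m, hm, rfl⟩ := Finset.mem_image.1 hu
    rw [himg m (List.mem_toFinset.1 hm)]
    exact Finset.mem_image_of_mem _ (List.mem_toFinset.2 (h m (List.mem_toFinset.1 hm)))
  · intro h m hm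
    have hmem : σ • ptsOf m ∈ setOfMasks L := h ▸
      Finset.smul_mem_smul_finset (Finset.mem_image_of_mem _ (List.mem_toFinset.2 hm))
    rw [himg m hm] at hmem
    obtain ⟨m', hm', e⟩ := Finset.mem_image.1 hmem
    rw [List.mem_toFinset] at hm'
    rwa [← ptsOf_inj (hb m' hm') (pimgT_lt T m) e]

theorem fixed_of_rep {σ : Equiv.Perm GolayPt} {l T : ℕ} (hl : Rep ptEnc σ l)
    (hT : tableOK l T = true) {a b c : ℕ} (h : fixedCounts T = [a, b, c]) :
    {o : Finset GolayPt | o ∈ octads ∧ σ • o = o}.ncard = a ∧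
    {X : Finset (Finset GolayPt) | X ∈ trios ∧ σ • X = X}.ncard = b ∧
    {X : Finset (Finset GolayPt) | X ∈ sextets ∧ σ • X = X}.ncard = c := by
  simp only [fixedCounts, List.cons.injEq, and_true] at h
  obtain ⟨ha, hb, hc⟩ := h
  refine ⟨?_, ?_, ?_⟩
  · rw [← ha]
    refine ncard_listed octads_eq octAt_inj _ _ fun i hi => ?_
    have hlt : octAt i < 2 ^ 24 := atP_lt 24 octBig i
    rw [smul_ptsOf_pimg hl, ← pimgT_eq hT hlt, beq_iff_eq]
    exact ⟨fun e => by rw [e], ptsOf_inj (pimgT_lt _ _) hlt⟩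
  · rw [← hb]
    exact ncard_listed trios_eq trioAt_inj _ _ fun i hi => stableMasks_iff hl hT (canon_trio hi)
  · rw [← hc]
    exact ncard_listed sextets_eq sextAt_inj _ _ fun i hi =>
      stableMasks_iff hl hT (sext_spec hi).2.1

theorem ncard_fixed_conj {X : Type} [MulAction (Equiv.Perm GolayPt) X] {A : Set X}
    (hA : ∀ g ∈ M24, ∀ x ∈ A, g • x ∈ A) {σ g : Equiv.Perm GolayPt} (hσ : σ ∈ M24) :
    {x | x ∈ A ∧ (σ * g * σ⁻¹) • x = x}.ncard = {x | x ∈ A ∧ g • x = x}.ncard :=
  ncard_transport σ (fun x => smul_mem_iff_of_inv hA hσ x) _ _ fun x => by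
    rw [mul_smul, mul_smul, inv_smul_smul, smul_left_cancel_iff]

theorem ncard_fixed_inv {X : Type} [MulAction (Equiv.Perm GolayPt) X] {A : Set X}
    (g : Equiv.Perm GolayPt) :
    {x | x ∈ A ∧ g⁻¹ • x = x}.ncard = {x | x ∈ A ∧ g • x = x}.ncard :=
  congrArg Set.ncard (Set.ext fun x => and_congr_right fun _ =>
    ⟨fun h => by conv_lhs => rw [← h, smul_inv_smul], fun h => by conv_lhs => rw [← h, inv_smul_smul]⟩)

/-! ### Involutions with eight fixed points -/

theorem invEight_check : (permOK 24 invEight && presCode invEight &&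
    tableOK invEight invEightTab &&
    (List.range 24).all (fun i => !octBase.testBit i || app invEight i == i) &&
    !(app invEight 5 == 5) && (List.range 24).all (fun q => octBase.testBit q || q == 5 ||
      invEightMoves.any fun c => permOK 24 c && presCode c && mapsMask c octBase octBase &&
        app c 5 == 5 && app c (app invEight 5) == q)) = true := by
  decide +kernel

theorem octFix_eq_of_apply {o : Finset GolayPt} (ho : o ∈ octads) {g h : Equiv.Perm GolayPt}
    (hg : g ∈ octFix o) (hh : h ∈ octFix o) {p : GolayPt} (hp : p ∉ o) (e : g p = h p) : g = h :=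
  (inv_mul_eq_one.1 (eq_one_of_octFix ho (mul_mem (inv_mem hh) hg) hp (by
    rw [Equiv.Perm.mul_apply, e, Equiv.Perm.inv_def, Equiv.symm_apply_apply]))).symm

theorem mem_octFix_of_eight {g : Equiv.Perm GolayPt} (hg : g ∈ M24) (h2 : g * g = 1)
    (h8 : (Finset.univ.filter fun p => g p = p).card = 8) :
    ∃ o ∈ octads, g ∈ octFix o := by
  classical
  set F := Finset.univ.filter fun p => g p = p with hF
  obtain ⟨s, hs, h5⟩ := Finset.exists_subset_card_eq (show 5 ≤ F.card by omega)
  obtain ⟨o, ho, hso⟩ := exists_octad h5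
  have hfix : ∀ p ∈ s, g p = p := fun p hp => (Finset.mem_filter.1 (hs hp)).2
  have hgo : g • o = o := by
    refine octad_eq_of_five_le (M24_smul_octad hg ho) ho (h5 ▸ Finset.card_le_card fun p hp => ?_)
    refine Finset.mem_inter.2 ⟨?_, hso hp⟩
    rw [← hfix p hp]
    exact apply_mem_smul_pts.2 (hso hp)
  refine ⟨o, ho, mem_octFix.2 ⟨hg, ?_⟩⟩
  obtain ⟨p, hp⟩ : (oᶜ : Finset GolayPt).Nonempty := Finset.card_pos.1 (by
    rw [Finset.card_compl, octad_card ho, ← Finset.card_univ, card_univ_pts]; norm_num)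
  rw [Finset.mem_compl] at hp
  obtain ⟨τ, hτ, hc⟩ := exists_factor ho hp hg hgo
  let π : Equiv.Perm ↥o := compToPerm o p ⟨_, hc⟩
  have hval : ∀ x : ↥o, ((π x : ↥o) : GolayPt) = g x := fun x => by
    show (τ⁻¹ * g) x = g x
    rw [Equiv.Perm.mul_apply, Equiv.Perm.inv_def, Equiv.symm_apply_eq]
    exact ((mem_octFix.1 hτ).2 _ ((apply_mem_iff_of_fixed hgo _).2 x.2)).symm
  have heven : Equiv.Perm.sign π = 1 := by
    have : π ∈ (compToPerm o p).range := ⟨_, rfl⟩
    rwa [compToPerm_range ho hp, Equiv.Perm.mem_alternatingGroup] at this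
  have hsupp : π.support.card ≤ 3 := by
    rw [show (3 : ℕ) = (o \ s).card by rw [Finset.card_sdiff_of_subset hso, octad_card ho, h5],
      ← Finset.card_map ⟨Subtype.val, Subtype.val_injective⟩]
    refine Finset.card_le_card fun x hx => ?_
    obtain ⟨y, hy, rfl⟩ := Finset.mem_map.1 hx
    refine Finset.mem_sdiff.2 ⟨y.2, fun hys => Equiv.Perm.mem_support.1 hy (Subtype.ext ?_)⟩
    rw [hval]
    exact hfix _ hys
  have hsq : π * π = 1 := Equiv.ext fun x => Subtype.ext (by
    rw [Equiv.Perm.mul_apply, hval, hval, ← Equiv.Perm.mul_apply, h2]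
    rfl)
  intro x hx
  rw [← hval ⟨x, hx⟩]
  by_cases hne : π = 1
  · rw [hne]; rfl
  · have h2le := Equiv.Perm.two_le_card_support_of_ne_one hne
    rcases (show π.support.card = 2 ∨ π.support.card = 3 by omega) with h | h
    · rw [(Equiv.Perm.card_support_eq_two.1 h).sign_eq] at heven
      exact absurd heven (by decide)
    · have h3 := (card_support_eq_three_iff.1 h).orderOf
      have hdvd : orderOf π ∣ 2 := orderOf_dvd_of_pow_eq_one (by rw [pow_two]; exact hsq)
      rw [h3] at hdvd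
      norm_num at hdvd

theorem conj_invEight {g : Equiv.Perm GolayPt} (hg : g ∈ M24) (h2 : g * g = 1) (hne : g ≠ 1)
    (h8 : (Finset.univ.filter fun p => g p = p).card = 8) :
    ∃ σ ∈ M24, g = σ * decode invEight * σ⁻¹ := by
  classical
  obtain ⟨o, ho, hgF⟩ := mem_octFix_of_eight hg h2 h8
  obtain ⟨s, hs, rfl⟩ := M24_transitive_octads octBase_mem ho
  have hgB : s⁻¹ * g * s ∈ octFix (ptsOf octBase) := by
    have := conj_mem_octFix (inv_mem hs) hgF
    rwa [inv_smul_smul, inv_inv] at this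
  have hc := invEight_check
  simp only [Bool.and_eq_true, List.all_eq_true, List.mem_range, Bool.or_eq_true, beq_iff_eq,
    Bool.not_eq_true', List.any_eq_true, beq_eq_false_iff_ne] at hc
  obtain ⟨⟨⟨⟨⟨hperm, hpres⟩, -⟩, hfix⟩, -⟩, hmoves⟩ := hc
  have hrep := rep_decode hperm
  have hlF : decode invEight ∈ octFix (ptsOf octBase) := mem_octFix.2
    ⟨mem_M24_of_rep hrep hpres, fun x hx => by
      have hx' : octBase.testBit (ptEnc x).val = true := mem_ptsOf.1 hx
      rcases hfix (ptEnc x).val (ptEnc x).isLt with h0 | h0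
      · rw [hx'] at h0; exact absurd h0 (by simp)
      · have := hrep.apply_idx (ptEnc x).isLt
        rwa [h0, idx_self] at this⟩
  have h5B : idx ptEnc 5 ∉ ptsOf octBase := by decide +kernel
  set y := (s⁻¹ * g * s) (idx ptEnc 5) with hy
  have hyB : y ∉ ptsOf octBase := fun h =>
    h5B ((apply_mem_iff_of_fixed (octFix_le_stab hgB) _).1 h)
  have hy5 : (ptEnc y).val ≠ 5 := fun h => hne (by
    have e : y = idx ptEnc 5 := by rw [← idx_self (e := ptEnc) y, h]
    have h1 := eq_one_of_octFix octBase_mem hgB h5B (hy.symm.trans e)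
    rw [mul_assoc, inv_mul_eq_one] at h1
    exact mul_eq_right.1 h1.symm)
  rcases hmoves (ptEnc y).val (ptEnc y).isLt with (hb | h) | ⟨c, -, ⟨⟨⟨⟨cperm, cpres⟩, cmap⟩, c5⟩, cq⟩⟩
  · exact absurd (mem_ptsOf.2 hb) hyB
  · exact absurd h hy5
  have crep := rep_decode cperm
  have cM := mem_M24_of_rep crep cpres
  have cB : decode c • ptsOf octBase = ptsOf octBase := (mapsMask_iff crep).1 cmap
  have hconj : decode c * decode invEight * (decode c)⁻¹ ∈ octFix (ptsOf octBase) := by
    have := conj_mem_octFix cM hlF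
    rwa [cB] at this
  have heq : s⁻¹ * g * s = decode c * decode invEight * (decode c)⁻¹ := by
    refine octFix_eq_of_apply octBase_mem hgB hconj h5B ?_
    have hci : (decode c)⁻¹ (idx ptEnc 5) = idx ptEnc 5 := by
      rw [Equiv.Perm.inv_def, Equiv.symm_apply_eq, crep.apply_idx (by norm_num), c5]
    rw [← hy, Equiv.Perm.mul_apply, Equiv.Perm.mul_apply, hci, hrep.apply_idx (by norm_num),
      crep.apply_idx (hrep.app_lt (by norm_num)), cq, idx_self]
  refine ⟨s * decode c, M24.mul_mem hs cM, ?_⟩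
  have : g = s * (s⁻¹ * g * s) * s⁻¹ := by group
  rw [this, heq]
  group

/-! ### Elements of order three with six fixed points -/

theorem threeSix_check : (permOK 24 threeSix && presCode threeSix &&
    tableOK threeSix threeSixTab &&
    fiveList.all (fun l => (List.range 24).all fun q =>
      q.blt 5 || !octadB.testBit q || !(app l q == q) || isId 24 (packMul 24 l l)) &&
    sixList.all (fun l => isId 24 l || samePack 24 l threeSix || isId 24 (packMul 24 l threeSix))) =
      true := by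
  decide +kernel

theorem conj_threeSix {g : Equiv.Perm GolayPt} (hg : g ∈ M24) (h3 : orderOf g = 3)
    (h6 : (Finset.univ.filter fun p => g p = p).card = 6) :
    ∃ σ ∈ M24, g = σ * decode threeSix * σ⁻¹ ∨ g = σ * (decode threeSix)⁻¹ * σ⁻¹ := by
  classical
  set E := Finset.univ.filter fun p => g p = p with hEdef
  obtain ⟨c, hc⟩ : E.Nonempty := Finset.card_pos.1 (by omega)
  have h5 : (E.erase c).card = 5 := by rw [Finset.card_erase_of_mem hc, h6]
  obtain ⟨x, hx⟩ := exists_embedding_of_le_card h5.ge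
  obtain ⟨g₁, hg₁, hg₁x⟩ := M24_exists_map le_rfl x firstFive
  have hE : ∀ p ∈ E, g p = p := fun p hp => (Finset.mem_filter.1 hp).2
  have hchk := threeSix_check
  simp only [Bool.and_eq_true, List.all_eq_true, List.mem_range, Bool.or_eq_true, Bool.not_eq_true',
    Nat.blt_eq, beq_eq_false_iff_ne] at hchk
  obtain ⟨⟨⟨⟨hperm, -⟩, -⟩, hrest⟩, hsix⟩ := hchk
  have hconj : ∀ (a : Equiv.Perm GolayPt) p, g p = p → (a * g * a⁻¹) (a p) = a p := fun a p hp => by
    simp [Equiv.Perm.mul_apply, hp]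
  have hord : ∀ a : Equiv.Perm GolayPt, orderOf (a * g * a⁻¹) = 3 := fun a => by
    rw [← MulAut.conj_apply, ← h3]
    exact orderOf_injective (MulAut.conj a).toMonoidHom (MulAut.conj a).injective g
  have hcout : g₁ c ∉ ptsOf octadB := fun h => by
    have hm : g₁ * g * g₁⁻¹ ∈ M24 := M24.mul_mem (M24.mul_mem hg₁ hg) (M24.inv_mem hg₁)
    obtain ⟨l, hl, hrep⟩ := mem_fiveList hm fun i hi => by
      show (g₁ * g * g₁⁻¹) (firstFive ⟨i, hi⟩) = firstFive ⟨i, hi⟩
      rw [← hg₁x ⟨i, hi⟩]
      exact hconj g₁ _ (hE _ (Finset.mem_of_mem_erase (hx _)))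
    rcases hrest l hl (ptEnc (g₁ c)).val (ptEnc (g₁ c)).isLt with ((h' | h') | h') | h'
    · refine (Finset.mem_erase.1 (hx ⟨_, h'⟩)).1 (g₁.injective ?_)
      rw [hg₁x]
      exact idx_self (g₁ c)
    · rw [mem_ptsOf, hasPt, h'] at h
      exact absurd h (by simp)
    · refine h' ?_
      have := hrep (g₁ c)
      rw [hconj g₁ c (hE c hc)] at this
      exact this.symm
    · have h1 := (rep_packMul hrep hrep).eq_one h'
      have hd : orderOf (g₁ * g * g₁⁻¹) ∣ 2 := orderOf_dvd_of_pow_eq_one (by rw [pow_two]; exact h1)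
      rw [hord] at hd
      norm_num at hd
  have h5B : idx ptEnc 5 ∉ ptsOf octadB := by decide +kernel
  obtain ⟨h, hh, hfix, hec⟩ := five_fixer_map_base (y := g₁ c) (y' := idx ptEnc 5)
    (fun i e => (Finset.mem_erase.1 (hx i)).1 (g₁.injective ((hg₁x i).trans e)))
    (fun i e => h5B (e ▸ firstFive_mem_octadB i)) (iff_of_false hcout h5B)
  set σ := h * g₁ with hσdef
  have hσ : σ ∈ M24 := M24.mul_mem hh hg₁
  have hm : σ * g * σ⁻¹ ∈ M24 := M24.mul_mem (M24.mul_mem hσ hg) (M24.inv_mem hσ)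
  obtain ⟨l, hl, hrep⟩ := mem_fiveList hm fun i hi => by
    show (σ * g * σ⁻¹) (firstFive ⟨i, hi⟩) = firstFive ⟨i, hi⟩
    have e : σ (x ⟨i, hi⟩) = firstFive ⟨i, hi⟩ := by
      rw [hσdef, Equiv.Perm.mul_apply, hg₁x, hfix]
    rw [← e]
    exact hconj σ _ (hE _ (Finset.mem_of_mem_erase (hx _)))
  have hl6 : l ∈ sixList := List.mem_filter.2 ⟨hl, by
    rw [beq_iff_eq]
    have := hrep (idx ptEnc 5)
    have e : σ c = idx ptEnc 5 := hec
    rw [← e, hconj σ c (hE c hc), e, idx_val (by norm_num)] at this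
    exact this.symm⟩
  refine ⟨σ⁻¹, M24.inv_mem hσ, ?_⟩
  rw [inv_inv]
  rcases hsix l hl6 with (h' | h') | h'
  · exfalso
    have := hord σ
    rw [hrep.eq_one h', orderOf_one] at this
    norm_num at this
  · left
    rw [← (hrep.of_same h').unique (rep_decode hperm)]
    group
  · right
    have h1 := (rep_packMul hrep (rep_decode hperm)).eq_one h'
    rw [← eq_inv_of_mul_eq_one_left h1]
    group

end Cfsg.Agent.Mathieu
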