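import Cfsg.Agent.Lib.Mathieu.FreeClasses
import Cfsg.Agent.Lib.Mathieu.FixedPoints

/-!
Commuting elements of orders 3 and 2: both have fixed points, or neither has.
-/

set_option autoImplicit false
set_option maxRecDepth 20000

namespace Cfsg.Agent.Mathieu

open Cfsg
open scoped Pointwise

theorem threeSix_fix : ((List.range 24).all fun i => (app threeSix i == i) == i.blt 6) = true := by
  decide +kernel

theorem free_not_commute : (fiveList.all fun s => force (packMulS 24 (fiveTwo.getD 1 0) s) fun l =>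
    !isIdS 24 (packMulS 24 l l) || !(fixCount l == 0) ||
      !samePack 24 (packMulS 24 l threeSix) (packMulS 24 threeSix l)) = true := by
  decide +kernel

/-- An element of order three fixing `0, …, 5` is the representative or its inverse. -/
theorem eq_threeSix_or_inv {g : Equiv.Perm GolayPt} (hg : g ∈ M24) (hord : orderOf g = 3)
    (hfix : ∀ i, i < 6 → g (idx ptEnc i) = idx ptEnc i) :
    g = decode threeSix ∨ g = (decode threeSix)⁻¹ := by
  obtain ⟨l, hl, hrep⟩ := mem_fiveList hg fun i hi => hfix i (by omega)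
  have hl6 : l ∈ sixList := List.mem_filter.2 ⟨hl, by
    rw [beq_iff_eq]
    have := hrep (idx ptEnc 5)
    rw [hfix 5 (by norm_num), idx_val (by norm_num)] at this
    exact this.symm⟩
  have hchk := threeSix_check
  simp only [Bool.and_eq_true, List.all_eq_true, Bool.or_eq_true] at hchk
  obtain ⟨⟨⟨⟨hperm, -⟩, -⟩, -⟩, hsix⟩ := hchk
  rcases hsix l hl6 with (h' | h') | h'
  · rw [hrep.eq_one h', orderOf_one] at hord
    norm_num at hord
  · exact Or.inl ((hrep.of_same h').unique (rep_decode hperm))
  · exact Or.inr (eq_inv_of_mul_eq_one_left ((rep_packMul hrep (rep_decode hperm)).eq_one h'))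

theorem commute_threeSix_false {s : Equiv.Perm GolayPt} (hs : s ∈ M24) (h2 : s * s = 1)
    (hfree : (Finset.univ.filter fun p => s p = p).card = 0)
    (hc : s * decode threeSix = decode threeSix * s) : False := by
  classical
  have hchk := threeSix_check
  simp only [Bool.and_eq_true] at hchk
  obtain ⟨⟨⟨⟨hperm, hpres⟩, -⟩, -⟩, -⟩ := hchk
  have hd := rep_decode hperm
  have hdM : decode threeSix ∈ M24 := mem_M24_of_rep hd hpres
  have hdfix : ∀ x, decode threeSix x = x ↔ (ptEnc x).val < 6 := fun x => by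
    have h := List.all_eq_true.1 threeSix_fix _ (List.mem_range.2 (ptEnc x).isLt)
    rw [beq_iff_eq] at h
    constructor
    · intro e
      have h' := hd x
      rw [e] at h'
      rw [← h', beq_self_eq_true] at h
      have h'' := h.symm
      rwa [Nat.blt_eq] at h''
    · intro hlt
      rw [show (ptEnc x).val.blt 6 = true by rwa [Nat.blt_eq], beq_iff_eq] at h
      exact ptEnc.injective (Fin.ext ((hd x).trans h))
  have hne : ∀ x, s x ≠ x := fun x e => by
    have hx : x ∈ Finset.univ.filter fun p => s p = p := by simp [e]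
    rw [Finset.card_eq_zero.1 hfree] at hx
    exact absurd hx (Finset.notMem_empty x)
  have hss : ∀ x, s (s x) = x := fun x => by rw [← Equiv.Perm.mul_apply, h2]; rfl
  have hE : ∀ x, (ptEnc x).val < 6 → (ptEnc (s x)).val < 6 := fun x hx => by
    rw [← hdfix] at hx ⊢
    have := Equiv.Perm.ext_iff.1 hc x
    rw [Equiv.Perm.mul_apply, Equiv.Perm.mul_apply, hx] at this
    exact this.symm
  set E : Finset GolayPt := Finset.univ.filter fun x => (ptEnc x).val < 6 with hEdef
  have hE6 : E.card = 6 := by decide +kernel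
  have memE : ∀ {x}, x ∈ E ↔ (ptEnc x).val < 6 := by simp [hEdef]
  obtain ⟨a, ha⟩ : E.Nonempty := Finset.card_pos.1 (by omega)
  obtain ⟨b, hb⟩ : (E \ {a, s a}).Nonempty := Finset.card_pos.1 (by
    have h1 := Finset.le_card_sdiff ({a, s a} : Finset GolayPt) E
    have h2 : ({a, s a} : Finset GolayPt).card ≤ 2 := Finset.card_le_two
    omega)
  obtain ⟨c, hc'⟩ : (E \ {a, s a, b, s b}).Nonempty := Finset.card_pos.1 (by
    have h1 := Finset.le_card_sdiff ({a, s a, b, s b} : Finset GolayPt) E
    have h2 : ({a, s a, b, s b} : Finset GolayPt).card ≤ 4 := Finset.card_le_four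
    omega)
  simp only [Finset.mem_sdiff, Finset.mem_insert, Finset.mem_singleton, not_or] at hb hc'
  obtain ⟨hbE, hba, hbsa⟩ := hb
  obtain ⟨hcE, hca, hcsa, hcb, hcsb⟩ := hc'
  have sE : ∀ {x}, x ∈ E → s x ∈ E := fun {x} hx => memE.2 (hE x (memE.1 hx))
  have swap : ∀ {x y}, s x = y → x = s y := fun {x y} e => by rw [← e, hss]
  have d1 : s b ≠ a := fun e => hbsa (swap e)
  have d2 : s b ≠ s a := fun e => hba (s.injective e)
  have d3 : s c ≠ a := fun e => hcsa (swap e)
  have d4 : s c ≠ s a := fun e => hca (s.injective e)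
  have d5 : s c ≠ b := fun e => hcsb (swap e)
  have d6 : s c ≠ s b := fun e => hcb (s.injective e)
  let v : Fin 6 → ↥E := ![⟨a, ha⟩, ⟨s a, sE ha⟩, ⟨b, hbE⟩, ⟨s b, sE hbE⟩, ⟨c, hcE⟩, ⟨s c, sE hcE⟩]
  have hv : Function.Bijective v := by
    refine (Fintype.bijective_iff_injective_and_card v).2 ⟨fun i j e => ?_, by simp [hE6]⟩
    fin_cases i <;> fin_cases j <;>
      simp [v, hne a, (hne a).symm, hba, Ne.symm hba, hbsa, Ne.symm hbsa, hne b, (hne b).symm, hca,
        Ne.symm hca, hcsa, Ne.symm hcsa, hcb, Ne.symm hcb, hcsb, Ne.symm hcsb, hne c, (hne c).symm,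
        d1, d1.symm, d2, d2.symm, d3, d3.symm, d4, d4.symm, d5, d5.symm, d6, d6.symm] at e ⊢
  let w : Fin 6 → ↥E := fun i => ⟨idx ptEnc i.val, memE.2 (by rw [idx_val (by omega)]; exact i.isLt)⟩
  have hw : Function.Bijective w := by
    refine (Fintype.bijective_iff_injective_and_card w).2 ⟨fun i j e => Fin.ext ?_, by simp [hE6]⟩
    have := congrArg (fun z : ↥E => (ptEnc (z : GolayPt)).val) e
    simpa only [w, idx_val (show i.val < 24 by omega), idx_val (show j.val < 24 by omega)] using this
  obtain ⟨h, hh, hhπ⟩ := realise_six hE6 ((Equiv.ofBijective v hv).symm.trans (Equiv.ofBijective w hw))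
  have hhv : ∀ i, h (v i : GolayPt) = idx ptEnc i.val := fun i => by
    rw [hhπ (v i), Equiv.trans_apply, Equiv.ofBijective_symm_apply_apply]
    rfl
  set u := h * s * h⁻¹ with hu
  have hux : ∀ x, u (h x) = h (s x) := fun x => by simp [hu, Equiv.Perm.mul_apply]
  have huM : u ∈ M24 := M24.mul_mem (M24.mul_mem hh hs) (M24.inv_mem hh)
  have e0 : h a = idx ptEnc 0 := hhv 0
  have e1 : h (s a) = idx ptEnc 1 := hhv 1
  have e2 : h b = idx ptEnc 2 := hhv 2
  have e3 : h (s b) = idx ptEnc 3 := hhv 3
  have e4 : h c = idx ptEnc 4 := hhv 4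
  have e5 : h (s c) = idx ptEnc 5 := hhv 5
  have hp := fiveTwo_pattern
  simp only [Bool.and_eq_true, beq_iff_eq] at hp
  obtain ⟨⟨⟨hpat, hlen⟩, -⟩, -⟩ := hp
  obtain ⟨gp, gc, gi⟩ := pattern_spec hpat (show 1 < fiveTwo.length by omega)
  obtain ⟨l, hl, hrep⟩ := exists_rep_five huM gp gc fun i hi => by
    rw [gi i hi]
    interval_cases i
    · rw [← e0, hux, e1, idx_val (by norm_num)]; rfl
    · rw [← e1, hux, hss, e0, idx_val (by norm_num)]; rfl
    · rw [← e2, hux, e3, idx_val (by norm_num)]; rfl
    · rw [← e3, hux, hss, e2, idx_val (by norm_num)]; rfl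
    · rw [← e4, hux, e5, idx_val (by norm_num)]; rfl
  have hhd : h * decode threeSix * h⁻¹ = decode threeSix ∨
      h * decode threeSix * h⁻¹ = (decode threeSix)⁻¹ := by
    refine eq_threeSix_or_inv (M24.mul_mem (M24.mul_mem hh hdM) (M24.inv_mem hh)) ?_ fun i hi => ?_
    · rw [← MulAut.conj_apply, MulEquiv.orderOf_eq]
      refine orderOf_eq_prime ?_ fun e => ?_
      · have h1 : isId 24 (packMul 24 threeSix (packMul 24 threeSix threeSix)) = true := by decide +kernel
        rw [pow_succ', pow_two]
        exact (rep_packMul hd (rep_packMul hd hd)).eq_one h1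
      · have h1 : app threeSix 6 ≠ 6 := by decide +kernel
        have := hd (idx ptEnc 6)
        rw [e, Equiv.Perm.one_apply, idx_val (by norm_num)] at this
        exact h1 this.symm
    · obtain ⟨j, hj⟩ := hv.2 ⟨h.symm (idx ptEnc i), by
        obtain ⟨k, hk⟩ : ∃ k : Fin 6, (w k : GolayPt) = idx ptEnc i := ⟨⟨i, hi⟩, rfl⟩
        rw [← hk, show h.symm (w k : GolayPt) = v k by rw [Equiv.symm_apply_eq, hhv]]
        exact (v k).2⟩
      have hfx : decode threeSix (h.symm (idx ptEnc i)) = h.symm (idx ptEnc i) := by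
        have hj' : (v j : GolayPt) = h.symm (idx ptEnc i) := congrArg Subtype.val hj
        rw [hdfix, ← hj']
        exact memE.1 (v j).2
      rw [Equiv.Perm.mul_apply, Equiv.Perm.mul_apply, Equiv.Perm.inv_def, hfx, Equiv.apply_symm_apply]
  have hcomm : u * decode threeSix = decode threeSix * u := by
    have hcc : Commute u (h * decode threeSix * h⁻¹) := by
      show u * (h * decode threeSix * h⁻¹) = h * decode threeSix * h⁻¹ * u
      rw [hu, show h * s * h⁻¹ * (h * decode threeSix * h⁻¹) = h * (s * decode threeSix) * h⁻¹ by group,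
        hc]
      group
    rcases hhd with e | e
    · rw [e] at hcc; exact hcc
    · rw [e] at hcc; exact Commute.inv_right_iff.1 hcc
  have hchk2 := List.all_eq_true.1 free_not_commute l hl
  rw [force_eq, packMulS_eq] at hchk2
  simp only [isIdS, force_eq, packMulS_eq, Bool.or_eq_true, Bool.not_eq_true', beq_eq_false_iff_ne] at hchk2
  rcases hchk2 with (hq | hq) | hq
  · have hsq : u * u = 1 := by
      rw [hu, show h * s * h⁻¹ * (h * s * h⁻¹) = h * (s * s) * h⁻¹ by group, h2]
      group
    have := rep_packMul hrep hrep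
    rw [hsq] at this
    refine Bool.false_ne_true (hq.symm.trans ?_)
    simp only [isId, List.all_eq_true, List.mem_range, beq_iff_eq]
    intro i hi
    have h' := this (idx ptEnc i)
    rw [idx_val hi] at h'
    rw [← h', Equiv.Perm.one_apply, idx_val hi]
  · refine hq ?_
    rw [← fixCount_eq hrep, hu, fix_conj, hfree]
  · have r1 := rep_packMul hrep hd
    have r2 := rep_packMul hd hrep
    rw [hcomm] at r1
    refine Bool.false_ne_true (hq.symm.trans ?_)
    simp only [samePack, force_eq, List.all_eq_true, List.mem_range, beq_iff_eq]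
    intro i hi
    have a1 := r1 (idx ptEnc i)
    have a2 := r2 (idx ptEnc i)
    rw [idx_val hi] at a1 a2
    rw [← a1, ← a2]

theorem fix_cases_of_commute {x s : Equiv.Perm GolayPt} (hx : x ∈ M24) (hs : s ∈ M24)
    (h3 : orderOf x = 3) (h2 : orderOf s = 2) (hc : Commute x s) :
    ((Finset.univ.filter fun p => x p = p).card = 6 ∧ (Finset.univ.filter fun p => s p = p).card = 8) ∨
    ((Finset.univ.filter fun p => x p = p).card = 0 ∧ (Finset.univ.filter fun p => s p = p).card = 0) := by
  classical
  have hx3 : x * (x * x) = 1 := by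
    have := pow_orderOf_eq_one x
    rwa [h3, pow_succ', pow_two] at this
  have hs2 : s * s = 1 := by
    have := pow_orderOf_eq_one s
    rwa [h2, pow_two] at this
  have hx1 : x ≠ 1 := fun e => by simp [e] at h3
  have hs1 : s ≠ 1 := fun e => by simp [e] at h2
  rcases order_three_fix hx hx3 hx1 with hX | ⟨hX, -⟩ <;>
    rcases involution_fix hs hs2 hs1 with hS | ⟨hS, -⟩
  · exact Or.inl ⟨hX, hS⟩
  · exfalso
    obtain ⟨k, hk, hk'⟩ := conj_threeSix hx h3 hX
    have hs' : k⁻¹ * s * k ∈ M24 := M24.mul_mem (M24.mul_mem (M24.inv_mem hk) hs) hk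
    refine commute_threeSix_false hs' ?_ ?_ ?_
    · rw [show k⁻¹ * s * k * (k⁻¹ * s * k) = k⁻¹ * (s * s) * k by group, hs2]; group
    · have e := fix_conj k⁻¹ s
      rw [inv_inv] at e
      rw [e, hS]
    · have hcc : Commute (k⁻¹ * s * k) (k⁻¹ * x * k) := by
        show k⁻¹ * s * k * (k⁻¹ * x * k) = k⁻¹ * x * k * (k⁻¹ * s * k)
        rw [show k⁻¹ * s * k * (k⁻¹ * x * k) = k⁻¹ * (s * x) * k by group, ← hc.eq]
        group
      rcases hk' with rfl | rfl
      · rwa [show k⁻¹ * (k * decode threeSix * k⁻¹) * k = decode threeSix by group] at hcc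
      · rw [show k⁻¹ * (k * (decode threeSix)⁻¹ * k⁻¹) * k = (decode threeSix)⁻¹ by group] at hcc
        exact Commute.inv_right_iff.1 hcc
  · exfalso
    set F := Finset.univ.filter fun p => s p = p with hF
    have hFx : ∀ p, x p ∈ F ↔ p ∈ F := fun p => by
      simp only [hF, Finset.mem_filter, Finset.mem_univ, true_and]
      have := Equiv.Perm.ext_iff.1 hc.eq p
      simp only [Equiv.Perm.mul_apply] at this
      rw [← this, x.apply_eq_iff_eq]
    let π : Equiv.Perm ↥F := x.subtypePerm hFx
    have hπ : π ^ 3 ^ 1 = 1 := Equiv.ext fun p => Subtype.ext (by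
      rw [pow_one, pow_succ', pow_two]
      exact Equiv.Perm.ext_iff.1 hx3 p)
    have : Fact (Nat.Prime 3) := ⟨Nat.prime_three⟩
    have hmod := Equiv.Perm.card_compl_support_modEq (p := 3) hπ
    have hsupp : π.supportᶜ = ∅ := Finset.eq_empty_of_forall_notMem fun p hp => by
      rw [Finset.mem_compl, Equiv.Perm.notMem_support] at hp
      have hxp : (p : GolayPt) ∈ Finset.univ.filter fun q => x q = q := by
        simp only [Finset.mem_filter, Finset.mem_univ, true_and]
        exact congrArg Subtype.val hp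
      rw [Finset.card_eq_zero.1 hX] at hxp
      exact absurd hxp (Finset.notMem_empty _)
    rw [hsupp, Finset.card_empty, Fintype.card_coe, hS] at hmod
    exact absurd hmod (by decide)
  · exact Or.inr ⟨hX, hS⟩

end Cfsg.Agent.Mathieu
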