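import Cfsg.Agent.Lib.Mathieu.Code
import Cfsg.Agent.Lib.AbstractGolay.Basic

/-!
Cosets of the binary code of length 24: one word of weight at most 3, or six of weight 4.
-/

set_option autoImplicit false

namespace Cfsg.Agent.Mathieu.Cosets

open Cfsg Cfsg.Agent.Mathieu

/-- The word with the given support. -/
def ind (s : Finset GolayPt) : GolayPt → ZMod 2 := fun p => if p ∈ s then 1 else 0

theorem support_ind (s : Finset GolayPt) : support₂ (ind s) = s := by
  ext p; by_cases h : p ∈ s <;> simp [support₂, ind, h]

theorem ind_support (w : GolayPt → ZMod 2) : ind (support₂ w) = w := by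
  funext p
  rcases (by decide : ∀ a : ZMod 2, a = 0 ∨ a = 1) (w p) with h | h <;> simp [ind, support₂, h]

theorem ind_injective : Function.Injective ind := fun s t h => by
  rw [← support_ind s, h, support_ind]

theorem hammingNorm_eq_card (w : GolayPt → ZMod 2) : hammingNorm w = (support₂ w).card := rfl

theorem support_sub (u v : GolayPt → ZMod 2) : support₂ (u - v) = symmDiff (support₂ u) (support₂ v) := by
  ext p
  rcases (by decide : ∀ a : ZMod 2, a = 0 ∨ a = 1) (u p) with h | h <;>
    rcases (by decide : ∀ a : ZMod 2, a = 0 ∨ a = 1) (v p) with h' | h' <;>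
    simp [support₂, Finset.mem_symmDiff, h, h']

theorem eight_le {w : GolayPt → ZMod 2} (hw : w ∈ golayCode) (h : w ≠ 0) : 8 ≤ hammingNorm w := by
  have h0 : hammingNorm w ≠ 0 := fun e => h (hammingNorm_eq_zero.1 e)
  rw [hammingNorm_eq_card] at h0 ⊢
  rcases card_support_cases (s := support₂ w) ⟨w, hw, rfl⟩ with e | e | e | e | e <;> omega

/-- Two sets in one coset are equal or large. -/
theorem eq_or_le {s t : Finset GolayPt} (h : ind s - ind t ∈ golayCode) :
    s = t ∨ 8 + 2 * (s ∩ t).card ≤ s.card + t.card := by
  by_cases e : ind s - ind t = 0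
  · exact Or.inl (ind_injective (sub_eq_zero.1 e))
  · right
    have h8 := eight_le h e
    rw [hammingNorm_eq_card, support_sub, support_ind, support_ind] at h8
    have := card_inter_add_card_symmDiff s t
    omega

/-- The code on the points numbered from 0 to 23. -/
noncomputable def numbered : Submodule (ZMod 2) (Fin 24 → ZMod 2) :=
  golayCode.map (LinearEquiv.funCongrLeft (ZMod 2) (ZMod 2) ptEnc.symm).toLinearMap

theorem mem_numbered {w : GolayPt → ZMod 2} : (fun i => w (ptEnc.symm i)) ∈ numbered ↔ w ∈ golayCode := by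
  constructor
  · rintro ⟨v, hv, e⟩
    rwa [show w = v from funext fun p => by
      have := congrFun e (ptEnc p)
      simpa [LinearMap.funLeft_apply] using this.symm]
  · exact fun h => ⟨w, h, rfl⟩

theorem finrank_numbered : Module.finrank (ZMod 2) numbered = 12 := by
  rw [numbered, LinearEquiv.finrank_map_eq, finrank_golayCode]

theorem minWeight_numbered : AbstractGolay.MinWeight numbered := by
  rintro _ ⟨v, hv, rfl⟩ hne
  have hv0 : v ≠ 0 := fun e => hne (by simp [e])
  refine (eight_le hv hv0).trans (le_of_eq ?_)
  show (Finset.univ.filter fun p => v p ≠ 0).card = (Finset.univ.filter fun i => v (ptEnc.symm i) ≠ 0).card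
  refine Finset.card_equiv ptEnc fun p => ?_
  rw [Finset.mem_filter_univ, Finset.mem_filter_univ, Equiv.symm_apply_apply]

theorem ind_comap (t : Finset (Fin 24)) :
    (fun i => ind (t.map ptEnc.symm.toEmbedding) (ptEnc.symm i)) = AbstractGolay.word t := by
  funext i; simp [ind, AbstractGolay.word]

theorem sub_mem_iff (t : Finset (Fin 24)) (w : GolayPt → ZMod 2) :
    AbstractGolay.word t - (fun i => w (ptEnc.symm i)) ∈ numbered ↔
      ind (t.map ptEnc.symm.toEmbedding) - w ∈ golayCode := by
  rw [← mem_numbered (w := ind (t.map ptEnc.symm.toEmbedding) - w)]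
  simp only [Pi.sub_apply, ← ind_comap t]
  rfl

open scoped Classical in
/-- The cosets of the code. -/
theorem coset_leaders (w : GolayPt → ZMod 2) :
    (∃ s : Finset GolayPt, s.card ≤ 3 ∧ ind s - w ∈ golayCode) ∨
      ((Finset.univ.filter fun t : Finset GolayPt => t.card = 4 ∧ ind t - w ∈ golayCode).card = 6) := by
  rcases AbstractGolay.coset_cover finrank_numbered minWeight_numbered (fun i => w (ptEnc.symm i)) with
    ⟨s, hs, hc⟩ | h
  · exact Or.inl ⟨s.map ptEnc.symm.toEmbedding, by rwa [Finset.card_map], (sub_mem_iff s w).1 hc⟩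
  · right
    rw [← h]
    refine (Finset.card_nbij (fun t => t.map ptEnc.symm.toEmbedding) ?_ ?_ ?_).symm
    · intro t ht
      simp only [Finset.mem_coe, Finset.mem_filter_univ] at ht ⊢
      exact ⟨by rw [Finset.card_map]; exact ht.1, (sub_mem_iff t w).1 ht.2⟩
    · intro a _ b _ e
      exact Finset.map_injective _ e
    · intro s hs
      simp only [Finset.mem_coe, Finset.mem_filter_univ] at hs
      have e : (s.map ptEnc.toEmbedding).map ptEnc.symm.toEmbedding = s := by
        ext p; simp
      refine ⟨s.map ptEnc.toEmbedding, ?_, e⟩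
      simp only [Finset.mem_coe, Finset.mem_filter_univ]
      exact ⟨by rw [Finset.card_map]; exact hs.1, (sub_mem_iff _ w).2 (by rw [e]; exact hs.2)⟩

end Cfsg.Agent.Mathieu.Cosets
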