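import Cfsg.Agent.Lib.Mathieu.Rigid

/-!
An upper bound for the order of a generated permutation group from transversals closed under the
sifting products.
-/

set_option autoImplicit false

namespace Cfsg.Agent.Mathieu

variable {α : Type*} {n : ℕ} {e : α ≃ Fin n}

open Classical in
/-- The permutation packed by `l`, or `1`. -/
noncomputable def unpack (e : α ≃ Fin n) (l : ℕ) : Equiv.Perm α :=
  if h : ∃ σ : Equiv.Perm α, Rep e σ l then h.choose else 1

theorem rep_unpack {l : ℕ} (h : permOK n l = true) : Rep e (unpack e l) l := by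
  have hex := exists_rep (e := e) h
  unfold unpack
  rw [dif_pos hex]
  exact hex.choose_spec

/-- The products of one element from each transversal. -/
noncomputable def transProd (e : α ≃ Fin n) : List (ℕ × List (ℕ × ℕ)) → List (Equiv.Perm α)
  | [] => [1]
  | p :: rest => p.2.flatMap fun t => (transProd e rest).map fun π => unpack e t.1 * π

theorem length_transProd : ∀ L : List (ℕ × List (ℕ × ℕ)),
    (transProd e L).length = (L.map fun p => p.2.length).prod
  | [] => rfl
  | p :: rest => by
    simp [transProd, List.length_flatMap, length_transProd rest]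

/-- Membership in the products, by sifting. -/
def siftOK (n : ℕ) : List (ℕ × List (ℕ × ℕ)) → ℕ → Bool
  | [], g => isIdS n g
  | p :: rest, g => force g fun g =>
    p.2.any fun t => app t.1 p.1 == app g p.1 && siftOK n rest (packMulS n t.2 g)

/-- The inverses listed are inverses. -/
def pairsOK (n : ℕ) (L : List (ℕ × List (ℕ × ℕ))) : Bool :=
  L.all fun p => p.2.all fun t =>
    permOK n t.1 && permOK n t.2 && isIdS n (packMulS n t.1 t.2)

/-- Every element of a later transversal, times an element of the first one, sifts. -/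
def closedTrans (n : ℕ) : List (ℕ × List (ℕ × ℕ)) → Bool
  | [] => true
  | p :: rest => ((p :: rest).all fun q => q.2.all fun s => p.2.all fun t =>
      siftOK n (p :: rest) (packMulS n s.1 t.1)) && closedTrans n rest

theorem mem_transProd_of_sift : ∀ (L : List (ℕ × List (ℕ × ℕ))), pairsOK n L = true →
    ∀ (σ : Equiv.Perm α) (g : ℕ), Rep e σ g → siftOK n L g = true → σ ∈ transProd e L := by
  intro L
  induction L with
  | nil =>
    intro _ σ g hσ h
    simp only [siftOK, isIdS, force_eq] at h
    simp [transProd, hσ.eq_one h]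
  | cons p rest ih =>
    intro hp σ g hσ h
    simp only [siftOK, force_eq, packMulS_eq, List.any_eq_true, Bool.and_eq_true] at h
    obtain ⟨t, ht, -, hrec⟩ := h
    simp only [pairsOK, isIdS, force_eq, packMulS_eq, List.all_cons, List.all_eq_true,
      Bool.and_eq_true] at hp ih
    obtain ⟨⟨h1, h2⟩, h3⟩ := hp.1 t ht
    have hinv : unpack e t.2 = (unpack e t.1)⁻¹ :=
      eq_inv_of_mul_eq_one_right
        ((rep_packMul (e := e) (rep_unpack h1) (rep_unpack h2)).eq_one h3)
    have := ih hp.2 _ _ (rep_packMul (rep_unpack (e := e) h2) hσ) hrec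
    rw [transProd, List.mem_flatMap]
    exact ⟨t, ht, List.mem_map.2 ⟨_, this, by rw [hinv, mul_inv_cancel_left]⟩⟩

theorem transProd_le_closure : ∀ (L : List (ℕ × List (ℕ × ℕ))) (π : Equiv.Perm α),
    π ∈ transProd e L →
      π ∈ Submonoid.closure {σ | ∃ q ∈ L, ∃ s ∈ q.2, σ = unpack e s.1} := by
  intro L
  induction L with
  | nil => intro π hπ; simp [transProd] at hπ; simp [hπ]
  | cons p rest ih =>
    intro π hπ
    rw [transProd, List.mem_flatMap] at hπ
    obtain ⟨t, ht, hπ⟩ := hπ
    obtain ⟨ρ, hρ, rfl⟩ := List.mem_map.1 hπ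
    refine mul_mem (Submonoid.subset_closure ⟨p, List.mem_cons_self, t, ht, rfl⟩) ?_
    refine Submonoid.closure_mono ?_ (ih ρ hρ)
    rintro σ ⟨q, hq, s, hs, rfl⟩
    exact ⟨q, List.mem_cons_of_mem _ hq, s, hs, rfl⟩

theorem transProd_mul_mem : ∀ (L : List (ℕ × List (ℕ × ℕ))), pairsOK n L = true →
    closedTrans n L = true → ∀ a ∈ transProd e L, ∀ b ∈ transProd e L, a * b ∈ transProd e L := by
  intro L
  induction L with
  | nil => intro _ _ a ha b hb; simp_all [transProd]
  | cons p rest ih =>
    intro hp hc a ha b hb
    simp only [closedTrans, Bool.and_eq_true, List.all_eq_true] at hc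
    have hp' : pairsOK n rest = true := by
      simp only [pairsOK, List.all_cons, Bool.and_eq_true] at hp ⊢
      exact hp.2
    have hperm : ∀ q ∈ p :: rest, ∀ s ∈ q.2, permOK n s.1 = true := by
      intro q hq s hs
      simp only [pairsOK, List.all_eq_true, Bool.and_eq_true] at hp
      exact (hp q hq s hs).1.1
    suffices hgen : ∀ q ∈ p :: rest, ∀ s ∈ q.2, ∀ b ∈ transProd e (p :: rest),
        unpack e s.1 * b ∈ transProd e (p :: rest) by
      have hcl := transProd_le_closure _ _ ha
      clear ha
      induction hcl using Submonoid.closure_induction_left with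
      | one => simpa using hb
      | mul_left y hy z _ ihz =>
        obtain ⟨q, hq, s, hs, rfl⟩ := hy
        rw [mul_assoc]
        exact hgen q hq s hs _ ihz
    intro q hq s hs b hb
    rw [transProd, List.mem_flatMap] at hb
    obtain ⟨t, ht, hb⟩ := hb
    obtain ⟨ρ, hρ, rfl⟩ := List.mem_map.1 hb
    have hmem := mem_transProd_of_sift (e := e) _ hp _ _
      (rep_packMul (rep_unpack (hperm q hq s hs))
        (rep_unpack (hperm p List.mem_cons_self t ht)))
      (by rw [← packMulS_eq]; exact hc.1 q hq s hs t ht)
    rw [transProd, List.mem_flatMap] at hmem ⊢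
    obtain ⟨t', ht', hmem⟩ := hmem
    obtain ⟨r, hr, hre⟩ := List.mem_map.1 hmem
    exact ⟨t', ht', List.mem_map.2 ⟨r * ρ, ih hp' hc.2 r hr ρ hρ,
      by rw [← mul_assoc, hre, mul_assoc]⟩⟩

/-- The bound. -/
theorem genGroup_card_le [Finite α] {gens : List ℕ} {L : List (ℕ × List (ℕ × ℕ))}
    (hn : n ≤ 256) (hp : pairsOK n L = true) (hc : closedTrans n L = true)
    (hone : siftOK n L (packId n) = true) (hg : gens.all (fun g => siftOK n L g) = true) :
    Nat.card (genGroup e gens) ≤ (L.map fun p => p.2.length).prod := by
  classical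
  have h1 : (1 : Equiv.Perm α) ∈ transProd e L :=
    mem_transProd_of_sift L hp _ _ (rep_packId hn) hone
  have hsub : ∀ x ∈ genGroup e gens, x ∈ (transProd e L).toFinset := by
    intro x hx
    rw [List.mem_toFinset]
    rw [genGroup, ← Subgroup.mem_toSubmonoid, Subgroup.closure_toSubmonoid_of_finite] at hx
    induction hx using Submonoid.closure_induction with
    | mem y hy =>
      obtain ⟨l, hl, hr⟩ := hy
      exact mem_transProd_of_sift L hp _ _ hr (List.all_eq_true.1 hg l hl)
    | one => exact h1
    | mul a b _ _ iha ihb => exact transProd_mul_mem L hp hc a iha b ihb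
  calc Nat.card (genGroup e gens) ≤ (transProd e L).toFinset.card := by
        rw [← Nat.card_eq_finsetCard]
        refine Nat.card_le_card_of_injective (fun x => ⟨x.1, hsub x.1 x.2⟩) fun a b h => ?_
        exact Subtype.ext (congrArg Subtype.val h :)
    _ ≤ (transProd e L).length := List.toFinset_card_le _
    _ = _ := length_transProd L

end Cfsg.Agent.Mathieu
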