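import Mathlib

/-!
The elements of odd order and a quaternion subgroup in the stabiliser of three points of the dodecad.
-/

set_option autoImplicit false

namespace Cfsg.Agent.Mathieu

/-- The nine elements of order dividing three. -/
def dodTriadNine : List ℕ := [
  0x17161514131211100f0e0d0c0b0a09080706050403020100, 0x160b140e13040a030f15060d17071210110c050908020100,
  0xb170e15130907080f140c06161104030a0d051210020100, 0x160b0e150f10110605140904170a080d071213030c020100,
  0x160b1514050d0709130e031017110c040a080f0612020100, 0xb17140e0506111213150803160a0d0907100f0c04020100,
  0xb1715140f030a0c050e120916071006110413080d020100, 0x1716140e0f08070d051504120b11030c0a09131006020100,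
  0x17160e15050c0a04131410080b07061211030f0d09020100]

/-- The powers of a generator of order four of a quaternion subgroup. -/
def dodTriadA : List ℕ := [
  0x17161514131211100f0e0d0c0b0a09080706050403020100, 0xe14160b070905040a17061015130d0c0f12110803020100,
  0x170b14150f0d1108130e1204160706100a09050c03020100, 0xe150b160a06050c07170908140f1204130d111003020100]

/-- The elements of the quaternion subgroup outside those powers. -/
def dodTriadX : List ℕ := [
  0x11070f131510170d140508060a160c120b040e0903020100, 0x513070a0b0c0e091611040d0f1508061410171203020100,
  0x110a130f1408171215051009070b040d160c0e0603020100, 0x50f0a0716040e060b110c12131410091508170d03020100]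

end Cfsg.Agent.Mathieu
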