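import Cfsg.Agent.Lib.Mathieu.HexadStab
import Cfsg.Agent.Lib.Mathieu.Stab.Labelled
import Cfsg.Agent.Lib.Mathieu.PackSub
import Cfsg.Agent.Lib.Mathieu.DodTriadData
import Mathlib.GroupTheory.SpecificGroups.Quaternion

/-!
The stabiliser of a dodecad and three of its points: order 72, a normal subgroup of order nine
and exponent three, and quaternion Sylow 2-subgroups.
-/

set_option autoImplicit false
set_option maxRecDepth 20000

namespace Cfsg.Agent.Mathieu

open Cfsg
open scoped Pointwise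

/-- The packed elements fixing the dodecad and the points `0, 1, 2`. -/
def triadList : List ℕ := prodList 24 (levels12.drop 3)

/-- The quaternion element with given shape. -/
def dodTriadQ : QuaternionGroup 2 → ℕ
  | .a i => dodTriadA.getD i.val 0
  | .xa i => dodTriadX.getD i.val 0

/-- A packed element fixing the base triad and the dodecad. -/
def inTriad (l : ℕ) : Bool :=
  permOK 24 l && presCode l && mapsMask l dodMask dodMask &&
    (List.range 3).all fun i => app l i == i

theorem dodTriad_check : (levels12.take 3).map (fun p => p.1) = [0, 1, 2] ∧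
    elemsOK triadList = true ∧ triadList.length = 72 ∧
    (triadList.all inTriad && dodTriadNine.all inTriad && elemsOK dodTriadNine &&
      dodTriadNine.length == 9 &&
      (dodTriadA ++ dodTriadX).all inTriad && elemsOK (dodTriadA ++ dodTriadX) &&
      dodTriadA.length == 4 && dodTriadX.length == 4) = true := by
  decide +kernel

theorem dodTriadNine_closed : closedList 24 dodTriadNine = true := by decide +kernel

theorem dodTriadNine_cube :
    (dodTriadNine.all fun l => isId 24 (packMulS 24 l (packMulS 24 l l))) = true := by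
  decide +kernel

theorem dodTriadNine_normal : (triadList.all fun a => dodTriadNine.all fun b =>
    dodTriadNine.any fun c => samePack 24 (packMulS 24 a b) (packMulS 24 c a)) = true := by
  decide +kernel

theorem dodTriadQ_mul : ∀ x y : QuaternionGroup 2,
    samePack 24 (packMulS 24 (dodTriadQ x) (dodTriadQ y)) (dodTriadQ (x * y)) = true := by
  decide +kernel

/-- The stabiliser of the dodecad and three points. -/
abbrev triadStab (d : Finset GolayPt) (p q r : GolayPt) : Subgroup M24 :=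
  MulAction.stabilizer M24 d ⊓ MulAction.stabilizer M24 p ⊓ MulAction.stabilizer M24 q ⊓
    MulAction.stabilizer M24 r

theorem rep_iff_eq_decode {σ : Equiv.Perm GolayPt} {l : ℕ} (h : permOK 24 l = true) :
    Rep ptEnc σ l ↔ decode l = σ :=
  ⟨decode_eq h, fun e => e ▸ rep_decode h⟩

theorem mem_triad_base {σ : Equiv.Perm GolayPt} (hσ : σ ∈ M24)
    (hd : σ • Spor.squareDodecad = Spor.squareDodecad)
    (h : ∀ i, i < 3 → σ (idx ptEnc i) = idx ptEnc i) : ∃ l ∈ triadList, Rep ptEnc σ l := by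
  have hup : Upper ptEnc Spor.M12 levels12 := by
    refine upper_full _ [] dodMask _ (by decide +kernel) (by simp) fun σ hσ => ?_
    rw [← squareDodecad_eq]; exact (mem_M12_iff.1 hσ).2
  have hbot : fixList Spor.M12 (levels12.map fun p => idx ptEnc p.1) = ⊥ := by
    rw [eq_bot_iff]
    intro σ hσ
    rw [mem_fixList] at hσ
    rw [Subgroup.mem_bot]
    refine eq_one_of_fix_five (mem_M12_iff.1 hσ.1).1 (fun i hi => ?_) (mem_M12_iff.1 hσ.1).2
    have : i ∈ levels12.map fun p => p.1 := by revert i; decide +kernel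
    obtain ⟨p, hp, rfl⟩ := List.mem_map.1 this
    exact hσ.2 _ (List.mem_map.2 ⟨p, hp, rfl⟩)
  have hreps : ∀ t ∈ allReps levels12, ∃ τ ∈ Spor.M12, Rep ptEnc τ t := by
    intro t ht
    have hc : (allReps levels12).all (fun l => permOK 24 l && presCode l &&
        mapsMask l dodMask dodMask) = true := by decide +kernel
    have h' := List.all_eq_true.1 hc t ht
    simp only [Bool.and_eq_true] at h'
    obtain ⟨τ, hτ⟩ := exists_rep (e := ptEnc) h'.1.1
    refine ⟨τ, mem_M12_iff.2 ⟨mem_M24_of_rep hτ h'.1.2, ?_⟩, hτ⟩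
    rw [squareDodecad_eq, ← mapsMask_iff hτ]
    exact h'.2
  exact exists_mem_prodList_drop (by norm_num) levels12 [] Spor.M12 (by simp) (fun _ h _ => h)
    (by decide +kernel) hreps hup hbot 3 σ (mem_fixList.2 ⟨mem_M12_iff.2 ⟨hσ, hd⟩, fun b hb => by
      obtain ⟨p, hp, rfl⟩ := List.mem_map.1 hb
      have : p.1 ∈ (levels12.take 3).map fun p => p.1 := List.mem_map.2 ⟨p, hp, rfl⟩
      rw [dodTriad_check.1] at this
      exact h p.1 (by simp at this; omega)⟩)

theorem inTriad_spec {l : ℕ} (h : inTriad l = true) :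
    permOK 24 l = true ∧ decode l ∈ M24 ∧ decode l • Spor.squareDodecad = Spor.squareDodecad ∧
      ∀ i, i < 3 → decode l (idx ptEnc i) = idx ptEnc i := by
  simp only [inTriad, Bool.and_eq_true, List.all_eq_true, List.mem_range, beq_iff_eq] at h
  obtain ⟨⟨⟨hp, hpres⟩, hmap⟩, hfix⟩ := h
  have hrep := rep_decode hp
  refine ⟨hp, mem_M24_of_rep hrep hpres, ?_, fun i hi => ?_⟩
  · rw [squareDodecad_eq, ← mapsMask_iff hrep]; exact hmap
  · rw [hrep.apply_idx (by omega), hfix i hi]

/-- What is proved of such a stabiliser. -/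
def TriadFacts (H : Subgroup M24) : Prop :=
  (∀ Q : Sylow 3 ↥H, (Q : Subgroup ↥H).Normal ∧ Nat.card ↥Q = 9 ∧
    ∀ x ∈ (Q : Subgroup ↥H), x ^ 3 = 1) ∧
  ∀ P : Sylow 2 ↥H, Nonempty (↥P ≃* QuaternionGroup 2)

theorem triadStab_facts {d : Finset GolayPt} (hd : d ∈ dodecads) {p q r : GolayPt} (hp : p ∈ d)
    (hq : q ∈ d) (hr : r ∈ d) (hpq : p ≠ q) (hpr : p ≠ r) (hqr : q ≠ r) :
    TriadFacts (triadStab d p q r) := by
  classical
  -- move the base triad onto `p, q, r`
  obtain ⟨σ₀, hσ₀, rfl⟩ := M24_exists_map_square hd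
  have hbase : ∀ i, i < 3 → idx ptEnc i ∈ Spor.squareDodecad := by
    rw [squareDodecad_eq]
    decide +kernel
  obtain ⟨σ, hσ, hσd, hσi⟩ : ∃ σ ∈ M24, σ • Spor.squareDodecad = σ₀ • Spor.squareDodecad ∧
      σ (idx ptEnc 0) = p ∧ σ (idx ptEnc 1) = q ∧ σ (idx ptEnc 2) = r := by
    let x : Fin 3 ↪ GolayPt := ⟨![σ₀ (idx ptEnc 0), σ₀ (idx ptEnc 1), σ₀ (idx ptEnc 2)], by
      intro a b h
      fin_cases a <;> fin_cases b <;> simp at h <;> first | rfl | exact absurd h (by decide +kernel)⟩
    let y : Fin 3 ↪ GolayPt := ⟨![p, q, r], by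
      intro a b h
      fin_cases a <;> fin_cases b <;>
        simp [hpq, hpr, hqr, hpq.symm, hpr.symm, hqr.symm] at h <;> rfl⟩
    obtain ⟨h, hh, hhd, hhx⟩ := dodecad_exists_map (M24_smul_dodecad hσ₀ squareDodecad_mem)
      (by norm_num) x y
      (fun i => by
        fin_cases i <;> exact apply_mem_smul_pts.2 (hbase _ (by norm_num)))
      (fun i => by fin_cases i <;> assumption)
    exact ⟨h * σ₀, M24.mul_mem hh hσ₀, by rw [mul_smul, hhd], hhx 0, hhx 1, hhx 2⟩
  rw [← hσd]
  obtain ⟨rfl, rfl, rfl⟩ := hσi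
  set H := triadStab (σ • Spor.squareDodecad) (σ (idx ptEnc 0)) (σ (idx ptEnc 1)) (σ (idx ptEnc 2))
  have hmem : ∀ g : M24, g ∈ H ↔ (σ⁻¹ * g * σ : Equiv.Perm GolayPt) ∈ M24 ∧
      (σ⁻¹ * g * σ : Equiv.Perm GolayPt) • Spor.squareDodecad = Spor.squareDodecad ∧
      ∀ i, i < 3 → (σ⁻¹ * g * σ : Equiv.Perm GolayPt) (idx ptEnc i) = idx ptEnc i := by
    intro g
    have hg24 : (σ⁻¹ * g * σ : Equiv.Perm GolayPt) ∈ M24 :=
      M24.mul_mem (M24.mul_mem (M24.inv_mem hσ) g.2) hσ
    have e1 : (σ⁻¹ * g * σ : Equiv.Perm GolayPt) • Spor.squareDodecad = Spor.squareDodecad ↔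
        g • (σ • Spor.squareDodecad) = σ • Spor.squareDodecad := by
      rw [mul_smul, mul_smul, inv_smul_eq_iff]; rfl
    have e2 : ∀ z, (σ⁻¹ * g * σ : Equiv.Perm GolayPt) z = z ↔ g • (σ z) = σ z := fun z => by
      rw [Equiv.Perm.mul_apply, Equiv.Perm.mul_apply, Equiv.Perm.inv_def, Equiv.symm_apply_eq]; rfl
    simp only [H, triadStab, Subgroup.mem_inf, MulAction.mem_stabilizer_iff]
    refine ⟨fun ⟨⟨⟨a, b⟩, c⟩, e⟩ => ⟨hg24, e1.2 a, fun i hi => ?_⟩,
      fun ⟨_, a, b⟩ => ⟨⟨⟨e1.1 a, (e2 _).1 (b 0 (by norm_num))⟩, (e2 _).1 (b 1 (by norm_num))⟩,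
        (e2 _).1 (b 2 (by norm_num))⟩⟩
    interval_cases i
    · exact (e2 _).2 b
    · exact (e2 _).2 c
    · exact (e2 _).2 e
  have hback : ∀ l, inTriad l = true → ∃ g : H, ((g : M24) : Equiv.Perm GolayPt) =
      σ * decode l * σ⁻¹ := fun l hl => by
    obtain ⟨-, hl24, hld, hlfix⟩ := inTriad_spec hl
    refine ⟨⟨⟨σ * decode l * σ⁻¹, M24.mul_mem (M24.mul_mem hσ hl24) (M24.inv_mem hσ)⟩,
      (hmem _).2 ?_⟩, rfl⟩
    simpa [mul_assoc] using And.intro hl24 ⟨hld, hlfix⟩
  obtain ⟨-, helems, hlen, hchk⟩ := dodTriad_check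
  simp only [Bool.and_eq_true, List.all_eq_true, beq_iff_eq] at hchk
  obtain ⟨⟨⟨⟨⟨⟨⟨htri, hnine⟩, helems9⟩, hlen9⟩, hq⟩, helemsQ⟩, hlenA⟩, hlenX⟩ := hchk
  -- conjugate into the base stabiliser
  let conjBack : H → Equiv.Perm GolayPt := fun g => σ⁻¹ * ((g : M24) : Equiv.Perm GolayPt) * σ
  have hconj_inj : Function.Injective conjBack := fun g g' e => by
    have : ((g : M24) : Equiv.Perm GolayPt) = ((g' : M24) : Equiv.Perm GolayPt) :=
      mul_left_cancel (mul_right_cancel e)
    exact Subtype.ext (Subtype.ext this)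
  have hconj_mul : ∀ g g' : H, conjBack (g * g') = conjBack g * conjBack g' := fun g g' => by
    simp [conjBack, mul_assoc]
  have count : ∀ L : List ℕ, elemsOK L = true → (∀ l ∈ L, inTriad l = true) →
      Nat.card {g : H // conjBack g ∈ (L.map decode).toFinset} = L.length := by
    intro L hL hin
    rw [Nat.card_congr (Equiv.ofBijective
      (fun g : {g : H // conjBack g ∈ (L.map decode).toFinset} =>
        (⟨conjBack g.1, g.2⟩ : ↥((L.map decode).toFinset))) ⟨fun g g' e => Subtype.ext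
          (hconj_inj (congrArg Subtype.val e)), fun x => ?_⟩),
      Nat.card_eq_finsetCard, List.toFinset_card_of_nodup (elemsOK_spec hL).2, List.length_map]
    obtain ⟨l, hl, e⟩ := List.mem_map.1 (List.mem_toFinset.1 x.2)
    obtain ⟨g, hg⟩ := hback l (hin l hl)
    have he : conjBack g = x := by
      show σ⁻¹ * _ * σ = _
      rw [hg, ← e]
      group
    exact ⟨⟨g, he.symm ▸ x.2⟩, Subtype.ext he⟩
  have hall : ∀ g : H, ∃ l ∈ triadList, Rep ptEnc (conjBack g) l := fun g => by
    obtain ⟨a, b, c⟩ := (hmem g.1).1 g.2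
    exact mem_triad_base a b c
  have hcard : Nat.card H = 72 := by
    rw [← hlen, ← count triadList helems htri]
    refine (Nat.card_congr (Equiv.subtypeUnivEquiv fun g => ?_)).symm
    obtain ⟨l, hl, hrep⟩ := hall g
    exact List.mem_toFinset.2 (List.mem_map.2 ⟨l, hl, decode_eq (inTriad_spec (htri l hl)).1 hrep⟩)
  -- the normal subgroup of order nine
  have hnineM : ∀ l ∈ dodTriadNine, ∃ τ ∈ (⊤ : Subgroup (Equiv.Perm GolayPt)), Rep ptEnc τ l :=
    fun l hl => ⟨decode l, Subgroup.mem_top _, rep_decode (inTriad_spec (hnine l hl)).1⟩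
  let back : H →* ↥(⊤ : Subgroup (Equiv.Perm GolayPt)) :=
    MonoidHom.mk' (fun g => ⟨conjBack g, Subgroup.mem_top _⟩) fun g g' => Subtype.ext (hconj_mul g g')
  let N : Subgroup H := (packSub ⊤ ptEnc dodTriadNine hnineM dodTriadNine_closed).comap back
  have hN : ∀ g : H, g ∈ N ↔ conjBack g ∈ (dodTriadNine.map decode).toFinset := fun g => by
    show (∃ l ∈ dodTriadNine, Rep ptEnc (conjBack g) l) ↔ _
    rw [List.mem_toFinset, List.mem_map]
    exact exists_congr fun l => and_congr_right fun hl =>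
      rep_iff_eq_decode (inTriad_spec (hnine l hl)).1
  have hNcard : Nat.card N = 9 := by
    rw [← hlen9, ← count dodTriadNine helems9 hnine]
    exact Nat.card_congr (Equiv.subtypeEquivRight hN)
  have hNnormal : N.Normal := by
    refine ⟨fun n hn g => ?_⟩
    obtain ⟨b, hb, hrb⟩ := (hn : ∃ l ∈ dodTriadNine, Rep ptEnc (conjBack n) l)
    obtain ⟨a, ha, hra⟩ := hall g
    obtain ⟨c, hc, hsame⟩ := List.any_eq_true.1
      (List.all_eq_true.1 (List.all_eq_true.1 dodTriadNine_normal a ha) b hb)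
    rw [packMulS_eq, packMulS_eq] at hsame
    refine ⟨c, hc, ?_⟩
    have hrc := rep_decode (inTriad_spec (hnine c hc)).1
    have e : conjBack g * conjBack n = decode c * conjBack g :=
      ((rep_packMul hra hrb).of_same hsame).unique (rep_packMul hrc hra)
    have : conjBack (g * n * g⁻¹) = decode c := by
      have hinv : conjBack g⁻¹ = (conjBack g)⁻¹ := by simp [conjBack, mul_assoc]
      rw [hconj_mul, hconj_mul, hinv, e, mul_inv_cancel_right]
    show Rep ptEnc (conjBack (g * n * g⁻¹)) c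
    rw [this]
    exact hrc
  have : Fact (Nat.Prime 3) := ⟨Nat.prime_three⟩
  have : Fact (Nat.Prime 2) := ⟨Nat.prime_two⟩
  have hf : (Nat.factorization 72) 3 = 2 ∧ (Nat.factorization 72) 2 = 3 := by
    rw [show (72 : ℕ) = 2 ^ 3 * 3 ^ 2 from rfl,
      Nat.factorization_mul (by norm_num) (by norm_num), Nat.Prime.factorization_pow Nat.prime_two,
      Nat.Prime.factorization_pow Nat.prime_three]
    simp
  refine ⟨fun Q => ?_, fun P => ?_⟩
  · let Q₀ : Sylow 3 H := Sylow.ofCard N (by rw [hNcard, hcard, hf.1]; norm_num)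
    have : (Q₀ : Subgroup H).Normal := hNnormal
    obtain rfl : Q = Q₀ := by
      have := Sylow.unique_of_normal Q₀ ‹_›
      exact Subsingleton.elim _ _
    refine ⟨hNnormal, hNcard, fun x hx => ?_⟩
    obtain ⟨l, hl, hrep⟩ := (hx : ∃ l ∈ dodTriadNine, Rep ptEnc (conjBack x) l)
    have h1 := List.all_eq_true.1 dodTriadNine_cube l hl
    rw [packMulS_eq, packMulS_eq] at h1
    have hx3 : conjBack x * (conjBack x * conjBack x) = 1 :=
      (rep_packMul hrep (rep_packMul hrep hrep)).eq_one h1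
    refine hconj_inj ?_
    rw [pow_succ', pow_two, hconj_mul, hconj_mul, hx3]
    simp [conjBack]
  · have hqx : ∀ x : QuaternionGroup 2, dodTriadQ x ∈ dodTriadA ++ dodTriadX := by decide +kernel
    choose f hf' using fun x : QuaternionGroup 2 => hback _ (hq _ (hqx x))
    have hcb : ∀ x, conjBack (f x) = decode (dodTriadQ x) := fun x => by
      show σ⁻¹ * _ * σ = _
      rw [hf' x]
      group
    let ψ : QuaternionGroup 2 →* H := MonoidHom.mk' f fun x y => hconj_inj (by
      rw [hconj_mul, hcb, hcb, hcb]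
      have hr : ∀ z, Rep ptEnc (decode (dodTriadQ z)) (dodTriadQ z) := fun z =>
        rep_decode (inTriad_spec (hq _ (hqx z))).1
      have := dodTriadQ_mul x y
      rw [packMulS_eq] at this
      exact (hr (x * y)).unique ((rep_packMul (hr x) (hr y)).of_same this))
    have hinjQ : Function.Injective dodTriadQ := by decide +kernel
    have hψ : Function.Injective ψ := fun x y e => hinjQ <| by
      refine List.inj_on_of_nodup_map (elemsOK_spec helemsQ).2 (hqx x) (hqx y) ?_
      rw [← hcb, ← hcb]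
      exact congrArg conjBack e
    have hrange : Nat.card ψ.range = 8 := by
      rw [← Nat.card_congr (MonoidHom.ofInjective hψ).toEquiv, Nat.card_eq_fintype_card,
        QuaternionGroup.card]
    let P₀ : Sylow 2 H := Sylow.ofCard ψ.range (by rw [hrange, hcard, hf.2]; norm_num)
    exact ⟨(P.equiv P₀).trans (MonoidHom.ofInjective hψ).symm⟩

end Cfsg.Agent.Mathieu
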