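import Cfsg.Agent.Lib.Mathieu.StabOrbits
import Cfsg.Agent.Lib.Mathieu.DuumOrbData

/-!
Kernel checks for orbit certificates of stabilisers in `M₂₄`.
-/

set_option autoImplicit false
set_option maxRecDepth 20000

namespace Cfsg.Agent.Mathieu

open Cfsg

/-- The invariant of the `i`-th object, for `duumOnSext`. -/
def duumOnSextKey (i : ℕ) : ℕ := pairKey [dodMask, 16777215 ^^^ dodMask] (sextAt i)

theorem duumOnSext_gens :
    (gensOK duumOnSextGens && fixMasks duumOnSextGens [dodMask, 16777215 ^^^ dodMask]) = true := by
  decide +kernel

theorem duumOnSext_tree :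
    orbTreeOK actMasksT sextAt (duumOnSextGens.map Prod.snd) duumOnSextTree duumOnSextRoots 1771 = true := by
  decide +kernel

theorem duumOnSext_roots : (duumOnSextRoots.map duumOnSextKey).Nodup ∧
    (duumOnSextRoots.all fun r => r.blt 1771) = true := by
  decide +kernel

theorem duumOnSext_size :
    duumOnSextRoots.map (fun r => classSize duumOnSextKey r 1771) = [396, 495, 880] := by
  decide +kernel

end Cfsg.Agent.Mathieu
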