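import Cfsg.Agent.Lib.Mathieu.OrbitLists
import Cfsg.Agent.Lib.Mathieu.DuumOrbCheck

/-!
Orbits of the stabiliser of a pair of complementary dodecads on sextets.
-/

set_option autoImplicit false

namespace Cfsg.Agent.Mathieu

open Cfsg
open scoped Pointwise

/-- The base pair of dodecads. -/
def duumMasks : List ℕ := [dodMask, 16777215 ^^^ dodMask]

theorem canon_duum : canonList duumMasks = true := by decide +kernel

theorem duumOnSext_orbits :
    (∀ r ∈ duumOnSextRoots, sextKind.dec (sextKind.get r) ∈ sextets ∧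
      (MulAction.orbit ↥(stabM (setOfMasks duumMasks)) (sextKind.dec (sextKind.get r))).ncard =
        classSize duumOnSextKey r 1771 ∧
      ∀ x, x ∈ MulAction.orbit ↥(stabM (setOfMasks duumMasks)) (sextKind.dec (sextKind.get r)) ↔
        x ∈ sextets ∧ pairSig (setOfMasks duumMasks) x = duumOnSextKey r) ∧
    ∀ x ∈ sextets, ∃ r ∈ duumOnSextRoots,
      x ∈ MulAction.orbit ↥(stabM (setOfMasks duumMasks)) (sextKind.dec (sextKind.get r)) := by
  obtain ⟨hg, hf⟩ := Bool.and_eq_true_iff.1 duumOnSext_gens
  refine sextKind.orbits (setOfMasks duumMasks) hg (fix_of_fixMasks hf) (treeOK_lawful (κ := List ℕ) duumOnSext_tree) _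
    (sig_stab_set _) _ (fun i hi => ?_) duumOnSext_roots.1 duumOnSext_roots.2
  exact pairSig_setOfMasks canon_duum (sext_spec hi).2.1

theorem setOfMasks_duum :
    setOfMasks duumMasks = {Spor.squareDodecad, Finset.univ \ Spor.squareDodecad} := by
  have h : ptsOf (16777215 ^^^ dodMask) = Finset.univ \ ptsOf dodMask := by
    rw [ptsOf_xor, show (16777215 : ℕ) = 2 ^ 24 - 1 from rfl, ptsOf_full]
    ext p
    simp [Finset.mem_symmDiff]
  rw [squareDodecad_eq, ← h]
  simp only [setOfMasks, duumMasks, List.toFinset_cons, List.toFinset_nil, Finset.image_insert,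
    Finset.image_singleton, LawfulSingleton.insert_empty_eq]

theorem exists_map_duum {d : Finset GolayPt} (hd : d ∈ dodecads) :
    ∃ g ∈ M24, g • setOfMasks duumMasks = {d, Finset.univ \ d} := by
  obtain ⟨g, hg, rfl⟩ := M24_exists_map_square hd
  refine ⟨g, hg, ?_⟩
  have hc : ∀ D : Finset GolayPt, g • (Finset.univ \ D) = Finset.univ \ (g • D) := fun D => by
    ext p
    simp [mem_smul_pts]
  rw [setOfMasks_duum, Finset.smul_finset_insert, Finset.smul_finset_singleton,
    hc Spor.squareDodecad]

end Cfsg.Agent.Mathieu
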