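import Mathlib
import Cfsg.Agent.Lib.Mathieu.PermCert
import Cfsg.Agent.Lib.Coprime.Gaschutz

/-!
Certificates that an extension of a permutation group `H` by an elementary abelian 2-group `V`
splits.  Lifts of chosen elements of `H` multiply according to rewriting rules with unknown tails
in `V`.  Two derivations from the same word to the same word give a linear equation on the tails;
when all tails of a Sylow 2-subgroup can be adjusted to zero modulo these equations, the preimage
of that subgroup splits, and so does the extension by Gaschütz's theorem.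
-/

set_option autoImplicit false

namespace Cfsg.Agent.Mathieu.Ext

variable {d : ℕ}

/-- The coordinate space. -/
abbrev V (d : ℕ) := Fin d → ZMod 2

/-- The value of the linear form with coefficient mask `m` on the unknowns below `K`. -/
def evalMask (K : ℕ) (τ : ℕ → ZMod 2) (m : ℕ) : ZMod 2 :=
  ∑ k ∈ Finset.range K, if m.testBit k then τ k else 0

theorem evalMask_xor (K : ℕ) (τ : ℕ → ZMod 2) (a b : ℕ) :
    evalMask K τ (a ^^^ b) = evalMask K τ a + evalMask K τ b := by
  rw [evalMask, evalMask, evalMask, ← Finset.sum_add_distrib]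
  refine Finset.sum_congr rfl fun k _ => ?_
  rw [Nat.testBit_xor]
  rcases Bool.eq_false_or_eq_true (a.testBit k) with h | h <;>
    rcases Bool.eq_false_or_eq_true (b.testBit k) with h' | h' <;>
      simp [h, h', CharTwo.add_self_eq_zero]

theorem evalMask_zero (K : ℕ) (τ : ℕ → ZMod 2) : evalMask K τ 0 = 0 := by simp [evalMask]

theorem evalMask_two_pow (K : ℕ) (τ : ℕ → ZMod 2) {i : ℕ} (hi : i < K) :
    evalMask K τ (2 ^ i) = τ i := by
  rw [evalMask, Finset.sum_eq_single i]
  · simp
  · intro k _ hk; simp [Nat.testBit_two_pow, Ne.symm hk]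
  · intro h; exact absurd (Finset.mem_range.2 hi) h

/-- A list of forms evaluated. -/
def evalForms (K : ℕ) (τ : ℕ → ZMod 2) (f : List ℕ) : V d := fun r => evalMask K τ (f.getD r.val 0)

/-- The xor of the forms selected by the bits of `c`. -/
def xorSel : List ℕ → ℕ → ℕ
  | [], _ => 0
  | m :: ms, c => (if c.testBit 0 then m else 0) ^^^ xorSel ms (c >>> 1)

/-- The matrix with the given rows applied to a vector. -/
def matApply (rows : List ℕ) (x : V d) : V d := fun r =>
  ∑ j : Fin d, if (rows.getD r.val 0).testBit j.val then x j else 0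

/-- The matrix applied to forms. -/
def applyForms (d : ℕ) (rows f : List ℕ) : List ℕ :=
  (List.range d).map fun r => xorSel ((List.range d).map fun j => f.getD j 0) (rows.getD r 0)

theorem evalMask_xorSel (K : ℕ) (τ : ℕ → ZMod 2) : ∀ (ms : List ℕ) (c : ℕ),
    evalMask K τ (xorSel ms c) =
      ∑ j : Fin ms.length, if c.testBit j.val then evalMask K τ ms[j.val] else 0
  | [], c => by simp [xorSel, evalMask_zero]
  | m :: ms, c => by
    rw [xorSel, evalMask_xor, evalMask_xorSel K τ ms]
    simp only [List.length_cons]
    erw [Fin.sum_univ_succ]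
    congr 1
    · simp only [Fin.val_zero, List.getElem_cons_zero]
      by_cases h : c.testBit 0 = true
      · rw [if_pos h]; exact (if_pos h).symm
      · rw [if_neg h, evalMask_zero]; exact (if_neg h).symm
    · refine Finset.sum_congr rfl fun j _ => ?_
      simp [Nat.testBit_shiftRight, Nat.add_comm 1]

theorem evalForms_applyForms (K : ℕ) (τ : ℕ → ZMod 2) (rows f : List ℕ) :
    (evalForms K τ (applyForms d rows f) : V d) = matApply rows (evalForms K τ f) := by
  funext r
  simp only [evalForms, applyForms, matApply]
  rw [List.getD_eq_getElem _ _ (by simp [r.isLt]), List.getElem_map, List.getElem_range,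
    evalMask_xorSel]
  refine Fintype.sum_equiv (finCongr (by simp)) _ _ fun j => ?_
  simp

/-- Pointwise xor. -/
def addForms (d : ℕ) (f g : List ℕ) : List ℕ :=
  (List.range d).map fun r => f.getD r 0 ^^^ g.getD r 0

theorem evalForms_addForms (K : ℕ) (τ : ℕ → ZMod 2) (f g : List ℕ) :
    (evalForms K τ (addForms d f g) : V d) = evalForms K τ f + evalForms K τ g := by
  funext r
  simp only [evalForms, addForms, Pi.add_apply]
  rw [List.getD_eq_getElem _ _ (by simp [r.isLt]), List.getElem_map, List.getElem_range,
    evalMask_xor]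

theorem evalForms_nil (K : ℕ) (τ : ℕ → ZMod 2) : (evalForms K τ [] : V d) = 0 := by
  funext r; simp [evalForms, evalMask_zero]

/-- Certificate data: generators with their matrices and rewriting rules between words. -/
structure Pres where
  /-- packed generators -/
  gens : List ℕ
  /-- their matrices, by rows -/
  mats : List (List ℕ)
  /-- rules `L → R` -/
  rules : List (List ℕ × List ℕ)

/-- The unknown tail of rule number `k`. -/
def tailForms (d k : ℕ) : List ℕ := (List.range d).map fun r => 2 ^ (k * d + r)

/-- The action of a word on forms. -/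
def Pres.push (P : Pres) (d : ℕ) : List ℕ → List ℕ → List ℕ
  | [], f => f
  | i :: w, f => applyForms d (P.mats.getD i []) (P.push d w f)

/-- Replace the part `a` at position `p` by `b`. -/
def subst (w : List ℕ) (p : ℕ) (a b : List ℕ) : Option (List ℕ) :=
  if (w.drop p).take a.length == a then some (w.take p ++ b ++ w.drop (p + a.length)) else none

/-- Apply the steps `(position, rule, forwards)`. -/
def Pres.run (P : Pres) (d : ℕ) :
    List ℕ → List (ℕ × ℕ × Bool) → Option (List ℕ × List ℕ)
  | w, [] => some ([], w)
  | w, (p, k, fw) :: rest =>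
    match P.rules[k]? with
    | none => none
    | some r =>
      match (if fw then subst w p r.1 r.2 else subst w p r.2 r.1) with
      | none => none
      | some w' =>
        match P.run d w' rest with
        | none => none
        | some (f, z) => some (addForms d (P.push d (w.take p) (tailForms d k)) f, z)

/-- The packed product of a word. -/
def Pres.prod (P : Pres) (n : ℕ) : List ℕ → ℕ
  | [] => packId n
  | i :: w => packMul n (P.gens.getD i 0) (P.prod n w)

/-- The rules hold in the group, and the matrices are correct. -/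
def Pres.ok (P : Pres) (n : ℕ) (memH : ℕ → Bool) (matOK : ℕ → List ℕ → Bool) : Bool :=
  P.gens.all (permOK n) && P.gens.all memH && (P.mats.length == P.gens.length) &&
    (List.range P.gens.length).all (fun i => matOK (P.gens.getD i 0) (P.mats.getD i [])) &&
    P.rules.all fun r => r.1.all (fun i => decide (i < P.gens.length)) &&
      r.2.all (fun i => decide (i < P.gens.length)) &&
      (List.range n).all fun x => app (P.prod n r.1) x == app (P.prod n r.2) x

/-- Equations: words with two derivations of the same word. -/
def Pres.eqMasks (P : Pres) (d : ℕ) :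
    List (List ℕ × List (ℕ × ℕ × Bool) × List (ℕ × ℕ × Bool)) → Option (List ℕ)
  | [] => some []
  | (w, s₁, s₂) :: rest =>
    match P.run d w s₁, P.run d w s₂, P.eqMasks d rest with
    | some (f₁, z₁), some (f₂, z₂), some ms =>
      if z₁ == z₂ then
        some (((List.range d).map fun r => f₁.getD r 0 ^^^ f₂.getD r 0) ++ ms)
      else none
    | _, _, _ => none

/-- Certificate that the tails of the first `sylRules` rules can be adjusted to zero. -/
structure SplitCert where
  /-- the data -/
  pres : Pres
  /-- the number of rules of the Sylow subgroup -/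
  sylRules : ℕ
  /-- the number of its generators -/
  sylGens : ℕ
  /-- the equations -/
  eqs : List (List ℕ × List (ℕ × ℕ × Bool) × List (ℕ × ℕ × Bool))
  /-- their masks, followed by the masks assumed to vanish -/
  masks : List ℕ
  /-- the adjustment of the generators of the Sylow subgroup -/
  adj : List (List ℕ)
  /-- for each adjusted tail, the selection of masks summing to it -/
  sel : List (List ℕ)
  /-- the normal words -/
  words : List (List ℕ)
  /-- for each normal word and generator, a derivation of a normal word -/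
  closing : List (List (List (ℕ × ℕ × Bool) × ℕ))

/-- The change of the lift of a word. -/
def SplitCert.offset (C : SplitCert) (d : ℕ) : List ℕ → List ℕ
  | [] => []
  | i :: w => addForms d (C.adj.getD i []) (applyForms d (C.pres.mats.getD i []) (C.offset d w))

/-- The adjusted tail of rule `k`. -/
def SplitCert.newTail (C : SplitCert) (d k : ℕ) : List ℕ :=
  addForms d (tailForms d k)
    (addForms d (C.offset d (C.pres.rules.getD k ([], [])).1) (C.offset d (C.pres.rules.getD k ([], [])).2))

/-- The part of the checks concerning the linear algebra. -/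
def SplitCert.linOK (C : SplitCert) (d : ℕ) (extra : List ℕ) : Bool :=
  (match C.pres.eqMasks d C.eqs with
    | some ms => ms ++ extra == C.masks
    | none => false) &&
    (List.range C.sylRules).all fun k => (List.range d).all fun r =>
      xorSel C.masks ((C.sel.getD k []).getD r 0) == (C.newTail d k).getD r 0

/-- The part of the checks concerning the Sylow subgroup. -/
def SplitCert.sylOK (C : SplitCert) (n : ℕ) : Bool :=
  decide (C.sylRules ≤ C.pres.rules.length) && decide (C.sylGens ≤ C.pres.gens.length) &&
    (C.pres.rules.take C.sylRules).all (fun r => r.1.all (fun i => decide (i < C.sylGens)) &&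
      r.2.all fun i => decide (i < C.sylGens)) &&
    C.words.contains [] &&
    C.words.all (fun w => w.all fun i => decide (i < C.sylGens)) &&
    (List.range C.words.length).all (fun a => (List.range C.sylGens).all fun i =>
      ((C.closing.getD a []).getD i ([], 0)).1.all (fun s => decide (s.2.1 < C.sylRules)) &&
        match C.pres.run 0 (C.words.getD a [] ++ [i]) ((C.closing.getD a []).getD i ([], 0)).1 with
        | some (_, z) => decide (((C.closing.getD a []).getD i ([], 0)).2 < C.words.length) &&
            z == C.words.getD ((C.closing.getD a []).getD i ([], 0)).2 []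
        | none => false) &&
    (List.range C.words.length).all fun a => (List.range a).all fun b =>
      !((List.range n).all fun x =>
        app (C.pres.prod n (C.words.getD a [])) x == app (C.pres.prod n (C.words.getD b [])) x)

section Soundness

variable {α : Type*} {n : ℕ} {e : α ≃ Fin n} {H : Subgroup (Equiv.Perm α)}
  {E : Type*} [Group E]

/-- The product of the lifts along a word. -/
def liftW (ls : ℕ → E) (w : List ℕ) : E := (w.map ls).prod

theorem liftW_append (ls : ℕ → E) (a b : List ℕ) : liftW ls (a ++ b) = liftW ls a * liftW ls b := by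
  simp [liftW]

theorem liftW_cons (ls : ℕ → E) (i : ℕ) (w : List ℕ) : liftW ls (i :: w) = ls i * liftW ls w := by
  simp [liftW]

/-- An extension of `H` by `V d`. -/
structure ExtData (H : Subgroup (Equiv.Perm α)) (E : Type*) [Group E] (d : ℕ) where
  /-- the projection -/
  π : E →* H
  /-- the module -/
  ν : V d → E
  ν_add : ∀ x y, ν (x + y) = ν x * ν y
  ν_inj : Function.Injective ν
  surj : Function.Surjective π
  range_eq : ∀ g : E, π g = 1 ↔ ∃ x, ν x = g

variable (X : ExtData H E d)

theorem ExtData.ν_zero : X.ν 0 = 1 := by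
  have := X.ν_add 0 0
  rwa [add_zero, left_eq_mul] at this

theorem ExtData.π_ν (x : V d) : X.π (X.ν x) = 1 := (X.range_eq _).2 ⟨x, rfl⟩

theorem ExtData.ν_inv (x : V d) : (X.ν x)⁻¹ = X.ν x := by
  rw [inv_eq_iff_mul_eq_one, ← X.ν_add, ← X.ν_zero]
  congr 1
  funext r
  exact CharTwo.add_self_eq_zero _

/-- Equivariance with respect to the checked matrices. -/
def ExtData.Equivariant (e : α ≃ Fin n) (matOK : ℕ → List ℕ → Bool) : Prop :=
  ∀ (g : E) (l : ℕ) (M : List ℕ), Rep e (X.π g : Equiv.Perm α) l → matOK l M = true →
    ∀ x, g * X.ν x * g⁻¹ = X.ν (matApply M x)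

/-- Lifts of the generators with the tails of the rules. -/
structure Lifts (P : Pres) (e : α ≃ Fin n) (ls : ℕ → E) (τ : ℕ → ZMod 2) : Prop where
  rep : ∀ i, i < P.gens.length → Rep e (X.π (ls i) : Equiv.Perm α) (P.gens.getD i 0)
  rule : ∀ k, ∀ h : k < P.rules.length, liftW ls P.rules[k].1 =
    X.ν (fun r => τ (k * d + r.val)) * liftW ls P.rules[k].2

variable {X} {P : Pres} {memH : ℕ → Bool} {matOK : ℕ → List ℕ → Bool}

theorem rep_liftW (hn : n ≤ 256) {ls : ℕ → E}
    (hrep : ∀ i, i < P.gens.length → Rep e (X.π (ls i) : Equiv.Perm α) (P.gens.getD i 0)) :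
    ∀ w : List ℕ, (∀ i ∈ w, i < P.gens.length) →
      Rep e (X.π (liftW ls w) : Equiv.Perm α) (P.prod n w) := by
  intro w
  induction w with
  | nil => intro _; simpa [liftW, Pres.prod] using rep_packId (e := e) hn
  | cons i w ih =>
    intro hw
    rw [liftW_cons, map_mul, Subgroup.coe_mul]
    exact rep_packMul (hrep i (hw i List.mem_cons_self))
      (ih fun j hj => hw j (List.mem_cons_of_mem _ hj))

/-- Lifts exist. -/
theorem exists_lifts (hn : n ≤ 256) (hmem : ∀ σ g, Rep e σ g → memH g = true → σ ∈ H)
    (X : ExtData H E d) (hok : P.ok n memH matOK = true) :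
    ∃ ls τ, Lifts X P e ls τ := by
  simp only [Pres.ok, Bool.and_eq_true, List.all_eq_true, decide_eq_true_eq, beq_iff_eq,
    List.mem_range] at hok
  obtain ⟨⟨⟨⟨hperm, hgm⟩, -⟩, -⟩, hrules⟩ := hok
  have hg : ∀ i, ∃ g : E, i < P.gens.length → Rep e (X.π g : Equiv.Perm α) (P.gens.getD i 0) := by
    intro i
    by_cases hi : i < P.gens.length
    · have hmi : P.gens.getD i 0 ∈ P.gens := by
        rw [List.getD_eq_getElem _ _ hi]; exact List.getElem_mem _
      obtain ⟨σ, hσ⟩ := exists_rep (e := e) (hperm _ hmi)
      obtain ⟨g, hg⟩ := X.surj ⟨σ, hmem σ _ hσ (hgm _ hmi)⟩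
      exact ⟨g, fun _ => by rw [hg]; exact hσ⟩
    · exact ⟨1, fun h => absurd h hi⟩
  choose ls hls using hg
  have hrep : ∀ i, i < P.gens.length → Rep e (X.π (ls i) : Equiv.Perm α) (P.gens.getD i 0) := hls
  have htail : ∀ k, ∃ x : V d, ∀ h : k < P.rules.length,
      liftW ls P.rules[k].1 = X.ν x * liftW ls P.rules[k].2 := by
    intro k
    by_cases hk : k < P.rules.length
    · obtain ⟨⟨h1, h2⟩, hp⟩ := hrules _ (List.getElem_mem hk)
      have heq : X.π (liftW ls P.rules[k].1) = X.π (liftW ls P.rules[k].2) := by
        refine Subtype.ext ((rep_liftW hn hrep _ h1).unique ?_)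
        intro x
        rw [rep_liftW hn hrep _ h2 x, hp _ (e x).isLt]
      obtain ⟨x, hx⟩ := (X.range_eq (liftW ls P.rules[k].1 * (liftW ls P.rules[k].2)⁻¹)).1
        (by rw [map_mul, map_inv, heq, mul_inv_cancel])
      exact ⟨x, fun _ => by rw [hx, inv_mul_cancel_right]⟩
    · exact ⟨0, fun h => absurd h hk⟩
  choose t ht using htail
  refine ⟨ls, fun j => if h : 0 < d then t (j / d) ⟨j % d, Nat.mod_lt _ h⟩ else 0, hrep, fun k hk => ?_⟩
  rw [ht k hk]
  congr 2
  funext r
  have hd : 0 < d := r.pos
  rw [dif_pos hd]
  have h1 : (k * d + r.val) / d = k := by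
    rw [Nat.mul_comm, Nat.mul_add_div hd, Nat.div_eq_of_lt r.isLt, Nat.add_zero]
  have h2 : (⟨(k * d + r.val) % d, Nat.mod_lt _ hd⟩ : Fin d) = r :=
    Fin.ext (by rw [Nat.mul_comm]; simp [Nat.mul_add_mod, Nat.mod_eq_of_lt r.isLt])
  rw [h2, h1]

theorem matOK_of_ok (hok : P.ok n memH matOK = true) {i : ℕ} (hi : i < P.gens.length) :
    matOK (P.gens.getD i 0) (P.mats.getD i []) = true := by
  simp only [Pres.ok, Bool.and_eq_true, List.all_eq_true, List.mem_range] at hok
  exact hok.1.2 i hi

theorem rules_lt (hok : P.ok n memH matOK = true) {k : ℕ} (hk : k < P.rules.length) :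
    (∀ i ∈ P.rules[k].1, i < P.gens.length) ∧ ∀ i ∈ P.rules[k].2, i < P.gens.length := by
  simp only [Pres.ok, Bool.and_eq_true, List.all_eq_true, decide_eq_true_eq] at hok
  exact (hok.2 _ (List.getElem_mem hk)).1

theorem push_sound {K : ℕ} {ls : ℕ → E} {τ : ℕ → ZMod 2} (hL : Lifts X P e ls τ)
    (heq : X.Equivariant e matOK) (hok : P.ok n memH matOK = true) :
    ∀ (w f : List ℕ), (∀ i ∈ w, i < P.gens.length) →
      liftW ls w * X.ν (evalForms K τ f) = X.ν (evalForms K τ (P.push d w f)) * liftW ls w := by
  intro w
  induction w with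
  | nil => intro f _; simp [Pres.push, liftW]
  | cons i w ih =>
    intro f hw
    have hi := hw i List.mem_cons_self
    rw [Pres.push, evalForms_applyForms, ← heq (ls i) _ _ (hL.rep i hi) (matOK_of_ok hok hi),
      liftW_cons]
    rw [mul_assoc (ls i), ih f fun j hj => hw j (List.mem_cons_of_mem _ hj)]
    group

theorem run_sound {K : ℕ} {ls : ℕ → E} {τ : ℕ → ZMod 2} (hL : Lifts X P e ls τ)
    (heq : X.Equivariant e matOK) (hok : P.ok n memH matOK = true)
    (hK : P.rules.length * d ≤ K) :
    ∀ (steps : List (ℕ × ℕ × Bool)) (w : List ℕ) (f z : List ℕ),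
      (∀ i ∈ w, i < P.gens.length) → P.run d w steps = some (f, z) →
      liftW ls w = X.ν (evalForms K τ f) * liftW ls z := by
  intro steps
  induction steps with
  | nil =>
    intro w f z _ h
    simp only [Pres.run, Option.some.injEq, Prod.mk.injEq] at h
    obtain ⟨rfl, rfl⟩ := h
    rw [evalForms_nil, X.ν_zero, one_mul]
  | cons s rest ih =>
    obtain ⟨p, k, fw⟩ := s
    intro w f z hw h
    simp only [Pres.run] at h
    rcases hk : P.rules[k]? with _ | r
    · simp [hk] at h
    obtain ⟨hk', rfl⟩ := List.getElem?_eq_some_iff.1 hk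
    simp only [hk] at h
    set a := if fw then P.rules[k].1 else P.rules[k].2 with ha
    set b := if fw then P.rules[k].2 else P.rules[k].1 with hb
    have hsub : (if fw then subst w p P.rules[k].1 P.rules[k].2
        else subst w p P.rules[k].2 P.rules[k].1) = subst w p a b := by
      rw [ha, hb]; cases fw <;> simp
    rw [hsub] at h
    rcases hs : subst w p a b with _ | w'
    · simp [hs] at h
    simp only [hs] at h
    simp only [subst] at hs
    split at hs
    swap; · simp at hs
    next hta =>
    rw [beq_iff_eq] at hta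
    simp only [Option.some.injEq] at hs
    rcases hr : P.run d w' rest with _ | ⟨f', z'⟩
    · simp [hr] at h
    simp only [hr, Option.some.injEq, Prod.mk.injEq] at h
    obtain ⟨rfl, rfl⟩ := h
    have hwsplit : w = w.take p ++ a ++ w.drop (p + a.length) := by
      conv_lhs => rw [← List.take_append_drop p w, ← List.take_append_drop a.length (w.drop p)]
      rw [hta, List.drop_drop, List.append_assoc]
    obtain ⟨hl1, hl2⟩ := rules_lt hok hk'
    have hw' : ∀ i ∈ w', i < P.gens.length := by
      rw [← hs]
      intro i hi
      rcases List.mem_append.1 hi with hi | hi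
      · rcases List.mem_append.1 hi with hi | hi
        · exact hw i (List.mem_of_mem_take hi)
        · rw [hb] at hi; cases fw
          · exact hl1 i (by simpa using hi)
          · exact hl2 i (by simpa using hi)
      · exact hw i (List.mem_of_mem_drop hi)
    have hab : liftW ls a = X.ν (evalForms K τ (tailForms d k)) * liftW ls b := by
      have ht : (evalForms K τ (tailForms d k) : V d) = fun r => τ (k * d + r.val) := by
        funext r
        simp only [evalForms, tailForms]
        rw [List.getD_eq_getElem _ _ (by simp [r.isLt]), List.getElem_map, List.getElem_range]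
        refine evalMask_two_pow K τ (lt_of_lt_of_le ?_ hK)
        calc k * d + r.val < k * d + d := Nat.add_lt_add_left r.isLt _
          _ = (k + 1) * d := by ring
          _ ≤ P.rules.length * d := Nat.mul_le_mul_right d hk'
      rw [ht, ha, hb]
      cases fw
      · simp only [Bool.false_eq_true, if_false]
        have hdd : ∀ x : V d, x + x = 0 := fun x => by
          funext r; exact CharTwo.add_self_eq_zero _
        rw [hL.rule k hk', ← mul_assoc, ← X.ν_add, hdd, X.ν_zero, one_mul]
      · simp only [if_true]
        exact hL.rule k hk'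
    have hpre : ∀ i ∈ w.take p, i < P.gens.length := fun i hi => hw i (List.mem_of_mem_take hi)
    conv_lhs => rw [hwsplit, liftW_append, liftW_append, hab, ← mul_assoc (liftW ls (w.take p)),
      push_sound hL heq hok _ _ hpre, mul_assoc _ (liftW ls (w.take p)), ← liftW_append,
      mul_assoc (X.ν _), ← liftW_append]
    rw [hs, ih w' f' z' hw' hr, ← mul_assoc, ← X.ν_add, evalForms_addForms]

theorem eqMasks_sound {K : ℕ} {ls : ℕ → E} {τ : ℕ → ZMod 2} (hL : Lifts X P e ls τ)
    (heq : X.Equivariant e matOK) (hok : P.ok n memH matOK = true)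
    (hK : P.rules.length * d ≤ K) :
    ∀ (eqs : List (List ℕ × List (ℕ × ℕ × Bool) × List (ℕ × ℕ × Bool))) (ms : List ℕ),
      (∀ q ∈ eqs, ∀ i ∈ q.1, i < P.gens.length) → P.eqMasks d eqs = some ms →
      ∀ m ∈ ms, evalMask K τ m = 0 := by
  intro eqs
  induction eqs with
  | nil =>
    intro ms _ h m hm
    simp only [Pres.eqMasks, Option.some.injEq] at h
    subst h; simp at hm
  | cons q rest ih =>
    obtain ⟨w, s₁, s₂⟩ := q
    intro ms hw h m hm
    simp only [Pres.eqMasks] at h
    rcases h1 : P.run d w s₁ with _ | ⟨f₁, z₁⟩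
    · simp [h1] at h
    rcases h2 : P.run d w s₂ with _ | ⟨f₂, z₂⟩
    · simp [h1, h2] at h
    rcases h3 : P.eqMasks d rest with _ | ms'
    · simp [h1, h2, h3] at h
    simp only [h1, h2, h3] at h
    split at h
    swap; · simp at h
    next hz =>
    rw [beq_iff_eq] at hz
    subst hz
    simp only [Option.some.injEq] at h
    subst h
    rcases List.mem_append.1 hm with hm | hm
    · obtain ⟨r, hr, rfl⟩ := List.mem_map.1 hm
      have hwq := hw _ List.mem_cons_self
      have e1 := run_sound hL heq hok hK s₁ w f₁ z₁ hwq h1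
      rw [run_sound hL heq hok hK s₂ w f₂ z₁ hwq h2] at e1
      have := congrFun (X.ν_inj (mul_right_cancel e1)) ⟨r, List.mem_range.1 hr⟩
      simp only [evalForms] at this
      rw [evalMask_xor, this, CharTwo.add_self_eq_zero]
    · exact ih ms' (fun q hq => hw q (List.mem_cons_of_mem _ hq)) h3 m hm

theorem liftW_mul_adj {K : ℕ} {ls : ℕ → E} {τ : ℕ → ZMod 2} {C : SplitCert}
    (hL : Lifts X C.pres e ls τ) (heq : X.Equivariant e matOK)
    (hok : C.pres.ok n memH matOK = true) :
    ∀ w : List ℕ, (∀ i ∈ w, i < C.pres.gens.length) →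
      liftW (fun i => X.ν (evalForms K τ (C.adj.getD i [])) * ls i) w =
        X.ν (evalForms K τ (C.offset d w)) * liftW ls w := by
  intro w
  induction w with
  | nil => intro _; simp [SplitCert.offset, liftW, evalForms_nil, X.ν_zero]
  | cons i w ih =>
    intro hw
    have hi := hw i List.mem_cons_self
    rw [liftW_cons, liftW_cons, ih fun j hj => hw j (List.mem_cons_of_mem _ hj), SplitCert.offset,
      evalForms_addForms, evalForms_applyForms, X.ν_add,
      ← heq (ls i) _ _ (hL.rep i hi) (matOK_of_ok hok hi)]
    group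

/-- The extension splits. -/
theorem exists_complement [Finite E] (hn : n ≤ 256) [Finite α] {C : SplitCert} {ls : ℕ → E}
    {τ : ℕ → ZMod 2} (hL : Lifts X C.pres e ls τ) (heq : X.Equivariant e matOK)
    (hok : C.pres.ok n memH matOK = true) (hsyl : C.sylOK n = true) {extra : List ℕ}
    (hlin : C.linOK d extra = true)
    (heqs : (C.eqs.all fun q => q.1.all fun i => decide (i < C.pres.gens.length)) = true)
    (hextra : ∀ m ∈ extra, evalMask (C.pres.rules.length * d) τ m = 0)
    (hsize : ∃ k : ℕ, C.words.length = 2 ^ k ∧ ∃ m, Odd m ∧ Nat.card H = 2 ^ k * m) :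
    ∃ K : Subgroup E, Subgroup.IsComplement' X.π.ker K := by
  classical
  set K := C.pres.rules.length * d with hKdef
  simp only [SplitCert.linOK, Bool.and_eq_true, List.all_eq_true, List.mem_range, beq_iff_eq]
    at hlin
  obtain ⟨hms, hsel⟩ := hlin
  rcases hm : C.pres.eqMasks d C.eqs with _ | ms
  · simp [hm] at hms
  simp only [hm, beq_iff_eq] at hms
  simp only [List.all_eq_true, decide_eq_true_eq] at heqs
  have hmask : ∀ m ∈ C.masks, evalMask K τ m = 0 := by
    intro m hm'
    rw [← hms] at hm'
    rcases List.mem_append.1 hm' with h | h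
    · exact eqMasks_sound hL heq hok le_rfl C.eqs ms heqs hm m h
    · exact hextra m h
  simp only [SplitCert.sylOK, Bool.and_eq_true, List.all_eq_true, decide_eq_true_eq,
    List.mem_range, List.contains_iff_mem] at hsyl
  obtain ⟨⟨⟨⟨⟨⟨hsr, hsg⟩, hsrule⟩, hnil⟩, hwords⟩, hclose⟩, hnd⟩ := hsyl
  set ls' : ℕ → E := fun i => X.ν (evalForms K τ (C.adj.getD i [])) * ls i with hls'
  have hπ' : ∀ i, X.π (ls' i) = X.π (ls i) := fun i => by
    simp [hls', map_mul, X.π_ν]
  have hrule' : ∀ k, k < C.sylRules → ∀ h : k < C.pres.rules.length,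
      liftW ls' C.pres.rules[k].1 = liftW ls' C.pres.rules[k].2 := by
    intro k hk hk'
    obtain ⟨h1, h2⟩ := rules_lt hok hk'
    rw [liftW_mul_adj hL heq hok _ h1, liftW_mul_adj hL heq hok _ h2, hL.rule k hk', ← mul_assoc,
      ← X.ν_add]
    congr 2
    have hnew : (evalForms K τ (C.newTail d k) : V d) = 0 := by
      funext r
      simp only [evalForms]
      rw [← hsel k hk r.val r.isLt, evalMask_xorSel]
      refine Finset.sum_eq_zero fun j _ => ?_
      split_ifs
      · exact hmask _ (List.getElem_mem _)
      · rfl
    have ht : (evalForms K τ (tailForms d k) : V d) = fun r => τ (k * d + r.val) := by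
      funext r
      simp only [evalForms, tailForms]
      rw [List.getD_eq_getElem _ _ (by simp [r.isLt]), List.getElem_map, List.getElem_range]
      refine evalMask_two_pow K τ ?_
      calc k * d + r.val < k * d + d := Nat.add_lt_add_left r.isLt _
        _ = (k + 1) * d := by ring
        _ ≤ C.pres.rules.length * d := Nat.mul_le_mul_right d hk'
    rw [SplitCert.newTail, List.getD_eq_getElem _ _ hk', evalForms_addForms, evalForms_addForms,
      ht] at hnew
    funext r
    have hr := congrFun hnew r
    simp only [Pi.add_apply, Pi.zero_apply] at hr ⊢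
    rw [CharTwo.add_eq_zero] at hr
    rw [hr, ← add_assoc, CharTwo.add_self_eq_zero, zero_add]
  -- derivations with the Sylow rules preserve the adjusted lifts
  have hrun : ∀ (steps : List (ℕ × ℕ × Bool)) (w f z : List ℕ),
      (∀ s ∈ steps, s.2.1 < C.sylRules) → C.pres.run 0 w steps = some (f, z) →
      liftW ls' w = liftW ls' z := by
    intro steps
    induction steps with
    | nil =>
      intro w f z _ h
      simp only [Pres.run, Option.some.injEq, Prod.mk.injEq] at h
      rw [h.2]
    | cons s rest ih =>
      obtain ⟨p, k, fw⟩ := s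
      intro w f z hs h
      have hk := hs _ List.mem_cons_self
      simp only [Pres.run] at h
      have hk' : k < C.pres.rules.length := lt_of_lt_of_le hk hsr
      simp only [List.getElem?_eq_getElem hk'] at h
      set a := if fw then C.pres.rules[k].1 else C.pres.rules[k].2 with ha
      set b := if fw then C.pres.rules[k].2 else C.pres.rules[k].1 with hb
      have hsub : (if fw then subst w p C.pres.rules[k].1 C.pres.rules[k].2
          else subst w p C.pres.rules[k].2 C.pres.rules[k].1) = subst w p a b := by
        rw [ha, hb]; cases fw <;> simp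
      rw [hsub] at h
      rcases hw' : subst w p a b with _ | w'
      · simp [hw'] at h
      simp only [hw'] at h
      simp only [subst] at hw'
      split at hw'
      swap; · simp at hw'
      next hta =>
      rw [beq_iff_eq] at hta
      simp only [Option.some.injEq] at hw'
      rcases hr : C.pres.run 0 w' rest with _ | ⟨f', z'⟩
      · simp [hr] at h
      simp only [hr, Option.some.injEq, Prod.mk.injEq] at h
      obtain ⟨-, rfl⟩ := h
      have hab : liftW ls' a = liftW ls' b := by
        rw [ha, hb]; cases fw
        · simpa using (hrule' k hk hk').symm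
        · simpa using hrule' k hk hk'
      have hwsplit : w = w.take p ++ a ++ w.drop (p + a.length) := by
        conv_lhs => rw [← List.take_append_drop p w, ← List.take_append_drop a.length (w.drop p)]
        rw [hta, List.drop_drop, List.append_assoc]
      rw [← ih w' f' z' (fun s hs' => hs s (List.mem_cons_of_mem _ hs')) hr, ← hw',
        hwsplit, liftW_append, liftW_append, hab, ← liftW_append, ← liftW_append, ← hwsplit]
  -- the subgroup of normal words
  let A₀ : Set E := {g | ∃ w ∈ C.words, liftW ls' w = g}
  have hstep : ∀ g ∈ A₀, ∀ i, i < C.sylGens → g * ls' i ∈ A₀ := by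
    rintro g ⟨w, hw, rfl⟩ i hi
    obtain ⟨a, ha, rfl⟩ := List.mem_iff_getElem.1 hw
    obtain ⟨hks, hz⟩ := hclose a ha i hi
    rcases hr : C.pres.run 0 (C.words.getD a [] ++ [i])
        ((C.closing.getD a []).getD i ([], 0)).1 with _ | ⟨f, z⟩
    · rw [hr] at hz; simp at hz
    rw [hr] at hz
    simp only [Bool.and_eq_true, decide_eq_true_eq, beq_iff_eq] at hz
    refine ⟨z, hz.2 ▸ ?_, ?_⟩
    · rw [List.getD_eq_getElem _ _ hz.1]; exact List.getElem_mem _
    · rw [← hrun _ _ _ _ hks hr, List.getD_eq_getElem _ _ ha, liftW_append]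
      simp [liftW]
  have hA0 : (1 : E) ∈ A₀ := ⟨[], hnil, rfl⟩
  have hclosed : ∀ g ∈ A₀, ∀ h ∈ A₀, g * h ∈ A₀ := by
    rintro g hg h ⟨w, hw, rfl⟩
    have hwi := hwords w hw
    clear hw
    induction w generalizing g with
    | nil => simpa [liftW] using hg
    | cons i w ih =>
      rw [liftW_cons, ← mul_assoc]
      exact ih _ (hstep g hg i (hwi i List.mem_cons_self))
        fun j hj => hwi j (List.mem_cons_of_mem _ hj)
  let AM : Submonoid E := { carrier := A₀, one_mem' := hA0, mul_mem' := fun ha hb => hclosed _ ha _ hb }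
  let A : Subgroup E :=
    { AM with
      inv_mem' := fun {g} hg => by
        obtain ⟨m, hm⟩ := (Nat.exists_eq_succ_of_ne_zero (orderOf_pos g).ne')
        have : g⁻¹ = g ^ m := by
          rw [inv_eq_iff_mul_eq_one, ← pow_succ', ← Nat.succ_eq_add_one, ← hm, pow_orderOf_eq_one]
        rw [this]; exact pow_mem (S := AM) hg m }
  have hcardA : Nat.card A ≤ C.words.length := by
    have hf : ∀ g : A, ∃ i : Fin C.words.length, liftW ls' C.words[i.val] = g := by
      rintro ⟨g, w, hw, hwg⟩
      obtain ⟨a, ha, rfl⟩ := List.mem_iff_getElem.1 hw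
      exact ⟨⟨a, ha⟩, hwg⟩
    choose f hf using hf
    calc Nat.card A ≤ Nat.card (Fin C.words.length) :=
          Nat.card_le_card_of_injective f fun a b hab => Subtype.ext (by rw [← hf a, ← hf b, hab])
      _ = C.words.length := Nat.card_fin _
  have hrep' : ∀ i, i < C.pres.gens.length →
      Rep e (X.π (ls' i) : Equiv.Perm α) (C.pres.gens.getD i 0) := fun i hi => by
    rw [hπ']; exact hL.rep i hi
  have himg : C.words.length ≤ Nat.card (A.map X.π) := by
    have hg : ∀ i : Fin C.words.length, X.π (liftW ls' C.words[i.val]) ∈ A.map X.π := fun i =>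
      Subgroup.mem_map_of_mem X.π ⟨_, List.getElem_mem _, rfl⟩
    calc C.words.length = Nat.card (Fin C.words.length) := (Nat.card_fin _).symm
      _ ≤ Nat.card (A.map X.π) :=
        Nat.card_le_card_of_injective (fun i => ⟨_, hg i⟩) fun i j hij => by
          have hr : ∀ k : Fin C.words.length, Rep e (X.π (liftW ls' C.words[k.val]) : Equiv.Perm α)
              (C.pres.prod n C.words[k.val]) := fun k => rep_liftW hn hrep' _ fun x hx =>
            lt_of_lt_of_le (hwords _ (List.getElem_mem _) x hx) hsg
          have e1 := congrArg (fun q : A.map X.π => ((q : H) : Equiv.Perm α)) hij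
          simp only at e1
          have key : ∀ a b : Fin C.words.length, b.val < a.val →
              (X.π (liftW ls' C.words[a.val]) : Equiv.Perm α) ≠
                (X.π (liftW ls' C.words[b.val]) : Equiv.Perm α) := by
            intro a b hba heq
            have h3 := hnd a a.isLt b hba
            simp only [Bool.not_eq_eq_eq_not, Bool.not_true, List.all_eq_false, List.mem_range,
              beq_iff_eq] at h3
            obtain ⟨x, hx, hne⟩ := h3
            rw [List.getD_eq_getElem _ _ a.isLt, List.getD_eq_getElem _ _ b.isLt] at hne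
            refine hne ?_
            have h1 := hr a (e.symm ⟨x, hx⟩)
            have h2 := hr b (e.symm ⟨x, hx⟩)
            rw [heq] at h1
            rw [h1, e.apply_symm_apply] at h2
            exact h2
          rcases lt_trichotomy i.val j.val with h | h | h
          · exact absurd e1.symm (key j i h)
          · exact Fin.ext h
          · exact absurd e1 (key i j h)
  obtain ⟨k, hk, m, hm, hH⟩ := hsize
  have hcA : Nat.card A = 2 ^ k := le_antisymm (hk ▸ hcardA)
    (hk ▸ himg.trans (Nat.le_of_dvd Nat.card_pos (Subgroup.card_map_dvd _ _)))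
  have hcI : Nat.card (A.map X.π) = 2 ^ k := le_antisymm
    (hcA ▸ Nat.le_of_dvd Nat.card_pos (Subgroup.card_map_dvd _ _)) (hk ▸ himg)
  have hAK : A ⊓ X.π.ker = ⊥ := by
    have h := Subgroup.card_mul_index (X.π.ker.subgroupOf A)
    rw [← Subgroup.relIndex, Subgroup.relIndex_ker] at h
    rw [hcI, hcA] at h
    have h1 : Nat.card (X.π.ker.subgroupOf A) = 1 := by
      have : 0 < 2 ^ k := by positivity
      exact Nat.eq_of_mul_eq_mul_right this (by rw [h, one_mul])
    rw [eq_bot_iff]
    intro g hg
    have := Subgroup.card_eq_one.1 h1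
    have hg' : (⟨g, hg.1⟩ : A) ∈ X.π.ker.subgroupOf A := hg.2
    rw [this, Subgroup.mem_bot] at hg'
    exact congrArg Subtype.val hg'
  haveI : IsMulCommutative X.π.ker :=
    ⟨⟨fun a b => by
      obtain ⟨x, hx⟩ := (X.range_eq a.1).1 a.2
      obtain ⟨y, hy⟩ := (X.range_eq b.1).1 b.2
      refine Subtype.ext ?_
      rw [Subgroup.coe_mul, Subgroup.coe_mul, ← hx, ← hy, ← X.ν_add, ← X.ν_add, add_comm]⟩⟩
  refine Coprime.exists_complement_of_gaschutz X.π.ker (X.π.ker ⊔ A) le_sup_left ?_
    A le_sup_right hAK rfl
  have h2 : (X.π.ker ⊔ A).index = m := by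
    have h3 : X.π.ker ⊔ A = (A.map X.π).comap X.π := by
      rw [Subgroup.comap_map_eq, sup_comm]
    have h4 := Subgroup.card_mul_index (A.map X.π)
    rw [hcI, hH] at h4
    rw [h3, Subgroup.index_comap_of_surjective _ X.surj]
    exact Nat.eq_of_mul_eq_mul_left (by positivity) h4
  rw [h2]
  have hker : Nat.card X.π.ker = 2 ^ d := by
    have e : V d ≃ X.π.ker := Equiv.ofBijective (fun x => ⟨X.ν x, X.π_ν x⟩)
      ⟨fun a b h => X.ν_inj (congrArg Subtype.val h), fun g => by
        obtain ⟨x, hx⟩ := (X.range_eq g.1).1 g.2
        exact ⟨x, Subtype.ext hx⟩⟩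
    rw [← Nat.card_congr e]
    simp [Nat.card_eq_fintype_card]
  rw [hker]
  exact Nat.Coprime.pow_left _ (Nat.coprime_two_left.2 hm)

end Soundness

end Cfsg.Agent.Mathieu.Ext
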