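import Cfsg.Agent.Lib.Mathieu.SixPoints
import Cfsg.Agent.Lib.Mathieu.Rigid
import Cfsg.Agent.Lib.Mathieu.OrbitFast
import Cfsg.Agent.Lib.Mathieu.FreeClassData

/-!
Kernel checks for the classification of the elements of orders 2 and 3.
-/

set_option autoImplicit false
set_option maxRecDepth 20000

namespace Cfsg.Agent.Mathieu

open Cfsg

/-- The number of fixed points of a packed permutation. -/
def fixCount (l : ℕ) : ℕ := ((List.range 24).filter fun i => app l i == i).length

/-- The first five images of the `k`-th normalising element. -/
def fivePattern (L : List ℕ) (pre : List ℕ) (start : ℕ) : Bool :=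
  (List.range L.length).all fun k => permOK 24 (L.getD k 0) && presCode (L.getD k 0) &&
    (List.range 5).all fun i => app (L.getD k 0) i == (pre ++ [start + k]).getD i 0

theorem fiveTwo_pattern : (fivePattern fiveTwo [1, 0, 3, 2] 4 && fiveTwo.length == 20 &&
    fivePattern fiveThree [1, 2, 0, 4] 5 && fiveThree.length == 19) = true := by
  decide +kernel

theorem freeConj_mem : ((invFree :: threeFree :: (invFreeConj ++ threeFreeConj)).all
    fun l => permOK 24 l && presCode l) = true := by
  decide +kernel

theorem invFree_shape : (tableOK invFree invFreeTab && fixCount invFree == 0 &&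
    tableOK threeFree threeFreeTab && fixCount threeFree == 0) = true := by
  decide +kernel

theorem two_classes : (fiveTwo.all fun g => fiveList.all fun s =>
    force (packMulS 24 g s) fun l => !isIdS 24 (packMulS 24 l l) || fixCount l == 8 ||
      (fixCount l == 0 && invFreeConj.any fun c =>
        samePack 24 (packMulS 24 c invFree) (packMulS 24 l c))) = true := by
  decide +kernel

theorem three_classes : (fiveThree.all fun g => fiveList.all fun s =>
    force (packMulS 24 g s) fun l => !isIdS 24 (packMulS 24 l (packMulS 24 l l)) || fixCount l == 6 ||
      (fixCount l == 0 && threeFreeConj.any fun c =>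
        samePack 24 (packMulS 24 c threeFree) (packMulS 24 l c))) = true := by
  decide +kernel

end Cfsg.Agent.Mathieu
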