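import Cfsg.Agent.Lib.Mathieu.FixedCheck
import Cfsg.Agent.Lib.Mathieu.FreeClassData

/-!
Counts of the objects fixed by the representatives without fixed points.
-/

set_option autoImplicit false
set_option maxRecDepth 20000

namespace Cfsg.Agent.Mathieu

open Cfsg

theorem invFree_counts : fixedCounts invFreeTab = [15, 75, 51] := by decide +kernel

theorem threeFree_counts : fixedCounts threeFreeTab = [0, 15, 7] := by decide +kernel

end Cfsg.Agent.Mathieu
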