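import Cfsg.Agent.Lib.Mathieu.Hexads
import Cfsg.Agent.Lib.Mathieu.Stab.OctadGroup
import Cfsg.Prelude.Def_SporadicCombinatorics

/-!
The stabiliser of a dodecad and one of its hexads is the symmetric group on the hexad.
-/

set_option autoImplicit false

namespace Cfsg.Agent.Mathieu

open Cfsg
open scoped Pointwise

theorem dodecad_eq_one_of_fix_five {d : Finset GolayPt} (hd : d ∈ dodecads)
    {g : Equiv.Perm GolayPt} (hg : g ∈ M24) (hgd : g • d = d) {s : Finset GolayPt} (hs : s ⊆ d)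
    (h5 : 5 ≤ s.card) (hfix : ∀ p ∈ s, g p = p) : g = 1 := by
  obtain ⟨σ, hσ, rfl⟩ := M24_exists_map_square hd
  obtain ⟨x, hx⟩ := exists_embedding_of_le_card h5
  have hc : σ⁻¹ * g * σ ∈ Spor.M12 := mem_M12_iff.2
    ⟨M24.mul_mem (M24.mul_mem (M24.inv_mem hσ) hg) hσ, by
      rw [mul_smul, mul_smul, hgd, inv_smul_smul]⟩
  have h1 := M12_eq_one_of_fix hc (x.trans σ.symm.toEmbedding)
    (fun i => mem_smul_pts.1 (hs (hx i))) (fun i => by simp [hfix _ (hx i)])
  rw [mul_assoc, inv_mul_eq_one] at h1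
  exact mul_eq_right.1 h1.symm

theorem dodecad_exists_map {d : Finset GolayPt} (hd : d ∈ dodecads) {k : ℕ} (hk : k ≤ 5)
    (x y : Fin k ↪ GolayPt) (hx : ∀ i, x i ∈ d) (hy : ∀ i, y i ∈ d) :
    ∃ g ∈ M24, g • d = d ∧ ∀ i, g (x i) = y i := by
  obtain ⟨σ, hσ, rfl⟩ := M24_exists_map_square hd
  obtain ⟨h, hh, hxy⟩ := M12_exists_map hk (x.trans σ.symm.toEmbedding) (y.trans σ.symm.toEmbedding)
    (fun i => mem_smul_pts.1 (hx i)) (fun i => mem_smul_pts.1 (hy i))
  refine ⟨σ * h * σ⁻¹, M24.mul_mem (M24.mul_mem hσ (M12_le_M24 hh)) (M24.inv_mem hσ), ?_, fun i => ?_⟩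
  · rw [mul_smul, mul_smul, inv_smul_smul, (mem_M12_iff.1 hh).2]
  · have := hxy i
    simp only [Function.Embedding.trans_apply, Equiv.coe_toEmbedding] at this
    simp only [Equiv.Perm.mul_apply, Equiv.Perm.inv_def, this, Equiv.apply_symm_apply]

theorem hexad_subset {d C : Finset GolayPt} (hC : C ∈ hexadsOn d) : C ⊆ d := by
  obtain ⟨-, o, -, rfl⟩ := hC
  exact Finset.inter_subset_right

theorem hexad_card {d C : Finset GolayPt} (hC : C ∈ hexadsOn d) : C.card = 6 := hC.1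

theorem hexad_eq_of_five {d C C' : Finset GolayPt} (hd : d ∈ dodecads) (hC : C ∈ hexadsOn d)
    (hC' : C' ∈ hexadsOn d) (h : 5 ≤ (C ∩ C').card) : C = C' := by
  obtain ⟨h6, o, ho, rfl⟩ := hC
  obtain ⟨h6', o', ho', rfl⟩ := hC'
  obtain ⟨s, hs, h5⟩ := Finset.exists_subset_card_eq h
  have hs' : s ⊆ d := hs.trans (Finset.inter_subset_left.trans Finset.inter_subset_right)
  obtain ⟨w, -, hu⟩ := exists_unique_hexad hd hs' h5
  rw [hu o ⟨ho, hs.trans (Finset.inter_subset_left.trans Finset.inter_subset_left), h6⟩,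
    hu o' ⟨ho', hs.trans (Finset.inter_subset_right.trans Finset.inter_subset_left), h6'⟩]

theorem smul_hexad {d C : Finset GolayPt} {g : Equiv.Perm GolayPt} (hg : g ∈ M24) (hgd : g • d = d)
    (hC : C ∈ hexadsOn d) : g • C ∈ hexadsOn d := by
  obtain ⟨h6, o, ho, rfl⟩ := hC
  refine ⟨by rw [Finset.card_smul_finset, h6], g • o, M24_smul_octad hg ho, ?_⟩
  rw [smul_inter_pts, hgd]

/-- The action on a hexad. -/
def hexadPerm (d C : Finset GolayPt) :
    ↥(MulAction.stabilizer M24 d ⊓ MulAction.stabilizer M24 C) →* Equiv.Perm ↥C where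
  toFun g := ((g : ↥M24) : Equiv.Perm GolayPt).subtypePerm fun x =>
    apply_mem_iff_of_fixed (show ((g : ↥M24) : Equiv.Perm GolayPt) • C = C from g.2.2) x
  map_one' := by ext x; rfl
  map_mul' _ _ := by ext x; rfl

theorem hexad_stab_equiv {d C : Finset GolayPt} (hd : d ∈ dodecads) (hC : C ∈ hexadsOn d) :
    Nonempty (↥(MulAction.stabilizer M24 d ⊓ MulAction.stabilizer M24 C) ≃* Equiv.Perm (Fin 6)) := by
  classical
  have hinj : Function.Injective (hexadPerm d C) := by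
    rw [← MonoidHom.ker_eq_bot_iff, Subgroup.eq_bot_iff_forall]
    rintro ⟨⟨g, hg⟩, h1, h2⟩ hk
    exact Subtype.ext (Subtype.ext (dodecad_eq_one_of_fix_five hd hg h1 (hexad_subset hC)
      (by rw [hexad_card hC]; norm_num)
      fun p hp => congrArg Subtype.val (Equiv.Perm.ext_iff.1 (MonoidHom.mem_ker.1 hk) ⟨p, hp⟩)))
  have hsurj : Function.Surjective (hexadPerm d C) := by
    intro π
    obtain ⟨c, hc⟩ : C.Nonempty := Finset.card_pos.1 (by rw [hexad_card hC]; norm_num)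
    have h5 : (C.erase c).card = 5 := by rw [Finset.card_erase_of_mem hc, hexad_card hC]
    obtain ⟨x, hx⟩ := exists_embedding_of_le_card h5.ge
    have himg : Finset.univ.map x = C.erase c := Finset.eq_of_subset_of_card_le (fun p hp => by
      obtain ⟨i, -, rfl⟩ := Finset.mem_map.1 hp
      exact hx i) (by simp [h5])
    let y : Fin 5 ↪ GolayPt := ⟨fun i => π ⟨x i, Finset.mem_of_mem_erase (hx i)⟩, fun i j h =>
      x.injective (congrArg Subtype.val (π.injective (Subtype.ext h)))⟩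
    obtain ⟨g, hg, hgd, hgx⟩ := dodecad_exists_map hd le_rfl x y
      (fun i => hexad_subset hC (Finset.mem_of_mem_erase (hx i)))
      (fun i => hexad_subset hC (π _).2)
    have hgx' : ∀ p, (hp : p ∈ C) → p ≠ c → g p = π ⟨p, hp⟩ := fun p hp hpc => by
      obtain ⟨i, -, rfl⟩ := Finset.mem_map.1 (himg.symm ▸ Finset.mem_erase.2 ⟨hpc, hp⟩ :
        p ∈ Finset.univ.map x)
      exact hgx i
    have hgC : g • C = C := by
      refine hexad_eq_of_five hd (smul_hexad hg hgd hC) hC ?_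
      refine le_trans (by simp) (Finset.card_le_card (s := Finset.univ.map y) fun p hp => ?_)
      obtain ⟨i, -, rfl⟩ := Finset.mem_map.1 hp
      exact Finset.mem_inter.2
        ⟨hgx i ▸ apply_mem_smul_pts.2 (Finset.mem_of_mem_erase (hx i)), (π _).2⟩
    refine ⟨⟨⟨g, hg⟩, hgd, hgC⟩, Equiv.ext fun p => Subtype.ext ?_⟩
    show g p = π p
    rcases eq_or_ne (p : GolayPt) c with hpc | hpc
    · obtain ⟨q, hq⟩ := π.surjective ⟨g p, (apply_mem_iff_of_fixed hgC _).2 p.2⟩
      rcases eq_or_ne (q : GolayPt) c with hqc | hqc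
      · conv_rhs => rw [show p = q from Subtype.ext (hpc.trans hqc.symm), hq]
      · have := hgx' q q.2 hqc
        rw [Subtype.coe_eta, hq] at this
        exact absurd ((g.injective this).trans hpc) hqc
    · exact hgx' p p.2 hpc
  exact ⟨(MulEquiv.ofBijective _ ⟨hinj, hsurj⟩).trans
    (C.equivFinOfCardEq (hexad_card hC)).permCongrHom⟩

end Cfsg.Agent.Mathieu
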