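import Cfsg.Agent.Lib.Mathieu.M22CoverData
import Cfsg.Agent.Lib.Mathieu.Groups

/-!
The central extensions 3.M₂₂ and 4.M₂₂.
-/

set_option autoImplicit false
set_option maxRecDepth 20000

namespace Cfsg.Agent.Mathieu.M22Cover

open Cfsg CoverOrbital

theorem three_points : three.pointsOK = true := by decide +kernel
theorem three_rows : three.rowsOK = true := by decide +kernel
theorem three_edges : three.edgesOK = true := by decide +kernel
theorem three_trees : three.treesOK = true := by decide +kernel
theorem three_word : three.wordOK genInvs threeEval = true := by decide +kernel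
theorem three_eval : evalOK three threeEval 0 = true ∧
    (evalSum three threeEval 0 : ZMod three.N) = 1 := by decide +kernel

theorem four_points : four.pointsOK = true := by decide +kernel
theorem four_rows : four.rowsOK = true := by decide +kernel
theorem four_edges : four.edgesOK = true := by decide +kernel
theorem four_trees : four.treesOK = true := by decide +kernel
theorem four_word : four.wordOK genInvs fourEval = true := by decide +kernel
theorem four_eval : evalOK four fourEval 0 = true ∧
    (evalSum four fourEval 0 : ZMod four.N) = 1 := by decide +kernel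

theorem gens_mem : (gens22.all fun l => permOK 24 l && mem22 l) = true := by decide +kernel

theorem valid_of {C : Cert} (hg : C.gens = gens22) (h1 : C.pointsOK = true) (h2 : C.rowsOK = true)
    (h3 : C.edgesOK = true) (h4 : C.treesOK = true) : C.Valid Spor.M22 := by
  have hm := gens_mem
  simp only [List.all_eq_true, Bool.and_eq_true] at hm
  refine ⟨h1, h2, h3, h4, ?_, fun σ l hr hl => mem22_sound σ l hr (hm l (hg ▸ hl)).2, ?_⟩
  · rw [hg, List.all_eq_true]; exact fun l hl => (hm l hl).1
  · rw [hg, M22_cert.1]

/-- A triple cover of M₂₂. -/
theorem exists_three : ∃ (Γ : Type) (_ : Group Γ) (_ : Finite Γ) (σ : Γ →* Spor.M22),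
    IsStemExtension σ ∧ Nat.card σ.ker = 3 ∧ IsCyclic σ.ker :=
  (valid_of rfl three_points three_rows three_edges three_trees).exists_stem genInvs threeEval
    three_word three_eval.1 three_eval.2

/-- A fourfold cover of M₂₂. -/
theorem exists_four : ∃ (Γ : Type) (_ : Group Γ) (_ : Finite Γ) (σ : Γ →* Spor.M22),
    IsStemExtension σ ∧ Nat.card σ.ker = 4 ∧ IsCyclic σ.ker :=
  (valid_of rfl four_points four_rows four_edges four_trees).exists_stem genInvs fourEval
    four_word four_eval.1 four_eval.2

end Cfsg.Agent.Mathieu.M22Cover
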