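import Cfsg.Agent.Lib.Mathieu.M22MultiplierData
import Cfsg.Agent.Lib.Mathieu.SylowTwo
import Cfsg.Agent.Lib.Mathieu.PackSub
import Cfsg.Agent.Lib.Schur.Exponent
import Cfsg.Agent.Lib.Schur.SmallSylow
import Cfsg.Agent.Lib.Schur.SylowLocal

/-!
The kernel of a stem extension of M₂₂ is cyclic of order dividing 12: at 2 it is generated by the
commutator of lifts of two commuting elements of order four (a split certificate over `ZMod 2`),
at 3 by the commutator of lifts of two commuting elements of order three.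
-/

set_option autoImplicit false
set_option maxRecDepth 20000
set_option linter.style.haveILetI false

namespace Cfsg.Agent.Mathieu.Mult22

open Cfsg Cfsg.Agent.Mathieu.Ext Cfsg.Agent.Schur
open scoped commutatorElement

/-- Packed form of the first element of order four. -/
def pA : ℕ := pres.prod 24 wordA

/-- Packed form of the second element of order four. -/
def pB : ℕ := pres.prod 24 wordB

/-- The matrices of the trivial module. -/
def matTriv : ℕ → List ℕ → Bool := fun _ rows => rows == [1]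

theorem pres_ok : pres.ok 24 mem22 matTriv = true := by decide +kernel

theorem cert_syl : cert.sylOK 24 = true := by decide +kernel

theorem cert_lin : cert.linOK 1 [2 ^ commRule] = true := by decide +kernel

theorem cert_eqs : (cert.eqs.all fun q =>
    q.1.all fun i => decide (i < cert.pres.gens.length)) = true := by decide +kernel

theorem cert_words : cert.words.length = 128 := by decide +kernel

theorem commRule_spec : commRule < pres.rules.length ∧
    pres.rules.getD commRule ([], []) = (wordA ++ wordB, wordB ++ wordA) ∧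
    (wordA.all fun i => decide (i < pres.gens.length)) = true ∧
    (wordB.all fun i => decide (i < pres.gens.length)) = true := by decide +kernel

theorem pAB_mem : (permOK 24 pA && mem22 pA && permOK 24 pB && mem22 pB &&
    isId 24 (packMul 24 (packMul 24 pA pA) (packMul 24 pA pA)) &&
    samePack 24 (packMul 24 pA pB) (packMul 24 pB pA)) = true := by decide +kernel

theorem pUV_mem : (permOK 24 elemU && mem22 elemU && permOK 24 elemV && mem22 elemV &&
    isId 24 (packMul 24 elemU (packMul 24 elemU elemU)) &&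
    samePack 24 (packMul 24 elemU elemV) (packMul 24 elemV elemU)) = true := by decide +kernel

/-- The nine products of `elemU` and `elemV`. -/
def list3U : List ℕ :=
  (List.range 3).flatMap fun i =>
    (List.range 3).map fun j => packMulS 24 (packPowS 24 elemU i) (packPowS 24 elemV j)

theorem mem_list3U : ∀ l ∈ list3U, ∃ σ ∈ Spor.M22, Rep ptEnc σ l := by
  intro l hl
  have h : (list3U.all fun l => permOK 24 l && mem22 l) = true := by decide +kernel
  have h' := List.all_eq_true.1 h l hl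
  rw [Bool.and_eq_true] at h'
  obtain ⟨σ, hσ⟩ := exists_rep (e := ptEnc) h'.1
  exact ⟨σ, mem22_sound σ l hσ h'.2, hσ⟩

/-- The elementary group of order nine. -/
abbrev sub9 : Subgroup Spor.M22 :=
  packSub Spor.M22 ptEnc list3U mem_list3U (by decide +kernel)

theorem card_sub9 : Nat.card sub9 = 9 := by
  rw [card_packSub (by decide +kernel)]; decide +kernel

section General

variable {Γ G : Type*} [Group Γ] [Group G]

theorem commutator_pow_of_mem_center {a b : Γ} (hc : ⁅a, b⁆ ∈ Subgroup.center Γ) (n : ℕ) :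
    ⁅a, b⁆ ^ n = ⁅a ^ n, b⁆ := by
  induction n with
  | zero => simp
  | succ n ih =>
    have hc' : ∀ x : Γ, x * ⁅a, b⁆ = ⁅a, b⁆ * x := Subgroup.mem_center_iff.1 hc
    rw [pow_succ ⁅a, b⁆, ih, hc']
    rw [show ⁅a ^ (n + 1), b⁆ = a * ⁅a ^ n, b⁆ * a⁻¹ * ⁅a, b⁆ by
      simp only [commutatorElement_def, pow_succ']; group]
    have hcn : ⁅a ^ n, b⁆ ∈ Subgroup.center Γ := ih ▸ pow_mem hc n
    rw [Subgroup.mem_center_iff.1 hcn a, mul_inv_cancel_right, hc']

theorem stem_quotient {σ : Γ →* G} (hσ : IsStemExtension σ) (M : Subgroup Γ) [M.Normal]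
    (hM : M ≤ σ.ker) : IsStemExtension (QuotientGroup.lift M σ hM) := by
  have hker : (QuotientGroup.lift M σ hM).ker = σ.ker.map (QuotientGroup.mk' M) :=
    QuotientGroup.ker_lift M σ hM
  refine ⟨fun g => ?_, ?_, ?_⟩
  · obtain ⟨x, rfl⟩ := hσ.1 g; exact ⟨x, rfl⟩
  · rw [hker]
    rintro _ ⟨z, hz, rfl⟩
    rw [Subgroup.mem_center_iff]
    intro y
    obtain ⟨y, rfl⟩ := QuotientGroup.mk'_surjective M y
    rw [← map_mul, ← map_mul, Subgroup.mem_center_iff.1 (hσ.2.1 hz) y]
  · rw [hker]
    refine (Subgroup.map_mono hσ.2.2).trans ?_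
    rw [commutator_def, commutator_def, Subgroup.map_commutator]
    exact Subgroup.commutator_mono le_top le_top

/-- A nontrivial central kernel of exponent two has a quotient of order two. -/
theorem exists_index_two [Finite Γ] {σ : Γ →* G} (hz : σ.ker ≤ Subgroup.center Γ)
    (hexp : ∀ z ∈ σ.ker, z ^ 2 = 1) (hne : σ.ker ≠ ⊥) :
    ∃ (M : Subgroup Γ) (_ : M.Normal) (hM : M ≤ σ.ker),
      Nat.card (QuotientGroup.lift M σ hM).ker = 2 := by
  haveI : Fact (Nat.Prime 2) := ⟨Nat.prime_two⟩
  have hp : IsPGroup 2 σ.ker := fun z => ⟨1, Subtype.ext (by simpa using hexp z z.2)⟩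
  obtain ⟨k, hk⟩ := IsPGroup.iff_card.1 hp
  have hk0 : k ≠ 0 := fun h => hne (Subgroup.eq_bot_of_card_eq _ (by rw [hk, h, pow_zero]))
  obtain ⟨N, hN⟩ := Sylow.exists_subgroup_card_pow_prime (G := σ.ker) 2
    (n := k - 1) (by rw [hk]; exact Nat.pow_dvd_pow 2 (Nat.sub_le k 1))
  let M : Subgroup Γ := N.map σ.ker.subtype
  have hM : M ≤ σ.ker := by rintro _ ⟨z, -, rfl⟩; exact z.2
  have hMn : M.Normal := ⟨fun z hzM g => by
    rwa [Subgroup.mem_center_iff.1 (hz (hM hzM)) g, mul_inv_cancel_right]⟩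
  refine ⟨M, hMn, hM, ?_⟩
  have hMc : Nat.card M = 2 ^ (k - 1) := by
    rw [← hN]
    exact (Nat.card_congr (N.equivMapOfInjective _ σ.ker.subtype_injective).toEquiv).symm
  have h2 := Subgroup.relIndex_mul_relIndex (⊥ : Subgroup Γ) M σ.ker bot_le hM
  rw [Subgroup.relIndex_bot_left, Subgroup.relIndex_bot_left, hMc, hk] at h2
  have h3 : M.relIndex σ.ker = Nat.card (σ.ker.map (QuotientGroup.mk' M)) := by
    rw [← Subgroup.relIndex_ker, QuotientGroup.ker_mk']
  rw [show (QuotientGroup.lift M σ hM).ker = σ.ker.map (QuotientGroup.mk' M) from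
    QuotientGroup.ker_lift M σ hM, ← h3]
  have h4 : 2 ^ k = 2 ^ (k - 1) * 2 := by rw [← pow_succ]; congr 1; omega
  rw [h4] at h2
  exact Nat.eq_of_mul_eq_mul_left (pow_pos (by norm_num) _) h2

end General

/-- No stem extension with kernel of order two in which the two elements of order four still
commute. -/
theorem two_split {E : Type*} [Group E] [Finite E] (σ : E →* Spor.M22) (hσ : IsStemExtension σ)
    (hcard : Nat.card σ.ker = 2) {A B : E} (hA : Rep ptEnc (σ A : Equiv.Perm GolayPt) pA)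
    (hB : Rep ptEnc (σ B : Equiv.Perm GolayPt) pB) (hcomm : A * B = B * A) : False := by
  obtain ⟨z, hz1, hzu⟩ : ∃ z : σ.ker, z ≠ 1 ∧ ∀ w : σ.ker, w = 1 ∨ w = z := by
    obtain ⟨z, hz, hu⟩ := (Nat.card_eq_two_iff' (1 : σ.ker)).1 hcard
    exact ⟨z, hz, fun w => (em (w = 1)).imp id (hu w)⟩
  have hzz : z * z = 1 := (hzu (z * z)).resolve_right (fun h => hz1 (mul_eq_left.1 h))
  let ν : V 1 → E := fun x => if x 0 = 0 then 1 else z.val
  have h01 : ∀ a : ZMod 2, a = 0 ∨ a = 1 := by decide
  have hV : ∀ x : V 1, x = fun _ => x 0 := fun x => funext fun r => by rw [Subsingleton.elim r 0]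
  let X : ExtData Spor.M22 E 1 :=
    { π := σ
      ν := ν
      ν_add := fun x y => by
        have hzz' : (z : E) * z = 1 := congrArg Subtype.val hzz
        rcases h01 (x 0) with hx | hx <;> rcases h01 (y 0) with hy | hy <;>
          simp [ν, hx, hy, hzz', (show (1 : ZMod 2) + 1 = 0 from rfl)]
      ν_inj := fun x y h => by
        have hz' : (z : E) ≠ 1 := fun h' => hz1 (Subtype.ext h')
        rw [hV x, hV y]
        rcases h01 (x 0) with hx | hx <;> rcases h01 (y 0) with hy | hy <;>
          simp [ν, hx, hy, hz', Ne.symm hz'] at h ⊢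
      surj := hσ.1
      range_eq := fun g => by
        constructor
        · intro hg
          rcases hzu ⟨g, hg⟩ with h | h
          · exact ⟨0, by simpa [ν] using (congrArg Subtype.val h).symm⟩
          · exact ⟨fun _ => 1, by simpa [ν] using (congrArg Subtype.val h).symm⟩
        · rintro ⟨x, rfl⟩
          rcases h01 (x 0) with hx | hx <;> simp [ν, hx]
          exact z.2 }
  have hzc : ∀ x, X.ν x ∈ Subgroup.center E := fun x => hσ.2.1 (X.π_ν x)
  have heq : X.Equivariant ptEnc matTriv := by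
    intro g l M _ hM x
    rw [matTriv, beq_iff_eq] at hM
    have hid : matApply M x = x := by
      funext r
      rw [Subsingleton.elim r 0, hM]
      simp [matApply]
    rw [hid, Subgroup.mem_center_iff.1 (hzc x) g, mul_inv_cancel_right]
  obtain ⟨ls, τ, hL⟩ := exists_lifts (e := ptEnc) (by norm_num) mem22_sound X pres_ok
  obtain ⟨hk, hrule, hwA, hwB⟩ := commRule_spec
  simp only [List.all_eq_true, decide_eq_true_eq] at hwA hwB
  have hk' : pres.rules[commRule] = (wordA ++ wordB, wordB ++ wordA) := by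
    rw [← hrule, List.getD_eq_getElem _ _ hk]
  have hlift : ∀ (w : List ℕ) (a : E), (∀ i ∈ w, i < pres.gens.length) →
      Rep ptEnc (σ a : Equiv.Perm GolayPt) (pres.prod 24 w) →
      ∃ c ∈ Subgroup.center E, liftW ls w = c * a := by
    intro w a hw ha
    have h1 : σ (liftW ls w) = σ a :=
      Subtype.ext ((rep_liftW (X := X) (by norm_num) hL.rep w hw).unique ha)
    refine ⟨liftW ls w * a⁻¹, hσ.2.1 ?_, by rw [inv_mul_cancel_right]⟩
    rw [MonoidHom.mem_ker, map_mul, map_inv, h1, mul_inv_cancel]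
  obtain ⟨c, hc, hcA⟩ := hlift wordA A hwA hA
  obtain ⟨d, hd, hdB⟩ := hlift wordB B hwB hB
  have hr := hL.rule commRule hk
  rw [hk', liftW_append, liftW_append, hcA, hdB] at hr
  have hc' := Subgroup.mem_center_iff.1 hc
  have hd' := Subgroup.mem_center_iff.1 hd
  have hswap : c * A * (d * B) = d * B * (c * A) := by
    rw [show c * A * (d * B) = c * (A * d) * B by group, hd' A,
      show c * (d * A) * B = c * d * (A * B) by group, hcomm,
      show d * B * (c * A) = d * (B * c) * A by group, hc' B,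
      show d * (c * B) * A = d * c * (B * A) by group, hc' d]
  rw [hswap] at hr
  have hν : X.ν (fun r => τ (commRule * 1 + r.val)) = 1 := right_eq_mul.1 hr
  have hτ : τ commRule = 0 := by
    have h := congrFun (X.ν_inj (hν.trans X.ν_zero.symm)) 0
    simpa using h
  obtain ⟨K, hK⟩ := exists_complement (C := cert) (by norm_num) hL heq pres_ok cert_syl
    (extra := [2 ^ commRule]) cert_lin cert_eqs
    (fun m hm => by
      rw [List.mem_singleton] at hm
      rw [hm, evalMask_two_pow _ _ (by rw [Nat.mul_one]; exact hk)]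
      exact hτ)
    ⟨7, by rw [cert_words]; norm_num, 3465, by decide, by rw [card_M22]; norm_num⟩
  have hbot : ⁅(⊤ : Subgroup E), (⊤ : Subgroup E)⁆ ⊓ σ.ker = ⊥ := by
    refine commutator_inf_ker_eq_bot_of_complement σ hσ.2.1 ⊤ K ?_ ?_
    · exact (disjoint_iff.1 hK.disjoint.symm)
    · rintro _ ⟨x, -, rfl⟩
      obtain ⟨⟨⟨a, ha⟩, b⟩, hab, -⟩ := (Subgroup.isComplement_iff_existsUnique.1 hK) x
      refine ⟨b, b.2, ?_⟩
      rw [← hab, map_mul, show σ a = 1 from ha, one_mul]
  have : σ.ker = ⊥ := by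
    rw [eq_bot_iff, ← hbot]
    exact le_inf (commutator_def E ▸ hσ.2.2) le_rfl
  rw [this, Subgroup.card_bot] at hcard
  omega

/-- The kernel of a stem extension of M₂₂ is cyclic of order dividing 12. -/
theorem exists_ker_bound {Γ : Type*} [Group Γ] [Finite Γ] (σ : Γ →* Spor.M22)
    (hσ : IsStemExtension σ) : ∃ c : Γ, σ.ker ≤ Subgroup.zpowers c ∧ c ^ 12 = 1 := by
  obtain ⟨⟨⟨⟨⟨hAo, hAm⟩, hBo⟩, hBm⟩, hA4⟩, hAB⟩ := by simpa only [Bool.and_eq_true] using pAB_mem
  obtain ⟨⟨⟨⟨⟨hUo, hUm⟩, hVo⟩, hVm⟩, hU3⟩, hUV⟩ := by simpa only [Bool.and_eq_true] using pUV_mem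
  have hget : ∀ {l : ℕ}, permOK 24 l = true → mem22 l = true →
      ∃ x : Γ, Rep ptEnc (σ x : Equiv.Perm GolayPt) l := by
    intro l h1 h2
    obtain ⟨s, hs⟩ := exists_rep (e := ptEnc) h1
    obtain ⟨x, hx⟩ := hσ.1 ⟨s, mem22_sound s l hs h2⟩
    exact ⟨x, by rw [hx]; exact hs⟩
  obtain ⟨A, hA⟩ := hget hAo hAm
  obtain ⟨B, hB⟩ := hget hBo hBm
  obtain ⟨U, hU⟩ := hget hUo hUm
  obtain ⟨W, hW⟩ := hget hVo hVm
  have hker_of : ∀ {x y : Γ} {a b : ℕ}, Rep ptEnc (σ x : Equiv.Perm GolayPt) a →
      Rep ptEnc (σ y : Equiv.Perm GolayPt) b → samePack 24 (packMul 24 a b) (packMul 24 b a) = true →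
      ⁅x, y⁆ ∈ σ.ker := by
    intro x y a b hx hy h
    have : σ x * σ y = σ y * σ x :=
      Subtype.ext (((rep_packMul hx hy).of_same h).unique (rep_packMul hy hx))
    rw [MonoidHom.mem_ker, commutatorElement_def, map_mul, map_mul, map_mul, map_inv, map_inv,
      this]
    group
  set c2 := ⁅A, B⁆ with hc2d
  set c3 := ⁅U, W⁆ with hc3d
  have h2 : c2 ∈ σ.ker := hker_of hA hB hAB
  have h3 : c3 ∈ σ.ker := hker_of hU hW hUV
  have hz2 := hσ.2.1 h2
  have hz3 := hσ.2.1 h3
  have hc24 : c2 ^ 4 = 1 := by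
    have h4 : A ^ 4 ∈ σ.ker := by
      rw [MonoidHom.mem_ker, map_pow]
      refine Subtype.ext (Rep.eq_one (e := ptEnc) ?_ hA4)
      have h := rep_packMul (rep_packMul hA hA) (rep_packMul hA hA)
      rw [Subgroup.coe_pow]
      simpa only [pow_succ, pow_zero, one_mul, mul_assoc] using h
    rw [hc2d, commutator_pow_of_mem_center hz2]
    exact commutatorElement_eq_one_iff_mul_comm.2 (Subgroup.mem_center_iff.1 (hσ.2.1 h4) B).symm
  have hc33 : c3 ^ 3 = 1 := by
    have h4 : U ^ 3 ∈ σ.ker := by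
      rw [MonoidHom.mem_ker, map_pow]
      refine Subtype.ext (Rep.eq_one (e := ptEnc) ?_ hU3)
      have h := rep_packMul hU (rep_packMul hU hU)
      rw [Subgroup.coe_pow]
      simpa only [pow_succ, pow_zero, one_mul, mul_assoc] using h
    rw [hc3d, commutator_pow_of_mem_center hz3]
    exact commutatorElement_eq_one_iff_mul_comm.2 (Subgroup.mem_center_iff.1 (hσ.2.1 h4) W).symm
  have hcom : Commute c2 c3 := Subgroup.mem_center_iff.1 hz3 c2
  refine ⟨c2 * c3, ?_, ?_⟩
  swap
  · rw [hcom.mul_pow, show c2 ^ 12 = (c2 ^ 4) ^ 3 by group, show c3 ^ 12 = (c3 ^ 3) ^ 4 by group,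
      hc24, hc33, one_pow, one_pow, one_mul]
  let D := Subgroup.zpowers (c2 * c3)
  have hD2 : c2 ∈ D := by
    have h : (c2 * c3) ^ 9 = c2 := by
      rw [hcom.mul_pow, show c2 ^ 9 = (c2 ^ 4) ^ 2 * c2 by group,
        show c3 ^ 9 = (c3 ^ 3) ^ 3 by group, hc24, hc33, one_pow, one_pow, one_mul, mul_one]
    exact h ▸ pow_mem (Subgroup.mem_zpowers _) 9
  have hD3 : c3 ∈ D := by
    have h : (c2 * c3) ^ 4 = c3 := by
      rw [hcom.mul_pow, show c3 ^ 4 = c3 ^ 3 * c3 by group, hc24, hc33, one_mul, one_mul]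
    exact h ▸ pow_mem (Subgroup.mem_zpowers _) 4
  refine ker_le_of_exponent σ hσ D (Subgroup.zpowers_le.2 (mul_mem h2 h3))
    fun p hp M _ hM hDM hst hexp => ?_
  haveI := Fact.mk hp
  set σ' := QuotientGroup.lift M σ hM with hσ'
  have hmk : ∀ {x : Γ} {l : ℕ}, Rep ptEnc (σ x : Equiv.Perm GolayPt) l →
      Rep ptEnc (σ' (QuotientGroup.mk x) : Equiv.Perm GolayPt) l := fun h => h
  have hcommq : ∀ {x y : Γ}, ⁅x, y⁆ ∈ D →
      (QuotientGroup.mk x : Γ ⧸ M) * QuotientGroup.mk y = QuotientGroup.mk y * QuotientGroup.mk x := by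
    intro x y h
    refine commutatorElement_eq_one_iff_mul_comm.1 ?_
    rw [← QuotientGroup.mk'_apply, ← QuotientGroup.mk'_apply, ← map_commutatorElement,
      QuotientGroup.mk'_apply]
    exact (QuotientGroup.eq_one_iff _).2 (hDM h)
  by_cases hp2 : p = 2
  · subst hp2
    by_contra hne
    obtain ⟨N, hN, hNle, hcard⟩ := exists_index_two hst.2.1 hexp hne
    refine two_split (QuotientGroup.lift N σ' hNle) (stem_quotient hst N hNle) hcard
      (A := QuotientGroup.mk (QuotientGroup.mk A : Γ ⧸ M))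
      (B := QuotientGroup.mk (QuotientGroup.mk B : Γ ⧸ M)) hA hB ?_
    exact congrArg (QuotientGroup.mk (s := N)) (hcommq hD2)
  by_cases hp3 : p = 3
  · subst hp3
    let S : Set (Γ ⧸ M) := {QuotientGroup.mk U, QuotientGroup.mk W} ∪ σ'.ker
    have hsub : sub9 ≤ (Subgroup.closure S).map σ' := by
      rintro g ⟨l, hl, hr⟩
      simp only [list3U, List.mem_flatMap, List.mem_map, List.mem_range] at hl
      obtain ⟨i, -, j, -, rfl⟩ := hl
      have hUS : (QuotientGroup.mk U : Γ ⧸ M) ∈ Subgroup.closure S :=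
        Subgroup.subset_closure (Or.inl (Or.inl rfl))
      have hWS : (QuotientGroup.mk W : Γ ⧸ M) ∈ Subgroup.closure S :=
        Subgroup.subset_closure (Or.inl (Or.inr rfl))
      refine ⟨(QuotientGroup.mk U : Γ ⧸ M) ^ i * (QuotientGroup.mk W : Γ ⧸ M) ^ j,
        SetLike.mem_coe.2 (mul_mem (pow_mem hUS i) (pow_mem hWS j)), ?_⟩
      refine Subtype.ext (Rep.unique (e := ptEnc) ?_ hr)
      rw [map_mul, map_pow, map_pow, Subgroup.coe_mul, Subgroup.coe_pow, Subgroup.coe_pow,
        packMulS_eq, packPowS_eq, packPowS_eq]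
      exact rep_packMul (rep_packPow (by norm_num) (hmk hU) i)
        (rep_packPow (by norm_num) (hmk hW) j)
    refine ker_eq_bot_of_local σ' hst.2.1 hst.2.2 hp hexp (Subgroup.closure S) ?_ ?_
    · intro hdvd
      have hle : σ'.ker ≤ Subgroup.closure S := fun x hx => Subgroup.subset_closure (Or.inr hx)
      have hidx : ((Subgroup.closure S).map σ').index = (Subgroup.closure S).index :=
        Subgroup.index_map_eq _ hst.1 hle
      have h9 : 9 ∣ Nat.card ((Subgroup.closure S).map σ') :=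
        card_sub9 ▸ Subgroup.card_dvd_of_le hsub
      have hmul := ((Subgroup.closure S).map σ').index_mul_card
      rw [hidx, card_M22] at hmul
      have h27 : 27 ∣ 443520 := hmul ▸ mul_dvd_mul hdvd h9
      norm_num at h27
    · refine le_bot_iff.1 ((inf_le_left).trans
        (Schur.SmallSylow.commutator_closure_le ⊥ ?_ ?_))
      · intro x _
        refine Subgroup.mem_normalizer_iff.2 fun y => ?_
        simp [conj_eq_one_iff]
      · have hcent : ∀ u ∈ σ'.ker, ∀ v : Γ ⧸ M, u * v = v * u :=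
          fun u hu v => (Subgroup.mem_center_iff.1 (hst.2.1 hu) v).symm
        intro a ha b hb
        rw [Subgroup.mem_bot, commutatorElement_eq_one_iff_mul_comm]
        rcases ha with ha | ha
        · rcases hb with hb | hb
          · have huw := hcommq (x := U) (y := W) hD3
            rcases ha with rfl | rfl <;> rcases hb with rfl | rfl
            · rfl
            · exact huw
            · exact huw.symm
            · rfl
          · exact (hcent b hb a).symm
        · exact hcent a ha b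
  have hsq : ¬ p ^ 2 ∣ Nat.card Spor.M22 := by
    intro hd
    rw [card_M22] at hd
    have h1 : p ^ 2 ∣ 2 ^ 7 * (3 ^ 2 * 385) := by norm_num; exact hd
    have hd5 : p ^ 2 ∣ 385 :=
      (Nat.Coprime.pow _ _ ((Nat.coprime_primes hp Nat.prime_three).2 hp3)).dvd_of_dvd_mul_left
        ((Nat.Coprime.pow _ _ ((Nat.coprime_primes hp Nat.prime_two).2 hp2)).dvd_of_dvd_mul_left h1)
    have hle : p * p ≤ 385 := by rw [← sq]; exact Nat.le_of_dvd (by norm_num) hd5
    have hp' : p ≤ 19 := by nlinarith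
    interval_cases p <;> first | omega | norm_num at hd5 hp
  obtain ⟨P, hP⟩ := local_of_not_sq_dvd σ' hst.1 hst.2.1 hp hsq
  exact ker_eq_bot_of_local σ' hst.2.1 hst.2.2 hp hexp _ P.not_dvd_index hP

end Cfsg.Agent.Mathieu.Mult22
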