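import Cfsg.Agent.Lib.Mathieu.ExtensionCert

/-!
Certificate data for the Schur multiplier of M22 (checked in `Cfsg.Agent.Lib.Mathieu.M22Multiplier`).
-/

set_option autoImplicit false

namespace Cfsg.Agent.Mathieu.Mult22

open Ext

/-- Generators and rules. -/
def pres : Pres where
  gens := [
  0x171410160e12091502130d0c0708110a0b010504030f0600,
  0x1716060f070c0e1014110d1208090a0b1315030405020100,
  0x171113091512160e07100d0c020614010f0a0504030b0800,
  0x170b14150f0d1108130e1204160706100a09050c03020100,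
  0x1710070a060c1116090e041208140f0b1513050d03020100,
  0x170b0a070612020809010d0c16150f101413050403110e00,
  0x1710141509120e1606110d0c0807130b0a0f050403010200,
  0x170212091314160b100e071506080c0411010a03050d0f00,
  0x170b06150f040e081311020d030914050a07100116120c00,
  0x170e1315020604160b030a071009011114080c0f120d0500]
  mats := [[1], [1], [1], [1], [1], [1], [1], [1], [1], [1]]
  rules := [
  ([0, 0], []),
  ([1, 1], []),
  ([2, 2], []),
  ([3, 3], []),
  ([4, 4], []),
  ([5, 5], []),
  ([6, 6], []),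
  ([1, 0], [0, 1, 2, 5]),
  ([2, 0], [0, 2]),
  ([2, 1], [1, 2, 6]),
  ([3, 0], [0, 3, 5, 6]),
  ([3, 1], [1, 3, 4]),
  ([3, 2], [2, 3, 5]),
  ([4, 0], [0, 4, 5]),
  ([4, 1], [1, 4]),
  ([4, 2], [2, 4, 6]),
  ([4, 3], [3, 4]),
  ([5, 0], [0, 5]),
  ([5, 1], [1, 5, 6]),
  ([5, 2], [2, 5]),
  ([5, 3], [3, 5]),
  ([5, 4], [4, 5]),
  ([6, 0], [0, 6]),
  ([6, 1], [1, 6]),
  ([6, 2], [2, 6]),
  ([6, 3], [3, 6]),
  ([6, 4], [4, 6]),
  ([6, 5], [5, 6]),
  ([0, 4, 0, 2, 3, 6], [0, 2, 3, 6, 0, 4]),
  ([7, 0, 2, 5, 6], [3, 6, 7]),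
  ([7, 0, 5], [3, 4, 5, 7]),
  ([8, 1, 4, 6], [1, 6, 8]),
  ([8, 1, 6], [4, 8]),
  ([8, 4, 6], [4, 6, 8]),
  ([9, 4], [2, 6, 9]),
  ([9, 5], [1, 2, 4, 9]),
  ([9, 3], [2, 9])]

/-- The rule commuting the two chosen elements of order four. -/
def commRule : ℕ := 28

/-- The first element of order four. -/
def wordA : List ℕ := [0, 4]

/-- The second element of order four. -/
def wordB : List ℕ := [0, 2, 3, 6]

/-- Two commuting elements of order three. -/
def elemU : ℕ := 0x171603050c1215070908130d0b0e040a0206010f11101400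

/-- See `elemU`. -/
def elemV : ℕ := 0x1706091403160f020c0815110b0e0d0a1012051304070100

/-- The normal words. -/
def normWords : List (List ℕ) := [
  [],
  [0],
  [1],
  [0, 1],
  [2],
  [0, 2],
  [1, 2],
  [0, 1, 2],
  [3],
  [0, 3],
  [1, 3],
  [0, 1, 3],
  [2, 3],
  [0, 2, 3],
  [1, 2, 3],
  [0, 1, 2, 3],
  [4],
  [0, 4],
  [1, 4],
  [0, 1, 4],
  [2, 4],
  [0, 2, 4],
  [1, 2, 4],
  [0, 1, 2, 4],
  [3, 4],
  [0, 3, 4],
  [1, 3, 4],
  [0, 1, 3, 4],
  [2, 3, 4],
  [0, 2, 3, 4],
  [1, 2, 3, 4],
  [0, 1, 2, 3, 4],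
  [5],
  [0, 5],
  [1, 5],
  [0, 1, 5],
  [2, 5],
  [0, 2, 5],
  [1, 2, 5],
  [0, 1, 2, 5],
  [3, 5],
  [0, 3, 5],
  [1, 3, 5],
  [0, 1, 3, 5],
  [2, 3, 5],
  [0, 2, 3, 5],
  [1, 2, 3, 5],
  [0, 1, 2, 3, 5],
  [4, 5],
  [0, 4, 5],
  [1, 4, 5],
  [0, 1, 4, 5],
  [2, 4, 5],
  [0, 2, 4, 5],
  [1, 2, 4, 5],
  [0, 1, 2, 4, 5],
  [3, 4, 5],
  [0, 3, 4, 5],
  [1, 3, 4, 5],
  [0, 1, 3, 4, 5],
  [2, 3, 4, 5],
  [0, 2, 3, 4, 5],
  [1, 2, 3, 4, 5],
  [0, 1, 2, 3, 4, 5],
  [6],
  [0, 6],
  [1, 6],
  [0, 1, 6],
  [2, 6],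
  [0, 2, 6],
  [1, 2, 6],
  [0, 1, 2, 6],
  [3, 6],
  [0, 3, 6],
  [1, 3, 6],
  [0, 1, 3, 6],
  [2, 3, 6],
  [0, 2, 3, 6],
  [1, 2, 3, 6],
  [0, 1, 2, 3, 6],
  [4, 6],
  [0, 4, 6],
  [1, 4, 6],
  [0, 1, 4, 6],
  [2, 4, 6],
  [0, 2, 4, 6],
  [1, 2, 4, 6],
  [0, 1, 2, 4, 6],
  [3, 4, 6],
  [0, 3, 4, 6],
  [1, 3, 4, 6],
  [0, 1, 3, 4, 6],
  [2, 3, 4, 6],
  [0, 2, 3, 4, 6],
  [1, 2, 3, 4, 6],
  [0, 1, 2, 3, 4, 6],
  [5, 6],
  [0, 5, 6],
  [1, 5, 6],
  [0, 1, 5, 6],
  [2, 5, 6],
  [0, 2, 5, 6],
  [1, 2, 5, 6],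
  [0, 1, 2, 5, 6],
  [3, 5, 6],
  [0, 3, 5, 6],
  [1, 3, 5, 6],
  [0, 1, 3, 5, 6],
  [2, 3, 5, 6],
  [0, 2, 3, 5, 6],
  [1, 2, 3, 5, 6],
  [0, 1, 2, 3, 5, 6],
  [4, 5, 6],
  [0, 4, 5, 6],
  [1, 4, 5, 6],
  [0, 1, 4, 5, 6],
  [2, 4, 5, 6],
  [0, 2, 4, 5, 6],
  [1, 2, 4, 5, 6],
  [0, 1, 2, 4, 5, 6],
  [3, 4, 5, 6],
  [0, 3, 4, 5, 6],
  [1, 3, 4, 5, 6],
  [0, 1, 3, 4, 5, 6],
  [2, 3, 4, 5, 6],
  [0, 2, 3, 4, 5, 6],
  [1, 2, 3, 4, 5, 6],
  [0, 1, 2, 3, 4, 5, 6]]

/-- Derivations showing that normal words form a subgroup. -/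
def closing : List (List (List (ℕ × ℕ × Bool) × ℕ)) := [
  [([], 1), ([], 2), ([], 4), ([], 8), ([], 16), ([], 32), ([], 64)],
  [([(0, 0, true)], 0), ([], 3), ([], 5), ([], 9), ([], 17), ([], 33), ([], 65)],
  [([(0, 7, true)], 39), ([(0, 1, true)], 0), ([], 6), ([], 10), ([], 18), ([], 34), ([], 66)],
  [([(1, 7, true), (0, 0, true)], 38), ([(1, 1, true)], 1), ([], 7), ([], 11), ([], 19), ([], 35), ([], 67)],
  [([(0, 8, true)], 5), ([(0, 9, true)], 70), ([(0, 2, true)], 0), ([], 12), ([], 20), ([], 36), ([], 68)],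
  [([(1, 8, true), (0, 0, true)], 4), ([(1, 9, true)], 71), ([(1, 2, true)], 1), ([], 13), ([], 21), ([], 37), ([], 69)],
  [([(1, 8, true), (0, 7, true), (3, 19, true), (2, 2, true)], 35), ([(1, 9, true), (0, 1, true)], 68), ([(1, 2, true)], 2), ([], 14), ([], 22), ([], 38), ([], 70)],
  [([(2, 8, true), (1, 7, true), (0, 0, true), (2, 19, true), (1, 2, true)], 34), ([(2, 9, true), (1, 1, true)], 69), ([(2, 2, true)], 3), ([], 15), ([], 23), ([], 39), ([], 71)],
  [([(0, 10, true)], 105), ([(0, 11, true)], 26), ([(0, 12, true)], 44), ([(0, 3, true)], 0), ([], 24), ([], 40), ([], 72)],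
  [([(1, 10, true), (0, 0, true)], 104), ([(1, 11, true)], 27), ([(1, 12, true)], 45), ([(1, 3, true)], 1), ([], 25), ([], 41), ([], 73)],
  [([(1, 10, true), (0, 7, true), (3, 20, true), (4, 5, true)], 79), ([(1, 11, true), (0, 1, true)], 24), ([(1, 12, true)], 46), ([(1, 3, true)], 2), ([], 26), ([], 42), ([], 74)],
  [([(2, 10, true), (1, 7, true), (0, 0, true), (2, 20, true), (3, 5, true)], 78), ([(2, 11, true), (1, 1, true)], 25), ([(2, 12, true)], 47), ([(2, 3, true)], 3), ([], 27), ([], 43), ([], 75)],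
  [([(1, 10, true), (0, 8, true)], 109), ([(1, 11, true), (0, 9, true), (2, 25, true), (3, 26, true)], 94), ([(1, 12, true), (0, 2, true)], 40), ([(1, 3, true)], 4), ([], 28), ([], 44), ([], 76)],
  [([(2, 10, true), (1, 8, true), (0, 0, true)], 108), ([(2, 11, true), (1, 9, true), (3, 25, true), (4, 26, true)], 95), ([(2, 12, true), (1, 2, true)], 41), ([(2, 3, true)], 5), ([], 29), ([], 45), ([], 77)],
  [([(2, 10, true), (1, 8, true), (0, 7, true), (3, 19, true), (2, 2, true), (2, 20, true), (3, 5, true)], 75), ([(2, 11, true), (1, 9, true), (0, 1, true), (1, 25, true), (2, 26, true)], 92), ([(2, 12, true), (1, 2, true)], 42), ([(2, 3, true)], 6), ([], 30), ([], 46), ([], 78)],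
  [([(3, 10, true), (2, 8, true), (1, 7, true), (0, 0, true), (2, 19, true), (1, 2, true), (1, 20, true), (2, 5, true)], 74), ([(3, 11, true), (2, 9, true), (1, 1, true), (2, 25, true), (3, 26, true)], 93), ([(3, 12, true), (2, 2, true)], 43), ([(3, 3, true)], 7), ([], 31), ([], 47), ([], 79)],
  [([(0, 13, true)], 49), ([(0, 14, true)], 18), ([(0, 15, true)], 84), ([(0, 16, true)], 24), ([(0, 4, true)], 0), ([], 48), ([], 80)],
  [([(1, 13, true), (0, 0, true)], 48), ([(1, 14, true)], 19), ([(1, 15, true)], 85), ([(1, 16, true)], 25), ([(1, 4, true)], 1), ([], 49), ([], 81)],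
  [([(1, 13, true), (0, 7, true), (3, 21, true), (4, 5, true)], 23), ([(1, 14, true), (0, 1, true)], 16), ([(1, 15, true)], 86), ([(1, 16, true)], 26), ([(1, 4, true)], 2), ([], 50), ([], 82)],
  [([(2, 13, true), (1, 7, true), (0, 0, true), (2, 21, true), (3, 5, true)], 22), ([(2, 14, true), (1, 1, true)], 17), ([(2, 15, true)], 87), ([(2, 16, true)], 27), ([(2, 4, true)], 3), ([], 51), ([], 83)],
  [([(1, 13, true), (0, 8, true)], 53), ([(1, 14, true), (0, 9, true), (2, 26, true)], 86), ([(1, 15, true), (0, 2, true)], 80), ([(1, 16, true)], 28), ([(1, 4, true)], 4), ([], 52), ([], 84)],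
  [([(2, 13, true), (1, 8, true), (0, 0, true)], 52), ([(2, 14, true), (1, 9, true), (3, 26, true)], 87), ([(2, 15, true), (1, 2, true)], 81), ([(2, 16, true)], 29), ([(2, 4, true)], 5), ([], 53), ([], 85)],
  [([(2, 13, true), (1, 8, true), (0, 7, true), (3, 19, true), (2, 2, true), (2, 21, true), (3, 5, true)], 19), ([(2, 14, true), (1, 9, true), (0, 1, true), (1, 26, true)], 84), ([(2, 15, true), (1, 2, true)], 82), ([(2, 16, true)], 30), ([(2, 4, true)], 6), ([], 54), ([], 86)],
  [([(3, 13, true), (2, 8, true), (1, 7, true), (0, 0, true), (2, 19, true), (1, 2, true), (1, 21, true), (2, 5, true)], 18), ([(3, 14, true), (2, 9, true), (1, 1, true), (2, 26, true)], 85), ([(3, 15, true), (2, 2, true)], 83), ([(3, 16, true)], 31), ([(3, 4, true)], 7), ([], 55), ([], 87)],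
  [([(1, 13, true), (0, 10, true), (3, 26, true), (2, 21, true), (4, 27, true), (3, 5, true)], 89), ([(1, 14, true), (0, 11, true), (2, 4, true)], 10), ([(1, 15, true), (0, 12, true), (2, 21, true)], 124), ([(1, 16, true), (0, 3, true)], 16), ([(1, 4, true)], 8), ([], 56), ([], 88)],
  [([(2, 13, true), (1, 10, true), (0, 0, true), (2, 26, true), (1, 21, true), (3, 27, true), (2, 5, true)], 88), ([(2, 14, true), (1, 11, true), (3, 4, true)], 11), ([(2, 15, true), (1, 12, true), (3, 21, true)], 125), ([(2, 16, true), (1, 3, true)], 17), ([(2, 4, true)], 9), ([], 57), ([], 89)],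
  [([(2, 13, true), (1, 10, true), (0, 7, true), (3, 20, true), (4, 5, true), (4, 26, true), (5, 27, true)], 127), ([(2, 14, true), (1, 11, true), (0, 1, true), (1, 4, true)], 8), ([(2, 15, true), (1, 12, true), (3, 21, true)], 126), ([(2, 16, true), (1, 3, true)], 18), ([(2, 4, true)], 10), ([], 58), ([], 90)],
  [([(3, 13, true), (2, 10, true), (1, 7, true), (0, 0, true), (2, 20, true), (3, 5, true), (3, 26, true), (4, 27, true)], 126), ([(3, 14, true), (2, 11, true), (1, 1, true), (2, 4, true)], 9), ([(3, 15, true), (2, 12, true), (4, 21, true)], 127), ([(3, 16, true), (2, 3, true)], 19), ([(3, 4, true)], 11), ([], 59), ([], 91)],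
  [([(2, 13, true), (1, 10, true), (0, 8, true), (4, 26, true), (3, 21, true), (5, 27, true), (4, 5, true)], 93), ([(2, 14, true), (1, 11, true), (0, 9, true), (2, 25, true), (3, 26, true), (4, 26, true), (3, 4, true)], 78), ([(2, 15, true), (1, 12, true), (0, 2, true), (1, 21, true)], 120), ([(2, 16, true), (1, 3, true)], 20), ([(2, 4, true)], 12), ([], 60), ([], 92)],
  [([(3, 13, true), (2, 10, true), (1, 8, true), (0, 0, true), (3, 26, true), (2, 21, true), (4, 27, true), (3, 5, true)], 92), ([(3, 14, true), (2, 11, true), (1, 9, true), (3, 25, true), (4, 26, true), (5, 26, true), (4, 4, true)], 79), ([(3, 15, true), (2, 12, true), (1, 2, true), (2, 21, true)], 121), ([(3, 16, true), (2, 3, true)], 21), ([(3, 4, true)], 13), ([], 61), ([], 93)],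
  [([(3, 13, true), (2, 10, true), (1, 8, true), (0, 7, true), (3, 19, true), (2, 2, true), (2, 20, true), (3, 5, true), (3, 26, true), (4, 27, true)], 123), ([(3, 14, true), (2, 11, true), (1, 9, true), (0, 1, true), (1, 25, true), (2, 26, true), (3, 26, true), (2, 4, true)], 76), ([(3, 15, true), (2, 12, true), (1, 2, true), (2, 21, true)], 122), ([(3, 16, true), (2, 3, true)], 22), ([(3, 4, true)], 14), ([], 62), ([], 94)],
  [([(4, 13, true), (3, 10, true), (2, 8, true), (1, 7, true), (0, 0, true), (2, 19, true), (1, 2, true), (1, 20, true), (2, 5, true), (2, 26, true), (3, 27, true)], 122), ([(4, 14, true), (3, 11, true), (2, 9, true), (1, 1, true), (2, 25, true), (3, 26, true), (4, 26, true), (3, 4, true)], 77), ([(4, 15, true), (3, 12, true), (2, 2, true), (3, 21, true)], 123), ([(4, 16, true), (3, 3, true)], 23), ([(4, 4, true)], 15), ([], 63), ([], 95)],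
  [([(0, 17, true)], 33), ([(0, 18, true)], 98), ([(0, 19, true)], 36), ([(0, 20, true)], 40), ([(0, 21, true)], 48), ([(0, 5, true)], 0), ([], 96)],
  [([(1, 17, true), (0, 0, true)], 32), ([(1, 18, true)], 99), ([(1, 19, true)], 37), ([(1, 20, true)], 41), ([(1, 21, true)], 49), ([(1, 5, true)], 1), ([], 97)],
  [([(1, 17, true), (0, 7, true), (3, 5, true)], 7), ([(1, 18, true), (0, 1, true)], 96), ([(1, 19, true)], 38), ([(1, 20, true)], 42), ([(1, 21, true)], 50), ([(1, 5, true)], 2), ([], 98)],
  [([(2, 17, true), (1, 7, true), (0, 0, true), (2, 5, true)], 6), ([(2, 18, true), (1, 1, true)], 97), ([(2, 19, true)], 39), ([(2, 20, true)], 43), ([(2, 21, true)], 51), ([(2, 5, true)], 3), ([], 99)],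
  [([(1, 17, true), (0, 8, true)], 37), ([(1, 18, true), (0, 9, true), (2, 27, true), (3, 6, true)], 38), ([(1, 19, true), (0, 2, true)], 32), ([(1, 20, true)], 44), ([(1, 21, true)], 52), ([(1, 5, true)], 4), ([], 100)],
  [([(2, 17, true), (1, 8, true), (0, 0, true)], 36), ([(2, 18, true), (1, 9, true), (3, 27, true), (4, 6, true)], 39), ([(2, 19, true), (1, 2, true)], 33), ([(2, 20, true)], 45), ([(2, 21, true)], 53), ([(2, 5, true)], 5), ([], 101)],
  [([(2, 17, true), (1, 8, true), (0, 7, true), (3, 19, true), (2, 2, true), (2, 5, true)], 3), ([(2, 18, true), (1, 9, true), (0, 1, true), (1, 27, true), (2, 6, true)], 36), ([(2, 19, true), (1, 2, true)], 34), ([(2, 20, true)], 46), ([(2, 21, true)], 54), ([(2, 5, true)], 6), ([], 102)],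
  [([(3, 17, true), (2, 8, true), (1, 7, true), (0, 0, true), (2, 19, true), (1, 2, true), (1, 5, true)], 2), ([(3, 18, true), (2, 9, true), (1, 1, true), (2, 27, true), (3, 6, true)], 37), ([(3, 19, true), (2, 2, true)], 35), ([(3, 20, true)], 47), ([(3, 21, true)], 55), ([(3, 5, true)], 7), ([], 103)],
  [([(1, 17, true), (0, 10, true), (3, 27, true), (2, 5, true)], 73), ([(1, 18, true), (0, 11, true)], 122), ([(1, 19, true), (0, 12, true), (2, 5, true)], 12), ([(1, 20, true), (0, 3, true)], 32), ([(1, 21, true)], 56), ([(1, 5, true)], 8), ([], 104)],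
  [([(2, 17, true), (1, 10, true), (0, 0, true), (2, 27, true), (1, 5, true)], 72), ([(2, 18, true), (1, 11, true)], 123), ([(2, 19, true), (1, 12, true), (3, 5, true)], 13), ([(2, 20, true), (1, 3, true)], 33), ([(2, 21, true)], 57), ([(2, 5, true)], 9), ([], 105)],
  [([(2, 17, true), (1, 10, true), (0, 7, true), (3, 20, true), (4, 5, true), (4, 27, true)], 111), ([(2, 18, true), (1, 11, true), (0, 1, true)], 120), ([(2, 19, true), (1, 12, true), (3, 5, true)], 14), ([(2, 20, true), (1, 3, true)], 34), ([(2, 21, true)], 58), ([(2, 5, true)], 10), ([], 106)],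
  [([(3, 17, true), (2, 10, true), (1, 7, true), (0, 0, true), (2, 20, true), (3, 5, true), (3, 27, true)], 110), ([(3, 18, true), (2, 11, true), (1, 1, true)], 121), ([(3, 19, true), (2, 12, true), (4, 5, true)], 15), ([(3, 20, true), (2, 3, true)], 35), ([(3, 21, true)], 59), ([(3, 5, true)], 11), ([], 107)],
  [([(2, 17, true), (1, 10, true), (0, 8, true), (4, 27, true), (3, 5, true)], 77), ([(2, 18, true), (1, 11, true), (0, 9, true), (2, 25, true), (3, 26, true), (4, 27, true), (5, 6, true)], 62), ([(2, 19, true), (1, 12, true), (0, 2, true), (1, 5, true)], 8), ([(2, 20, true), (1, 3, true)], 36), ([(2, 21, true)], 60), ([(2, 5, true)], 12), ([], 108)],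
  [([(3, 17, true), (2, 10, true), (1, 8, true), (0, 0, true), (3, 27, true), (2, 5, true)], 76), ([(3, 18, true), (2, 11, true), (1, 9, true), (3, 25, true), (4, 26, true), (5, 27, true), (6, 6, true)], 63), ([(3, 19, true), (2, 12, true), (1, 2, true), (2, 5, true)], 9), ([(3, 20, true), (2, 3, true)], 37), ([(3, 21, true)], 61), ([(3, 5, true)], 13), ([], 109)],
  [([(3, 17, true), (2, 10, true), (1, 8, true), (0, 7, true), (3, 19, true), (2, 2, true), (2, 20, true), (3, 5, true), (3, 27, true)], 107), ([(3, 18, true), (2, 11, true), (1, 9, true), (0, 1, true), (1, 25, true), (2, 26, true), (3, 27, true), (4, 6, true)], 60), ([(3, 19, true), (2, 12, true), (1, 2, true), (2, 5, true)], 10), ([(3, 20, true), (2, 3, true)], 38), ([(3, 21, true)], 62), ([(3, 5, true)], 14), ([], 110)],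
  [([(4, 17, true), (3, 10, true), (2, 8, true), (1, 7, true), (0, 0, true), (2, 19, true), (1, 2, true), (1, 20, true), (2, 5, true), (2, 27, true)], 106), ([(4, 18, true), (3, 11, true), (2, 9, true), (1, 1, true), (2, 25, true), (3, 26, true), (4, 27, true), (5, 6, true)], 61), ([(4, 19, true), (3, 12, true), (2, 2, true), (3, 5, true)], 11), ([(4, 20, true), (3, 3, true)], 39), ([(4, 21, true)], 63), ([(4, 5, true)], 15), ([], 111)],
  [([(1, 17, true), (0, 13, true), (2, 5, true)], 17), ([(1, 18, true), (0, 14, true)], 114), ([(1, 19, true), (0, 15, true), (2, 27, true)], 116), ([(1, 20, true), (0, 16, true)], 56), ([(1, 21, true), (0, 4, true)], 32), ([(1, 5, true)], 16), ([], 112)],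
  [([(2, 17, true), (1, 13, true), (0, 0, true), (1, 5, true)], 16), ([(2, 18, true), (1, 14, true)], 115), ([(2, 19, true), (1, 15, true), (3, 27, true)], 117), ([(2, 20, true), (1, 16, true)], 57), ([(2, 21, true), (1, 4, true)], 33), ([(2, 5, true)], 17), ([], 113)],
  [([(2, 17, true), (1, 13, true), (0, 7, true), (3, 21, true), (4, 5, true)], 55), ([(2, 18, true), (1, 14, true), (0, 1, true)], 112), ([(2, 19, true), (1, 15, true), (3, 27, true)], 118), ([(2, 20, true), (1, 16, true)], 58), ([(2, 21, true), (1, 4, true)], 34), ([(2, 5, true)], 18), ([], 114)],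
  [([(3, 17, true), (2, 13, true), (1, 7, true), (0, 0, true), (2, 21, true), (3, 5, true)], 54), ([(3, 18, true), (2, 14, true), (1, 1, true)], 113), ([(3, 19, true), (2, 15, true), (4, 27, true)], 119), ([(3, 20, true), (2, 16, true)], 59), ([(3, 21, true), (2, 4, true)], 35), ([(3, 5, true)], 19), ([], 115)],
  [([(2, 17, true), (1, 13, true), (0, 8, true), (3, 5, true)], 21), ([(2, 18, true), (1, 14, true), (0, 9, true), (2, 26, true), (3, 27, true), (4, 6, true)], 54), ([(2, 19, true), (1, 15, true), (0, 2, true), (1, 27, true)], 112), ([(2, 20, true), (1, 16, true)], 60), ([(2, 21, true), (1, 4, true)], 36), ([(2, 5, true)], 20), ([], 116)],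
  [([(3, 17, true), (2, 13, true), (1, 8, true), (0, 0, true), (2, 5, true)], 20), ([(3, 18, true), (2, 14, true), (1, 9, true), (3, 26, true), (4, 27, true), (5, 6, true)], 55), ([(3, 19, true), (2, 15, true), (1, 2, true), (2, 27, true)], 113), ([(3, 20, true), (2, 16, true)], 61), ([(3, 21, true), (2, 4, true)], 37), ([(3, 5, true)], 21), ([], 117)],
  [([(3, 17, true), (2, 13, true), (1, 8, true), (0, 7, true), (3, 19, true), (2, 2, true), (2, 21, true), (3, 5, true)], 51), ([(3, 18, true), (2, 14, true), (1, 9, true), (0, 1, true), (1, 26, true), (2, 27, true), (3, 6, true)], 52), ([(3, 19, true), (2, 15, true), (1, 2, true), (2, 27, true)], 114), ([(3, 20, true), (2, 16, true)], 62), ([(3, 21, true), (2, 4, true)], 38), ([(3, 5, true)], 22), ([], 118)],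
  [([(4, 17, true), (3, 13, true), (2, 8, true), (1, 7, true), (0, 0, true), (2, 19, true), (1, 2, true), (1, 21, true), (2, 5, true)], 50), ([(4, 18, true), (3, 14, true), (2, 9, true), (1, 1, true), (2, 26, true), (3, 27, true), (4, 6, true)], 53), ([(4, 19, true), (3, 15, true), (2, 2, true), (3, 27, true)], 115), ([(4, 20, true), (3, 16, true)], 63), ([(4, 21, true), (3, 4, true)], 39), ([(4, 5, true)], 23), ([], 119)],
  [([(2, 17, true), (1, 13, true), (0, 10, true), (3, 26, true), (2, 21, true), (4, 27, true), (3, 5, true), (3, 27, true)], 121), ([(2, 18, true), (1, 14, true), (0, 11, true), (2, 4, true)], 106), ([(2, 19, true), (1, 15, true), (0, 12, true), (2, 21, true), (4, 27, true), (3, 5, true)], 92), ([(2, 20, true), (1, 16, true), (0, 3, true)], 48), ([(2, 21, true), (1, 4, true)], 40), ([(2, 5, true)], 24), ([], 120)],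
  [([(3, 17, true), (2, 13, true), (1, 10, true), (0, 0, true), (2, 26, true), (1, 21, true), (3, 27, true), (2, 5, true), (2, 27, true)], 120), ([(3, 18, true), (2, 14, true), (1, 11, true), (3, 4, true)], 107), ([(3, 19, true), (2, 15, true), (1, 12, true), (3, 21, true), (5, 27, true), (4, 5, true)], 93), ([(3, 20, true), (2, 16, true), (1, 3, true)], 49), ([(3, 21, true), (2, 4, true)], 41), ([(3, 5, true)], 25), ([], 121)],
  [([(3, 17, true), (2, 13, true), (1, 10, true), (0, 7, true), (3, 20, true), (4, 5, true), (4, 26, true), (5, 27, true), (6, 27, true), (5, 5, true)], 95), ([(3, 18, true), (2, 14, true), (1, 11, true), (0, 1, true), (1, 4, true)], 104), ([(3, 19, true), (2, 15, true), (1, 12, true), (3, 21, true), (5, 27, true), (4, 5, true)], 94), ([(3, 20, true), (2, 16, true), (1, 3, true)], 50), ([(3, 21, true), (2, 4, true)], 42), ([(3, 5, true)], 26), ([], 122)],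
  [([(4, 17, true), (3, 13, true), (2, 10, true), (1, 7, true), (0, 0, true), (2, 20, true), (3, 5, true), (3, 26, true), (4, 27, true), (5, 27, true), (4, 5, true)], 94), ([(4, 18, true), (3, 14, true), (2, 11, true), (1, 1, true), (2, 4, true)], 105), ([(4, 19, true), (3, 15, true), (2, 12, true), (4, 21, true), (6, 27, true), (5, 5, true)], 95), ([(4, 20, true), (3, 16, true), (2, 3, true)], 51), ([(4, 21, true), (3, 4, true)], 43), ([(4, 5, true)], 27), ([], 123)],
  [([(3, 17, true), (2, 13, true), (1, 10, true), (0, 8, true), (4, 26, true), (3, 21, true), (5, 27, true), (4, 5, true), (4, 27, true)], 125), ([(3, 18, true), (2, 14, true), (1, 11, true), (0, 9, true), (2, 25, true), (3, 26, true), (4, 26, true), (3, 4, true), (3, 27, true), (4, 6, true)], 46), ([(3, 19, true), (2, 15, true), (1, 12, true), (0, 2, true), (1, 21, true), (3, 27, true), (2, 5, true)], 88), ([(3, 20, true), (2, 16, true), (1, 3, true)], 52), ([(3, 21, true), (2, 4, true)], 44), ([(3, 5, true)], 28), ([], 124)],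
  [([(4, 17, true), (3, 13, true), (2, 10, true), (1, 8, true), (0, 0, true), (3, 26, true), (2, 21, true), (4, 27, true), (3, 5, true), (3, 27, true)], 124), ([(4, 18, true), (3, 14, true), (2, 11, true), (1, 9, true), (3, 25, true), (4, 26, true), (5, 26, true), (4, 4, true), (4, 27, true), (5, 6, true)], 47), ([(4, 19, true), (3, 15, true), (2, 12, true), (1, 2, true), (2, 21, true), (4, 27, true), (3, 5, true)], 89), ([(4, 20, true), (3, 16, true), (2, 3, true)], 53), ([(4, 21, true), (3, 4, true)], 45), ([(4, 5, true)], 29), ([], 125)],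
  [([(4, 17, true), (3, 13, true), (2, 10, true), (1, 8, true), (0, 7, true), (3, 19, true), (2, 2, true), (2, 20, true), (3, 5, true), (3, 26, true), (4, 27, true), (5, 27, true), (4, 5, true)], 91), ([(4, 18, true), (3, 14, true), (2, 11, true), (1, 9, true), (0, 1, true), (1, 25, true), (2, 26, true), (3, 26, true), (2, 4, true), (2, 27, true), (3, 6, true)], 44), ([(4, 19, true), (3, 15, true), (2, 12, true), (1, 2, true), (2, 21, true), (4, 27, true), (3, 5, true)], 90), ([(4, 20, true), (3, 16, true), (2, 3, true)], 54), ([(4, 21, true), (3, 4, true)], 46), ([(4, 5, true)], 30), ([], 126)],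
  [([(5, 17, true), (4, 13, true), (3, 10, true), (2, 8, true), (1, 7, true), (0, 0, true), (2, 19, true), (1, 2, true), (1, 20, true), (2, 5, true), (2, 26, true), (3, 27, true), (4, 27, true), (3, 5, true)], 90), ([(5, 18, true), (4, 14, true), (3, 11, true), (2, 9, true), (1, 1, true), (2, 25, true), (3, 26, true), (4, 26, true), (3, 4, true), (3, 27, true), (4, 6, true)], 45), ([(5, 19, true), (4, 15, true), (3, 12, true), (2, 2, true), (3, 21, true), (5, 27, true), (4, 5, true)], 91), ([(5, 20, true), (4, 16, true), (3, 3, true)], 55), ([(5, 21, true), (4, 4, true)], 47), ([(5, 5, true)], 31), ([], 127)],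
  [([(0, 22, true)], 65), ([(0, 23, true)], 66), ([(0, 24, true)], 68), ([(0, 25, true)], 72), ([(0, 26, true)], 80), ([(0, 27, true)], 96), ([(0, 6, true)], 0)],
  [([(1, 22, true), (0, 0, true)], 64), ([(1, 23, true)], 67), ([(1, 24, true)], 69), ([(1, 25, true)], 73), ([(1, 26, true)], 81), ([(1, 27, true)], 97), ([(1, 6, true)], 1)],
  [([(1, 22, true), (0, 7, true)], 103), ([(1, 23, true), (0, 1, true)], 64), ([(1, 24, true)], 70), ([(1, 25, true)], 74), ([(1, 26, true)], 82), ([(1, 27, true)], 98), ([(1, 6, true)], 2)],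
  [([(2, 22, true), (1, 7, true), (0, 0, true)], 102), ([(2, 23, true), (1, 1, true)], 65), ([(2, 24, true)], 71), ([(2, 25, true)], 75), ([(2, 26, true)], 83), ([(2, 27, true)], 99), ([(2, 6, true)], 3)],
  [([(1, 22, true), (0, 8, true)], 69), ([(1, 23, true), (0, 9, true), (2, 6, true)], 6), ([(1, 24, true), (0, 2, true)], 64), ([(1, 25, true)], 76), ([(1, 26, true)], 84), ([(1, 27, true)], 100), ([(1, 6, true)], 4)],
  [([(2, 22, true), (1, 8, true), (0, 0, true)], 68), ([(2, 23, true), (1, 9, true), (3, 6, true)], 7), ([(2, 24, true), (1, 2, true)], 65), ([(2, 25, true)], 77), ([(2, 26, true)], 85), ([(2, 27, true)], 101), ([(2, 6, true)], 5)],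
  [([(2, 22, true), (1, 8, true), (0, 7, true), (3, 19, true), (2, 2, true)], 99), ([(2, 23, true), (1, 9, true), (0, 1, true), (1, 6, true)], 4), ([(2, 24, true), (1, 2, true)], 66), ([(2, 25, true)], 78), ([(2, 26, true)], 86), ([(2, 27, true)], 102), ([(2, 6, true)], 6)],
  [([(3, 22, true), (2, 8, true), (1, 7, true), (0, 0, true), (2, 19, true), (1, 2, true)], 98), ([(3, 23, true), (2, 9, true), (1, 1, true), (2, 6, true)], 5), ([(3, 24, true), (2, 2, true)], 67), ([(3, 25, true)], 79), ([(3, 26, true)], 87), ([(3, 27, true)], 103), ([(3, 6, true)], 7)],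
  [([(1, 22, true), (0, 10, true), (3, 6, true)], 41), ([(1, 23, true), (0, 11, true)], 90), ([(1, 24, true), (0, 12, true)], 108), ([(1, 25, true), (0, 3, true)], 64), ([(1, 26, true)], 88), ([(1, 27, true)], 104), ([(1, 6, true)], 8)],
  [([(2, 22, true), (1, 10, true), (0, 0, true), (2, 6, true)], 40), ([(2, 23, true), (1, 11, true)], 91), ([(2, 24, true), (1, 12, true)], 109), ([(2, 25, true), (1, 3, true)], 65), ([(2, 26, true)], 89), ([(2, 27, true)], 105), ([(2, 6, true)], 9)],
  [([(2, 22, true), (1, 10, true), (0, 7, true), (3, 20, true), (4, 5, true), (4, 6, true)], 15), ([(2, 23, true), (1, 11, true), (0, 1, true)], 88), ([(2, 24, true), (1, 12, true)], 110), ([(2, 25, true), (1, 3, true)], 66), ([(2, 26, true)], 90), ([(2, 27, true)], 106), ([(2, 6, true)], 10)],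
  [([(3, 22, true), (2, 10, true), (1, 7, true), (0, 0, true), (2, 20, true), (3, 5, true), (3, 6, true)], 14), ([(3, 23, true), (2, 11, true), (1, 1, true)], 89), ([(3, 24, true), (2, 12, true)], 111), ([(3, 25, true), (2, 3, true)], 67), ([(3, 26, true)], 91), ([(3, 27, true)], 107), ([(3, 6, true)], 11)],
  [([(2, 22, true), (1, 10, true), (0, 8, true), (4, 6, true)], 45), ([(2, 23, true), (1, 11, true), (0, 9, true), (2, 25, true), (3, 26, true), (4, 6, true)], 30), ([(2, 24, true), (1, 12, true), (0, 2, true)], 104), ([(2, 25, true), (1, 3, true)], 68), ([(2, 26, true)], 92), ([(2, 27, true)], 108), ([(2, 6, true)], 12)],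
  [([(3, 22, true), (2, 10, true), (1, 8, true), (0, 0, true), (3, 6, true)], 44), ([(3, 23, true), (2, 11, true), (1, 9, true), (3, 25, true), (4, 26, true), (5, 6, true)], 31), ([(3, 24, true), (2, 12, true), (1, 2, true)], 105), ([(3, 25, true), (2, 3, true)], 69), ([(3, 26, true)], 93), ([(3, 27, true)], 109), ([(3, 6, true)], 13)],
  [([(3, 22, true), (2, 10, true), (1, 8, true), (0, 7, true), (3, 19, true), (2, 2, true), (2, 20, true), (3, 5, true), (3, 6, true)], 11), ([(3, 23, true), (2, 11, true), (1, 9, true), (0, 1, true), (1, 25, true), (2, 26, true), (3, 6, true)], 28), ([(3, 24, true), (2, 12, true), (1, 2, true)], 106), ([(3, 25, true), (2, 3, true)], 70), ([(3, 26, true)], 94), ([(3, 27, true)], 110), ([(3, 6, true)], 14)],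
  [([(4, 22, true), (3, 10, true), (2, 8, true), (1, 7, true), (0, 0, true), (2, 19, true), (1, 2, true), (1, 20, true), (2, 5, true), (2, 6, true)], 10), ([(4, 23, true), (3, 11, true), (2, 9, true), (1, 1, true), (2, 25, true), (3, 26, true), (4, 6, true)], 29), ([(4, 24, true), (3, 12, true), (2, 2, true)], 107), ([(4, 25, true), (3, 3, true)], 71), ([(4, 26, true)], 95), ([(4, 27, true)], 111), ([(4, 6, true)], 15)],
  [([(1, 22, true), (0, 13, true)], 113), ([(1, 23, true), (0, 14, true)], 82), ([(1, 24, true), (0, 15, true), (2, 6, true)], 20), ([(1, 25, true), (0, 16, true)], 88), ([(1, 26, true), (0, 4, true)], 64), ([(1, 27, true)], 112), ([(1, 6, true)], 16)],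
  [([(2, 22, true), (1, 13, true), (0, 0, true)], 112), ([(2, 23, true), (1, 14, true)], 83), ([(2, 24, true), (1, 15, true), (3, 6, true)], 21), ([(2, 25, true), (1, 16, true)], 89), ([(2, 26, true), (1, 4, true)], 65), ([(2, 27, true)], 113), ([(2, 6, true)], 17)],
  [([(2, 22, true), (1, 13, true), (0, 7, true), (3, 21, true), (4, 5, true)], 87), ([(2, 23, true), (1, 14, true), (0, 1, true)], 80), ([(2, 24, true), (1, 15, true), (3, 6, true)], 22), ([(2, 25, true), (1, 16, true)], 90), ([(2, 26, true), (1, 4, true)], 66), ([(2, 27, true)], 114), ([(2, 6, true)], 18)],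
  [([(3, 22, true), (2, 13, true), (1, 7, true), (0, 0, true), (2, 21, true), (3, 5, true)], 86), ([(3, 23, true), (2, 14, true), (1, 1, true)], 81), ([(3, 24, true), (2, 15, true), (4, 6, true)], 23), ([(3, 25, true), (2, 16, true)], 91), ([(3, 26, true), (2, 4, true)], 67), ([(3, 27, true)], 115), ([(3, 6, true)], 19)],
  [([(2, 22, true), (1, 13, true), (0, 8, true)], 117), ([(2, 23, true), (1, 14, true), (0, 9, true), (2, 26, true), (3, 6, true)], 22), ([(2, 24, true), (1, 15, true), (0, 2, true), (1, 6, true)], 16), ([(2, 25, true), (1, 16, true)], 92), ([(2, 26, true), (1, 4, true)], 68), ([(2, 27, true)], 116), ([(2, 6, true)], 20)],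
  [([(3, 22, true), (2, 13, true), (1, 8, true), (0, 0, true)], 116), ([(3, 23, true), (2, 14, true), (1, 9, true), (3, 26, true), (4, 6, true)], 23), ([(3, 24, true), (2, 15, true), (1, 2, true), (2, 6, true)], 17), ([(3, 25, true), (2, 16, true)], 93), ([(3, 26, true), (2, 4, true)], 69), ([(3, 27, true)], 117), ([(3, 6, true)], 21)],
  [([(3, 22, true), (2, 13, true), (1, 8, true), (0, 7, true), (3, 19, true), (2, 2, true), (2, 21, true), (3, 5, true)], 83), ([(3, 23, true), (2, 14, true), (1, 9, true), (0, 1, true), (1, 26, true), (2, 6, true)], 20), ([(3, 24, true), (2, 15, true), (1, 2, true), (2, 6, true)], 18), ([(3, 25, true), (2, 16, true)], 94), ([(3, 26, true), (2, 4, true)], 70), ([(3, 27, true)], 118), ([(3, 6, true)], 22)],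
  [([(4, 22, true), (3, 13, true), (2, 8, true), (1, 7, true), (0, 0, true), (2, 19, true), (1, 2, true), (1, 21, true), (2, 5, true)], 82), ([(4, 23, true), (3, 14, true), (2, 9, true), (1, 1, true), (2, 26, true), (3, 6, true)], 21), ([(4, 24, true), (3, 15, true), (2, 2, true), (3, 6, true)], 19), ([(4, 25, true), (3, 16, true)], 95), ([(4, 26, true), (3, 4, true)], 71), ([(4, 27, true)], 119), ([(4, 6, true)], 23)],
  [([(2, 22, true), (1, 13, true), (0, 10, true), (3, 26, true), (2, 21, true), (4, 27, true), (3, 5, true), (3, 6, true)], 25), ([(2, 23, true), (1, 14, true), (0, 11, true), (2, 4, true)], 74), ([(2, 24, true), (1, 15, true), (0, 12, true), (2, 21, true), (4, 6, true)], 60), ([(2, 25, true), (1, 16, true), (0, 3, true)], 80), ([(2, 26, true), (1, 4, true)], 72), ([(2, 27, true)], 120), ([(2, 6, true)], 24)],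
  [([(3, 22, true), (2, 13, true), (1, 10, true), (0, 0, true), (2, 26, true), (1, 21, true), (3, 27, true), (2, 5, true), (2, 6, true)], 24), ([(3, 23, true), (2, 14, true), (1, 11, true), (3, 4, true)], 75), ([(3, 24, true), (2, 15, true), (1, 12, true), (3, 21, true), (5, 6, true)], 61), ([(3, 25, true), (2, 16, true), (1, 3, true)], 81), ([(3, 26, true), (2, 4, true)], 73), ([(3, 27, true)], 121), ([(3, 6, true)], 25)],
  [([(3, 22, true), (2, 13, true), (1, 10, true), (0, 7, true), (3, 20, true), (4, 5, true), (4, 26, true), (5, 27, true), (6, 6, true)], 63), ([(3, 23, true), (2, 14, true), (1, 11, true), (0, 1, true), (1, 4, true)], 72), ([(3, 24, true), (2, 15, true), (1, 12, true), (3, 21, true), (5, 6, true)], 62), ([(3, 25, true), (2, 16, true), (1, 3, true)], 82), ([(3, 26, true), (2, 4, true)], 74), ([(3, 27, true)], 122), ([(3, 6, true)], 26)],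
  [([(4, 22, true), (3, 13, true), (2, 10, true), (1, 7, true), (0, 0, true), (2, 20, true), (3, 5, true), (3, 26, true), (4, 27, true), (5, 6, true)], 62), ([(4, 23, true), (3, 14, true), (2, 11, true), (1, 1, true), (2, 4, true)], 73), ([(4, 24, true), (3, 15, true), (2, 12, true), (4, 21, true), (6, 6, true)], 63), ([(4, 25, true), (3, 16, true), (2, 3, true)], 83), ([(4, 26, true), (3, 4, true)], 75), ([(4, 27, true)], 123), ([(4, 6, true)], 27)],
  [([(3, 22, true), (2, 13, true), (1, 10, true), (0, 8, true), (4, 26, true), (3, 21, true), (5, 27, true), (4, 5, true), (4, 6, true)], 29), ([(3, 23, true), (2, 14, true), (1, 11, true), (0, 9, true), (2, 25, true), (3, 26, true), (4, 26, true), (3, 4, true), (3, 6, true)], 14), ([(3, 24, true), (2, 15, true), (1, 12, true), (0, 2, true), (1, 21, true), (3, 6, true)], 56), ([(3, 25, true), (2, 16, true), (1, 3, true)], 84), ([(3, 26, true), (2, 4, true)], 76), ([(3, 27, true)], 124), ([(3, 6, true)], 28)],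
  [([(4, 22, true), (3, 13, true), (2, 10, true), (1, 8, true), (0, 0, true), (3, 26, true), (2, 21, true), (4, 27, true), (3, 5, true), (3, 6, true)], 28), ([(4, 23, true), (3, 14, true), (2, 11, true), (1, 9, true), (3, 25, true), (4, 26, true), (5, 26, true), (4, 4, true), (4, 6, true)], 15), ([(4, 24, true), (3, 15, true), (2, 12, true), (1, 2, true), (2, 21, true), (4, 6, true)], 57), ([(4, 25, true), (3, 16, true), (2, 3, true)], 85), ([(4, 26, true), (3, 4, true)], 77), ([(4, 27, true)], 125), ([(4, 6, true)], 29)],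
  [([(4, 22, true), (3, 13, true), (2, 10, true), (1, 8, true), (0, 7, true), (3, 19, true), (2, 2, true), (2, 20, true), (3, 5, true), (3, 26, true), (4, 27, true), (5, 6, true)], 59), ([(4, 23, true), (3, 14, true), (2, 11, true), (1, 9, true), (0, 1, true), (1, 25, true), (2, 26, true), (3, 26, true), (2, 4, true), (2, 6, true)], 12), ([(4, 24, true), (3, 15, true), (2, 12, true), (1, 2, true), (2, 21, true), (4, 6, true)], 58), ([(4, 25, true), (3, 16, true), (2, 3, true)], 86), ([(4, 26, true), (3, 4, true)], 78), ([(4, 27, true)], 126), ([(4, 6, true)], 30)],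
  [([(5, 22, true), (4, 13, true), (3, 10, true), (2, 8, true), (1, 7, true), (0, 0, true), (2, 19, true), (1, 2, true), (1, 20, true), (2, 5, true), (2, 26, true), (3, 27, true), (4, 6, true)], 58), ([(5, 23, true), (4, 14, true), (3, 11, true), (2, 9, true), (1, 1, true), (2, 25, true), (3, 26, true), (4, 26, true), (3, 4, true), (3, 6, true)], 13), ([(5, 24, true), (4, 15, true), (3, 12, true), (2, 2, true), (3, 21, true), (5, 6, true)], 59), ([(5, 25, true), (4, 16, true), (3, 3, true)], 87), ([(5, 26, true), (4, 4, true)], 79), ([(5, 27, true)], 127), ([(5, 6, true)], 31)],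
  [([(1, 22, true), (0, 17, true)], 97), ([(1, 23, true), (0, 18, true), (2, 6, true)], 34), ([(1, 24, true), (0, 19, true)], 100), ([(1, 25, true), (0, 20, true)], 104), ([(1, 26, true), (0, 21, true)], 112), ([(1, 27, true), (0, 5, true)], 64), ([(1, 6, true)], 32)],
  [([(2, 22, true), (1, 17, true), (0, 0, true)], 96), ([(2, 23, true), (1, 18, true), (3, 6, true)], 35), ([(2, 24, true), (1, 19, true)], 101), ([(2, 25, true), (1, 20, true)], 105), ([(2, 26, true), (1, 21, true)], 113), ([(2, 27, true), (1, 5, true)], 65), ([(2, 6, true)], 33)],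
  [([(2, 22, true), (1, 17, true), (0, 7, true), (3, 5, true)], 71), ([(2, 23, true), (1, 18, true), (0, 1, true), (1, 6, true)], 32), ([(2, 24, true), (1, 19, true)], 102), ([(2, 25, true), (1, 20, true)], 106), ([(2, 26, true), (1, 21, true)], 114), ([(2, 27, true), (1, 5, true)], 66), ([(2, 6, true)], 34)],
  [([(3, 22, true), (2, 17, true), (1, 7, true), (0, 0, true), (2, 5, true)], 70), ([(3, 23, true), (2, 18, true), (1, 1, true), (2, 6, true)], 33), ([(3, 24, true), (2, 19, true)], 103), ([(3, 25, true), (2, 20, true)], 107), ([(3, 26, true), (2, 21, true)], 115), ([(3, 27, true), (2, 5, true)], 67), ([(3, 6, true)], 35)],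
  [([(2, 22, true), (1, 17, true), (0, 8, true)], 101), ([(2, 23, true), (1, 18, true), (0, 9, true), (2, 27, true), (3, 6, true)], 102), ([(2, 24, true), (1, 19, true), (0, 2, true)], 96), ([(2, 25, true), (1, 20, true)], 108), ([(2, 26, true), (1, 21, true)], 116), ([(2, 27, true), (1, 5, true)], 68), ([(2, 6, true)], 36)],
  [([(3, 22, true), (2, 17, true), (1, 8, true), (0, 0, true)], 100), ([(3, 23, true), (2, 18, true), (1, 9, true), (3, 27, true), (4, 6, true)], 103), ([(3, 24, true), (2, 19, true), (1, 2, true)], 97), ([(3, 25, true), (2, 20, true)], 109), ([(3, 26, true), (2, 21, true)], 117), ([(3, 27, true), (2, 5, true)], 69), ([(3, 6, true)], 37)],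
  [([(3, 22, true), (2, 17, true), (1, 8, true), (0, 7, true), (3, 19, true), (2, 2, true), (2, 5, true)], 67), ([(3, 23, true), (2, 18, true), (1, 9, true), (0, 1, true), (1, 27, true), (2, 6, true)], 100), ([(3, 24, true), (2, 19, true), (1, 2, true)], 98), ([(3, 25, true), (2, 20, true)], 110), ([(3, 26, true), (2, 21, true)], 118), ([(3, 27, true), (2, 5, true)], 70), ([(3, 6, true)], 38)],
  [([(4, 22, true), (3, 17, true), (2, 8, true), (1, 7, true), (0, 0, true), (2, 19, true), (1, 2, true), (1, 5, true)], 66), ([(4, 23, true), (3, 18, true), (2, 9, true), (1, 1, true), (2, 27, true), (3, 6, true)], 101), ([(4, 24, true), (3, 19, true), (2, 2, true)], 99), ([(4, 25, true), (3, 20, true)], 111), ([(4, 26, true), (3, 21, true)], 119), ([(4, 27, true), (3, 5, true)], 71), ([(4, 6, true)], 39)],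
  [([(2, 22, true), (1, 17, true), (0, 10, true), (3, 27, true), (2, 5, true), (2, 6, true)], 9), ([(2, 23, true), (1, 18, true), (0, 11, true), (4, 6, true)], 58), ([(2, 24, true), (1, 19, true), (0, 12, true), (2, 5, true)], 76), ([(2, 25, true), (1, 20, true), (0, 3, true)], 96), ([(2, 26, true), (1, 21, true)], 120), ([(2, 27, true), (1, 5, true)], 72), ([(2, 6, true)], 40)],
  [([(3, 22, true), (2, 17, true), (1, 10, true), (0, 0, true), (2, 27, true), (1, 5, true), (1, 6, true)], 8), ([(3, 23, true), (2, 18, true), (1, 11, true), (5, 6, true)], 59), ([(3, 24, true), (2, 19, true), (1, 12, true), (3, 5, true)], 77), ([(3, 25, true), (2, 20, true), (1, 3, true)], 97), ([(3, 26, true), (2, 21, true)], 121), ([(3, 27, true), (2, 5, true)], 73), ([(3, 6, true)], 41)],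
  [([(3, 22, true), (2, 17, true), (1, 10, true), (0, 7, true), (3, 20, true), (4, 5, true), (4, 27, true), (5, 6, true)], 47), ([(3, 23, true), (2, 18, true), (1, 11, true), (0, 1, true), (3, 6, true)], 56), ([(3, 24, true), (2, 19, true), (1, 12, true), (3, 5, true)], 78), ([(3, 25, true), (2, 20, true), (1, 3, true)], 98), ([(3, 26, true), (2, 21, true)], 122), ([(3, 27, true), (2, 5, true)], 74), ([(3, 6, true)], 42)],
  [([(4, 22, true), (3, 17, true), (2, 10, true), (1, 7, true), (0, 0, true), (2, 20, true), (3, 5, true), (3, 27, true), (4, 6, true)], 46), ([(4, 23, true), (3, 18, true), (2, 11, true), (1, 1, true), (4, 6, true)], 57), ([(4, 24, true), (3, 19, true), (2, 12, true), (4, 5, true)], 79), ([(4, 25, true), (3, 20, true), (2, 3, true)], 99), ([(4, 26, true), (3, 21, true)], 123), ([(4, 27, true), (3, 5, true)], 75), ([(4, 6, true)], 43)],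
  [([(3, 22, true), (2, 17, true), (1, 10, true), (0, 8, true), (4, 27, true), (3, 5, true), (3, 6, true)], 13), ([(3, 23, true), (2, 18, true), (1, 11, true), (0, 9, true), (2, 25, true), (3, 26, true), (4, 27, true), (5, 6, true)], 126), ([(3, 24, true), (2, 19, true), (1, 12, true), (0, 2, true), (1, 5, true)], 72), ([(3, 25, true), (2, 20, true), (1, 3, true)], 100), ([(3, 26, true), (2, 21, true)], 124), ([(3, 27, true), (2, 5, true)], 76), ([(3, 6, true)], 44)],
  [([(4, 22, true), (3, 17, true), (2, 10, true), (1, 8, true), (0, 0, true), (3, 27, true), (2, 5, true), (2, 6, true)], 12), ([(4, 23, true), (3, 18, true), (2, 11, true), (1, 9, true), (3, 25, true), (4, 26, true), (5, 27, true), (6, 6, true)], 127), ([(4, 24, true), (3, 19, true), (2, 12, true), (1, 2, true), (2, 5, true)], 73), ([(4, 25, true), (3, 20, true), (2, 3, true)], 101), ([(4, 26, true), (3, 21, true)], 125), ([(4, 27, true), (3, 5, true)], 77), ([(4, 6, true)], 45)],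
  [([(4, 22, true), (3, 17, true), (2, 10, true), (1, 8, true), (0, 7, true), (3, 19, true), (2, 2, true), (2, 20, true), (3, 5, true), (3, 27, true), (4, 6, true)], 43), ([(4, 23, true), (3, 18, true), (2, 11, true), (1, 9, true), (0, 1, true), (1, 25, true), (2, 26, true), (3, 27, true), (4, 6, true)], 124), ([(4, 24, true), (3, 19, true), (2, 12, true), (1, 2, true), (2, 5, true)], 74), ([(4, 25, true), (3, 20, true), (2, 3, true)], 102), ([(4, 26, true), (3, 21, true)], 126), ([(4, 27, true), (3, 5, true)], 78), ([(4, 6, true)], 46)],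
  [([(5, 22, true), (4, 17, true), (3, 10, true), (2, 8, true), (1, 7, true), (0, 0, true), (2, 19, true), (1, 2, true), (1, 20, true), (2, 5, true), (2, 27, true), (3, 6, true)], 42), ([(5, 23, true), (4, 18, true), (3, 11, true), (2, 9, true), (1, 1, true), (2, 25, true), (3, 26, true), (4, 27, true), (5, 6, true)], 125), ([(5, 24, true), (4, 19, true), (3, 12, true), (2, 2, true), (3, 5, true)], 75), ([(5, 25, true), (4, 20, true), (3, 3, true)], 103), ([(5, 26, true), (4, 21, true)], 127), ([(5, 27, true), (4, 5, true)], 79), ([(5, 6, true)], 47)],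
  [([(2, 22, true), (1, 17, true), (0, 13, true), (2, 5, true)], 81), ([(2, 23, true), (1, 18, true), (0, 14, true), (3, 6, true)], 50), ([(2, 24, true), (1, 19, true), (0, 15, true), (2, 27, true), (3, 6, true)], 52), ([(2, 25, true), (1, 20, true), (0, 16, true)], 120), ([(2, 26, true), (1, 21, true), (0, 4, true)], 96), ([(2, 27, true), (1, 5, true)], 80), ([(2, 6, true)], 48)],
  [([(3, 22, true), (2, 17, true), (1, 13, true), (0, 0, true), (1, 5, true)], 80), ([(3, 23, true), (2, 18, true), (1, 14, true), (4, 6, true)], 51), ([(3, 24, true), (2, 19, true), (1, 15, true), (3, 27, true), (4, 6, true)], 53), ([(3, 25, true), (2, 20, true), (1, 16, true)], 121), ([(3, 26, true), (2, 21, true), (1, 4, true)], 97), ([(3, 27, true), (2, 5, true)], 81), ([(3, 6, true)], 49)],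
  [([(3, 22, true), (2, 17, true), (1, 13, true), (0, 7, true), (3, 21, true), (4, 5, true)], 119), ([(3, 23, true), (2, 18, true), (1, 14, true), (0, 1, true), (2, 6, true)], 48), ([(3, 24, true), (2, 19, true), (1, 15, true), (3, 27, true), (4, 6, true)], 54), ([(3, 25, true), (2, 20, true), (1, 16, true)], 122), ([(3, 26, true), (2, 21, true), (1, 4, true)], 98), ([(3, 27, true), (2, 5, true)], 82), ([(3, 6, true)], 50)],
  [([(4, 22, true), (3, 17, true), (2, 13, true), (1, 7, true), (0, 0, true), (2, 21, true), (3, 5, true)], 118), ([(4, 23, true), (3, 18, true), (2, 14, true), (1, 1, true), (3, 6, true)], 49), ([(4, 24, true), (3, 19, true), (2, 15, true), (4, 27, true), (5, 6, true)], 55), ([(4, 25, true), (3, 20, true), (2, 16, true)], 123), ([(4, 26, true), (3, 21, true), (2, 4, true)], 99), ([(4, 27, true), (3, 5, true)], 83), ([(4, 6, true)], 51)],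
  [([(3, 22, true), (2, 17, true), (1, 13, true), (0, 8, true), (3, 5, true)], 85), ([(3, 23, true), (2, 18, true), (1, 14, true), (0, 9, true), (2, 26, true), (3, 27, true), (4, 6, true)], 118), ([(3, 24, true), (2, 19, true), (1, 15, true), (0, 2, true), (1, 27, true), (2, 6, true)], 48), ([(3, 25, true), (2, 20, true), (1, 16, true)], 124), ([(3, 26, true), (2, 21, true), (1, 4, true)], 100), ([(3, 27, true), (2, 5, true)], 84), ([(3, 6, true)], 52)],
  [([(4, 22, true), (3, 17, true), (2, 13, true), (1, 8, true), (0, 0, true), (2, 5, true)], 84), ([(4, 23, true), (3, 18, true), (2, 14, true), (1, 9, true), (3, 26, true), (4, 27, true), (5, 6, true)], 119), ([(4, 24, true), (3, 19, true), (2, 15, true), (1, 2, true), (2, 27, true), (3, 6, true)], 49), ([(4, 25, true), (3, 20, true), (2, 16, true)], 125), ([(4, 26, true), (3, 21, true), (2, 4, true)], 101), ([(4, 27, true), (3, 5, true)], 85), ([(4, 6, true)], 53)],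
  [([(4, 22, true), (3, 17, true), (2, 13, true), (1, 8, true), (0, 7, true), (3, 19, true), (2, 2, true), (2, 21, true), (3, 5, true)], 115), ([(4, 23, true), (3, 18, true), (2, 14, true), (1, 9, true), (0, 1, true), (1, 26, true), (2, 27, true), (3, 6, true)], 116), ([(4, 24, true), (3, 19, true), (2, 15, true), (1, 2, true), (2, 27, true), (3, 6, true)], 50), ([(4, 25, true), (3, 20, true), (2, 16, true)], 126), ([(4, 26, true), (3, 21, true), (2, 4, true)], 102), ([(4, 27, true), (3, 5, true)], 86), ([(4, 6, true)], 54)],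
  [([(5, 22, true), (4, 17, true), (3, 13, true), (2, 8, true), (1, 7, true), (0, 0, true), (2, 19, true), (1, 2, true), (1, 21, true), (2, 5, true)], 114), ([(5, 23, true), (4, 18, true), (3, 14, true), (2, 9, true), (1, 1, true), (2, 26, true), (3, 27, true), (4, 6, true)], 117), ([(5, 24, true), (4, 19, true), (3, 15, true), (2, 2, true), (3, 27, true), (4, 6, true)], 51), ([(5, 25, true), (4, 20, true), (3, 16, true)], 127), ([(5, 26, true), (4, 21, true), (3, 4, true)], 103), ([(5, 27, true), (4, 5, true)], 87), ([(5, 6, true)], 55)],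
  [([(3, 22, true), (2, 17, true), (1, 13, true), (0, 10, true), (3, 26, true), (2, 21, true), (4, 27, true), (3, 5, true), (3, 27, true), (4, 6, true)], 57), ([(3, 23, true), (2, 18, true), (1, 14, true), (0, 11, true), (2, 4, true), (3, 6, true)], 42), ([(3, 24, true), (2, 19, true), (1, 15, true), (0, 12, true), (2, 21, true), (4, 27, true), (3, 5, true), (3, 6, true)], 28), ([(3, 25, true), (2, 20, true), (1, 16, true), (0, 3, true)], 112), ([(3, 26, true), (2, 21, true), (1, 4, true)], 104), ([(3, 27, true), (2, 5, true)], 88), ([(3, 6, true)], 56)],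
  [([(4, 22, true), (3, 17, true), (2, 13, true), (1, 10, true), (0, 0, true), (2, 26, true), (1, 21, true), (3, 27, true), (2, 5, true), (2, 27, true), (3, 6, true)], 56), ([(4, 23, true), (3, 18, true), (2, 14, true), (1, 11, true), (3, 4, true), (4, 6, true)], 43), ([(4, 24, true), (3, 19, true), (2, 15, true), (1, 12, true), (3, 21, true), (5, 27, true), (4, 5, true), (4, 6, true)], 29), ([(4, 25, true), (3, 20, true), (2, 16, true), (1, 3, true)], 113), ([(4, 26, true), (3, 21, true), (2, 4, true)], 105), ([(4, 27, true), (3, 5, true)], 89), ([(4, 6, true)], 57)],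
  [([(4, 22, true), (3, 17, true), (2, 13, true), (1, 10, true), (0, 7, true), (3, 20, true), (4, 5, true), (4, 26, true), (5, 27, true), (6, 27, true), (5, 5, true), (5, 6, true)], 31), ([(4, 23, true), (3, 18, true), (2, 14, true), (1, 11, true), (0, 1, true), (1, 4, true), (2, 6, true)], 40), ([(4, 24, true), (3, 19, true), (2, 15, true), (1, 12, true), (3, 21, true), (5, 27, true), (4, 5, true), (4, 6, true)], 30), ([(4, 25, true), (3, 20, true), (2, 16, true), (1, 3, true)], 114), ([(4, 26, true), (3, 21, true), (2, 4, true)], 106), ([(4, 27, true), (3, 5, true)], 90), ([(4, 6, true)], 58)],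
  [([(5, 22, true), (4, 17, true), (3, 13, true), (2, 10, true), (1, 7, true), (0, 0, true), (2, 20, true), (3, 5, true), (3, 26, true), (4, 27, true), (5, 27, true), (4, 5, true), (4, 6, true)], 30), ([(5, 23, true), (4, 18, true), (3, 14, true), (2, 11, true), (1, 1, true), (2, 4, true), (3, 6, true)], 41), ([(5, 24, true), (4, 19, true), (3, 15, true), (2, 12, true), (4, 21, true), (6, 27, true), (5, 5, true), (5, 6, true)], 31), ([(5, 25, true), (4, 20, true), (3, 16, true), (2, 3, true)], 115), ([(5, 26, true), (4, 21, true), (3, 4, true)], 107), ([(5, 27, true), (4, 5, true)], 91), ([(5, 6, true)], 59)],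
  [([(4, 22, true), (3, 17, true), (2, 13, true), (1, 10, true), (0, 8, true), (4, 26, true), (3, 21, true), (5, 27, true), (4, 5, true), (4, 27, true), (5, 6, true)], 61), ([(4, 23, true), (3, 18, true), (2, 14, true), (1, 11, true), (0, 9, true), (2, 25, true), (3, 26, true), (4, 26, true), (3, 4, true), (3, 27, true), (4, 6, true)], 110), ([(4, 24, true), (3, 19, true), (2, 15, true), (1, 12, true), (0, 2, true), (1, 21, true), (3, 27, true), (2, 5, true), (2, 6, true)], 24), ([(4, 25, true), (3, 20, true), (2, 16, true), (1, 3, true)], 116), ([(4, 26, true), (3, 21, true), (2, 4, true)], 108), ([(4, 27, true), (3, 5, true)], 92), ([(4, 6, true)], 60)],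
  [([(5, 22, true), (4, 17, true), (3, 13, true), (2, 10, true), (1, 8, true), (0, 0, true), (3, 26, true), (2, 21, true), (4, 27, true), (3, 5, true), (3, 27, true), (4, 6, true)], 60), ([(5, 23, true), (4, 18, true), (3, 14, true), (2, 11, true), (1, 9, true), (3, 25, true), (4, 26, true), (5, 26, true), (4, 4, true), (4, 27, true), (5, 6, true)], 111), ([(5, 24, true), (4, 19, true), (3, 15, true), (2, 12, true), (1, 2, true), (2, 21, true), (4, 27, true), (3, 5, true), (3, 6, true)], 25), ([(5, 25, true), (4, 20, true), (3, 16, true), (2, 3, true)], 117), ([(5, 26, true), (4, 21, true), (3, 4, true)], 109), ([(5, 27, true), (4, 5, true)], 93), ([(5, 6, true)], 61)],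
  [([(5, 22, true), (4, 17, true), (3, 13, true), (2, 10, true), (1, 8, true), (0, 7, true), (3, 19, true), (2, 2, true), (2, 20, true), (3, 5, true), (3, 26, true), (4, 27, true), (5, 27, true), (4, 5, true), (4, 6, true)], 27), ([(5, 23, true), (4, 18, true), (3, 14, true), (2, 11, true), (1, 9, true), (0, 1, true), (1, 25, true), (2, 26, true), (3, 26, true), (2, 4, true), (2, 27, true), (3, 6, true)], 108), ([(5, 24, true), (4, 19, true), (3, 15, true), (2, 12, true), (1, 2, true), (2, 21, true), (4, 27, true), (3, 5, true), (3, 6, true)], 26), ([(5, 25, true), (4, 20, true), (3, 16, true), (2, 3, true)], 118), ([(5, 26, true), (4, 21, true), (3, 4, true)], 110), ([(5, 27, true), (4, 5, true)], 94), ([(5, 6, true)], 62)],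
  [([(6, 22, true), (5, 17, true), (4, 13, true), (3, 10, true), (2, 8, true), (1, 7, true), (0, 0, true), (2, 19, true), (1, 2, true), (1, 20, true), (2, 5, true), (2, 26, true), (3, 27, true), (4, 27, true), (3, 5, true), (3, 6, true)], 26), ([(6, 23, true), (5, 18, true), (4, 14, true), (3, 11, true), (2, 9, true), (1, 1, true), (2, 25, true), (3, 26, true), (4, 26, true), (3, 4, true), (3, 27, true), (4, 6, true)], 109), ([(6, 24, true), (5, 19, true), (4, 15, true), (3, 12, true), (2, 2, true), (3, 21, true), (5, 27, true), (4, 5, true), (4, 6, true)], 27), ([(6, 25, true), (5, 20, true), (4, 16, true), (3, 3, true)], 119), ([(6, 26, true), (5, 21, true), (4, 4, true)], 111), ([(6, 27, true), (5, 5, true)], 95), ([(6, 6, true)], 63)]]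

/-- The certificate. -/
def cert : SplitCert where
  pres := pres
  sylRules := 28
  sylGens := 7
  eqs := [
  ([1, 0, 0], [(0, 7, true), (3, 17, true), (2, 8, true), (1, 7, true), (0, 0, true), (2, 19, true), (1, 2, true), (1, 5, true)], [(1, 0, true)]),
  ([1, 1, 0], [(0, 1, true)], [(1, 7, true), (0, 7, true), (3, 18, true), (2, 9, true), (1, 1, true), (2, 27, true), (3, 6, true), (2, 19, true), (1, 2, true), (1, 5, true)]),
  ([2, 1, 0], [(0, 9, true), (2, 22, true), (1, 8, true), (0, 7, true), (3, 19, true), (2, 2, true)], [(1, 7, true), (0, 8, true), (1, 9, true), (3, 24, true), (2, 2, true), (2, 27, true)]),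
  ([2, 1, 1], [(0, 9, true), (2, 23, true), (1, 9, true), (0, 1, true), (1, 6, true)], [(1, 1, true)]),
  ([2, 2, 1], [(0, 2, true)], [(1, 9, true), (0, 9, true), (2, 24, true), (1, 2, true), (1, 6, true)]),
  ([3, 0, 0], [(0, 10, true), (3, 22, true), (2, 17, true), (1, 10, true), (0, 0, true), (2, 27, true), (1, 5, true), (1, 6, true)], [(1, 0, true)]),
  ([3, 1, 0], [(0, 11, true), (2, 13, true), (1, 10, true), (0, 7, true), (3, 20, true), (4, 5, true), (4, 26, true), (5, 27, true)], [(1, 7, true), (0, 10, true), (3, 23, true), (2, 18, true), (1, 11, true), (5, 6, true), (4, 19, true), (3, 15, true), (2, 12, true), (4, 21, true), (6, 27, true), (5, 5, true), (5, 27, true)]),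
  ([3, 1, 1], [(0, 11, true), (2, 14, true), (1, 11, true), (0, 1, true), (1, 4, true)], [(1, 1, true)]),
  ([3, 2, 0], [(0, 12, true), (2, 17, true), (1, 10, true), (0, 8, true), (4, 27, true), (3, 5, true)], [(1, 8, true), (0, 10, true), (3, 24, true), (2, 19, true), (1, 12, true), (3, 5, true)]),
  ([3, 2, 1], [(0, 12, true), (2, 18, true), (1, 11, true), (0, 9, true), (2, 25, true), (3, 26, true), (4, 27, true), (5, 6, true)], [(1, 9, true), (0, 11, true), (2, 15, true), (1, 12, true), (3, 21, true), (5, 6, true)]),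
  ([3, 2, 2], [(0, 12, true), (2, 19, true), (1, 12, true), (0, 2, true), (1, 5, true)], [(1, 2, true)]),
  ([3, 3, 0], [(0, 3, true)], [(1, 10, true), (0, 10, true), (3, 25, true), (2, 20, true), (1, 3, true), (2, 27, true), (1, 5, true), (1, 6, true)]),
  ([3, 3, 1], [(0, 3, true)], [(1, 11, true), (0, 11, true), (2, 16, true), (1, 3, true), (1, 4, true)]),
  ([3, 3, 2], [(0, 3, true)], [(1, 12, true), (0, 12, true), (2, 20, true), (1, 3, true), (1, 5, true)]),
  ([4, 0, 0], [(0, 13, true), (2, 17, true), (1, 13, true), (0, 0, true), (1, 5, true)], [(1, 0, true)]),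
  ([4, 1, 0], [(0, 14, true), (1, 13, true), (0, 7, true), (3, 21, true), (4, 5, true)], [(1, 7, true), (0, 13, true), (2, 18, true), (1, 14, true), (4, 24, true), (3, 19, true), (2, 15, true), (4, 27, true), (5, 6, true), (4, 5, true)]),
  ([4, 2, 0], [(0, 15, true), (2, 22, true), (1, 13, true), (0, 8, true)], [(1, 8, true), (0, 13, true), (2, 19, true), (1, 15, true), (3, 27, true)]),
  ([4, 3, 0], [(0, 16, true), (1, 13, true), (0, 10, true), (3, 26, true), (2, 21, true), (4, 27, true), (3, 5, true)], [(1, 10, true), (0, 13, true), (2, 20, true), (1, 16, true), (3, 5, true)]),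
  ([0, 4, 0, 2, 3, 6], [(1, 13, true), (0, 0, true), (1, 19, true), (0, 15, true), (2, 27, true), (3, 25, true), (2, 20, true), (1, 16, true), (4, 6, true)], [(0, 28, true), (3, 22, true), (2, 10, true), (1, 8, true), (0, 0, true), (3, 6, true), (2, 21, true)]),
  ([7, 0, 2, 5, 6, 0, 2, 5, 6], [(0, 29, true), (2, 29, true), (1, 25, true), (0, 3, true), (0, 6, true)], [(4, 22, true), (3, 17, true), (2, 8, true), (1, 0, true), (3, 24, true), (2, 19, true), (1, 2, true), (2, 27, true), (1, 5, true), (1, 6, true)]),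
  ([7, 0, 5, 0, 2, 5, 6], [(0, 30, true), (3, 29, true), (2, 20, true), (1, 16, true), (0, 3, true)], [(2, 17, true), (1, 0, true), (1, 19, true), (2, 5, true), (2, 5, false), (3, 27, false), (1, 0, false), (2, 8, false), (3, 17, false), (4, 22, false), (0, 29, true), (2, 30, true), (1, 25, true), (0, 3, true), (0, 26, true), (1, 27, true)]),
  ([8, 1, 6, 1, 6], [(0, 32, true), (1, 32, true), (0, 4, true)], [(2, 23, true), (1, 1, true), (1, 6, true)]),
  ([8, 4, 6, 1, 6], [(0, 33, true), (2, 32, true), (1, 26, true), (0, 4, true)], [(2, 23, true), (1, 14, true), (3, 6, true), (3, 6, false), (2, 26, false), (0, 32, true), (1, 33, true), (0, 4, true)]),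
  ([9, 3, 3], [(0, 36, true), (1, 36, true), (0, 2, true)], [(1, 3, true)])]
  masks := [0xa0124, 0x80c0264, 0x9480000, 0x800040, 0x1000040, 0x8420060, 0xcbcb040, 0x4010, 0x90a0000, 0xe248000, 0x80020, 0xa100060, 0x10010, 0x100020, 0x20020, 0x92c8040, 0x8480000, 0xc300000, 0x1a79a500, 0xb4a012d, 0x6590100, 0x800052, 0x804000, 0xc, 0x10000000]
  adj := [[0x0], [0x0], [0x2080], [0x0], [0x800], [0x2000], [0x40000]]
  sel := [[0xd9de9c], [0x610094], [0x51f3bd], [0xd1f3bd], [0x41009c], [0x4434], [0x10014], [0x0], [0x51f388], [0x51b2af], [0x1146f10], [0x0], [0x4b58], [0x0], [0x41001c], [0x20b24], [0x41109c], [0x434], [0x0], [0x4034], [0x6434], [0x38e04], [0x530], [0x1001c], [0x10004], [0x6d10], [0xaf34], [0x14504]]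
  words := normWords
  closing := closing

end Cfsg.Agent.Mathieu.Mult22
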