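import Cfsg.Agent.Lib.Mathieu.SylowTwo
import Cfsg.Agent.Lib.Mathieu.M23ExtensionData

/-!
Kernel checks of the certificates for the extensions of M₂₃ by the code and cocode modules.
-/

set_option autoImplicit false
set_option maxRecDepth 20000

namespace Cfsg.Agent.Mathieu.Ext

open Cfsg

/-- The image of basis word `j` under the matrix. -/
def colSel (rows B : List ℕ) (j : ℕ) : ℕ :=
  (List.range 11).foldr (fun r acc => (if (rows.getD r 0).testBit j then B.getD r 0 else 0) ^^^ acc) 0

/-- The matrix describes the permutation on the basis words modulo `ker`. -/
def matOKOn (B : List ℕ) (ker : ℕ → Bool) (g : ℕ) (rows : List ℕ) : Bool :=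
  (List.range 11).all fun j => mapsMask g (B.getD j 0) (pimg g (B.getD j 0)) &&
    ker (pimg g (B.getD j 0) ^^^ colSel rows B j)

/-- Matrices on the code module. -/
def matCode : ℕ → List ℕ → Bool := matOKOn codeB (fun m => m == 0)

/-- The vector of pivots of a code word. -/
def coords (m : ℕ) : ℕ :=
  (List.range 11).foldr (fun r acc => (if m.testBit (codeP.getD r 0) then 2 ^ r else 0) ^^^ acc) 0

/-- The kernel of the map onto the cocode module. -/
def coKer (m : ℕ) : Bool := decide (m < 2 ^ 24) && (inCode m || inCode (m ^^^ 2 ^ 23))

/-- The unit words. -/
def coB : List ℕ := coUnits.map fun p => 2 ^ p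

/-- Matrices on the cocode module. -/
def matCo : ℕ → List ℕ → Bool := matOKOn coB coKer

theorem codeB_ok : ((List.range 11).all fun r => inCode (codeB.getD r 0) &&
    !(codeB.getD r 0).testBit 23) = true := by
  decide +kernel

theorem codeB_indep : ((List.range 2047).all fun c => xorSel codeB (c + 1) != 0 &&
    decide (xorSel codeB (c + 1) < 2 ^ 24)) = true := by
  decide +kernel

theorem code_cover : (codeList.all fun m => m.testBit 23 || xorSel codeB (coords m) == m) = true := by
  decide +kernel

theorem codePres_ok : codePres.ok 24 mem23 matCode = true := by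
  decide +kernel

theorem code_sylOK : codeCert.sylOK 24 = true := by
  decide +kernel

theorem code_linOK : codeCert.linOK 11 [] = true := by
  decide +kernel

theorem code_eqs_lt : (codeCert.eqs.all fun q =>
    q.1.all fun i => decide (i < codeCert.pres.gens.length)) = true := by
  decide +kernel

theorem code_words : codeCert.words.length = 128 := by
  decide +kernel

theorem coB_indep : ((List.range 2047).all fun c => !coKer (xorSel coB (c + 1)) &&
    decide (xorSel coB (c + 1) < 2 ^ 24)) = true := by
  decide +kernel

theorem coB_span : ((List.range 24).all fun p => (List.range 2048).any fun c =>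
    coKer (2 ^ p ^^^ xorSel coB c)) = true := by
  decide +kernel

theorem cocodePres_ok : cocodePres.ok 24 mem23 matCo = true := by
  decide +kernel

theorem cocode_sylOK : cocodeCert.sylOK 24 = true := by
  decide +kernel

theorem cocode_linOK : cocodeCert.linOK 11 cocodeExtra = true := by
  decide +kernel

theorem cocode_eqs_lt : (cocodeCert.eqs.all fun q =>
    q.1.all fun i => decide (i < cocodeCert.pres.gens.length)) = true := by
  decide +kernel

theorem cocode_words : cocodeCert.words.length = 128 := by
  decide +kernel

theorem cocodeExtra_length : cocodeExtra.length = 1 := by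
  decide +kernel

theorem wordOf_two_pow23 : wordOf (2 ^ 23) = Pi.single (none : GolayPt) 1 := by
  decide +kernel

end Cfsg.Agent.Mathieu.Ext
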