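import Cfsg.Agent.Lib.Mathieu.M23ExtensionChecks

/-!
Extensions of M₂₃ by the code module split; non-split extensions by the cocode module are unique.
-/

set_option autoImplicit false
set_option maxRecDepth 20000
set_option linter.style.haveILetI false

namespace Cfsg.Agent.Mathieu.Ext

open Cfsg

/-- The word of a vector with respect to basis masks. -/
def wordVec (B : List ℕ) (x : V 11) : GolayPt → ZMod 2 := ∑ r, x r • wordOf (B.getD r.val 0)

theorem wordVec_add (B : List ℕ) (x y : V 11) : wordVec B (x + y) = wordVec B x + wordVec B y := by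
  simp [wordVec, add_smul, Finset.sum_add_distrib]

theorem wordVec_mem {B : List ℕ} {K : AddSubgroup (GolayPt → ZMod 2)}
    (h : ∀ r : Fin 11, wordOf (B.getD r.val 0) ∈ K) (x : V 11) : wordVec B x ∈ K := by
  refine sum_mem fun r _ => ?_
  rcases (show ∀ a : ZMod 2, a = 0 ∨ a = 1 by decide) (x r) with h0 | h0
  · rw [h0, zero_smul]; exact zero_mem _
  · rw [h0, one_smul]; exact h r

/-- The vector of a mask. -/
def ofMask (c : ℕ) : V 11 := fun r => if c.testBit r.val then 1 else 0

theorem exists_ofMask (x : V 11) : ∃ c, c < 2048 ∧ ofMask c = x := by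
  have hinj : Function.Injective (fun c : Fin 2048 => ofMask c.val) := by
    intro a b hab
    refine Fin.ext (Nat.eq_of_testBit_eq fun i => ?_)
    by_cases hi : i < 11
    · have := congrFun hab ⟨i, hi⟩
      simp only [ofMask] at this
      rcases Bool.eq_false_or_eq_true (a.val.testBit i) with h | h <;>
        rcases Bool.eq_false_or_eq_true (b.val.testBit i) with h' | h' <;> simp [h, h'] at this ⊢
    · have h : 2 ^ 11 ≤ 2 ^ i := Nat.pow_le_pow_right (by norm_num) (by omega)
      rw [Nat.testBit_lt_two_pow (lt_of_lt_of_le a.isLt h),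
        Nat.testBit_lt_two_pow (lt_of_lt_of_le b.isLt h)]
  have hbij := (Fintype.bijective_iff_injective_and_card _).2
    ⟨hinj, by simp⟩
  obtain ⟨c, hc⟩ := hbij.2 x
  exact ⟨c.val, c.isLt, hc⟩

theorem wordOf_xorSel : ∀ (B : List ℕ) (c : ℕ),
    wordOf (xorSel B c) = ∑ j : Fin B.length, if c.testBit j.val then wordOf B[j.val] else 0
  | [], c => by
    have : wordOf (0 : ℕ) = 0 := by funext p; simp [wordOf, hasPt]
    simp [xorSel, this]
  | m :: ms, c => by
    rw [xorSel, wordOf_xor, wordOf_xorSel ms]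
    simp only [List.length_cons]
    erw [Fin.sum_univ_succ]
    congr 1
    · simp only [Fin.val_zero, List.getElem_cons_zero]
      by_cases h : c.testBit 0 = true
      · rw [if_pos h]; exact (if_pos h).symm
      · rw [if_neg h]
        have : wordOf (0 : ℕ) = 0 := by funext p; simp [wordOf, hasPt]
        rw [this]; exact (if_neg h).symm
    · refine Finset.sum_congr rfl fun j _ => ?_
      simp [Nat.testBit_shiftRight, Nat.add_comm 1]

theorem wordVec_ofMask {B : List ℕ} (hB : B.length = 11) (c : ℕ) :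
    wordVec B (ofMask c) = wordOf (xorSel B c) := by
  rw [wordOf_xorSel, wordVec]
  refine Fintype.sum_equiv (finCongr hB.symm) _ _ fun j => ?_
  simp only [ofMask, finCongr_apply, Fin.val_cast]
  rw [List.getD_eq_getElem _ _ (by omega)]
  split_ifs <;> simp

theorem wordOf_colSel (rows B : List ℕ) (j : ℕ) :
    wordOf (colSel rows B j) =
      ∑ r : Fin 11, if (rows.getD r.val 0).testBit j then wordOf (B.getD r.val 0) else 0 := by
  have h0 : wordOf (0 : ℕ) = 0 := by funext p; simp [wordOf, hasPt]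
  have key : ∀ L : List ℕ,
      wordOf (L.foldr (fun r acc => (if (rows.getD r 0).testBit j then B.getD r 0 else 0) ^^^ acc) 0)
        = (L.map fun r => if (rows.getD r 0).testBit j then wordOf (B.getD r 0) else 0).sum := by
    intro L
    induction L with
    | nil => simpa using h0
    | cons a L ih =>
      rw [List.foldr_cons, wordOf_xor, ih, List.map_cons, List.sum_cons]
      congr 1
      split_ifs <;> simp [h0]
  rw [colSel, key, Finset.sum_fin_eq_sum_range]
  rw [← List.sum_toFinset _ List.nodup_range, List.toFinset_range]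
  refine Finset.sum_congr rfl fun r hr => ?_
  rw [dif_pos (Finset.mem_range.1 hr)]

theorem wordOf_comp {σ : Equiv.Perm GolayPt} {l b b' : ℕ} (hl : Rep ptEnc σ l)
    (h : mapsMask l b b' = true) : wordOf b ∘ ⇑σ⁻¹ = wordOf b' := by
  funext p
  simp only [Function.comp_apply, wordOf, hasPt]
  simp only [mapsMask, List.all_eq_true, List.mem_range, beq_iff_eq] at h
  have h1 := h _ (ptEnc (σ⁻¹ p)).isLt
  rw [← hl] at h1
  rw [show σ (σ⁻¹ p) = p from σ.apply_symm_apply p] at h1
  simp only [h1]
  rcases Bool.eq_false_or_eq_true (b'.testBit (ptEnc p).val) with hb | hb <;> simp [hb]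

theorem wordVec_equivariant {B : List ℕ} {ker : ℕ → Bool} {K : AddSubgroup (GolayPt → ZMod 2)}
    (hker : ∀ m, ker m = true → wordOf m ∈ K) {σ : Equiv.Perm GolayPt} {g : ℕ} {rows : List ℕ}
    (hg : Rep ptEnc σ g) (hok : matOKOn B ker g rows = true) (x : V 11) :
    wordVec B x ∘ ⇑σ⁻¹ + wordVec B (matApply rows x) ∈ K := by
  simp only [matOKOn, List.all_eq_true, List.mem_range, Bool.and_eq_true] at hok
  have h1 : wordVec B x ∘ ⇑σ⁻¹ = ∑ j : Fin 11, x j • wordOf (pimg g (B.getD j.val 0)) := by
    funext p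
    simp only [wordVec, Function.comp_apply, Finset.sum_apply, Pi.smul_apply]
    refine Finset.sum_congr rfl fun j _ => ?_
    rw [← wordOf_comp hg (hok j.val j.isLt).1]
    rfl
  have h2 : wordVec B (matApply rows x) = ∑ j : Fin 11, x j • wordOf (colSel rows B j.val) := by
    simp only [wordVec, matApply, wordOf_colSel, Finset.smul_sum, Finset.sum_smul]
    rw [Finset.sum_comm]
    refine Finset.sum_congr rfl fun j _ => Finset.sum_congr rfl fun r _ => ?_
    split_ifs <;> simp
  rw [h1, h2, ← Finset.sum_add_distrib]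
  refine sum_mem fun j _ => ?_
  rw [← smul_add, ← wordOf_xor]
  rcases (show ∀ a : ZMod 2, a = 0 ∨ a = 1 by decide) (x j) with h0 | h0
  · rw [h0, zero_smul]; exact zero_mem _
  · rw [h0, one_smul]; exact hker _ (hok j.val j.isLt).2

theorem add_eq_zero_words {a b : GolayPt → ZMod 2} (h : a + b = 0) : a = b := by
  funext p
  exact (CharTwo.add_eq_zero).1 (congrFun h p)

theorem hsize23 (n : ℕ) (hn : n = 128) :
    ∃ k : ℕ, n = 2 ^ k ∧ ∃ m, Odd m ∧ Nat.card Spor.M23 = 2 ^ k * m :=
  ⟨7, by rw [hn]; norm_num, 79695, by decide, by rw [card_M23]; norm_num⟩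

/-! ### The code module -/

theorem code_split {E : Type*} [Group E] [Finite E] (N : Subgroup E) [hN : N.Normal]
    (φ : E ⧸ N ≃* ↥Spor.M23) (ψ : Additive ↥N →+ (GolayPt → ZMod 2))
    (hinj : Function.Injective ψ)
    (hrange : ∀ w : GolayPt → ZMod 2, w ∈ Set.range ψ ↔ (w ∈ golayCode ∧ w none = 0))
    (hψ : ∀ (g : E) (n : ↥N),
      ψ (Additive.ofMul ⟨g * n * g⁻¹, hN.conj_mem n n.2 g⟩)
        = ψ (Additive.ofMul n) ∘
          ⇑(((φ (QuotientGroup.mk g) : ↥Spor.M23) : Equiv.Perm GolayPt)⁻¹)) :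
    ∃ H : Subgroup E, H ⊓ N = ⊥ ∧ H ⊔ N = ⊤ := by
  have hB := codeB_ok
  simp only [List.all_eq_true, List.mem_range, Bool.and_eq_true, Bool.not_eq_eq_eq_not,
    Bool.not_true] at hB
  have hmem : ∀ x, wordVec codeB x ∈ Set.range ψ := by
    intro x
    refine (hrange _).2 ⟨?_, ?_⟩
    · exact wordVec_mem (K := golayCode.toAddSubgroup)
        (fun r => mem_golayCode_iff.2 ⟨_, (hB r.val r.isLt).1, rfl⟩) x
    · have h0 : ∀ r : Fin 11, wordOf (codeB.getD r.val 0) none = 0 := fun r => by
        have h23 : (ptEnc none).val = 23 := rfl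
        rw [wordOf, hasPt, h23, (hB r.val r.isLt).2]
        rfl
      rw [wordVec, Finset.sum_apply]
      exact Finset.sum_eq_zero fun r _ => by rw [Pi.smul_apply, h0 r, smul_zero]
  choose n hn using hmem
  let π : E →* Spor.M23 := φ.toMonoidHom.comp (QuotientGroup.mk' N)
  have hπ : ∀ g, π g = 1 ↔ g ∈ N := fun g => by
    change φ (QuotientGroup.mk g) = 1 ↔ _
    rw [MulEquiv.map_eq_one_iff, QuotientGroup.eq_one_iff]
  let ν : V 11 → E := fun x => ((n x).toMul : N)
  have hνinj : Function.Injective ν := by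
    intro x y hxy
    have h : wordVec codeB x = wordVec codeB y := by
      rw [← hn x, ← hn y]
      exact congrArg ψ (Additive.toMul.injective (Subtype.ext hxy))
    have hz := codeB_indep
    simp only [List.all_eq_true, List.mem_range, Bool.and_eq_true, bne_iff_ne,
      decide_eq_true_eq] at hz
    obtain ⟨c, hc, hcx⟩ := exists_ofMask (x + y)
    have h2 : wordVec codeB (x + y) = 0 := by
      rw [wordVec_add, h]; funext p; exact CharTwo.add_self_eq_zero _
    rcases c with _ | c
    · have : ofMask 0 = (0 : V 11) := by funext r; simp [ofMask]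
      rw [this] at hcx
      funext r
      exact CharTwo.add_eq_zero.1 (congrFun hcx.symm r)
    · exfalso
      rw [← hcx, wordVec_ofMask (by decide)] at h2
      have h0 : wordOf (0 : ℕ) = 0 := by funext p; simp [wordOf, hasPt]
      exact (hz c (by omega)).1 (wordOf_inj (hz c (by omega)).2 (by norm_num) (h2.trans h0.symm))
  have hrangeν : ∀ g : E, π g = 1 ↔ ∃ x, ν x = g := by
    intro g
    refine ⟨fun hg => ?_, fun ⟨x, hx⟩ => hx ▸ (hπ _).2 (n x).toMul.2⟩
    obtain ⟨h1, h2⟩ := (hrange (ψ (Additive.ofMul ⟨g, (hπ g).1 hg⟩))).1 ⟨_, rfl⟩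
    obtain ⟨m, hm, hmw⟩ := mem_golayCode_iff.1 h1
    have hcover := code_cover
    simp only [List.all_eq_true, Bool.or_eq_true, beq_iff_eq] at hcover
    rcases hcover m (inCode_iff_mem.1 hm) with h | h
    · exfalso
      rw [← hmw] at h2
      have h23 : (ptEnc none).val = 23 := rfl
      simp [wordOf, hasPt, h23, h] at h2
    · refine ⟨ofMask (coords m), ?_⟩
      have : n (ofMask (coords m)) = Additive.ofMul ⟨g, (hπ g).1 hg⟩ := hinj (by
        rw [hn, wordVec_ofMask (by decide), h, hmw])
      change (((n (ofMask (coords m))).toMul : N) : E) = g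
      rw [this]; rfl
  let X : ExtData Spor.M23 E 11 :=
    { π := π
      ν := ν
      ν_add := fun x y => by
        have : n (x + y) = n x + n y := hinj (by rw [map_add, hn, hn, hn, wordVec_add])
        change (((n (x + y)).toMul : N) : E) = _
        rw [this]; rfl
      ν_inj := hνinj
      surj := φ.surjective.comp (QuotientGroup.mk'_surjective N)
      range_eq := hrangeν }
  have heq : X.Equivariant ptEnc matCode := by
    intro g l M hg hM x
    have h1 := hψ g (n x).toMul
    rw [ofMul_toMul, hn] at h1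
    have h2 := wordVec_equivariant (K := ⊥) (ker := fun m => m == 0) (fun m hm => by
      rw [beq_iff_eq] at hm; subst hm
      rw [AddSubgroup.mem_bot]; funext p; simp [wordOf, hasPt]) hg hM x
    rw [AddSubgroup.mem_bot] at h2
    have h3 : n (matApply M x) =
        Additive.ofMul ⟨g * ((n x).toMul : N) * g⁻¹, hN.conj_mem _ (n x).toMul.2 g⟩ :=
      hinj (by rw [hn]; exact (add_eq_zero_words h2).symm.trans h1.symm)
    change g * ν x * g⁻¹ = ν (matApply M x)
    change _ = (((n (matApply M x)).toMul : N) : E)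
    rw [h3]; rfl
  have hok := codePres_ok
  obtain ⟨ls, τ, hL⟩ := exists_lifts (e := ptEnc) (by norm_num) mem23_sound X hok
  obtain ⟨K, hK⟩ := exists_complement (C := codeCert) (by norm_num) hL heq hok
    code_sylOK (extra := []) code_linOK code_eqs_lt (by simp)
    (hsize23 _ code_words)
  have hker : X.π.ker = N := by
    ext g; rw [MonoidHom.mem_ker]; exact hπ g
  rw [hker] at hK
  exact ⟨K, disjoint_iff.1 hK.disjoint.symm, codisjoint_iff.1 hK.isCompl.codisjoint.symm⟩

/-! ### The cocode module -/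

/-- An extension by the cocode module, as in the statement. -/
structure CoData (E : Type*) [Group E] where
  /-- the normal subgroup -/
  N : Subgroup E
  /-- it is normal -/
  normal : N.Normal
  /-- the quotient map -/
  π : E →* Spor.M23
  /-- the map from words -/
  θ : (GolayPt → ZMod 2) →+ Additive ↥N
  surj : Function.Surjective π
  mem_iff : ∀ g, π g = 1 ↔ g ∈ N
  θ_surj : Function.Surjective θ
  θ_ker : ∀ w, θ w = 0 ↔ (w ∈ golayCode ∨ w + Pi.single none 1 ∈ golayCode)
  equiv : ∀ (g : E) (w : GolayPt → ZMod 2),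
    ((θ (w ∘ ⇑((π g : Equiv.Perm GolayPt)⁻¹))).toMul : E) = g * ((θ w).toMul : E) * g⁻¹
  nonsplit : ∀ H : Subgroup E, H ⊓ N = ⊥ → H ⊔ N ≠ ⊤

namespace CoData

variable {E : Type*} [Group E] (D : CoData E)

/-- The element of a word. -/
def el (w : GolayPt → ZMod 2) : E := ((D.θ w).toMul : D.N)

theorem el_add (a b : GolayPt → ZMod 2) : D.el (a + b) = D.el a * D.el b := by
  simp [el]

theorem el_zero : D.el 0 = 1 := by simp [el]

theorem el_eq_one_iff {w : GolayPt → ZMod 2} :
    D.el w = 1 ↔ (w ∈ golayCode ∨ w + Pi.single none 1 ∈ golayCode) := by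
  rw [← D.θ_ker, el, OneMemClass.coe_eq_one, toMul_eq_one]

theorem el_self (w : GolayPt → ZMod 2) : D.el w * D.el w = 1 := by
  rw [← el_add, show w + w = 0 from funext fun p => CharTwo.add_self_eq_zero _, el_zero]

theorem el_inv (w : GolayPt → ZMod 2) : (D.el w)⁻¹ = D.el w :=
  inv_eq_of_mul_eq_one_right (D.el_self w)

theorem π_el (w : GolayPt → ZMod 2) : D.π (D.el w) = 1 := (D.mem_iff _).2 (D.θ w).toMul.2

theorem el_eq_iff {E' : Type*} [Group E'] (D' : CoData E') {a b : GolayPt → ZMod 2}
    (h : D.el a = D.el b) : D'.el a = D'.el b := by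
  have h1 : D.el (a + b) = 1 := by rw [el_add, h, el_self]
  have h2 := D'.el_eq_one_iff.2 (D.el_eq_one_iff.1 h1)
  rwa [el_add, mul_eq_one_iff_eq_inv, el_inv] at h2

theorem el_eq_one_of_coKer {m : ℕ} (h : coKer m = true) : D.el (wordOf m) = 1 := by
  simp only [coKer, Bool.and_eq_true, Bool.or_eq_true, decide_eq_true_eq] at h
  refine D.el_eq_one_iff.2 (h.2.imp (fun h' => mem_golayCode_iff.2 ⟨m, h', rfl⟩) fun h' => ?_)
  have hs := wordOf_two_pow23
  rw [← hs, ← wordOf_xor]
  exact mem_golayCode_iff.2 ⟨_, h', rfl⟩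

theorem coKer_of_el {m : ℕ} (hm : m < 2 ^ 24) (h : D.el (wordOf m) = 1) : coKer m = true := by
  simp only [coKer, Bool.and_eq_true, Bool.or_eq_true, decide_eq_true_eq]
  refine ⟨hm, (D.el_eq_one_iff.1 h).imp (fun h' => ?_) fun h' => ?_⟩
  · obtain ⟨c, hc, hcw⟩ := mem_golayCode_iff.1 h'
    rwa [← wordOf_inj (inCode_spec hc).1 hm hcw]
  · have hs := wordOf_two_pow23
    rw [← hs, ← wordOf_xor] at h'
    obtain ⟨c, hc, hcw⟩ := mem_golayCode_iff.1 h'
    have hlt : m ^^^ 2 ^ 23 < 2 ^ 24 := Nat.xor_lt_two_pow hm (by norm_num)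
    rwa [← wordOf_inj (inCode_spec hc).1 hlt hcw]

theorem wordVec_eq_zero {x : V 11} (h : D.el (wordVec coB x) = 1) : x = 0 := by
  obtain ⟨c, hc, rfl⟩ := exists_ofMask x
  rcases c with _ | c
  · funext r; simp [ofMask]
  · exfalso
    have hz := coB_indep
    simp only [List.all_eq_true, List.mem_range, Bool.and_eq_true, Bool.not_eq_eq_eq_not,
      Bool.not_true, decide_eq_true_eq] at hz
    rw [wordVec_ofMask (by decide)] at h
    have := D.coKer_of_el (hz c (by omega)).2 h
    rw [(hz c (by omega)).1] at this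
    exact Bool.noConfusion this

theorem exists_vec (w : GolayPt → ZMod 2) : ∃ x, D.el (wordVec coB x) = D.el w := by
  have hu := coB_span
  simp only [List.all_eq_true, List.mem_range, List.any_eq_true] at hu
  have hpt : ∀ p : GolayPt, ∃ x, D.el (wordVec coB x) = D.el (Pi.single p 1) := by
    intro p
    obtain ⟨c, -, hc⟩ := hu _ (ptEnc p).isLt
    refine ⟨ofMask c, ?_⟩
    have h1 := D.el_eq_one_of_coKer hc
    rw [wordOf_xor, el_add, mul_eq_one_iff_eq_inv, el_inv] at h1
    have h2 : wordOf (2 ^ (ptEnc p).val) = Pi.single p 1 := by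
      funext q
      simp only [wordOf, hasPt, Nat.testBit_two_pow, decide_eq_true_eq, Fin.val_inj,
        ptEnc.injective.eq_iff, Pi.single_apply]
      by_cases hqp : q = p
      · rw [if_pos hqp, if_pos hqp.symm]
      · rw [if_neg hqp, if_neg (Ne.symm hqp)]
    rw [wordVec_ofMask (by decide), ← h1, h2]
  have hw : w = ∑ p, w p • (Pi.single p 1 : GolayPt → ZMod 2) := by
    funext q; simp [Finset.sum_apply, Pi.single_apply]
  rw [hw]
  induction (Finset.univ : Finset GolayPt) using Finset.induction_on with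
  | empty =>
    exact ⟨0, by simp [wordVec]⟩
  | insert p s hp ih =>
    rw [Finset.sum_insert hp]
    obtain ⟨x, hx⟩ := ih
    rcases (show ∀ a : ZMod 2, a = 0 ∨ a = 1 by decide) (w p) with h0 | h0
    · exact ⟨x, by rw [h0, zero_smul, zero_add]; exact hx⟩
    · obtain ⟨y, hy⟩ := hpt p
      exact ⟨y + x, by rw [h0, one_smul, wordVec_add, el_add, el_add, hx, hy]⟩

/-- The extension data of a cocode extension. -/
def ext : ExtData Spor.M23 E 11 where
  π := D.π
  ν x := D.el (wordVec coB x)
  ν_add x y := by rw [wordVec_add, el_add]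
  ν_inj x y h := by
    have h1 : D.el (wordVec coB (x + y)) = 1 := by
      rw [wordVec_add, el_add, show D.el (wordVec coB x) = D.el (wordVec coB y) from h, el_self]
    funext r
    exact CharTwo.add_eq_zero.1 (congrFun (D.wordVec_eq_zero h1) r)
  surj := D.surj
  range_eq g := by
    refine ⟨fun hg => ?_, fun ⟨x, hx⟩ => hx ▸ D.π_el _⟩
    obtain ⟨w, hw⟩ := D.θ_surj (Additive.ofMul ⟨g, (D.mem_iff g).1 hg⟩)
    obtain ⟨x, hx⟩ := D.exists_vec w
    exact ⟨x, by rw [hx, el, hw]; rfl⟩

theorem ext_equivariant : D.ext.Equivariant ptEnc matCo := by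
  intro g l M hg hM x
  let K : AddSubgroup (GolayPt → ZMod 2) := D.θ.ker
  have hK : ∀ m, coKer m = true → wordOf m ∈ K := fun m hm => by
    have := D.el_eq_one_of_coKer hm
    rw [el, OneMemClass.coe_eq_one, toMul_eq_one] at this
    exact this
  have h2 := wordVec_equivariant hK hg hM x
  change g * D.el (wordVec coB x) * g⁻¹ = D.el (wordVec coB (matApply M x))
  rw [el, ← D.equiv]
  change D.el _ = _
  have h3 : D.el (wordVec coB x ∘ ⇑((D.π g : Equiv.Perm GolayPt)⁻¹) +
      wordVec coB (matApply M x)) = 1 := by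
    rw [el, OneMemClass.coe_eq_one, toMul_eq_one]; exact h2
  rwa [el_add, mul_eq_one_iff_eq_inv, el_inv] at h3

end CoData

/-- Splitting, when the one assumed form vanishes on the tails. -/
theorem cocode_split_of {E : Type*} [Group E] [Finite E] {X : ExtData Spor.M23 E 11}
    (heq : X.Equivariant ptEnc matCo) {ls : ℕ → E} {τ : ℕ → ZMod 2}
    (hL : Lifts X cocodePres ptEnc ls τ)
    (hextra : ∀ m ∈ cocodeExtra, evalMask (cocodePres.rules.length * 11) τ m = 0) :
    ∃ K : Subgroup E, Subgroup.IsComplement' X.π.ker K :=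
  exists_complement (C := cocodeCert) (by norm_num) hL heq cocodePres_ok cocode_sylOK
    (extra := cocodeExtra) cocode_linOK cocode_eqs_lt hextra (hsize23 _ cocode_words)

theorem CoData.extra_one {E : Type*} [Group E] [Finite E] (D : CoData E) {ls : ℕ → E}
    {τ : ℕ → ZMod 2} (hL : Lifts D.ext cocodePres ptEnc ls τ) :
    ∀ m ∈ cocodeExtra, evalMask (cocodePres.rules.length * 11) τ m = 1 := by
  intro m hm
  rcases (show ∀ a : ZMod 2, a = 0 ∨ a = 1 by decide)
    (evalMask (cocodePres.rules.length * 11) τ m) with h | h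
  swap; · exact h
  exfalso
  have hall : ∀ m' ∈ cocodeExtra, evalMask (cocodePres.rules.length * 11) τ m' = 0 := by
    have hlen := cocodeExtra_length
    obtain ⟨a, ha⟩ := List.length_eq_one_iff.1 hlen
    intro m' hm'
    rw [ha, List.mem_singleton] at hm hm'
    rw [hm', ← hm]; exact h
  obtain ⟨K, hK⟩ := cocode_split_of D.ext_equivariant hL hall
  have hker : D.ext.π.ker = D.N := by ext g; rw [MonoidHom.mem_ker]; exact D.mem_iff g
  rw [hker] at hK
  exact D.nonsplit K (disjoint_iff.1 hK.disjoint.symm)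
    (codisjoint_iff.1 hK.isCompl.codisjoint.symm)

theorem evalMask_add (K : ℕ) (τ τ' : ℕ → ZMod 2) (m : ℕ) :
    evalMask K (τ + τ') m = evalMask K τ m + evalMask K τ' m := by
  rw [evalMask, evalMask, evalMask, ← Finset.sum_add_distrib]
  refine Finset.sum_congr rfl fun k _ => ?_
  split_ifs <;> simp

/-- Two non-split extensions by the cocode module are isomorphic. -/
theorem CoData.nonempty_mulEquiv {E E' : Type*} [Group E] [Finite E] [Group E'] [Finite E']
    (D : CoData E) (D' : CoData E') : Nonempty (E ≃* E') := by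
  let P : Subgroup (E × E') :=
    MonoidHom.eqLocus (D.π.comp (MonoidHom.fst E E')) (D'.π.comp (MonoidHom.snd E E'))
  have hP : ∀ q : E × E', q ∈ P ↔ D.π q.1 = D'.π q.2 := fun q => Iff.rfl
  let diag : Subgroup P :=
    { carrier := {q | ∃ w, (q : E × E') = (D.el w, D'.el w)}
      one_mem' := ⟨0, by rw [D.el_zero, D'.el_zero]; rfl⟩
      mul_mem' := by
        rintro a b ⟨u, hu⟩ ⟨v, hv⟩
        exact ⟨u + v, by rw [Subgroup.coe_mul, hu, hv, Prod.mk_mul_mk, el_add, el_add]⟩
      inv_mem' := by
        rintro a ⟨u, hu⟩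
        exact ⟨u, by rw [Subgroup.coe_inv, hu, Prod.inv_mk, el_inv, el_inv]⟩ }
  haveI hdn : diag.Normal := ⟨by
    rintro a ⟨u, hu⟩ q
    refine ⟨u ∘ ⇑((D.π (q : E × E').1 : Equiv.Perm GolayPt)⁻¹), ?_⟩
    rw [Subgroup.coe_mul, Subgroup.coe_mul, Subgroup.coe_inv, hu]
    ext
    · simp only [Prod.fst_mul, Prod.fst_inv]; exact (D.equiv _ u).symm
    · simp only [Prod.snd_mul, Prod.snd_inv]
      rw [(hP q).1 q.2]; exact (D'.equiv _ u).symm⟩
  let inl : ∀ w, P := fun w => ⟨(D.el w, 1), (hP _).2 (by simp [π_el])⟩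
  let inr : ∀ w, P := fun w => ⟨(1, D'.el w), (hP _).2 (by simp [π_el])⟩
  have hlr : ∀ w, (QuotientGroup.mk (inr w) : P ⧸ diag) = QuotientGroup.mk (inl w) := by
    intro w
    refine QuotientGroup.eq.2 ⟨w, ?_⟩
    simp only [Subgroup.coe_mul, Subgroup.coe_inv, inl, inr, Prod.inv_mk, Prod.mk_mul_mk,
      inv_one, one_mul, mul_one, el_inv]
  let pD : P ⧸ diag →* Spor.M23 :=
    QuotientGroup.lift diag ((D.π.comp (MonoidHom.fst E E')).comp P.subtype) (by
      rintro q ⟨w, hw⟩
      rw [MonoidHom.mem_ker]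
      change D.π (q : E × E').1 = 1
      rw [hw]; exact D.π_el w)
  let X : ExtData Spor.M23 (P ⧸ diag) 11 :=
    { π := pD
      ν := fun x => QuotientGroup.mk (inl (wordVec coB x))
      ν_add := fun x y => by
        rw [← QuotientGroup.mk_mul]
        congr 1
        exact Subtype.ext (by simp [inl, wordVec_add, el_add])
      ν_inj := fun x y h => by
        obtain ⟨w, hw⟩ := QuotientGroup.eq.1 h
        simp only [Subgroup.coe_mul, Subgroup.coe_inv, inl, Prod.inv_mk, Prod.mk_mul_mk,
          inv_one, one_mul, el_inv, ← el_add, ← wordVec_add, Prod.mk.injEq] at hw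
        have h1 : D.el (wordVec coB (x + y)) = 1 :=
          hw.1.trans (by rw [← D.el_zero]; exact D'.el_eq_iff D (by rw [← hw.2, el_zero]))
        funext r
        exact CharTwo.add_eq_zero.1 (congrFun (D.wordVec_eq_zero h1) r)
      surj := fun h => by
        obtain ⟨a, ha⟩ := D.surj h
        obtain ⟨b, hb⟩ := D'.surj h
        exact ⟨QuotientGroup.mk ⟨(a, b), (hP _).2 (ha.trans hb.symm)⟩, ha⟩
      range_eq := fun q => by
        constructor
        · induction q using QuotientGroup.induction_on with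
          | H q =>
            intro hq
            change D.π (q : E × E').1 = 1 at hq
            have hq' : D'.π (q : E × E').2 = 1 := ((hP _).1 q.2).symm.trans hq
            obtain ⟨x, hx⟩ := (D.ext.range_eq _).1 hq
            obtain ⟨y, hy⟩ := (D'.ext.range_eq _).1 hq'
            refine ⟨x + y, ?_⟩
            have hsplit : q = inl (wordVec coB x) * inr (wordVec coB y) := by
              refine Subtype.ext (Prod.ext ?_ ?_)
              · simpa [inl, inr, CoData.ext] using hx.symm
              · simpa [inl, inr, CoData.ext] using hy.symm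
            rw [hsplit, QuotientGroup.mk_mul, hlr, ← QuotientGroup.mk_mul]
            congr 1
            exact Subtype.ext (by simp [inl, wordVec_add, el_add])
        · rintro ⟨x, rfl⟩
          exact D.π_el _ }
  have heq : X.Equivariant ptEnc matCo := by
    intro q l M hl hM x
    induction q using QuotientGroup.induction_on with
    | H q =>
      change (QuotientGroup.mk q : P ⧸ diag) * QuotientGroup.mk _ * (QuotientGroup.mk q)⁻¹ = _
      rw [← QuotientGroup.mk_inv, ← QuotientGroup.mk_mul, ← QuotientGroup.mk_mul]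
      congr 1
      refine Subtype.ext (Prod.ext ?_ (by simp [inl]))
      simpa [inl, CoData.ext] using D.ext_equivariant (q : E × E').1 l M hl hM x
  obtain ⟨ls, τ, hL⟩ := exists_lifts (e := ptEnc) (by norm_num) mem23_sound D.ext cocodePres_ok
  obtain ⟨ls', τ', hL'⟩ := exists_lifts (e := ptEnc) (by norm_num) mem23_sound D'.ext cocodePres_ok
  have hpair : ∀ i, ∃ q : P, i < cocodePres.gens.length → (q : E × E') = (ls i, ls' i) := by
    intro i
    by_cases hi : i < cocodePres.gens.length
    · refine ⟨⟨(ls i, ls' i), (hP _).2 ?_⟩, fun _ => rfl⟩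
      exact Subtype.ext ((hL.rep i hi).unique (hL'.rep i hi))
    · exact ⟨1, fun h => absurd h hi⟩
  choose pr hpr using hpair
  have hLD : Lifts X cocodePres ptEnc (fun i => QuotientGroup.mk (pr i)) (τ + τ') := by
    have hw : ∀ w : List ℕ, (∀ i ∈ w, i < cocodePres.gens.length) →
        liftW (fun i => (QuotientGroup.mk (pr i) : P ⧸ diag)) w =
          QuotientGroup.mk (liftW pr w) ∧
        ((liftW pr w : P) : E × E') = (liftW ls w, liftW ls' w) := by
      intro w
      induction w with
      | nil => intro _; exact ⟨rfl, rfl⟩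
      | cons i w ih =>
        intro hw
        obtain ⟨h1, h2⟩ := ih fun j hj => hw j (List.mem_cons_of_mem _ hj)
        refine ⟨by rw [liftW_cons, liftW_cons, h1, QuotientGroup.mk_mul], ?_⟩
        rw [liftW_cons, Subgroup.coe_mul, h2, hpr i (hw i List.mem_cons_self), liftW_cons,
          liftW_cons, Prod.mk_mul_mk]
    refine ⟨fun i hi => ?_, fun k hk => ?_⟩
    · change Rep ptEnc ((D.π (pr i : E × E').1 : Spor.M23) : Equiv.Perm GolayPt) _
      rw [hpr i hi]; exact hL.rep i hi
    · obtain ⟨l1, l2⟩ := rules_lt cocodePres_ok hk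
      rw [(hw _ l1).1, (hw _ l2).1]
      set t : V 11 := fun r => τ (k * 11 + r.val)
      set t' : V 11 := fun r => τ' (k * 11 + r.val)
      have hs : liftW pr cocodePres.rules[k].1 =
          inl (wordVec coB t) * inr (wordVec coB t') * liftW pr cocodePres.rules[k].2 := by
        refine Subtype.ext ?_
        rw [Subgroup.coe_mul, Subgroup.coe_mul, (hw _ l1).2, (hw _ l2).2, hL.rule k hk,
          hL'.rule k hk]
        simp [inl, inr, CoData.ext, t, t']
      rw [hs, QuotientGroup.mk_mul, QuotientGroup.mk_mul, hlr, ← QuotientGroup.mk_mul diag (inl _)]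
      congr 1
      change _ = QuotientGroup.mk (inl (wordVec coB (fun r => (τ + τ') (k * 11 + r.val))))
      congr 1
      refine Subtype.ext ?_
      rw [show (fun r : Fin 11 => (τ + τ') (k * 11 + r.val)) = t + t' from rfl]
      simp [inl, wordVec_add, el_add]
  obtain ⟨K, hK⟩ := cocode_split_of heq hLD fun m hm => by
    rw [evalMask_add, D.extra_one hL m hm, D'.extra_one hL' m hm]; rfl
  let K' : Subgroup P := K.comap (QuotientGroup.mk' diag)
  have hsurj : ∀ q : P, ∃ u, (inl u)⁻¹ * q ∈ K' := by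
    intro q
    obtain ⟨⟨⟨z, hz⟩, ⟨c, hc⟩⟩, hzc, -⟩ :=
      (Subgroup.isComplement_iff_existsUnique.1 hK) (QuotientGroup.mk q)
    obtain ⟨x, hx⟩ := (X.range_eq z).1 hz
    refine ⟨wordVec coB x, ?_⟩
    change (QuotientGroup.mk ((inl (wordVec coB x))⁻¹ * q) : P ⧸ diag) ∈ K
    rw [QuotientGroup.mk_mul, QuotientGroup.mk_inv, ← hzc]
    change (X.ν x)⁻¹ * (z * c) ∈ K
    rw [hx, inv_mul_cancel_left]; exact hc
  have htriv : ∀ q : K', D.π ((q : P) : E × E').1 = 1 → (q : P) ∈ diag := by
    intro q hq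
    have h1 : (QuotientGroup.mk (q : P) : P ⧸ diag) ∈ X.π.ker := hq
    have h2 : (QuotientGroup.mk (q : P) : P ⧸ diag) ∈ (⊥ : Subgroup (P ⧸ diag)) :=
      (disjoint_iff.1 hK.disjoint) ▸ ⟨h1, q.2⟩
    exact (QuotientGroup.eq_one_iff _).1 (Subgroup.mem_bot.1 h2)
  have hdiag : ∀ q : P, q ∈ diag → q ∈ K' := fun q hq => by
    change (QuotientGroup.mk q : P ⧸ diag) ∈ K
    rw [(QuotientGroup.eq_one_iff q).2 hq]; exact K.one_mem
  let f : K' →* E := ((MonoidHom.fst E E').comp P.subtype).comp K'.subtype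
  let f' : K' →* E' := ((MonoidHom.snd E E').comp P.subtype).comp K'.subtype
  have hf : Function.Bijective f := by
    refine ⟨(injective_iff_map_eq_one f).2 fun q hq => ?_, fun a => ?_⟩
    · change ((q : P) : E × E').1 = 1 at hq
      obtain ⟨w, hw⟩ := htriv q (by rw [hq, map_one])
      rw [hw] at hq
      have h2 : D'.el w = 1 := D'.el_zero ▸ D.el_eq_iff D' (hq.trans D.el_zero.symm)
      exact Subtype.ext (Subtype.ext (by
        rw [hw]; change (D.el w, D'.el w) = (1, 1); rw [show D.el w = 1 from hq, h2]))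
    · obtain ⟨b, hb⟩ := D'.surj (D.π a)
      obtain ⟨u, hu⟩ := hsurj ⟨(a, b), (hP _).2 hb.symm⟩
      refine ⟨⟨inl u * inr u, hdiag _ ⟨u, by simp [inl, inr]⟩⟩ * ⟨_, hu⟩, ?_⟩
      simp [f, inl, inr]
  have hf' : Function.Bijective f' := by
    refine ⟨(injective_iff_map_eq_one f').2 fun q hq => ?_, fun b => ?_⟩
    · change ((q : P) : E × E').2 = 1 at hq
      obtain ⟨w, hw⟩ := htriv q (by rw [(hP _).1 (q : P).2, hq, map_one])
      rw [hw] at hq
      have h2 : D.el w = 1 := D.el_zero ▸ D'.el_eq_iff D (hq.trans D'.el_zero.symm)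
      exact Subtype.ext (Subtype.ext (by
        rw [hw]; change (D.el w, D'.el w) = (1, 1); rw [show D'.el w = 1 from hq, h2]))
    · obtain ⟨a, ha⟩ := D.surj (D'.π b)
      obtain ⟨u, hu⟩ := hsurj ⟨(a, b), (hP _).2 ha⟩
      exact ⟨⟨_, hu⟩, by simp [f', inl]⟩
  exact ⟨(MulEquiv.ofBijective f hf).symm.trans (MulEquiv.ofBijective f' hf')⟩

end Cfsg.Agent.Mathieu.Ext
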