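import Cfsg.Agent.Lib.Mathieu.OuterAut
import Cfsg.Agent.Lib.Mathieu.SylowTwo

/-!
M22 has no subgroup of order 7920 or 2112: normalisers of cyclic Sylow subgroups for 11 and 5 have
order at most 55 and 20, and an element of order 11 with the normaliser of a subgroup of order 5
normalised with it generates the whole group.
-/

set_option autoImplicit false
set_option maxRecDepth 20000

namespace Cfsg.Agent.Mathieu

open Cfsg
open scoped Pointwise

/-- A bound on a normaliser from the solutions of `g x = x ^ k g`. -/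
theorem card_normalizer_zpowers_le {α : Type*} [Finite α] {n : ℕ} [NeZero n] {e : α ≃ Fin n}
    {G : Subgroup (Equiv.Perm α)} {levels : List CertLevel} (S : Stab e G levels) {X : G} {x p : ℕ}
    (hX : Rep e (X : Equiv.Perm α) x) (hp : orderOf X = p) (hp1 : 1 < p) :
    Nat.card (Subgroup.normalizer (Subgroup.zpowers X : Set G)) ≤
      (((List.range p).filter fun k => k != 0).flatMap fun k =>
        solutions n x (packPowS n x k) levels).length := by
  classical
  set L := ((List.range p).filter fun k => k != 0).flatMap fun k => solutions n x (packPowS n x k) levels with hL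
  have key : ∀ g : Subgroup.normalizer (Subgroup.zpowers X : Set G),
      ∃ i : Fin L.length, Rep e ((g : G) : Equiv.Perm α) L[i.val] := by
    intro g
    have hg : (g : G) * X * (g : G)⁻¹ ∈ Subgroup.zpowers X :=
      (Subgroup.mem_normalizer_iff.1 g.2 X).1 (Subgroup.mem_zpowers X)
    rw [mem_zpowers_iff_mem_range_orderOf, hp, Finset.mem_image] at hg
    obtain ⟨k, hk, hkX⟩ := hg
    have hk' : (g : G) * X = X ^ k * (g : G) := by rw [hkX]; group
    obtain ⟨l, hl, hr⟩ := S.exists_solution hX
      (show Rep e ((X : Equiv.Perm α) ^ k) (packPowS n x k) by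
        rw [packPowS_eq]; exact rep_packPow S.le256 hX k)
      (g : G).2 (congrArg Subtype.val hk')
    have hk0 : k ≠ 0 := by
      rintro rfl
      rw [pow_zero, one_mul] at hk'
      rw [mul_eq_left] at hk'
      rw [hk', orderOf_one] at hp
      omega
    obtain ⟨i, hi, rfl⟩ := List.getElem_of_mem
      (List.mem_flatMap.2 ⟨k, List.mem_filter.2 ⟨List.mem_range.2 (Finset.mem_range.1 hk),
        by simpa using hk0⟩, hl⟩ : l ∈ L)
    exact ⟨⟨i, hi⟩, hr⟩
  choose f hf using key
  refine (Nat.card_le_card_of_injective f fun g g' h => ?_).trans_eq (Nat.card_fin _)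
  exact Subtype.ext (Subtype.ext ((hf g).unique (h ▸ hf g')))

/-- In a subgroup, the index of the normaliser of a cyclic Sylow subgroup. -/
theorem sylow_count {G : Type*} [Group G] [Finite G] {p : ℕ} [Fact p.Prime] {H : Subgroup G} {X : G}
    (hX : X ∈ H) (ho : orderOf X = p) (hp : (Nat.card H).factorization p = 1) :
    ∃ n, n % p = 1 ∧
      Nat.card ↥(Subgroup.normalizer (Subgroup.zpowers X : Set G) ⊓ H) * n = Nat.card H := by
  have hle : Subgroup.zpowers X ≤ H := Subgroup.zpowers_le.2 hX
  let P : Sylow p H := Sylow.ofCard ((Subgroup.zpowers X).subgroupOf H)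
    (by rw [Nat.card_congr (Subgroup.subgroupOfEquivOfLe hle).toEquiv, Nat.card_zpowers, ho, hp,
      pow_one])
  have h1 := card_sylow_modEq_one p H
  rw [Sylow.card_eq_index_normalizer P] at h1
  have hN : Nat.card (Subgroup.normalizer ((P : Subgroup H) : Set H)) =
      Nat.card ↥(Subgroup.normalizer (Subgroup.zpowers X : Set G) ⊓ H) := by
    show Nat.card (Subgroup.normalizer (((Subgroup.zpowers X).subgroupOf H : Subgroup H) : Set H)) = _
    rw [← Subgroup.subgroupOf_normalizer_eq hle, ← Subgroup.inf_subgroupOf_right]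
    exact Nat.card_congr (Subgroup.subgroupOfEquivOfLe inf_le_right).toEquiv
  refine ⟨(Subgroup.normalizer ((P : Subgroup H) : Set H)).index, ?_, ?_⟩
  · rwa [Nat.ModEq, Nat.mod_eq_of_lt (Fact.out : p.Prime).one_lt] at h1
  · rw [← hN, mul_comm, Subgroup.index_mul_card]

/-- Only the listed divisor of `m` leaves room for a normaliser of order at most `bound`. -/
theorem count_cases {N n m p bound n₀ N₀ : ℕ} (hm : 0 < m) (hmul : N * n = m) (hmod : n % p = 1)
    (hN : N ≤ bound)
    (h : ((List.range (bound + 1)).all fun a => !(m % a == 0 && m / a % p == 1) ||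
      (a == N₀ && m / a == n₀)) = true) : N = N₀ := by
  rw [List.all_eq_true] at h
  have h' := h N (List.mem_range.2 (by omega))
  have hN0 : 0 < N := Nat.pos_of_ne_zero fun e => by subst e; simp at hmul; omega
  have hd : m % N = 0 := by rw [← hmul]; simp
  have hq : m / N = n := by rw [← hmul, Nat.mul_div_cancel_left _ hN0]
  simp [hd, hq, hmod] at h'
  exact h'.1

theorem no_order_small {G : Type*} [Group G] [Finite G] {X Y T : G} (hX : orderOf X = 11)
    (hY : orderOf Y = 5) (hG11 : (Nat.card G).factorization 11 = 1)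
    (hN11 : Nat.card (Subgroup.normalizer (Subgroup.zpowers X : Set G)) ≤ 55)
    (hN5 : Nat.card (Subgroup.normalizer (Subgroup.zpowers Y : Set G)) ≤ 20)
    (hYX : Y ∈ Subgroup.normalizer (Subgroup.zpowers X : Set G))
    (hTY : T ∈ Subgroup.normalizer (Subgroup.zpowers Y : Set G))
    (hgen : Subgroup.closure ({X, T} : Set G) = ⊤) (H : Subgroup G)
    (hHlt : Nat.card H < Nat.card G) : Nat.card H ≠ 7920 ∧ Nat.card H ≠ 2112 := by
  have : Fact (Nat.Prime 11) := ⟨by norm_num⟩
  have : Fact (Nat.Prime 5) := ⟨by norm_num⟩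
  suffices main : ∀ K : Subgroup G, X ∈ K → Nat.card K < Nat.card G →
      Nat.card K ≠ 7920 ∧ Nat.card K ≠ 2112 by
    by_contra hcon
    have h11 : 11 ∣ Nat.card H := by
      rw [not_and_or, not_not, not_not] at hcon
      rcases hcon with h | h <;> rw [h] <;> norm_num
    obtain ⟨x, hx⟩ := exists_prime_orderOf_dvd_card' 11 h11
    have hxG : orderOf (x : G) = 11 := by rwa [Subgroup.orderOf_coe]
    let Q : Sylow 11 G := Sylow.ofCard (Subgroup.zpowers (x : G))
      (by rw [Nat.card_zpowers, hxG, hG11, pow_one])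
    let R : Sylow 11 G := Sylow.ofCard (Subgroup.zpowers X)
      (by rw [Nat.card_zpowers, hX, hG11, pow_one])
    obtain ⟨g, hg⟩ := MulAction.exists_smul_eq G Q R
    have hmem : X ∈ MulAut.conj g • H := by
      have h1 : Subgroup.zpowers X = MulAut.conj g • Subgroup.zpowers (x : G) := by
        show (R : Subgroup G) = MulAut.conj g • (Q : Subgroup G)
        rw [← Sylow.coe_subgroup_smul, hg]
      have h2 : Subgroup.zpowers X ≤ MulAut.conj g • H :=
        h1.le.trans (Subgroup.pointwise_smul_le_pointwise_smul_iff.2 (Subgroup.zpowers_le.2 x.2))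
      exact h2 (Subgroup.mem_zpowers X)
    have hc : Nat.card ↥(MulAut.conj g • H) = Nat.card H :=
      Nat.card_congr (Subgroup.equivSMul (MulAut.conj g) H).toEquiv.symm
    have := main _ hmem (by rwa [hc])
    rw [hc] at this
    exact hcon this
  intro K hK hlt
  have bnd : ∀ (Z : G) (b : ℕ), Nat.card (Subgroup.normalizer (Subgroup.zpowers Z : Set G)) ≤ b →
      Nat.card ↥(Subgroup.normalizer (Subgroup.zpowers Z : Set G) ⊓ K) ≤ b :=
    fun Z b h => (Nat.card_le_card_of_injective _ (Subgroup.inclusion_injective inf_le_left)).trans h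
  constructor <;> intro hc
  · obtain ⟨n, hn, hmul⟩ := sylow_count hK hX (by
      rw [hc, show 7920 = 11 ^ 1 * 720 from rfl, Nat.factorization_mul (by norm_num) (by norm_num),
        Nat.Prime.factorization_pow (by norm_num)]
      simp [Nat.factorization_eq_zero_of_not_dvd (show ¬ 11 ∣ 720 by norm_num)])
    have h55 := count_cases (n₀ := 144) (N₀ := 55) (by rw [hc]; norm_num) hmul hn (bnd X _ hN11)
      (by rw [hc]; decide +kernel)
    have hle : Subgroup.normalizer (Subgroup.zpowers X : Set G) ≤ K :=
      inf_eq_left.1 (Subgroup.eq_of_le_of_card_ge inf_le_left (h55 ▸ hN11))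
    have hYK : Y ∈ K := hle hYX
    obtain ⟨n', hn', hmul'⟩ := sylow_count hYK hY (by
      rw [hc, show 7920 = 5 ^ 1 * 1584 from rfl, Nat.factorization_mul (by norm_num) (by norm_num),
        Nat.Prime.factorization_pow (by norm_num)]
      simp [Nat.factorization_eq_zero_of_not_dvd (show ¬ 5 ∣ 1584 by norm_num)])
    have h20 := count_cases (n₀ := 396) (N₀ := 20) (by rw [hc]; norm_num) hmul' hn' (bnd Y _ hN5)
      (by rw [hc]; decide +kernel)
    have hle' : Subgroup.normalizer (Subgroup.zpowers Y : Set G) ≤ K :=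
      inf_eq_left.1 (Subgroup.eq_of_le_of_card_ge inf_le_left (h20 ▸ hN5))
    have htop : K = ⊤ := by
      rw [eq_top_iff, ← hgen, Subgroup.closure_le]
      rintro z (rfl | rfl)
      exacts [hK, hle' hTY]
    rw [htop, Subgroup.card_top] at hlt
    exact lt_irrefl _ hlt
  · obtain ⟨n, hn, hmul⟩ := sylow_count hK hX (by
      rw [hc, show 2112 = 11 ^ 1 * 192 from rfl, Nat.factorization_mul (by norm_num) (by norm_num),
        Nat.Prime.factorization_pow (by norm_num)]
      simp [Nat.factorization_eq_zero_of_not_dvd (show ¬ 11 ∣ 192 by norm_num)])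
    have := count_cases (n₀ := 0) (N₀ := 0) (by rw [hc]; norm_num) hmul hn (bnd X _ hN11)
      (by rw [hc]; decide +kernel)
    rw [this, zero_mul, hc] at hmul
    exact absurd hmul (by norm_num)

/-- Conjugating permutation for the element of order 11, its inverse, the conjugate. -/
def conjX : ℕ × ℕ × ℕ :=
  (0x1710010c1106081216130f040a07090b0e0314150d050200,
   0x170f04050e1013160d070314080b09110a12020c06011500,
   0x170e060410130b05090711121615080a140c0f010d030200)

/-- Conjugating permutation for the element of order 5, its inverse, the conjugate. -/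
def conjY : ℕ × ℕ × ℕ :=
  (0x17080c011310070e16020f0a0b06050d0915110304121400,
   0x170f0601130205120d1008150b0c0716110a0903040e1400,
   0x17090c0b06130108070e15160a0f0d121410110405030200)

theorem conj_checks :
    (permOK 24 conjX.1 && mem22 conjX.1) = true ∧
      samePack 24 (packMul 24 (packMul 24 conjX.2.1 rigid22.x) conjX.1) conjX.2.2 = true ∧
      isId 24 (packMul 24 conjX.2.1 conjX.1) = true ∧ permOK 24 conjX.2.1 = true ∧
    (permOK 24 conjY.1 && mem22 conjY.1) = true ∧
      samePack 24 (packMul 24 (packMul 24 conjY.2.1 rigid22.y) conjY.1) conjY.2.2 = true ∧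
      isId 24 (packMul 24 conjY.2.1 conjY.1) = true ∧ permOK 24 conjY.2.1 = true := by
  decide +kernel

theorem solsX : (((List.range 11).filter fun k => k != 0).flatMap fun k =>
    solutions 24 conjX.2.2 (packPowS 24 conjX.2.2 k) levels22).length ≤ 55 := by decide +kernel

theorem solsY : (((List.range 5).filter fun k => k != 0).flatMap fun k =>
    solutions 24 conjY.2.2 (packPowS 24 conjY.2.2 k) levels22).length ≤ 20 := by decide +kernel

/-- The bound for a conjugate transferred to the original element. -/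
theorem normalizer_bound {p b : ℕ} {X : Spor.M22} {x c ci x' : ℕ}
    (hX : Rep ptEnc (X : Equiv.Perm GolayPt) x) (hp : orderOf X = p) (hp1 : 1 < p)
    (hc : (permOK 24 c && mem22 c) = true) (hx' : samePack 24 (packMul 24 (packMul 24 ci x) c) x' = true)
    (hinv : isId 24 (packMul 24 ci c) = true) (hci : permOK 24 ci = true)
    (hb : (((List.range p).filter fun k => k != 0).flatMap fun k =>
      solutions 24 x' (packPowS 24 x' k) levels22).length ≤ b) :
    Nat.card (Subgroup.normalizer (Subgroup.zpowers X : Set Spor.M22)) ≤ b := by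
  rw [Bool.and_eq_true] at hc
  obtain ⟨γ, hγ⟩ := exists_rep (e := ptEnc) hc.1
  obtain ⟨δ, hδ⟩ := exists_rep (e := ptEnc) hci
  have hδγ : δ = γ⁻¹ := eq_inv_of_mul_eq_one_left ((rep_packMul hδ hγ).eq_one hinv)
  let C : Spor.M22 := ⟨γ, mem22_sound γ c hγ hc.2⟩
  have hX' : Rep ptEnc ((C⁻¹ * X * C : Spor.M22) : Equiv.Perm GolayPt) x' := by
    show Rep ptEnc (γ⁻¹ * (X : Equiv.Perm GolayPt) * γ) x'
    rw [← hδγ]
    exact (rep_packMul (rep_packMul hδ hX) hγ).of_same hx'
  have ho : orderOf (C⁻¹ * X * C) = p := by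
    rw [← hp]
    have h := (MulAut.conj C⁻¹).orderOf_eq X
    simpa using h
  refine le_trans (le_of_eq ?_)
    ((card_normalizer_zpowers_le stab22 hX' ho hp1).trans hb)
  refine Nat.card_congr ((Subgroup.equivMapOfInjective _ (MulAut.conj C⁻¹).toMonoidHom
    (MulAut.conj C⁻¹).injective).trans (MulEquiv.subgroupCongr ?_)).toEquiv
  rw [Subgroup.map_equiv_normalizer_eq, MonoidHom.map_zpowers]
  simp

theorem basic22 : rigid22.basicOK 24 gens22 = true := by decide +kernel

theorem y_order : isId 24 (packPow 24 rigid22.y 5) = true ∧ isId 24 rigid22.y = false := by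
  decide +kernel

theorem M22_no_small_index (H : Subgroup Spor.M22) : H.index ≠ 56 ∧ H.index ≠ 210 := by
  obtain ⟨σx, hσx, hx⟩ := rigid_mem22 rigid22.x (by simp)
  obtain ⟨σy, hσy, hy⟩ := rigid_mem22 rigid22.y (by simp)
  obtain ⟨σt, hσt, ht⟩ := rigid_mem22 rigid22.t (by simp)
  let X : Spor.M22 := ⟨σx, hσx⟩
  let Y : Spor.M22 := ⟨σy, hσy⟩
  let T : Spor.M22 := ⟨σt, hσt⟩
  have hn := stab22.le256
  have hb := basic22
  simp only [RigidData.basicOK, isIdS, force_eq, packMulS_eq, packPowS_eq, Bool.and_eq_true,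
    List.all_eq_true, List.any_eq_true, Bool.not_eq_eq_eq_not, Bool.not_true] at hb
  obtain ⟨⟨⟨⟨⟨⟨-, hxp⟩, hx1⟩, hyx⟩, hyj⟩, hty⟩, hwords⟩ := hb
  have hXo : orderOf X = 11 := by
    have : Fact (Nat.Prime 11) := ⟨by norm_num⟩
    refine orderOf_eq_prime (Subtype.ext ((rep_packPow hn hx 11).eq_one hxp)) fun h => ?_
    rw [hx.isId_of_eq_one (congrArg Subtype.val h)] at hx1
    exact absurd hx1 (by simp)
  have hYo : orderOf Y = 5 := by
    have : Fact (Nat.Prime 5) := ⟨by norm_num⟩
    refine orderOf_eq_prime (Subtype.ext ((rep_packPow hn hy 5).eq_one y_order.1)) fun h => ?_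
    have := hy.isId_of_eq_one (congrArg Subtype.val h)
    rw [y_order.2] at this
    exact Bool.noConfusion this
  have hnorm : ∀ (A B : Spor.M22) (k : ℕ), A * B = B ^ k * A →
      A ∈ Subgroup.normalizer (Subgroup.zpowers B : Set Spor.M22) := by
    intro A B k h
    have hfin : (A * B * A⁻¹) = B ^ k := by rw [h]; group
    refine (Subgroup.mem_normalizer_iff).2 fun z => ?_
    have hmap : (Subgroup.zpowers B).map (MulAut.conj A).toMonoidHom = Subgroup.zpowers B := by
      refine Subgroup.eq_of_le_of_card_ge ?_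
        (by rw [Subgroup.card_map_of_injective (MulAut.conj A).injective])
      rw [MonoidHom.map_zpowers, Subgroup.zpowers_le]
      exact ⟨k, by simpa using hfin.symm⟩
    constructor
    · intro hz
      rw [← hmap]
      exact ⟨z, hz, rfl⟩
    · intro hz
      have hz' : (MulAut.conj A) z ∈ (Subgroup.zpowers B).map (MulAut.conj A).toMonoidHom := by
        rw [hmap]; exact hz
      obtain ⟨w, hw, e⟩ := hz'
      exact (MulAut.conj A).injective e ▸ hw
  have hYX : Y ∈ Subgroup.normalizer (Subgroup.zpowers X : Set Spor.M22) := hnorm Y X rigid22.r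
    (Subtype.ext (((rep_packMul hy hx).of_same hyx).unique
      (rep_packMul (rep_packPow hn hx rigid22.r) hy)))
  have hTY : T ∈ Subgroup.normalizer (Subgroup.zpowers Y : Set Spor.M22) := hnorm T Y rigid22.j
    (Subtype.ext (((rep_packMul ht hy).of_same hty).unique
      (rep_packMul ((rep_packPow hn hy rigid22.j).of_same hyj) ht)))
  have hgen : Subgroup.closure ({X, T} : Set Spor.M22) = ⊤ := by
    have hle : Spor.M22 ≤ (Subgroup.closure ({X, T} : Set Spor.M22)).map Spor.M22.subtype := by
      refine M22_cert.1.symm.le.trans (genGroup_le fun σ l hl hσ => ?_)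
      obtain ⟨w, -, hw⟩ := hwords l hl
      refine ⟨sylProd X T w, Subgroup.list_prod_mem _ fun z hz => ?_, ?_⟩
      · obtain ⟨ab, -, rfl⟩ := List.mem_map.1 hz
        exact Subgroup.mul_mem _ (Subgroup.pow_mem _ (Subgroup.subset_closure (by simp)) _)
          (Subgroup.pow_mem _ (Subgroup.subset_closure (by simp)) _)
      · rw [map_sylProd]
        exact ((rep_sylPack hn hx ht w).of_same hw).unique hσ
    rw [eq_top_iff]
    intro z _
    obtain ⟨z', hz', h⟩ := hle z.2
    rwa [← Subtype.ext h]
  obtain ⟨c1, c2, c3, c4, d1, d2, d3, d4⟩ := conj_checks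
  have hN11 := normalizer_bound (X := X) hx hXo (by norm_num) c1 c2 c3 c4 solsX
  have hN5 := normalizer_bound (X := Y) hy hYo (by norm_num) d1 d2 d3 d4 solsY
  have hG11 : (Nat.card Spor.M22).factorization 11 = 1 := by
    rw [card_M22, show 443520 = 11 ^ 1 * 40320 from rfl,
      Nat.factorization_mul (by norm_num) (by norm_num),
      Nat.Prime.factorization_pow (by norm_num)]
    simp [Nat.factorization_eq_zero_of_not_dvd (show ¬ 11 ∣ 40320 by norm_num)]
  have hmul := Subgroup.index_mul_card H
  rw [card_M22] at hmul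
  have hcases : ∀ i, H.index = i → i ≠ 1 → Nat.card H < Nat.card Spor.M22 := fun i hi h1 => by
    rcases lt_or_eq_of_le (Subgroup.card_le_card_group H) with h | h
    · exact h
    · rw [Subgroup.eq_top_of_card_eq H h, Subgroup.index_top] at hi
      exact absurd hi.symm h1
  constructor <;> intro h <;> have hlt := hcases _ h (by norm_num) <;> rw [h] at hmul
  · exact (no_order_small hXo hYo hG11 hN11 hN5 hYX hTY hgen H
      hlt).1 (by omega)
  · exact (no_order_small hXo hYo hG11 hN11 hN5 hYX hTY hgen H
      hlt).2 (by omega)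

end Cfsg.Agent.Mathieu
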