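import Cfsg.Agent.Lib.Mathieu.StabOrbits
import Cfsg.Agent.Lib.Mathieu.OctOrbData

/-!
Kernel checks for orbit certificates of stabilisers in `M₂₄`.
-/

set_option autoImplicit false
set_option maxRecDepth 20000

namespace Cfsg.Agent.Mathieu

open Cfsg

/-- The invariant of the `i`-th object, for `octOnOct`. -/
def octOnOctKey (i : ℕ) : ℕ := popF (octAt i &&& octadA)

theorem octOnOct_gens :
    (gensOK octOnOctGens && fixMask octOnOctGens octadA) = true := by
  decide +kernel

theorem octOnOct_tree :
    orbTreeOK pimgT octAt (octOnOctGens.map Prod.snd) octOnOctTree octOnOctRoots 759 = true := by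
  decide +kernel

theorem octOnOct_roots : (octOnOctRoots.map octOnOctKey).Nodup ∧
    (octOnOctRoots.all fun r => r.blt 759) = true := by
  decide +kernel

theorem octOnOct_size :
    octOnOctRoots.map (fun r => classSize octOnOctKey r 759) = [1, 30, 280, 448] := by
  decide +kernel

end Cfsg.Agent.Mathieu
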