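import Cfsg.Agent.Lib.Mathieu.StabOrbits
import Cfsg.Agent.Lib.Mathieu.OctOrbData

/-!
Kernel checks for orbit certificates of stabilisers in `M₂₄`.
-/

set_option autoImplicit false
set_option maxRecDepth 20000

namespace Cfsg.Agent.Mathieu

open Cfsg

/-- The invariant of the `i`-th object, for `octOnSext`. -/
def octOnSextKey (i : ℕ) : ℕ := pairKey [octadA] (sextAt i)

theorem octOnSext_gens :
    (gensOK octOnSextGens && fixMask octOnSextGens octadA) = true := by
  decide +kernel

theorem octOnSext_tree :
    orbTreeOK actMasksT sextAt (octOnSextGens.map Prod.snd) octOnSextTree octOnSextRoots 1771 = true := by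
  decide +kernel

theorem octOnSext_roots : (octOnSextRoots.map octOnSextKey).Nodup ∧
    (octOnSextRoots.all fun r => r.blt 1771) = true := by
  decide +kernel

theorem octOnSext_size :
    octOnSextRoots.map (fun r => classSize octOnSextKey r 1771) = [35, 840, 896] := by
  decide +kernel

end Cfsg.Agent.Mathieu
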