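import Cfsg.Agent.Lib.Mathieu.StabOrbits
import Cfsg.Agent.Lib.Mathieu.OctOrbData

/-!
Kernel checks for the orbits of an octad stabiliser on trios.
-/

set_option autoImplicit false
set_option maxRecDepth 20000

namespace Cfsg.Agent.Mathieu

open Cfsg

/-- The invariant of the `i`-th trio. -/
def octOnTrioKey (i : ℕ) : ℕ := pairKey [octadA] (trioAt i)

theorem octOnTrio_gens :
    (gensOK octOnTrioGens && fixMask octOnTrioGens octadA) = true := by
  decide +kernel

theorem octOnTrio_tree :
    orbTreeOK actMasksT trioAt (octOnTrioGens.map Prod.snd) octOnTrioTree octOnTrioRoots 3795 = true := by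
  decide +kernel

theorem octOnTrio_roots : (octOnTrioRoots.map octOnTrioKey).Nodup ∧
    (octOnTrioRoots.all fun r => r.blt 3795) = true := by
  decide +kernel

theorem octOnTrio_size : octOnTrioRoots.map (fun r => classSize octOnTrioKey r 3795) = [15, 420, 3360] := by
  decide +kernel

theorem octadA_in_trio : ((List.range 3795).all fun i =>
    !((trioAt i).contains octadA) || octOnTrioKey i == octOnTrioKey 240) = true := by
  decide +kernel

end Cfsg.Agent.Mathieu
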