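import Cfsg.Agent.Lib.Mathieu.OrbitLists
import Cfsg.Agent.Lib.Mathieu.Hexads
import Cfsg.Agent.Lib.Mathieu.OctOctCheck
import Cfsg.Agent.Lib.Mathieu.OctTrioCheck
import Cfsg.Agent.Lib.Mathieu.OctSextCheck

/-!
Orbits of the stabiliser of an octad on octads, trios and sextets.
-/

set_option autoImplicit false

namespace Cfsg.Agent.Mathieu

open Cfsg
open scoped Pointwise

theorem canon_octadA : canonList [octadA] = true := by decide +kernel

theorem octOnTrio_orbits :
    (∀ r ∈ octOnTrioRoots, trioKind.dec (trioKind.get r) ∈ trios ∧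
      (MulAction.orbit ↥(stabM (ptsOf octadA)) (trioKind.dec (trioKind.get r))).ncard =
        classSize octOnTrioKey r 3795 ∧
      ∀ x, x ∈ MulAction.orbit ↥(stabM (ptsOf octadA)) (trioKind.dec (trioKind.get r)) ↔
        x ∈ trios ∧ pairSig {ptsOf octadA} x = octOnTrioKey r) ∧
    ∀ x ∈ trios, ∃ r ∈ octOnTrioRoots,
      x ∈ MulAction.orbit ↥(stabM (ptsOf octadA)) (trioKind.dec (trioKind.get r)) := by
  obtain ⟨hg, hf⟩ := Bool.and_eq_true_iff.1 octOnTrio_gens
  refine trioKind.orbits (ptsOf octadA) hg (fix_of_fixMask hf) (treeOK_lawful (κ := List ℕ) octOnTrio_tree) _ (sig_stab_pts _) _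
    (fun i hi => ?_) octOnTrio_roots.1 octOnTrio_roots.2
  rw [← setOfMasks_singleton]
  exact pairSig_setOfMasks canon_octadA (canon_trio hi)

theorem octOnSext_orbits :
    (∀ r ∈ octOnSextRoots, sextKind.dec (sextKind.get r) ∈ sextets ∧
      (MulAction.orbit ↥(stabM (ptsOf octadA)) (sextKind.dec (sextKind.get r))).ncard =
        classSize octOnSextKey r 1771 ∧
      ∀ x, x ∈ MulAction.orbit ↥(stabM (ptsOf octadA)) (sextKind.dec (sextKind.get r)) ↔
        x ∈ sextets ∧ pairSig {ptsOf octadA} x = octOnSextKey r) ∧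
    ∀ x ∈ sextets, ∃ r ∈ octOnSextRoots,
      x ∈ MulAction.orbit ↥(stabM (ptsOf octadA)) (sextKind.dec (sextKind.get r)) := by
  obtain ⟨hg, hf⟩ := Bool.and_eq_true_iff.1 octOnSext_gens
  refine sextKind.orbits (ptsOf octadA) hg (fix_of_fixMask hf) (treeOK_lawful (κ := List ℕ) octOnSext_tree) _ (sig_stab_pts _) _
    (fun i hi => ?_) octOnSext_roots.1 octOnSext_roots.2
  rw [← setOfMasks_singleton]
  exact pairSig_setOfMasks canon_octadA (sext_spec hi).2.1

theorem octOnOct_orbits :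
    (∀ r ∈ octOnOctRoots, octKind.dec (octKind.get r) ∈ octads ∧
      (MulAction.orbit ↥(stabM (ptsOf octadA)) (octKind.dec (octKind.get r))).ncard =
        classSize octOnOctKey r 759 ∧
      ∀ x, x ∈ MulAction.orbit ↥(stabM (ptsOf octadA)) (octKind.dec (octKind.get r)) ↔
        x ∈ octads ∧ (x ∩ ptsOf octadA).card = octOnOctKey r) ∧
    ∀ x ∈ octads, ∃ r ∈ octOnOctRoots,
      x ∈ MulAction.orbit ↥(stabM (ptsOf octadA)) (octKind.dec (octKind.get r)) := by
  obtain ⟨hg, hf⟩ := Bool.and_eq_true_iff.1 octOnOct_gens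
  refine octKind.orbits (ptsOf octadA) hg (fix_of_fixMask hf) octOnOct_tree _
    (fun σ hσ x => ?_) _ (fun i _ => ?_) octOnOct_roots.1 octOnOct_roots.2
  · conv_lhs => rw [← (show σ • ptsOf octadA = ptsOf octadA from hσ.2)]
    rw [← smul_inter_pts, Finset.card_smul_finset]
  · show (ptsOf (octAt i) ∩ ptsOf octadA).card = _
    rw [← ptsOf_and, card_ptsOf, popF_eq]
    rfl

theorem octOnOct_keys : octOnOctRoots.map octOnOctKey = [8, 0, 4, 2] := by decide +kernel

/-- `M₂₄` is transitive on pairs of octads with a given intersection. -/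
theorem exists_map_octad_pair {o o' : Finset GolayPt} (ho : o ∈ octads) (ho' : o' ∈ octads) :
    ∃ r ∈ octOnOctRoots, (o ∩ o').card = octOnOctKey r ∧
      ∃ g ∈ M24, g • ptsOf octadA = o ∧ g • ptsOf (octAt r) = o' := by
  obtain ⟨σ, hσ, rfl⟩ := M24_transitive_octads octadA_mem ho
  obtain ⟨r, hr, hmem⟩ := octOnOct_orbits.2 (σ⁻¹ • o') (M24_smul_octad (M24.inv_mem hσ) ho')
  have hk := ((octOnOct_orbits.1 r hr).2.2 _).1 hmem
  obtain ⟨⟨τ, hτ, hfix⟩, e⟩ := hmem
  refine ⟨r, hr, ?_, σ * τ, M24.mul_mem hσ hτ, ?_, ?_⟩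
  · rw [← hk.2, ← Finset.card_smul_finset σ (σ⁻¹ • o' ∩ ptsOf octadA), smul_inter_pts,
      smul_inv_smul, Finset.inter_comm]
  · rw [mul_smul, show τ • ptsOf octadA = ptsOf octadA from hfix]
  · rw [mul_smul, show τ • ptsOf (octAt r) = σ⁻¹ • o' from e, smul_inv_smul]

theorem octad_inter_values {o o' : Finset GolayPt} (ho : o ∈ octads) (ho' : o' ∈ octads) :
    (o ∩ o').card = 8 ∨ (o ∩ o').card = 0 ∨ (o ∩ o').card = 4 ∨ (o ∩ o').card = 2 := by
  obtain ⟨r, hr, hc, -⟩ := exists_map_octad_pair ho ho'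
  have : octOnOctKey r ∈ octOnOctRoots.map octOnOctKey := List.mem_map_of_mem hr
  rw [octOnOct_keys] at this
  rw [hc]
  simpa using this

theorem exists_map_trio {T T' : Finset (Finset GolayPt)} (hT : T ∈ trios) (hT' : T' ∈ trios) :
    ∃ g ∈ M24, g • T = T' := by
  suffices h : ∀ U ∈ trios, ∃ g ∈ M24, g • setOfMasks (trioAt 240) = U by
    obtain ⟨a, ha, rfl⟩ := h T hT
    obtain ⟨b, hb, rfl⟩ := h T' hT'
    exact ⟨b * a⁻¹, M24.mul_mem hb (M24.inv_mem ha), by rw [mul_smul, inv_smul_smul]⟩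
  intro U hU
  obtain ⟨o, ho⟩ : U.Nonempty := Finset.card_pos.1 (by rw [hU.1]; norm_num)
  obtain ⟨σ, hσ, hσo⟩ := M24_transitive_octads (hU.2.1 o ho) octadA_mem
  obtain ⟨i, hi, e⟩ := (trios_eq _).1 (M24_smul_mem_trios hσ hU)
  have hmem : ptsOf octadA ∈ setOfMasks (trioAt i) := by
    rw [e, ← hσo]; exact Finset.smul_mem_smul_finset ho
  obtain ⟨m, hm, hme⟩ := Finset.mem_image.1 hmem
  rw [List.mem_toFinset] at hm
  have hm' : m = octadA :=
    ptsOf_inj ((canonList_spec (canon_trio hi)).2 m hm) (by decide +kernel) hme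
  have hk := List.all_eq_true.1 octadA_in_trio i (List.mem_range.2 hi)
  rw [Bool.or_eq_true, Bool.not_eq_true', beq_iff_eq] at hk
  have hk' : octOnTrioKey i = octOnTrioKey 240 := hk.resolve_left (by
    rw [Bool.not_eq_false, List.contains_iff_mem]; exact hm' ▸ hm)
  have h240 := (octOnTrio_orbits.1 240 (by decide +kernel)).2.2 (setOfMasks (trioAt i))
  obtain ⟨⟨τ, hτ, hfix⟩, hτe⟩ := h240.2 ⟨e ▸ M24_smul_mem_trios hσ hU, by
    rw [← hk', ← setOfMasks_singleton]; exact pairSig_setOfMasks canon_octadA (canon_trio hi)⟩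
  refine ⟨σ⁻¹ * τ, M24.mul_mem (M24.inv_mem hσ) hτ, ?_⟩
  rw [mul_smul, show τ • setOfMasks (trioAt 240) = setOfMasks (trioAt i) from hτe, e, inv_smul_smul]

end Cfsg.Agent.Mathieu
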