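import Cfsg.Agent.Lib.Mathieu.OctPairs
import Cfsg.Agent.Lib.Mathieu.Stab.OctadGroup

/-!
Two octads meeting in two points: their common stabiliser is the symmetric group on the six
other points of the first.
-/

set_option autoImplicit false
set_option maxRecDepth 20000

namespace Cfsg.Agent.Mathieu

open Cfsg
open scoped Pointwise

theorem fixing_of_fix_six {o o' : Finset GolayPt} (ho : o ∈ octads) (h2 : (o ∩ o').card = 2)
    {g : Equiv.Perm GolayPt} (hg : g ∈ M24) (hgo : g • o = o) (hfix : ∀ x ∈ o \ o', g x = x) :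
    ∀ x ∈ o, g x = x := by
  classical
  obtain ⟨p, hp⟩ : ∃ p, p ∉ o := by
    by_contra h
    push Not at h
    have := octad_card ho
    rw [Finset.eq_univ_of_forall h, Finset.card_univ] at this
    simp at this
  obtain ⟨τ, hτ, hc⟩ := exists_factor ho hp hg hgo
  set c := τ⁻¹ * g with hcdef
  let π : Equiv.Perm ↥o := compToPerm o p ⟨c, hc⟩
  have hval : ∀ x : ↥o, ((π x : ↥o) : GolayPt) = c x := fun x => rfl
  have hgx : ∀ x ∈ o, c x = g x := fun x hx => by
    rw [hcdef, Equiv.Perm.mul_apply, Equiv.Perm.inv_def, Equiv.symm_apply_eq]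
    exact ((mem_octFix.1 hτ).2 _ ((apply_mem_iff_of_fixed hgo x).2 hx)).symm
  have heven : Equiv.Perm.sign π = 1 := by
    have : π ∈ (compToPerm o p).range := ⟨_, rfl⟩
    rwa [compToPerm_range ho hp, Equiv.Perm.mem_alternatingGroup] at this
  have hsupp : π.support.card ≤ 2 := by
    rw [← h2, ← Finset.card_map ⟨Subtype.val, Subtype.val_injective⟩]
    refine Finset.card_le_card fun x hx => ?_
    obtain ⟨y, hy, rfl⟩ := Finset.mem_map.1 hx
    refine Finset.mem_inter.2 ⟨y.2, ?_⟩
    by_contra hn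
    refine Equiv.Perm.mem_support.1 hy (Subtype.ext ?_)
    rw [hval, hgx _ y.2]
    exact hfix _ (Finset.mem_sdiff.2 ⟨y.2, hn⟩)
  have hone : π = 1 := by
    by_contra hne
    have hswap : π.IsSwap := Equiv.Perm.card_support_eq_two.1
      (le_antisymm hsupp (Equiv.Perm.two_le_card_support_of_ne_one hne))
    rw [hswap.sign_eq] at heven
    exact absurd heven (by decide)
  intro x hx
  rw [← hgx x hx, ← hval ⟨x, hx⟩, hone]
  rfl

theorem fixer_octAt_one : ((prodList 24 (levels24.drop 6)).all fun l =>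
    !mapsMask l (octAt 1) (octAt 1) || isId 24 l) = true := by
  decide +kernel

theorem eq_one_of_fix_six {o o' : Finset GolayPt} (ho : o ∈ octads) (ho' : o' ∈ octads)
    (h2 : (o ∩ o').card = 2) {g : Equiv.Perm GolayPt} (hg : g ∈ M24) (hgo : g • o = o)
    (hgo' : g • o' = o') (hfix : ∀ x ∈ o \ o', g x = x) : g = 1 := by
  have hall := fixing_of_fix_six ho h2 hg hgo hfix
  obtain ⟨σ, hσ, rfl, rfl⟩ := (octPair_root ho ho').2.1 h2
  have hc : σ⁻¹ * g * σ ∈ M24 := M24.mul_mem (M24.mul_mem (M24.inv_mem hσ) hg) hσ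
  have hcA : ∀ x ∈ ptsOf octadA, (σ⁻¹ * g * σ) x = x := fun x hx => by
    simp [hall (σ x) (apply_mem_smul_pts.2 hx)]
  obtain ⟨l, hl, hlg⟩ := M24_mem_list 6 hc (fun q hq => by
    have hmem : (σ⁻¹ * g * σ) ∈ M24 ⊓ fixingSubgroup (Equiv.Perm GolayPt) (ptsOf octadA : Set GolayPt) :=
      ⟨hc, (mem_fixingSubgroup_iff (Equiv.Perm GolayPt)).2 fun x hx => hcA x hx⟩
    rw [← octadA_fixer_eq, mem_fixList] at hmem
    refine hmem.2 _ ?_
    rw [toLevels, ← List.map_take, List.map_map]
    exact List.mem_map.2 ⟨q, hq, rfl⟩)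
  have hmap : mapsMask l (octAt 1) (octAt 1) = true := by
    rw [mapsMask_iff hlg, mul_smul, mul_smul, hgo', inv_smul_smul]
  have h := List.all_eq_true.1 fixer_octAt_one l hl
  rw [hmap] at h
  have h1 : σ⁻¹ * g * σ = 1 := hlg.eq_one (by simpa using h)
  rw [mul_assoc, inv_mul_eq_one] at h1
  exact mul_eq_right.1 h1.symm

/-- The action on the six points of `o` outside `o'`. -/
def sixPerm (o o' : Finset GolayPt) :
    ↥(MulAction.stabilizer M24 o ⊓ MulAction.stabilizer M24 o') →* Equiv.Perm ↥(o \ o') where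
  toFun g := ((g : ↥M24) : Equiv.Perm GolayPt).subtypePerm fun x => by
    have h1 : ((g : ↥M24) : Equiv.Perm GolayPt) • o = o := g.2.1
    have h2 : ((g : ↥M24) : Equiv.Perm GolayPt) • o' = o' := g.2.2
    rw [Finset.mem_sdiff, Finset.mem_sdiff, apply_mem_iff_of_fixed h1, apply_mem_iff_of_fixed h2]
  map_one' := by ext x; rfl
  map_mul' _ _ := by ext x; rfl

theorem octPair_equiv_perm_six {o o' : Finset GolayPt} (ho : o ∈ octads) (ho' : o' ∈ octads)
    (h2 : (o ∩ o').card = 2) :
    Nonempty (↥(MulAction.stabilizer M24 o ⊓ MulAction.stabilizer M24 o') ≃* Equiv.Perm (Fin 6)) := by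
  have hcard : (o \ o').card = 6 := by
    have := Finset.card_sdiff_add_card_inter o o'
    rw [octad_card ho] at this
    omega
  have hinj : Function.Injective (sixPerm o o') := by
    rw [← MonoidHom.ker_eq_bot_iff, Subgroup.eq_bot_iff_forall]
    rintro ⟨⟨g, hg⟩, h1, h2'⟩ hk
    exact Subtype.ext (Subtype.ext (eq_one_of_fix_six ho ho' h2 hg h1 h2' fun x hx =>
      congrArg Subtype.val (Equiv.Perm.ext_iff.1 (MonoidHom.mem_ker.1 hk) ⟨x, hx⟩)))
  have hbij : Function.Bijective (sixPerm o o') := by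
    refine (Nat.bijective_iff_injective_and_card _).2 ⟨hinj, ?_⟩
    rw [(card_stab_pair_cases ho ho').2.2 h2, Nat.card_perm, Nat.card_eq_finsetCard, hcard]
    rfl
  exact ⟨(MulEquiv.ofBijective _ hbij).trans ((o \ o').equivFinOfCardEq hcard).permCongrHom⟩

end Cfsg.Agent.Mathieu
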