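import Cfsg.Agent.Lib.Mathieu.OctOrbits

/-!
Pairs of octads: common neighbours and stabiliser orders.
-/

set_option autoImplicit false
set_option maxRecDepth 20000

namespace Cfsg.Agent.Mathieu

open Cfsg
open scoped Pointwise

theorem inter_card_smul (g : Equiv.Perm GolayPt) (s t : Finset GolayPt) :
    ((g • s) ∩ (g • t)).card = (s ∩ t).card := by
  rw [← smul_inter_pts, Finset.card_smul_finset]

theorem octPair_root {o o' : Finset GolayPt} (ho : o ∈ octads) (ho' : o' ∈ octads) :
    ((o ∩ o').card = 4 → ∃ g ∈ M24, g • ptsOf octadA = o ∧ g • ptsOf (octAt 0) = o') ∧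
    ((o ∩ o').card = 2 → ∃ g ∈ M24, g • ptsOf octadA = o ∧ g • ptsOf (octAt 1) = o') ∧
    ((o ∩ o').card = 0 → ∃ g ∈ M24, g • ptsOf octadA = o ∧ g • ptsOf (octAt 119) = o') := by
  obtain ⟨r, hr, hc, hg⟩ := exists_map_octad_pair ho ho'
  have hk : octOnOctKey 36 = 8 ∧ octOnOctKey 119 = 0 ∧ octOnOctKey 0 = 4 ∧ octOnOctKey 1 = 2 := by
    decide +kernel
  simp only [octOnOctRoots, List.mem_cons, List.not_mem_nil, or_false] at hr
  obtain ⟨k36, k119, k0, k1⟩ := hk
  rcases hr with rfl | rfl | rfl | rfl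
  · rw [k36] at hc
    exact ⟨fun h => by omega, fun h => by omega, fun h => by omega⟩
  · rw [k119] at hc
    exact ⟨fun h => by omega, fun h => by omega, fun _ => hg⟩
  · rw [k0] at hc
    exact ⟨fun _ => hg, fun h => by omega, fun h => by omega⟩
  · rw [k1] at hc
    exact ⟨fun h => by omega, fun _ => hg, fun h => by omega⟩

theorem octGraph_check : (popc 24 (octAt 487 &&& octadA) = 0 ∧ popc 24 (octAt 487 &&& octAt 0) = 0) ∧
    (popc 24 (octAt 119 &&& octadA) = 0 ∧ popc 24 (octAt 119 &&& octAt 1) = 4) ∧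
    ((List.range 759).all fun k => !(Nat.beq (octAt k &&& octadA) 0 && Nat.beq (octAt k &&& octAt 1) 0))
      = true := by
  decide +kernel

theorem exists_disjoint_both {o o' : Finset GolayPt} (ho : o ∈ octads) (ho' : o' ∈ octads)
    (h : (o ∩ o').card = 4) : ∃ k ∈ octads, (k ∩ o).card = 0 ∧ (k ∩ o').card = 0 := by
  obtain ⟨g, hg, rfl, rfl⟩ := (octPair_root ho ho').1 h
  refine ⟨g • ptsOf (octAt 487), M24_smul_octad hg ((octads_eq _).2 ⟨487, by norm_num, rfl⟩), ?_⟩
  rw [inter_card_smul, inter_card_smul, ← ptsOf_and, ← ptsOf_and, card_ptsOf, card_ptsOf]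
  exact octGraph_check.1

theorem exists_disjoint_four {o o' : Finset GolayPt} (ho : o ∈ octads) (ho' : o' ∈ octads)
    (h : (o ∩ o').card = 2) : ∃ k ∈ octads, (k ∩ o).card = 0 ∧ (k ∩ o').card = 4 := by
  obtain ⟨g, hg, rfl, rfl⟩ := (octPair_root ho ho').2.1 h
  refine ⟨g • ptsOf (octAt 119), M24_smul_octad hg ((octads_eq _).2 ⟨119, by norm_num, rfl⟩), ?_⟩
  rw [inter_card_smul, inter_card_smul, ← ptsOf_and, ← ptsOf_and, card_ptsOf, card_ptsOf]
  exact octGraph_check.2.1

theorem not_exists_disjoint_both {o o' : Finset GolayPt} (ho : o ∈ octads) (ho' : o' ∈ octads)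
    (h : (o ∩ o').card = 2) {k : Finset GolayPt} (hk : k ∈ octads) (h1 : (k ∩ o).card = 0)
    (h2 : (k ∩ o').card = 0) : False := by
  obtain ⟨g, hg, rfl, rfl⟩ := (octPair_root ho ho').2.1 h
  rw [← smul_inv_smul g k, inter_card_smul] at h1 h2
  obtain ⟨i, hi, e⟩ := (octads_eq _).1 (M24_smul_octad (M24.inv_mem hg) hk)
  rw [← e] at h1 h2
  have z : ∀ m, (ptsOf (octAt i) ∩ ptsOf m).card = 0 → Nat.beq (octAt i &&& m) 0 = true := fun m hm => by
    rw [Nat.beq_eq]
    refine ptsOf_inj (lt_of_le_of_lt Nat.and_le_left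
      (inCode_spec (mem_maskList.1 (octAt_mem hi)).1).1) (by norm_num) ?_
    rw [ptsOf_and, Finset.card_eq_zero.1 hm]
    ext p
    simp [mem_ptsOf, hasPt]
  have := List.all_eq_true.1 octGraph_check.2.2 i (List.mem_range.2 hi)
  rw [z _ h1, z _ h2] at this
  simp at this

theorem card_stabM_octad {o : Finset GolayPt} (ho : o ∈ octads) : Nat.card ↥(stabM o) = 322560 := by
  have horb : MulAction.orbit M24 o = octads := by
    refine Set.Subset.antisymm ?_ fun x hx => ?_
    · rintro _ ⟨⟨g, hg⟩, rfl⟩; exact M24_smul_octad hg ho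
    · obtain ⟨g, hg, e⟩ := M24_transitive_octads ho hx
      exact ⟨⟨g, hg⟩, e⟩
  have hn : (octads : Set (Finset GolayPt)).ncard = 759 := by
    have : (octads : Set (Finset GolayPt)) =
        (((Finset.range 759).image fun i => ptsOf (octAt i) : Finset (Finset GolayPt)) : Set _) := by
      ext x
      rw [Finset.mem_coe, Finset.mem_image, octads_eq]
      exact exists_congr fun i => by rw [Finset.mem_range]
    rw [this, Set.ncard_coe_finset, Finset.card_image_of_injOn fun i hi j hj e =>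
      octAt_inj i (Finset.mem_range.1 hi) j (Finset.mem_range.1 hj) e, Finset.card_range]
  have h := Subgroup.index_mul_card (MulAction.stabilizer M24 o)
  rw [MulAction.index_stabilizer, horb, hn, card_M24] at h
  rw [stabM, ← Nat.card_congr (stabEquivInf M24 o).toEquiv]
  omega

theorem card_stab_pair {o o' : Finset GolayPt} {n : ℕ}
    (ho : o ∈ octads) (hn : (MulAction.orbit ↥(stabM o) o').ncard = n) :
    n * Nat.card ↥(MulAction.stabilizer M24 o ⊓ MulAction.stabilizer M24 o') = 322560 := by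
  have h := Subgroup.index_mul_card (MulAction.stabilizer ↥(stabM o) o')
  rw [MulAction.index_stabilizer, hn, card_stabM_octad ho] at h
  rw [← h]
  congr 1
  refine Nat.card_congr ⟨fun g => ⟨⟨g.1.1, g.1.2, g.2.1⟩, g.2.2⟩,
    fun g => ⟨⟨g.1.1, g.1.2.1⟩, g.1.2.2, g.2⟩, fun g => rfl, fun g => rfl⟩

theorem card_stab_pair_cases {o o' : Finset GolayPt} (ho : o ∈ octads) (ho' : o' ∈ octads) :
    ((o ∩ o').card = 0 → Nat.card ↥(MulAction.stabilizer M24 o ⊓ MulAction.stabilizer M24 o') = 10752) ∧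
    ((o ∩ o').card = 4 → Nat.card ↥(MulAction.stabilizer M24 o ⊓ MulAction.stabilizer M24 o') = 1152) ∧
    ((o ∩ o').card = 2 → Nat.card ↥(MulAction.stabilizer M24 o ⊓ MulAction.stabilizer M24 o') = 720) := by
  have key : ∀ r ∈ octOnOctRoots, ∀ g ∈ M24, g • ptsOf octadA = o → g • ptsOf (octAt r) = o' →
      classSize octOnOctKey r 759 *
        Nat.card ↥(MulAction.stabilizer M24 o ⊓ MulAction.stabilizer M24 o') = 322560 := by
    intro r hr g hg e e'
    refine card_stab_pair ho ?_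
    rw [← e, ← e', orbit_stabM_smul hg, Set.ncard_image_of_injective _ (MulAction.injective g)]
    exact (octOnOct_orbits.1 r hr).2.1
  have hs := octOnOct_size
  simp only [octOnOctRoots, List.map_cons, List.map_nil, List.cons.injEq, and_true] at hs
  obtain ⟨p4, p2, p0⟩ := octPair_root ho ho'
  refine ⟨fun h => ?_, fun h => ?_, fun h => ?_⟩
  · obtain ⟨g, hg, e, e'⟩ := p0 h
    have := key 119 (by simp [octOnOctRoots]) g hg e e'
    rw [hs.2.1] at this
    omega
  · obtain ⟨g, hg, e, e'⟩ := p4 h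
    have := key 0 (by simp [octOnOctRoots]) g hg e e'
    rw [hs.2.2.1] at this
    omega
  · obtain ⟨g, hg, e, e'⟩ := p2 h
    have := key 1 (by simp [octOnOctRoots]) g hg e e'
    rw [hs.2.2.2] at this
    omega

end Cfsg.Agent.Mathieu
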