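import Cfsg.Agent.Lib.Mathieu.OrbitLists
import Cfsg.Agent.Lib.Mathieu.Stab.OctadGroup
import Cfsg.Agent.Lib.Mathieu.OctTrioActData

/-!
The action of the stabiliser of an octad on the fifteen trios through it.
-/

set_option autoImplicit false
set_option maxRecDepth 20000

namespace Cfsg.Agent.Mathieu

open Cfsg
open scoped Pointwise

/-- The `k`-th trio through the reference octad. -/
def octTrioAt (k : ℕ) : List ℕ := trioAt (octTrioIdx.getD k 0)

theorem octTrio_check : (octTrioIdx.length == 15 && octTrioIdx.all (fun i => i.blt 3795) &&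
    incr octTrioIdx &&
    (List.range 3795).all (fun i => (trioAt i).contains octBase == octTrioIdx.contains i)) = true := by
  decide +kernel

theorem octTrio_gens : (gensOK octTrioPointGens && fixMask octTrioPointGens octBase &&
    gensOK octTrioPairGens && fixMask octTrioPairGens octBase &&
    fixMasks octTrioPairGens (octTrioAt 0)) = true := by
  decide +kernel

theorem octTrioPoint_tree : orbTreeOK actMasksT octTrioAt (octTrioPointGens.map Prod.snd)
    octTrioPointTree [0] 15 = true := by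
  decide +kernel

theorem octTrioPair_tree : orbTreeOK actMasksT octTrioAt (octTrioPairGens.map Prod.snd)
    octTrioPairTree [0, 1] 15 = true := by
  decide +kernel

theorem octTrio_fixed : (octKernel.all fun l => (List.range 15).all fun k =>
    actMasks l (octTrioAt k) == octTrioAt k) = true := by
  decide +kernel

theorem octTrio_separates : ((List.range 24).all fun q => octBase.testBit q ||
    (List.range 24).all fun r => octBase.testBit r || q == r ||
      (List.range 15).any fun k => (octTrioAt k).any fun m =>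
        m &&& octBase == 0 && m.testBit q && !m.testBit r) = true := by
  decide +kernel

theorem octTrioAt_lt {k : ℕ} (hk : k < 15) : octTrioIdx.getD k 0 < 3795 := by
  have h := octTrio_check
  simp only [Bool.and_eq_true, beq_iff_eq] at h
  rw [List.getD_eq_getElem _ _ (by omega)]
  simpa [Nat.blt_eq] using List.all_eq_true.1 h.1.1.2 _ (List.getElem_mem (by omega : k < _))

theorem mem_trios_through (T : Finset (Finset GolayPt)) :
    T ∈ trios ∧ ptsOf octBase ∈ T ↔ ∃ k, k < 15 ∧ setOfMasks (octTrioAt k) = T := by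
  have h := octTrio_check
  simp only [Bool.and_eq_true, beq_iff_eq, List.all_eq_true, List.mem_range] at h
  obtain ⟨⟨⟨hlen, -⟩, -⟩, hmem⟩ := h
  constructor
  · rintro ⟨hT, hB⟩
    obtain ⟨i, hi, rfl⟩ := (trios_eq T).1 hT
    obtain ⟨m, hm, e⟩ := Finset.mem_image.1 hB
    rw [List.mem_toFinset] at hm
    have hm' : m = octBase :=
      ptsOf_inj ((canonList_spec (canon_trio hi)).2 m hm) (by decide +kernel) e
    have : octTrioIdx.contains i = true := by
      rw [← hmem i hi, List.contains_iff_mem]; exact hm' ▸ hm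
    obtain ⟨k, hk, rfl⟩ := List.mem_iff_getElem.1 (List.contains_iff_mem.1 this)
    exact ⟨k, hlen ▸ hk, by rw [octTrioAt, List.getD_eq_getElem _ _ hk]⟩
  · rintro ⟨k, hk, rfl⟩
    refine ⟨setOfMasks_trioAt_mem (octTrioAt_lt hk), Finset.mem_image_of_mem _ (List.mem_toFinset.2 ?_)⟩
    rw [octTrioAt, ← List.contains_iff_mem, hmem _ (octTrioAt_lt hk), List.contains_iff_mem,
      List.getD_eq_getElem _ _ (by omega)]
    exact List.getElem_mem _

theorem octTrioAt_inj : ∀ k, k < 15 → ∀ l, l < 15 →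
    setOfMasks (octTrioAt k) = setOfMasks (octTrioAt l) → k = l := by
  intro k hk l hl e
  have h := octTrio_check
  simp only [Bool.and_eq_true, beq_iff_eq] at h
  have e' := trioAt_inj _ (octTrioAt_lt hk) _ (octTrioAt_lt hl) e
  rw [List.getD_eq_getElem _ _ (by omega), List.getD_eq_getElem _ _ (by omega)] at e'
  exact (show octTrioIdx.Nodup from (incr_pairwise h.1.2).imp fun h => h.ne).getElem_inj_iff.1 e'

theorem ncard_trios_through :
    {T : Finset (Finset GolayPt) | T ∈ trios ∧ ptsOf octBase ∈ T}.ncard = 15 := by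
  have : {T : Finset (Finset GolayPt) | T ∈ trios ∧ ptsOf octBase ∈ T} =
      (((Finset.range 15).image fun k => setOfMasks (octTrioAt k) :
        Finset (Finset (Finset GolayPt))) : Set _) := by
    ext T
    rw [Set.mem_ofPred_eq, mem_trios_through, Finset.mem_coe, Finset.mem_image]
    exact exists_congr fun k => by rw [Finset.mem_range]
  rw [this, Set.ncard_coe_finset, Finset.card_image_of_injOn fun k hk l hl e =>
    octTrioAt_inj k (Finset.mem_range.1 hk) l (Finset.mem_range.1 hl) e, Finset.card_range]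

theorem reach_trios_through {gens : List (ℕ × ℕ)} {tree : ℕ} {roots : List ℕ}
    (hg : gensOK gens = true) (hf : fixMask gens octBase = true)
    {H : Subgroup (Equiv.Perm GolayPt)}
    (hH : ∀ σ ∈ M24, (∃ g ∈ gens, Rep ptEnc σ g.1) → σ • ptsOf octBase = ptsOf octBase → σ ∈ H)
    (hok : orbTreeOK actMasksT octTrioAt (gens.map Prod.snd) tree roots 15 = true) :
    ∀ k, k < 15 → ∃ r ∈ roots,
      setOfMasks (octTrioAt k) ∈ MulAction.orbit H (setOfMasks (octTrioAt r)) := by
  refine reach_of_treeOK (dec := setOfMasks) (get := octTrioAt)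
    (treeOK_lawful (κ := List ℕ) hok) fun l hl => ?_
  obtain ⟨g, hgm, rfl⟩ := List.mem_map.1 hl
  have h := List.all_eq_true.1 hg g hgm
  simp only [Bool.and_eq_true] at h
  obtain ⟨⟨hperm, hpres⟩, htab⟩ := h
  obtain ⟨σ, hrep⟩ := exists_rep (e := ptEnc) hperm
  have hm := mem_M24_of_rep hrep hpres
  exact ⟨σ, hH σ hm ⟨g, hgm, hrep⟩ (fix_of_fixMask hf σ g hgm hrep),
    fun k _ => smul_masksOf hrep htab⟩

theorem exists_map_trio_pair_base {T₁ T₂ : Finset (Finset GolayPt)} (h₁ : T₁ ∈ trios)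
    (h₂ : T₂ ∈ trios) (hB₁ : ptsOf octBase ∈ T₁) (hB₂ : ptsOf octBase ∈ T₂) (hne : T₁ ≠ T₂) :
    ∃ g ∈ M24, g • ptsOf octBase = ptsOf octBase ∧ g • setOfMasks (octTrioAt 0) = T₁ ∧
      g • setOfMasks (octTrioAt 1) = T₂ := by
  have hg := octTrio_gens
  simp only [Bool.and_eq_true] at hg
  obtain ⟨⟨⟨⟨g1, f1⟩, g2⟩, f2⟩, f20⟩ := hg
  obtain ⟨k, hk, rfl⟩ := (mem_trios_through T₁).1 ⟨h₁, hB₁⟩
  obtain ⟨r, hr, ⟨⟨σ, hσ⟩, e⟩⟩ := reach_trios_through (H := stabM (ptsOf octBase)) g1 f1
    (fun σ hσ _ h => ⟨hσ, h⟩) octTrioPoint_tree k hk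
  rw [List.mem_singleton] at hr
  subst hr
  replace e : σ • setOfMasks (octTrioAt 0) = setOfMasks (octTrioAt k) := e
  have hσB : σ • ptsOf octBase = ptsOf octBase := hσ.2
  have hT2' : σ⁻¹ • T₂ ∈ trios ∧ ptsOf octBase ∈ σ⁻¹ • T₂ :=
    ⟨M24_smul_mem_trios (M24.inv_mem hσ.1) h₂, Finset.mem_inv_smul_finset_iff.2 (by rwa [hσB])⟩
  obtain ⟨l, hl, el⟩ := (mem_trios_through _).1 hT2'
  obtain ⟨r, hr, ⟨⟨τ, hτ⟩, e'⟩⟩ := reach_trios_through
    (H := stabM (ptsOf octBase) ⊓ stabM (setOfMasks (octTrioAt 0))) g2 f2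
    (fun τ hτ ⟨g, hg, hrep⟩ h => ⟨⟨hτ, h⟩, hτ, fix_of_fixMasks f20 τ g hg hrep⟩)
    octTrioPair_tree l hl
  replace e' : τ • setOfMasks (octTrioAt r) = setOfMasks (octTrioAt l) := e'
  simp only [List.mem_cons, List.not_mem_nil, or_false] at hr
  rcases hr with rfl | rfl
  · refine absurd ?_ hne
    rw [← e, ← smul_inv_smul σ T₂, ← el, ← e',
      show τ • setOfMasks (octTrioAt 0) = setOfMasks (octTrioAt 0) from hτ.2.2]
  · refine ⟨σ * τ, M24.mul_mem hσ.1 hτ.1.1, ?_, ?_, ?_⟩
    · rw [mul_smul, show τ • ptsOf octBase = ptsOf octBase from hτ.1.2, hσB]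
    · rw [mul_smul, show τ • setOfMasks (octTrioAt 0) = setOfMasks (octTrioAt 0) from hτ.2.2, e]
    · rw [mul_smul, e', el, smul_inv_smul]

theorem octFix_fixes_trios {σ : Equiv.Perm GolayPt} (hσ : σ ∈ octFix (ptsOf octBase))
    {T : Finset (Finset GolayPt)} (hT : T ∈ trios) (hB : ptsOf octBase ∈ T) : σ • T = T := by
  obtain ⟨k, hk, rfl⟩ := (mem_trios_through T).1 ⟨hT, hB⟩
  have hout : σ (idx ptEnc octOutside) ∉ ptsOf octBase := fun h => octOutside_notMem
    ((apply_mem_iff_of_fixed (octFix_le_stab hσ) _).1 h)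
  have hk' := octKernel_check
  simp only [Bool.and_eq_true, List.all_eq_true, List.any_eq_true, Bool.or_eq_true, beq_iff_eq,
    List.mem_range, decide_eq_true_eq, Bool.not_eq_eq_eq_not, Bool.not_true] at hk'
  obtain ⟨⟨⟨⟨hl, hmap⟩, hlt⟩, -⟩, -⟩ := hk'
  rcases hmap (ptEnc (σ (idx ptEnc octOutside))).val (Fin.isLt _) with hb | ⟨l, hlK, happ⟩
  · exact absurd (mem_ptsOf.2 hb) hout
  obtain ⟨⟨hperm, hpres⟩, hfix⟩ := hl l hlK
  obtain ⟨τ, hτ⟩ := exists_rep (e := ptEnc) hperm
  have hτF : τ ∈ octFix (ptsOf octBase) := mem_octFix.2 ⟨mem_M24_of_rep hτ hpres, fun x hx => by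
    have hx' : octBase.testBit (ptEnc x).val = true := mem_ptsOf.1 hx
    rcases hfix (ptEnc x).val (ptEnc x).isLt with h0 | h0
    · rw [hx'] at h0; exact absurd h0 (by simp)
    · have := hτ.apply_idx (ptEnc x).isLt
      rwa [h0, idx_self] at this⟩
  have hτo : τ (idx ptEnc octOutside) = σ (idx ptEnc octOutside) := by
    rw [hτ.apply_idx hlt, happ, idx_self]
  have : σ = τ := by
    have h1 := eq_one_of_fix_base (mul_mem (inv_mem hτF) hσ) octOutside_notMem (by
      rw [Equiv.Perm.mul_apply, ← hτo, Equiv.Perm.inv_def, Equiv.symm_apply_apply])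
    exact (inv_mul_eq_one.1 h1).symm
  have hfx := List.all_eq_true.1 (List.all_eq_true.1 octTrio_fixed l hlK) k (List.mem_range.2 hk)
  rw [this, smul_setOfMasks hτ, beq_iff_eq.1 hfx]

theorem kernel_trios_base {g : Equiv.Perm GolayPt} (hg : g ∈ M24)
    (hgB : g • ptsOf octBase = ptsOf octBase) :
    (∀ T ∈ trios, ptsOf octBase ∈ T → g • T = T) ↔ ∀ p ∈ ptsOf octBase, g p = p := by
  refine ⟨fun h => ?_, fun h T hT hB => octFix_fixes_trios (mem_octFix.2 ⟨hg, h⟩) hT hB⟩
  obtain ⟨τ, hτ, hc⟩ := exists_factor octBase_mem octOutside_notMem hg hgB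
  obtain ⟨hc24, hcB, hcp⟩ := mem_octComp.1 hc
  set c := τ⁻¹ * g with hcdef
  have hcT : ∀ T ∈ trios, ptsOf octBase ∈ T → c • T = T := fun T hT hB => by
    rw [hcdef, mul_smul, h T hT hB, inv_smul_eq_iff, octFix_fixes_trios hτ hT hB]
  have hfixmask : ∀ k, k < 15 → ∀ m ∈ octTrioAt k, m &&& octBase = 0 → c • ptsOf m = ptsOf m := by
    intro k hk m hm hm0
    obtain ⟨hT, hB⟩ := (mem_trios_through _).2 ⟨k, hk, rfl⟩
    have hTc := hcT _ hT hB
    set T := setOfMasks (octTrioAt k) with hTdef
    have hmT : ptsOf m ∈ T := Finset.mem_image_of_mem _ (List.mem_toFinset.2 hm)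
    have hmB : ptsOf m ≠ ptsOf octBase := fun e => by
      have hd := Finset.disjoint_iff_inter_eq_empty.1 (disjoint_ptsOf hm0)
      rw [e, Finset.inter_self] at hd
      have := octad_card octBase_mem
      rw [hd] at this
      simp at this
    by_cases hp : idx ptEnc octOutside ∈ ptsOf m
    · have hin : idx ptEnc octOutside ∈ c • ptsOf m := by
        rw [← hcp]; exact apply_mem_smul_pts.2 hp
      by_contra hne
      have hm' : c • ptsOf m ∈ T := hTc ▸ Finset.smul_mem_smul_finset hmT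
      exact Finset.disjoint_left.1 (hT.2.2 _ hm' _ hmT hne) hin hp
    · obtain ⟨b, hb, hbB, hbm⟩ : ∃ b ∈ T, b ≠ ptsOf octBase ∧ b ≠ ptsOf m := by
        obtain ⟨b, hb⟩ : ((T.erase (ptsOf octBase)).erase (ptsOf m)).Nonempty := Finset.card_pos.1 (by
          rw [Finset.card_erase_of_mem (Finset.mem_erase.2 ⟨hmB, hmT⟩), Finset.card_erase_of_mem hB,
            hT.1]
          norm_num)
        rw [Finset.mem_erase, Finset.mem_erase] at hb
        exact ⟨b, hb.2.2, hb.2.1, hb.1⟩
      have hm' : c • ptsOf m ∈ T := hTc ▸ Finset.smul_mem_smul_finset hmT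
      have h3 : T = {ptsOf octBase, ptsOf m, b} := by
        refine (Finset.eq_of_subset_of_card_le ?_ ?_).symm
        · simp [Finset.insert_subset_iff, hB, hmT, hb]
        · rw [hT.1, Finset.card_insert_of_notMem (by simp [hmB.symm, hbB.symm]),
            Finset.card_pair hbm.symm]
      rw [h3] at hm'
      simp only [Finset.mem_insert, Finset.mem_singleton] at hm'
      rcases hm' with e | e | e
      · exact absurd (MulAction.injective c (e.trans hcB.symm)) hmB
      · exact e
      · have hcover : idx ptEnc octOutside ∈ b := by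
          have hu : T.biUnion (fun o => o) = Finset.univ := by
            refine Finset.eq_univ_of_card _ ?_
            rw [Finset.card_biUnion (fun o ho o' ho' hne => hT.2.2 o ho o' ho' hne),
              Finset.sum_congr rfl fun o ho => octad_card (hT.2.1 o ho), Finset.sum_const, hT.1]
            simp
          obtain ⟨o, ho, hpo⟩ := Finset.mem_biUnion.1
            (hu ▸ Finset.mem_univ (idx ptEnc octOutside) : idx ptEnc octOutside ∈ T.biUnion _)
          rw [h3] at ho
          simp only [Finset.mem_insert, Finset.mem_singleton] at ho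
          rcases ho with rfl | rfl | rfl
          · exact absurd hpo octOutside_notMem
          · exact absurd hpo hp
          · exact hpo
        rw [← e] at hcover
        rw [← hcp, apply_mem_smul_pts] at hcover
        exact absurd hcover hp
  have hout : ∀ x, x ∉ ptsOf octBase → c x = x := by
    intro x hx
    have hcx : c x ∉ ptsOf octBase := fun hh => hx ((apply_mem_iff_of_fixed hcB x).1 hh)
    by_contra hne
    have hs := octTrio_separates
    simp only [List.all_eq_true, List.mem_range, Bool.or_eq_true, beq_iff_eq, List.any_eq_true,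
      Bool.and_eq_true, Bool.not_eq_true'] at hs
    rcases hs _ (ptEnc x).isLt with hb | hall
    · exact hx (mem_ptsOf.2 hb)
    rcases hall _ (ptEnc (c x)).isLt with (hb | he) | ⟨k, hk, m, hm, ⟨hm0, hmx⟩, hmc⟩
    · exact hcx (mem_ptsOf.2 hb)
    · exact hne (ptEnc.injective (Fin.ext he)).symm
    · have h1 : c x ∈ ptsOf m :=
        hfixmask k hk m hm hm0 ▸ apply_mem_smul_pts.2 (mem_ptsOf.2 hmx)
      have h2 := mem_ptsOf.1 h1
      rw [hasPt, hmc] at h2
      exact absurd h2 (by simp)
  have hc1 : c = 1 := by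
    obtain ⟨hT, hB⟩ := (mem_trios_through _).2 ⟨0, by norm_num, rfl⟩
    obtain ⟨a, ha, b, hb, hab, he⟩ : ∃ a ∈ setOfMasks (octTrioAt 0), ∃ b ∈ setOfMasks (octTrioAt 0),
        a ≠ b ∧ a ≠ ptsOf octBase ∧ b ≠ ptsOf octBase := by
      obtain ⟨a, b, hab, he⟩ := Finset.card_eq_two.1
        (by rw [Finset.card_erase_of_mem hB, hT.1] :
          ((setOfMasks (octTrioAt 0)).erase (ptsOf octBase)).card = 2)
      have ha : a ∈ (setOfMasks (octTrioAt 0)).erase (ptsOf octBase) := by rw [he]; simp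
      have hb : b ∈ (setOfMasks (octTrioAt 0)).erase (ptsOf octBase) := by rw [he]; simp
      rw [Finset.mem_erase] at ha hb
      exact ⟨a, ha.2, b, hb.2, hab, ha.1, hb.1⟩
    obtain ⟨y, hy⟩ : b.Nonempty := Finset.card_pos.1 (by rw [octad_card (hT.2.1 b hb)]; norm_num)
    refine eq_one_of_octFix (hT.2.1 a ha) (mem_octFix.2 ⟨hc24, fun x hx => hout x ?_⟩)
      (p := y) ?_ (hout y ?_)
    · exact Finset.disjoint_left.1 (hT.2.2 a ha _ hB he.1) hx
    · exact Finset.disjoint_right.1 (hT.2.2 a ha b hb hab) hy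
    · exact Finset.disjoint_left.1 (hT.2.2 b hb _ hB he.2) hy
  rw [hcdef, inv_mul_eq_one] at hc1
  exact hc1 ▸ (mem_octFix.1 hτ).2

end Cfsg.Agent.Mathieu
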