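import Cfsg.Agent.Lib.Mathieu.OneBlockM24Elements

/-!
M₂₄ has one 2-block.
-/

set_option autoImplicit false
set_option maxRecDepth 20000
set_option maxHeartbeats 1000000

namespace Cfsg.Agent.Mathieu

open Cfsg

theorem q23_min {u v : ℤ} :
    (23 ∣ 11 * (u + v) - 1024 → 132 ≤ 11 * (u ^ 2 + v ^ 2) + 121 * (u - v) ^ 2) ∧
    ((23 ∣ 11 * (u + v) - 3072 ∨ 23 ∣ 11 * (u + v) - 9216 ∨ 23 ∣ 11 * (u + v) - 11264 ∨
        23 ∣ 11 * (u + v) - 13312) → 176 ≤ 11 * (u ^ 2 + v ^ 2) + 121 * (u - v) ^ 2) := by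
  constructor
  all_goals
    intro h
    by_contra hq
    have h1 : -3 ≤ u ∧ u ≤ 3 ∧ -3 ≤ v ∧ v ≤ 3 := by
      refine ⟨?_, ?_, ?_, ?_⟩ <;> nlinarith
    obtain ⟨a, b, c, d⟩ := h1
    interval_cases u <;> interval_cases v <;> omega

theorem q11_min24 {u : ℤ} :
    ((11 ∣ 10 * u - 3072 ∨ 11 ∣ 10 * u - 5120 ∨ 11 ∣ 10 * u - 7168) → 90 ≤ 10 * u ^ 2) ∧
    ((11 ∣ 10 * u - 1024 ∨ 11 ∣ 10 * u - 15360) → 10 ≤ 10 * u ^ 2) := by
  constructor
  all_goals
    intro h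
    by_contra hq
    have h1 : -2 ≤ u ∧ u ≤ 2 := by refine ⟨?_, ?_⟩ <;> nlinarith
    obtain ⟨a, b⟩ := h1
    interval_cases u <;> omega

theorem q11_min5 {u : ℤ} (h : 11 ∣ 10 * u - 5120) : 160 ≤ 10 * u ^ 2 := by
  by_contra hq
  have h1 : -3 ≤ u ∧ u ≤ 3 := by refine ⟨?_, ?_⟩ <;> nlinarith
  obtain ⟨a, b⟩ := h1
  interval_cases u <;> omega

/-- The quadratic form of the subgroup of order 21. -/
theorem q21_min {w v V s t A : ℤ} (hA : A = -7 * w + 3 * (v + V - s - t))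
    (h : 21 ∣ 14 * w + 3 * (v + V) + 6 * (s + t) - 1024) :
    194 ≤ 4 * (3 * (3 * (v ^ 2 + V ^ 2) + 9 * (v - V) ^ 2)
      + 6 * (3 * (s ^ 2 + t ^ 2) + 9 * (s - t) ^ 2)) + A ^ 2 := by
  by_contra hq
  have h1 : -2 ≤ v ∧ v ≤ 2 ∧ -2 ≤ V ∧ V ≤ 2 ∧ -1 ≤ s ∧ s ≤ 1 ∧ -1 ≤ t ∧ t ≤ 1 := by
    refine ⟨?_, ?_, ?_, ?_, ?_, ?_, ?_, ?_⟩ <;> nlinarith [sq_nonneg A]
  have h0 := sq_nonneg A
  have h8 : A ≤ -8 → 64 ≤ A ^ 2 := fun _ => by nlinarith
  have h8' : 8 ≤ A → 64 ≤ A ^ 2 := fun _ => by nlinarith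
  obtain ⟨a, b, c, d, e, f, g, i⟩ := h1
  interval_cases v <;> interval_cases V <;> interval_cases s <;> interval_cases t <;> omega

/-- No character degree of M₂₄ is divisible by 1024. -/
theorem M24_no_defect_zero (χ : IrrCharacter M24) : ¬ 1024 ∣ charDegree χ.1 := by
  classical
  intro hq
  haveI := Fintype.ofFinite M24
  obtain ⟨hdvd, hsq, hd, ⟨k, hk⟩⟩ := degree_facts χ hq
  rw [card_M24] at hdvd hsq
  rw [hk] at hdvd hsq hd
  have hk6 : k ≤ 15 := by nlinarith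
  have hne : χ.1 ≠ fun _ => 1 := fun h => by
    rw [h] at hd
    have h' : ((1 : ℕ) : ℂ) = ((1024 * k : ℕ) : ℂ) := by simpa using hd
    have h'' := Nat.cast_inj.1 h'
    omega
  obtain ⟨⟨x, g, ho, hg, hN⟩, ⟨y, h, ho', hh, hN'⟩⟩ := M24_elements
  obtain ⟨z, l, hoz, hl, hN7, hN3⟩ := M24_element21
  have hχ := Char.irr_isCharacter χ
  obtain ⟨m, hm, hm11⟩ := prime_order_bound (p := 11) (by norm_num) hχ 0 ho (k := 2) (by decide) hg
    hN [(0, 1), (1, 10)] hd (by decide)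
  obtain ⟨n, hn, hn23⟩ := prime_order_bound (p := 23) (by norm_num) hχ 0 ho' (k := 2) (by decide)
    hh hN' [(0, 1), (1, 11), (5, 11)] hd (by decide)
  obtain ⟨a, b, v, V, s, t, hsum, h7, h3⟩ := twentyOne_bound hχ hoz hl hN7 hN3 hd
  have htot := orderSum_total hne 0 hd {3, 7, 11, 21, 23} (by decide)
  simp only [Finset.sum_insert, Finset.mem_insert, Finset.mem_singleton, Finset.sum_singleton,
    Nat.reduceEqDiff, or_self, not_false_eq_true] at htot
  rw [card_M24] at htot hm11 hn23 h7 h3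
  simp only [List.map_cons, List.map_nil, List.sum_cons, List.sum_nil] at hm hm11 hn hn23
  push_cast at hm hm11 hn hn23 htot h7 h3 hsum
  set u := m 1 - m 0 with hu
  set u' := n 1 - n 0 with hu'; set v' := n 5 - n 0 with hv'
  have e11 : (2225664 : ℝ) * (10 * (u : ℝ) ^ 2) ≤ orderSum χ.1 0 11 := by
    have hmR := congrArg (fun z : ℤ => (z : ℝ)) hm
    push_cast at hmR
    rw [← hmR] at hm11
    rw [hu]; push_cast
    linarith
  have e23 : (967680 : ℝ) *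
      (11 * ((u' : ℝ) ^ 2 + (v' : ℝ) ^ 2) + 121 * ((u' : ℝ) - v') ^ 2) ≤ orderSum χ.1 0 23 := by
    have hnR := congrArg (fun z : ℤ => (z : ℝ)) hn
    push_cast at hnR
    rw [← hnR] at hn23
    rw [hu', hv']; push_cast
    linarith
  set A := a - b + 3 * v + 3 * V - 3 * s - 3 * t with hA
  set Q : ℤ := 3 * (3 * ((v - a) ^ 2 + (V - a) ^ 2) + 9 * (v - V) ^ 2) +
    6 * (3 * ((s - b) ^ 2 + (t - b) ^ 2) + 9 * (s - t) ^ 2) with hQ
  have e21 : (1943040 : ℝ) * (Q : ℝ) + 485760 * (A : ℝ) ^ 2 ≤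
      orderSum χ.1 0 7 + orderSum χ.1 0 21 + orderSum χ.1 0 3 := by
    have hR := congrArg (fun z : ℤ => (z : ℝ)) hsum
    push_cast at hR
    have hAR : (A : ℝ) = a - b + 3 * v + 3 * V - 3 * s - 3 * t := by rw [hA]; push_cast; ring
    rw [← hR] at h7
    rw [hQ]; push_cast
    rw [hAR]
    linarith
  have key : (1024 * k : ℤ) ^ 2 + 2225664 * (10 * u ^ 2) +
      967680 * (11 * (u' ^ 2 + v' ^ 2) + 121 * (u' - v') ^ 2) +
      1943040 * Q + 485760 * A ^ 2 ≤ 244823040 := by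
    rw [← Int.cast_le (R := ℝ)]; push_cast
    linarith
  have hq11 : 0 ≤ 10 * u ^ 2 := by positivity
  have hq23 : 0 ≤ 11 * (u' ^ 2 + v' ^ 2) + 121 * (u' - v') ^ 2 := by positivity
  have hQ0 : 0 ≤ Q := by rw [hQ]; positivity
  have hA0 : 0 ≤ A ^ 2 := sq_nonneg A
  have h11 : 11 ∣ 10 * u - (1024 * k : ℤ) := ⟨-m 0, by rw [hu]; linarith⟩
  have h23 : 23 ∣ 11 * (u' + v') - (1024 * k : ℤ) := ⟨-n 0, by rw [hu', hv']; linarith⟩
  have h21 : 21 ∣ 14 * (b - a) + 3 * ((v - a) + (V - a)) + 6 * ((s - b) + (t - b)) -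
      (1024 * k : ℤ) := ⟨-a, by linarith⟩
  interval_cases k
  · norm_num at hdvd
  · norm_num at h11 h23 h21 key
    have := (q11_min24 (u := u)).2 (Or.inl h11)
    have := (q23_min (u := u') (v := v')).1 h23
    have h4 := q21_min (w := b - a) (v := v - a) (V := V - a) (s := s - b) (t := t - b) (A := A)
      (by rw [hA]; ring) h21
    rw [sub_sub_sub_cancel_right, sub_sub_sub_cancel_right] at h4
    linarith
  · norm_num at hdvd
  · norm_num at h11 h23 key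
    have := (q11_min24 (u := u)).1 (Or.inl h11)
    have := (q23_min (u := u') (v := v')).2 (Or.inl h23)
    linarith
  · norm_num at hdvd
  · norm_num at h11 h23 key
    have := q11_min5 h11
    linarith
  · norm_num at hdvd
  · norm_num at h11 h23 key
    have := (q11_min24 (u := u)).1 (Or.inr (Or.inr h11))
    linarith
  · norm_num at hdvd
  · norm_num at h11 h23 key
    have := (q23_min (u := u') (v := v')).2 (Or.inr (Or.inl h23))
    linarith
  · norm_num at hdvd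
  · norm_num at h11 h23 key
    have := (q23_min (u := u') (v := v')).2 (Or.inr (Or.inr (Or.inl h23)))
    linarith
  · norm_num at hdvd
  · norm_num at h11 h23 key
    have := (q23_min (u := u') (v := v')).2 (Or.inr (Or.inr (Or.inr h23)))
    linarith
  · norm_num at hdvd
  · norm_num at h11 h23 key
    have := (q11_min24 (u := u)).2 (Or.inr h11)
    linarith

/-- M₂₄ has one 2-block. -/
theorem M24_one_block {M : Ideal AlgInt} (hM : IsPModular 2 M) (χ ψ : IrrCharacter M24) :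
    SameBlock M χ.1 ψ.1 := by
  refine one_block_criterion hM M24_constrained (fun φ => ?_) χ ψ
  rw [M24_factorization_two]; exact M24_no_defect_zero φ

end Cfsg.Agent.Mathieu
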