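import Cfsg.Agent.Lib.Mathieu.OneBlockM24Invol

/-!
Elements of orders 11, 21, 23 of M₂₄ and normalisers.
-/

set_option autoImplicit false
set_option maxRecDepth 20000
set_option maxHeartbeats 1000000

namespace Cfsg.Agent.Mathieu

open Cfsg

/-- The elements of orders 11 and 23 and the orders of the normalisers of their subgroups. -/
theorem M24_elements :
    (∃ x g : M24, orderOf x = 11 ∧ g * x * g⁻¹ = x ^ 2 ∧
      Nat.card (Subgroup.normalizer ((Subgroup.zpowers x : Subgroup M24) : Set M24)) ≤ 110) ∧
    (∃ x g : M24, orderOf x = 23 ∧ g * x * g⁻¹ = x ^ 2 ∧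
      Nat.card (Subgroup.normalizer ((Subgroup.zpowers x : Subgroup M24) : Set M24)) ≤ 253) := by
  constructor
  · obtain ⟨x, hx⟩ := exists_elt (H := M24) (l := elt24_11) mem24_sound (by decide +kernel)
    obtain ⟨g, hg⟩ := exists_conj_pow mem24_sound (g := pow24_11) (k := 2) hx (by decide +kernel)
    have ho : orderOf x = 11 := orderOf_of_prime_pack (by norm_num) hx (by decide +kernel)
    refine ⟨x, g, ho, hg, ?_⟩
    obtain ⟨C, m, hC, -, hm, hcard⟩ := normalizer_bound (levels := levels24)
      (by decide +kernel) M24_reps M24_upper.1 M24_upper.2 hx (L := cent24_11) (by decide +kernel)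
    have hC' : C ≤ 11 := le_trans hC (le_of_eq (by decide +kernel))
    rw [ho, show Nat.totient 11 = 10 by decide] at hm
    rw [hcard]
    exact Nat.mul_le_mul hC' (Nat.le_of_dvd (by norm_num) hm)
  · obtain ⟨x, hx⟩ := exists_elt (H := M24) (l := elt24_23) mem24_sound (by decide +kernel)
    obtain ⟨g, hg⟩ := exists_conj_pow mem24_sound (g := pow24_23) (k := 2) hx (by decide +kernel)
    have ho : orderOf x = 23 := orderOf_of_prime_pack (by norm_num) hx (by decide +kernel)
    refine ⟨x, g, ho, hg, ?_⟩
    obtain ⟨C, m, hC, hdvd, hm, hcard⟩ := normalizer_bound (levels := levels24)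
      (by decide +kernel) M24_reps M24_upper.1 M24_upper.2 hx (L := cent24_23) (by decide +kernel)
    have hC' : C ≤ 23 := le_trans hC (le_of_eq (by decide +kernel))
    rw [ho] at hdvd hm
    rw [show Nat.totient 23 = 22 by decide] at hm
    have hm6 : m ≤ 22 := Nat.le_of_dvd (by norm_num) hm
    haveI : Fact (Nat.Prime 23) := ⟨by norm_num⟩
    have hmod := index_normalizer_zpowers_modEq ho (by rw [card_M24]; norm_num)
    have hidx := Subgroup.card_mul_index (Subgroup.normalizer
      ((Subgroup.zpowers x : Subgroup M24) : Set M24))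
    rw [card_M24, hcard] at hidx
    rw [hcard]
    have hCm : C = 23 := by
      obtain ⟨t, rfl⟩ := hdvd
      rcases t with _ | _ | t
      · simp at hidx
      · rfl
      · omega
    subst hCm
    unfold Nat.ModEq at hmod
    interval_cases m <;> omega

/-- An element of order 21, normalisers of its subgroups of orders 7 and 3. -/
theorem M24_element21 :
    ∃ x g : M24, orderOf x = 21 ∧ g * x * g⁻¹ = x ^ 2 ∧
      Nat.card (Subgroup.normalizer
        ((Subgroup.zpowers (x ^ 3) : Subgroup M24) : Set M24)) ≤ 126 ∧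
      Nat.card (Subgroup.normalizer
        ((Subgroup.zpowers (x ^ 7) : Subgroup M24) : Set M24)) ≤ 1008 := by
  obtain ⟨x, hx⟩ := exists_elt (H := M24) (l := elt24_21) mem24_sound (by decide +kernel)
  obtain ⟨g, hg⟩ := exists_conj_pow mem24_sound (g := pow24_21) (k := 2) hx (by decide +kernel)
  have h21 : x ^ 21 = 1 := pow_eq_one_of_packPow hx (by decide +kernel)
  have h3 : x ^ 3 ≠ 1 := pow_ne_one_of_packPow hx (by decide +kernel)
  have h7 : x ^ 7 ≠ 1 := pow_ne_one_of_packPow hx (by decide +kernel)
  have ho : orderOf x = 21 := by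
    have hd : orderOf x ∈ Nat.divisors 21 :=
      Nat.mem_divisors.2 ⟨orderOf_dvd_of_pow_eq_one h21, by norm_num⟩
    rw [show Nat.divisors 21 = {1, 3, 7, 21} by decide] at hd
    simp only [Finset.mem_insert, Finset.mem_singleton] at hd
    rcases hd with h | h | h | h
    · exact absurd (by rw [orderOf_eq_one_iff.1 h, one_pow]) h3
    · exact absurd (h ▸ pow_orderOf_eq_one x) h3
    · exact absurd (h ▸ pow_orderOf_eq_one x) h7
    · exact h
  refine ⟨x, g, ho, hg, ?_, ?_⟩
  · have ho7 : orderOf (x ^ 3) = 7 := by rw [orderOf_pow, ho]; rfl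
    obtain ⟨C, m, hC, hdvd, hm, hcard⟩ := normalizer_bound (levels := levels24)
      (by decide +kernel) M24_reps M24_upper.1 M24_upper.2 (rep_pow_coe hx 3) (L := cent24_7)
      (by decide +kernel)
    have hC' : C ≤ 42 := le_trans hC (le_of_eq (by decide +kernel))
    rw [ho7] at hdvd hm
    rw [show Nat.totient 7 = 6 by decide] at hm
    have hm6 : m ≤ 6 := Nat.le_of_dvd (by norm_num) hm
    haveI : Fact (Nat.Prime 7) := ⟨by norm_num⟩
    have hmod := index_normalizer_zpowers_modEq ho7 (by rw [card_M24]; norm_num)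
    have hidx := Subgroup.card_mul_index (Subgroup.normalizer
      ((Subgroup.zpowers (x ^ 3) : Subgroup M24) : Set M24))
    rw [card_M24, hcard] at hidx
    rw [hcard]
    obtain ⟨t, rfl⟩ := hdvd
    have ht : t ≤ 6 := by omega
    unfold Nat.ModEq at hmod
    interval_cases m <;> interval_cases t <;> omega
  · obtain ⟨w, hw⟩ := exists_elt (H := M24) (l := elt24_3) mem24_sound (by decide +kernel)
    obtain ⟨γ, hγ⟩ := exists_elt (H := M24) (l := conj24_3) mem24_sound (by decide +kernel)
    have hconj : γ * x ^ 7 * γ⁻¹ = w :=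
      Subtype.ext (conj_eq_of_conjP hγ (rep_pow_coe hx 7) hw (by decide +kernel))
    have hnorm : Nat.card (Subgroup.normalizer
        ((Subgroup.zpowers (x ^ 7) : Subgroup M24) : Set M24)) =
        Nat.card (Subgroup.normalizer ((Subgroup.zpowers w : Subgroup M24) : Set M24)) := by
      have hmap : (Subgroup.zpowers (x ^ 7)).map (MulAut.conj γ).toMonoidHom =
          Subgroup.zpowers w := by
        rw [MonoidHom.map_zpowers, ← hconj]; rfl
      rw [← hmap, ← Subgroup.map_equiv_normalizer_eq]
      exact (Subgroup.card_map_of_injective (MulAut.conj γ).injective).symm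
    have ho3 : orderOf w = 3 := orderOf_of_prime_pack (by norm_num) hw (by decide +kernel)
    obtain ⟨C, m, hC, -, hm, hcard⟩ := normalizer_bound (levels := levels24)
      (by decide +kernel) M24_reps M24_upper.1 M24_upper.2 hw (L := cent24_3)
      (by decide +kernel)
    have hC' : C ≤ 504 := le_trans hC (le_of_eq (by decide +kernel))
    rw [ho3, show Nat.totient 3 = 2 by decide] at hm
    rw [hnorm, hcard]
    exact Nat.mul_le_mul hC' (Nat.le_of_dvd (by norm_num) hm)

end Cfsg.Agent.Mathieu
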