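import Cfsg.Agent.Lib.Mathieu.OneBlockBase
import Cfsg.Agent.Lib.Mathieu.OneBlockData

/-!
The involutions of M₂₄ and their centralisers.
-/

set_option autoImplicit false
set_option maxRecDepth 20000
set_option maxHeartbeats 1000000

namespace Cfsg.Agent.Mathieu

open Cfsg

theorem M24_upper : Upper ptEnc M24 levels24 ∧
    fixList M24 (levels24.map fun p => idx ptEnc p.1) = ⊥ :=
  m24_upper (H := M24) (pre := []) (l := levels24) (O := octadA) (steps := closeA)
    (by decide +kernel) le_rfl (by simp)

theorem M24_reps : ∀ t ∈ allReps levels24, ∃ σ ∈ M24, Rep ptEnc σ t := by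
  have hrep := reps_genGroup (e := ptEnc) (gens := gens24) (steps := slp24) (levels := levels24)
    (by decide +kernel) (by decide +kernel) (by decide +kernel)
  rwa [M24_cert.1] at hrep

theorem M24_factorization_two : (Nat.card M24).factorization 2 = 10 := by
  rw [card_M24, show (244823040 : ℕ) = 2 ^ 10 * 239085 by norm_num,
    Nat.factorization_mul (by norm_num) (by norm_num),
    Nat.Prime.factorization_pow Nat.prime_two]
  simp [Nat.factorization_eq_zero_of_not_dvd (by norm_num : ¬ 2 ∣ 239085)]

/-- Every involution of M₂₄ is conjugate to one of two. -/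
theorem M24_involution_cases (y : M24) (hy : orderOf y = 2) :
    ∃ C ∈ [invol24_8, invol24_0], ∃ c : M24,
      Rep ptEnc ((c * y * c⁻¹ : M24) : Equiv.Perm GolayPt) C.z := by
  obtain ⟨z, hz, c, hc⟩ := involution_cases (H := M24) (by norm_num) mem24_sound
    (C := syl24) (by decide +kernel) (k := 10) (by decide +kernel) M24_factorization_two
    (cs := involConj24) (zs := [invol24_8.z, invol24_0.z]) (by decide +kernel) (by decide +kernel)
    y hy
  simp only [List.mem_cons, List.not_mem_nil, or_false] at hz
  rcases hz with rfl | rfl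
  · exact ⟨invol24_8, by simp, c, hc⟩
  · exact ⟨invol24_0, by simp, c, hc⟩

/-- The centraliser of every involution of M₂₄ is constrained. -/
theorem M24_constrained (y : M24) (hy : orderOf y = 2) :
    ∃ Q : Subgroup M24, IsPGroup 2 Q ∧ Q ≤ Subgroup.centralizer ({y} : Set M24) ∧
      (∀ g ∈ Subgroup.centralizer ({y} : Set M24), ∀ q ∈ Q, g * q * g⁻¹ ∈ Q) ∧
      ∀ g ∈ Subgroup.centralizer ({y} : Set M24), (∀ q ∈ Q, q * g = g * q) → g ∈ Q := by
  obtain ⟨C, hC, c, hc⟩ := M24_involution_cases y hy
  simp only [List.mem_cons, List.not_mem_nil, or_false] at hC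
  rcases hC with rfl | rfl
  · exact constrained_of_cert (by norm_num) mem24_sound (levels := levels24) (by decide +kernel)
      M24_reps M24_upper.1 M24_upper.2 (C := invol24_8) (by decide +kernel) y c hc
  · exact constrained_of_cert (by norm_num) mem24_sound (levels := levels24) (by decide +kernel)
      M24_reps M24_upper.1 M24_upper.2 (C := invol24_0) (by decide +kernel) y c hc

end Cfsg.Agent.Mathieu
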