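import Cfsg.Agent.Lib.Mathieu.StabOrbits

/-!
Orbit decompositions with three or four orbits, in explicit form.
-/

set_option autoImplicit false

namespace Cfsg.Agent.Mathieu

open Cfsg
open scoped Pointwise

theorem treeOK_lawful {κ : Type} {b : BEq κ} [LawfulBEq κ] [DecidableEq κ] {act : ℕ → κ → κ}
    {get : ℕ → κ} {gens : List ℕ} {tree : ℕ} {roots : List ℕ} {n : ℕ}
    (h : @orbTreeOK κ b act get gens tree roots n = true) :
    @orbTreeOK κ instBEqOfDecidableEq act get gens tree roots n = true := by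
  have h2 : ∀ x y : κ, b.beq x y = decide (x = y) := fun x y =>
    Bool.eq_iff_iff.2 ((beq_iff_eq (a := x) (b := y)).trans decide_eq_true_iff.symm)
  have e : b = instBEqOfDecidableEq := by
    cases b
    exact congrArg BEq.mk (funext fun x => funext (h2 x))
  exact e ▸ h

variable {X β : Type} [MulAction (Equiv.Perm GolayPt) X] [MulAction (Equiv.Perm GolayPt) β]

theorem Kind.exists₃ (K : Kind X) {x0 x : β} {σ : Equiv.Perm GolayPt} (hσ : σ ∈ M24)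
    (hx : σ • x0 = x) {a b c s₁ s₂ s₃ : ℕ} {key : ℕ → ℕ} {sig : X → ℕ}
    (h : (∀ r ∈ [a, b, c], K.dec (K.get r) ∈ K.carrier ∧
        (MulAction.orbit ↥(stabM x0) (K.dec (K.get r))).ncard = classSize key r K.n ∧
        ∀ y, y ∈ MulAction.orbit ↥(stabM x0) (K.dec (K.get r)) ↔ y ∈ K.carrier ∧ sig y = key r) ∧
      ∀ y ∈ K.carrier, ∃ r ∈ [a, b, c], y ∈ MulAction.orbit ↥(stabM x0) (K.dec (K.get r)))
    (hs : [a, b, c].map (fun r => classSize key r K.n) = [s₁, s₂, s₃]) :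
    ∃ X₁ ∈ K.carrier, ∃ X₂ ∈ K.carrier, ∃ X₃ ∈ K.carrier,
      (MulAction.orbit ↥(MulAction.stabilizer M24 x) X₁).ncard = s₁ ∧
      (MulAction.orbit ↥(MulAction.stabilizer M24 x) X₂).ncard = s₂ ∧
      (MulAction.orbit ↥(MulAction.stabilizer M24 x) X₃).ncard = s₃ ∧
      K.carrier = MulAction.orbit ↥(MulAction.stabilizer M24 x) X₁ ∪
        MulAction.orbit ↥(MulAction.stabilizer M24 x) X₂ ∪
        MulAction.orbit ↥(MulAction.stabilizer M24 x) X₃ := by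
  obtain ⟨f, hf, hcov⟩ := K.orbits_smul hσ hx (fun r hr => ⟨(h.1 r hr).1, (h.1 r hr).2.1⟩) h.2
  simp only [List.map_cons, List.map_nil, List.cons.injEq, and_true] at hs
  obtain ⟨e₁, e₂, e₃⟩ := hs
  obtain ⟨m₁, n₁, u₁⟩ := hf a (by simp)
  obtain ⟨m₂, n₂, u₂⟩ := hf b (by simp)
  obtain ⟨m₃, n₃, u₃⟩ := hf c (by simp)
  refine ⟨f a, m₁, f b, m₂, f c, m₃, n₁.trans e₁, n₂.trans e₂, n₃.trans e₃,
    union₃ u₁ u₂ u₃ fun y hy => ?_⟩
  obtain ⟨r, hr, hy⟩ := hcov y hy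
  simp only [List.mem_cons, List.not_mem_nil, or_false] at hr
  rcases hr with rfl | rfl | rfl <;> simp [hy]

theorem Kind.exists₄ (K : Kind X) {x0 x : β} {σ : Equiv.Perm GolayPt} (hσ : σ ∈ M24)
    (hx : σ • x0 = x) {a b c d s₁ s₂ s₃ s₄ : ℕ} {key : ℕ → ℕ} {sig : X → ℕ}
    (h : (∀ r ∈ [a, b, c, d], K.dec (K.get r) ∈ K.carrier ∧
        (MulAction.orbit ↥(stabM x0) (K.dec (K.get r))).ncard = classSize key r K.n ∧
        ∀ y, y ∈ MulAction.orbit ↥(stabM x0) (K.dec (K.get r)) ↔ y ∈ K.carrier ∧ sig y = key r) ∧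
      ∀ y ∈ K.carrier, ∃ r ∈ [a, b, c, d], y ∈ MulAction.orbit ↥(stabM x0) (K.dec (K.get r)))
    (hs : [a, b, c, d].map (fun r => classSize key r K.n) = [s₁, s₂, s₃, s₄]) :
    ∃ X₁ ∈ K.carrier, ∃ X₂ ∈ K.carrier, ∃ X₃ ∈ K.carrier, ∃ X₄ ∈ K.carrier,
      (MulAction.orbit ↥(MulAction.stabilizer M24 x) X₁).ncard = s₁ ∧
      (MulAction.orbit ↥(MulAction.stabilizer M24 x) X₂).ncard = s₂ ∧
      (MulAction.orbit ↥(MulAction.stabilizer M24 x) X₃).ncard = s₃ ∧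
      (MulAction.orbit ↥(MulAction.stabilizer M24 x) X₄).ncard = s₄ ∧
      K.carrier = MulAction.orbit ↥(MulAction.stabilizer M24 x) X₁ ∪
        MulAction.orbit ↥(MulAction.stabilizer M24 x) X₂ ∪
        MulAction.orbit ↥(MulAction.stabilizer M24 x) X₃ ∪
        MulAction.orbit ↥(MulAction.stabilizer M24 x) X₄ := by
  obtain ⟨f, hf, hcov⟩ := K.orbits_smul hσ hx (fun r hr => ⟨(h.1 r hr).1, (h.1 r hr).2.1⟩) h.2
  simp only [List.map_cons, List.map_nil, List.cons.injEq, and_true] at hs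
  obtain ⟨e₁, e₂, e₃, e₄⟩ := hs
  obtain ⟨m₁, n₁, u₁⟩ := hf a (by simp)
  obtain ⟨m₂, n₂, u₂⟩ := hf b (by simp)
  obtain ⟨m₃, n₃, u₃⟩ := hf c (by simp)
  obtain ⟨m₄, n₄, u₄⟩ := hf d (by simp)
  refine ⟨f a, m₁, f b, m₂, f c, m₃, f d, m₄, n₁.trans e₁, n₂.trans e₂, n₃.trans e₃, n₄.trans e₄,
    union₄ u₁ u₂ u₃ u₄ fun y hy => ?_⟩
  obtain ⟨r, hr, hy⟩ := hcov y hy
  simp only [List.mem_cons, List.not_mem_nil, or_false] at hr
  rcases hr with rfl | rfl | rfl | rfl <;> simp [hy]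

end Cfsg.Agent.Mathieu
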