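import Mathlib
import Cfsg.Agent.Lib.CharInt.Basic
import Cfsg.Agent.Lib.Char.Orthogonality

/-!
Lower bounds for sums of squared character values from the values on one cyclic subgroup:
multiplicities of eigenvalues, orthogonality along the subgroup, and counting of conjugates.
-/

set_option autoImplicit false

open Cfsg
open scoped ComplexConjugate

namespace Cfsg.Agent.Mathieu

variable {G : Type*} [Group G]

section Fourier

variable {n : ℕ} [NeZero n]

theorem stdAddChar_conj (a : ZMod n) :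
    conj (ZMod.stdAddChar a : ℂ) = ZMod.stdAddChar (-a) := by
  rw [AddChar.map_neg_eq_conj]

theorem sum_stdAddChar_mul (a : ZMod n) :
    ∑ j : ZMod n, (ZMod.stdAddChar (a * j) : ℂ) = if a = 0 then (n : ℂ) else 0 := by
  have := AddChar.sum_mulShift a (ZMod.isPrimitive_stdAddChar n)
  simp only [mul_comm _ a, ZMod.card] at this
  rw [this]; split_ifs <;> simp

/-- Orthogonality for a combination of the characters of `ZMod n`. -/
theorem fourier_normSq {f : ZMod n → ℂ} {m : ZMod n → ℤ}
    (hf : ∀ j, f j = ∑ r, (m r : ℂ) * ZMod.stdAddChar (r * j)) :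
    ∑ j, ‖f j‖ ^ 2 = (n : ℝ) * ∑ r, (m r : ℝ) ^ 2 := by
  have h : ∀ j, ((‖f j‖ ^ 2 : ℝ) : ℂ) =
      ∑ r, ∑ s, (m r : ℂ) * (m s : ℂ) * ZMod.stdAddChar ((r - s) * j) := by
    intro j
    rw [Complex.ofReal_pow, ← Complex.mul_conj', hf, map_sum, Finset.sum_mul_sum]
    refine Finset.sum_congr rfl fun r _ => Finset.sum_congr rfl fun s _ => ?_
    rw [map_mul (starRingEnd ℂ), map_intCast, stdAddChar_conj,
      show (r - s) * j = r * j + -(s * j) by ring, AddChar.map_add_eq_mul]
    ring
  apply Complex.ofReal_injective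
  rw [Complex.ofReal_sum, Finset.sum_congr rfl fun j _ => h j, Finset.sum_comm]
  push_cast
  rw [Finset.mul_sum]
  refine Finset.sum_congr rfl fun r _ => ?_
  rw [Finset.sum_comm]
  simp only [← Finset.mul_sum, sum_stdAddChar_mul, sub_eq_zero, mul_ite, mul_zero]
  rw [Finset.sum_ite_eq]
  simp; ring

/-- If the values are invariant under multiplication by a unit, so are the coefficients. -/
theorem fourier_invariant {f : ZMod n → ℂ} {m : ZMod n → ℤ}
    (hf : ∀ j, f j = ∑ r, (m r : ℂ) * ZMod.stdAddChar (r * j)) {k : ZMod n} (hk : IsUnit k)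
    (hinv : ∀ j, f (k * j) = f j) (r : ZMod n) : m (k * r) = m r := by
  obtain ⟨u, rfl⟩ := hk
  have coeff : ∀ r, ∑ j, f j * ZMod.stdAddChar (-(r * j)) = (n : ℂ) * m r := by
    intro r
    simp only [hf, Finset.sum_mul]
    rw [Finset.sum_comm]
    have : ∀ s, ∑ j, (m s : ℂ) * ZMod.stdAddChar (s * j) * ZMod.stdAddChar (-(r * j)) =
        if s = r then (n : ℂ) * m r else 0 := by
      intro s
      have e : ∀ j, (m s : ℂ) * ZMod.stdAddChar (s * j) * ZMod.stdAddChar (-(r * j)) =
          (m s : ℂ) * ZMod.stdAddChar ((s - r) * j) := by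
        intro j
        rw [mul_assoc, ← AddChar.map_add_eq_mul]; congr 2; ring
      simp only [e, ← Finset.mul_sum, sum_stdAddChar_mul, sub_eq_zero]
      split_ifs with h
      · subst h; ring
      · simp
    simp only [this, Finset.sum_ite_eq', Finset.mem_univ, if_true]
  have h : (n : ℂ) * m ((u : ZMod n) * r) = (n : ℂ) * m r := by
    rw [← coeff r, ← coeff ((u : ZMod n) * r)]
    refine Fintype.sum_equiv (Units.mulLeft u) _ _ fun j => ?_
    rw [Units.mulLeft_apply, hinv]; congr 2; ring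
  exact_mod_cast mul_left_cancel₀ (Nat.cast_ne_zero.2 (NeZero.ne n)) h

variable [Finite G]

theorem pow_val_mul {x : G} (hx : x ^ n = 1) (a b : ℕ) :
    x ^ ((a : ZMod n) * (b : ZMod n)).val = x ^ (a * b) := by
  rw [← Nat.cast_mul, ZMod.val_natCast, ← pow_eq_pow_mod _ hx]

/-- Eigenvalue multiplicities: the values `χ(xʲ) + c` along the powers of `x`. -/
theorem exists_multiplicities {χ : G → ℂ} (hχ : IsCharacter G χ) {x : G} (hx : orderOf x = n)
    (c : ℤ) {k : ℕ} (hk : Nat.Coprime k n) {g : G} (hg : g * x * g⁻¹ = x ^ k) :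
    ∃ m : ZMod n → ℤ, (∀ j : ZMod n, χ (x ^ j.val) + c = ∑ r, (m r : ℂ) * ZMod.stdAddChar (r * j)) ∧
      (∑ r, (m r : ℂ)) = χ 1 + c ∧ ∀ r, m ((k : ZMod n) * r) = m r := by
  obtain ⟨d, μ, hd, hμ, hval⟩ := CharInt.exists_roots hχ x
  have hex : ∀ i, ∃ r : ZMod n, ZMod.stdAddChar r = μ i := by
    intro i
    have h1 : ((1 : ℤ) : ZMod n) = 1 := by simp
    have hprim : IsPrimitiveRoot (ZMod.stdAddChar (1 : ZMod n) : ℂ) n := by
      rw [← h1, ZMod.stdAddChar_coe]
      simpa using Complex.isPrimitiveRoot_exp n (NeZero.ne n)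
    obtain ⟨a, -, ha⟩ := hprim.eq_pow_of_pow_eq_one (by rw [← hx]; exact hμ i)
    exact ⟨(a : ZMod n), by rw [← ha, ← AddChar.map_nsmul_eq_pow, nsmul_one]⟩
  choose r hr using hex
  classical
  have hxn : x ^ n = 1 := by rw [← hx]; exact pow_orderOf_eq_one x
  let m : ZMod n → ℤ := fun s =>
    ((Finset.univ.filter fun i => r i = s).card : ℤ) + if s = 0 then c else 0
  have hf : ∀ j : ZMod n, χ (x ^ j.val) + c =
      ∑ s, (m s : ℂ) * ZMod.stdAddChar (s * j) := by
    intro j
    simp only [m, Int.cast_add, Int.cast_natCast, add_mul, Finset.sum_add_distrib]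
    congr 1
    · rw [hval]
      rw [← Finset.sum_fiberwise Finset.univ r fun i => μ i ^ j.val]
      refine Finset.sum_congr rfl fun s _ => ?_
      rw [Finset.sum_congr rfl (g := fun _ => (ZMod.stdAddChar (s * j) : ℂ)) fun i hi => ?_,
        Finset.sum_const, nsmul_eq_mul]
      rw [Finset.mem_filter] at hi
      rw [← hr, hi.2, ← AddChar.map_nsmul_eq_pow, nsmul_eq_mul, ZMod.natCast_zmod_val, mul_comm]
    · rw [Finset.sum_eq_single 0 (fun s _ hs => by simp [hs]) (by simp)]
      simp
  refine ⟨m, hf, ?_, ?_⟩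
  · have := hf 0
    simp only [ZMod.val_zero, pow_zero, mul_zero, AddChar.map_zero_eq_one, mul_one] at this
    exact this.symm
  · refine fourier_invariant hf ((ZMod.isUnit_iff_coprime k n).2 hk) fun j => ?_
    congr 1
    have e1 : x ^ ((k : ZMod n) * j).val = (x ^ k) ^ j.val := by
      rw [← pow_mul, ← pow_val_mul hxn k j.val, ZMod.natCast_zmod_val]
    rw [e1, ← hg, conj_pow, CharInt.char_conj_apply hχ]

end Fourier

section Counting

variable [Finite G]

/-- The conjugates of the elements of `W` among the elements of the same order. -/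
theorem card_mul_sum_le [Fintype G] {F : G → ℝ} (hF0 : ∀ g, 0 ≤ F g)
    (hFc : ∀ g h, F (h * g * h⁻¹) = F g) {d : ℕ} (W : Finset G) (hW : ∀ y ∈ W, orderOf y = d)
    {N : ℕ} (N' : Subgroup G) (hN' : Nat.card N' ≤ N)
    (hN : ∀ y ∈ W, ∀ k, k * y * k⁻¹ ∈ W → k ∈ N') :
    (Nat.card G : ℝ) * ∑ y ∈ W, F y ≤
      N * ∑ g ∈ Finset.univ.filter (fun g => orderOf g = d), F g := by
  classical
  set T := Finset.univ.filter (fun g : G => orderOf g = d) with hT
  have h1 : (Nat.card G : ℝ) * ∑ y ∈ W, F y =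
      ∑ h : G, ∑ g ∈ T, if h⁻¹ * g * h ∈ W then F g else 0 := by
    rw [Nat.card_eq_fintype_card, ← Finset.card_univ, ← nsmul_eq_mul, ← Finset.sum_const]
    refine Finset.sum_congr rfl fun h _ => ?_
    rw [← Finset.sum_filter]
    refine Finset.sum_nbij' (fun y => h * y * h⁻¹) (fun g => h⁻¹ * g * h) ?_ ?_ ?_ ?_ ?_
    · intro y hy
      simp only [hT, Finset.coe_filter, Finset.mem_filter, Finset.mem_univ, true_and,
        Set.mem_ofPred_eq, Finset.mem_coe] at hy ⊢
      refine ⟨?_, by simpa [mul_assoc] using hy⟩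
      rw [← hW y hy]
      exact (orderOf_injective (MulAut.conj h).toMonoidHom (MulAut.conj h).injective y)
    · intro g hg
      simp only [Finset.mem_coe, Finset.mem_filter] at hg ⊢
      exact hg.2
    · intro y _; group
    · intro g _; group
    · intro y _; exact (hFc y h).symm
  rw [h1, Finset.sum_comm, Finset.mul_sum]
  refine Finset.sum_le_sum fun g _ => ?_
  rw [← Finset.sum_filter, Finset.sum_const, nsmul_eq_mul]
  refine mul_le_mul_of_nonneg_right ?_ (hF0 g)
  norm_cast
  refine le_trans ?_ hN'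
  rcases (Finset.univ.filter fun h : G => h⁻¹ * g * h ∈ W).eq_empty_or_nonempty with h0 | ⟨a, ha⟩
  · simp [h0]
  rw [Finset.mem_filter] at ha
  haveI := Fintype.ofFinite N'
  rw [Nat.card_eq_fintype_card, ← Finset.card_univ]
  refine Finset.card_le_card_of_injOn (fun h => if hh : h⁻¹ * a ∈ N' then (⟨_, hh⟩ : N') else 1)
    (fun _ _ => Finset.mem_univ _) ?_
  intro h hh h' hh' heq
  simp only [Finset.coe_filter, Set.mem_ofPred_eq] at hh hh'
  have key : ∀ b : G, b⁻¹ * g * b ∈ W → b⁻¹ * a ∈ N' := fun b hb =>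
    hN _ ha.2 _ (by simpa [mul_assoc] using hb)
  simp only [dif_pos (key h hh.2), dif_pos (key h' hh'.2), Subtype.mk.injEq, mul_left_inj,
    inv_inj] at heq
  exact heq

/-- The part of a sum over `G` at the powers of order `d` of a fixed element. -/
theorem card_mul_sum_pow_le [Fintype G] {n : ℕ} [NeZero n] {F : G → ℝ} (hF0 : ∀ g, 0 ≤ F g)
    (hFc : ∀ g h, F (h * g * h⁻¹) = F g) {x : G} (hx : orderOf x = n) (J : Finset (ZMod n))
    {d : ℕ} (hJ : ∀ j ∈ J, n / n.gcd j.val = d) {N : ℕ}
    (hN : Nat.card (Subgroup.normalizer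
      ((Subgroup.zpowers (x ^ (n / d)) : Subgroup G) : Set G)) ≤ N) :
    (Nat.card G : ℝ) * ∑ j ∈ J, F (x ^ j.val) ≤
      N * ∑ g ∈ Finset.univ.filter (fun g => orderOf g = d), F g := by
  classical
  have hinj : ∀ a ∈ J, ∀ b ∈ J, x ^ a.val = x ^ b.val → a = b := by
    intro a _ b _ h
    rw [pow_eq_pow_iff_modEq, hx] at h
    exact ZMod.val_injective n (h.eq_of_lt_of_lt (ZMod.val_lt a) (ZMod.val_lt b))
  have hord : ∀ j ∈ J, orderOf (x ^ j.val) = d := fun j hj => by rw [orderOf_pow, hx, hJ j hj]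
  have hgen : ∀ j ∈ J, Subgroup.zpowers (x ^ j.val) = Subgroup.zpowers (x ^ (n / d)) := by
    intro j hj
    have hdn : n.gcd j.val ∣ n := Nat.gcd_dvd_left _ _
    have hnd : n / d = n.gcd j.val := by rw [← hJ j hj, Nat.div_div_self hdn (NeZero.ne n)]
    refine Subgroup.eq_of_le_of_card_ge (Subgroup.zpowers_le.2 ?_) (le_of_eq ?_)
    · obtain ⟨t, ht⟩ : n / d ∣ j.val := hnd ▸ Nat.gcd_dvd_right _ _
      rw [ht, pow_mul]
      exact Subgroup.npow_mem_zpowers _ _
    · rw [Nat.card_zpowers, Nat.card_zpowers, hord j hj, orderOf_pow, hx, hnd]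
      rw [Nat.gcd_eq_right hdn, hJ j hj]
  rw [← Finset.sum_image (f := F) (g := fun j : ZMod n => x ^ j.val) hinj]
  refine card_mul_sum_le hF0 hFc _ ?_ _ hN ?_
  · intro y hy
    obtain ⟨j, hj, rfl⟩ := Finset.mem_image.1 hy
    exact hord j hj
  · intro y hy k hky
    obtain ⟨a, ha, rfl⟩ := Finset.mem_image.1 hy
    obtain ⟨b, hb, hab⟩ := Finset.mem_image.1 hky
    rw [Subgroup.mem_normalizer_iff]
    have hmap : (Subgroup.zpowers (x ^ a.val)).map (MulAut.conj k).toMonoidHom =
        Subgroup.zpowers (x ^ b.val) := by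
      rw [MonoidHom.map_zpowers, hab]; rfl
    rw [hgen a ha, hgen b hb] at hmap
    intro z
    conv_rhs => rw [← hmap]
    exact (Subgroup.mem_map_iff_mem (f := (MulAut.conj k).toMonoidHom)
      (MulAut.conj k).injective).symm

/-- The order of the normaliser of a cyclic subgroup. -/
theorem card_normalizer_zpowers (x : G) :
    ∃ m, m ∣ (orderOf x).totient ∧
      Nat.card (Subgroup.normalizer ((Subgroup.zpowers x : Subgroup G) : Set G)) =
        Nat.card (Subgroup.centralizer ({x} : Set G)) * m := by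
  set X := Subgroup.zpowers x with hX
  have hc : Subgroup.centralizer (X : Set G) = Subgroup.centralizer ({x} : Set G) := by
    rw [hX, Subgroup.zpowers_eq_closure, Subgroup.centralizer_closure]
  refine ⟨Nat.card X.normalizerMonoidHom.range, ?_, ?_⟩
  · have h := Subgroup.card_subgroup_dvd_card X.normalizerMonoidHom.range
    rwa [IsCyclic.card_mulAut, hX, Nat.card_zpowers] at h
  · rw [← Subgroup.card_mul_index X.normalizerMonoidHom.ker, Subgroup.index_ker,
      Subgroup.normalizerMonoidHom_ker]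
    congr 1
    rw [Nat.card_congr (Subgroup.subgroupOfEquivOfLe
      (Subgroup.centralizer_le_normalizer _)).toEquiv, hc]

/-- A cyclic Sylow subgroup of prime order has a number of conjugates congruent to one. -/
theorem index_normalizer_zpowers_modEq {x : G} {p : ℕ} [Fact p.Prime] (hx : orderOf x = p)
    (hp : ¬ p * p ∣ Nat.card G) :
    (Subgroup.normalizer ((Subgroup.zpowers x : Subgroup G) : Set G)).index ≡ 1 [MOD p] := by
  have hc : Nat.card (Subgroup.zpowers x) = p ^ (Nat.card G).factorization p := by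
    rw [Nat.card_zpowers, hx]
    have h1 : p ∣ Nat.card G := hx ▸ orderOf_dvd_natCard x
    have hpp : p.Prime := Fact.out
    have h2 : (Nat.card G).factorization p = 1 := by
      apply le_antisymm
      · by_contra h
        exact hp (by rw [← pow_two]; exact (pow_dvd_pow p (by omega)).trans (Nat.ordProj_dvd _ p))
      · exact hpp.factorization_pos_of_dvd Nat.card_pos.ne' h1
    rw [h2, pow_one]
  have := card_sylow_modEq_one p G
  rwa [(Sylow.ofCard _ hc).card_eq_index_normalizer] at this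

end Counting

/-- Norm of an irreducible nontrivial character plus a constant. -/
theorem sum_normSq_add_const [Fintype G] {χ : IrrCharacter G} (hχ : χ.1 ≠ fun _ => 1) (c : ℤ) :
    ∑ g, ‖χ.1 g + c‖ ^ 2 = (Nat.card G : ℝ) * (1 + c ^ 2) := by
  have h1 : classInner χ.1 χ.1 = 1 := Char.classInner_irr_self χ.2
  have h2 : classInner χ.1 (fun _ => (1 : ℂ)) = 0 :=
    Char.classInner_irr_of_ne χ.2 Char.isIrrCharacter_one hχ
  have hn : (Nat.card G : ℂ) ≠ 0 := Char.card_ne_zero
  simp only [classInner, inv_mul_eq_iff_eq_mul₀ hn, mul_one, map_one, mul_zero] at h1 h2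
  apply Complex.ofReal_injective
  push_cast
  have h3 : ∑ g, conj (χ.1 g) = 0 := by rw [← map_sum, h2, map_zero]
  simp only [← Complex.mul_conj', map_add, map_intCast, add_mul, mul_add,
    Finset.sum_add_distrib, ← Finset.sum_mul, ← Finset.mul_sum, h1, h2, h3,
    Finset.sum_const, Finset.card_univ, Nat.card_eq_fintype_card, nsmul_eq_mul]
  ring

end Cfsg.Agent.Mathieu
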