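import Cfsg.Agent.Lib.Mathieu.Psl23Data
import Cfsg.Agent.Lib.Mathieu.NoIndex22
import Cfsg.Agent.Lib.Mathieu.Generators

/-!
The subgroup of M24 generated by the translation, the squares and the inversion has order 6072 and
is maximal; the subgroup of M23 generated by the translation and the squares has order 253 and is
maximal.
-/

set_option autoImplicit false
set_option maxRecDepth 20000

namespace Cfsg.Agent.Mathieu.Psl23

open Cfsg
open scoped Pointwise

/-- The squares acting by multiplication. -/
def squareMaps : Set (Equiv.Perm GolayPt) :=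
  {g | ∃ u : (ZMod 23)ˣ, IsSquare u ∧ g = Equiv.optionCongr (Units.mulLeft u)}

/-- The translation. -/
def transl : Equiv.Perm GolayPt := Equiv.optionCongr (Equiv.addRight (1 : ZMod 23))

/-- Multiplication by two. -/
def double : Equiv.Perm GolayPt :=
  Equiv.optionCongr (Units.mulLeft (ZMod.unitOfCoprime 2 (by decide) : (ZMod 23)ˣ))

/-- The group of order 6072. -/
def pslGroup : Subgroup (Equiv.Perm GolayPt) := Subgroup.closure ({transl, projInv} ∪ squareMaps)

/-- The group of order 253. -/
def frobGroup : Subgroup (Equiv.Perm GolayPt) := Subgroup.closure ({transl} ∪ squareMaps)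

theorem double_mem : double ∈ squareMaps :=
  ⟨_, ⟨ZMod.unitOfCoprime 5 (by decide), by ext; decide +kernel⟩, rfl⟩

theorem rep_transl : Rep ptEnc transl 0x1700161514131211100f0e0d0c0b0a090807060504030201 := by
  unfold Rep; decide +kernel

theorem rep_double : Rep ptEnc double 0x171513110f0d0b0907050301161412100e0c0a0806040200 := by
  unfold Rep; decide +kernel

theorem rep_inv : Rep ptEnc projInv 0x10c08060e040a03120715021005140d1309110f0b1617 := by
  unfold Rep; decide +kernel

theorem rep_mulPack (r : (ZMod 23)ˣ) :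
    Rep ptEnc (Equiv.optionCongr (Units.mulLeft (r * r))) (mulPack ((r * r : (ZMod 23)ˣ) : ZMod 23).val) := by
  have h1 : ∀ (a : ZMod 23) (p : GolayPt),
      (ptEnc (p.map (a * ·))).val = app (mulPack a.val) (ptEnc p).val := by decide +kernel
  intro p
  rw [← h1]
  rfl

theorem sift_psl : gensPsl23.all (sift 24 levelsPsl23) = true ∧
    (∀ r : ZMod 23, r ≠ 0 → sift 24 levelsPsl23 (mulPack (r * r).val) = true) := by
  decide +kernel

theorem sift_frob : gensFrob23.all (sift 24 levelsFrob23) = true ∧
    (∀ r : ZMod 23, r ≠ 0 → sift 24 levelsFrob23 (mulPack (r * r).val) = true) := by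
  decide +kernel

theorem sift_square {levels : List CertLevel}
    (h : ∀ r : ZMod 23, r ≠ 0 → sift 24 levels (mulPack (r * r).val) = true) :
    ∀ σ ∈ squareMaps, ∃ g, Rep ptEnc σ g ∧ sift 24 levels g = true := by
  rintro σ ⟨u, ⟨r, rfl⟩, rfl⟩
  have : Fact (1 < 23) := ⟨by norm_num⟩
  exact ⟨_, rep_mulPack r, by rw [Units.val_mul]; exact h _ r.ne_zero⟩

theorem card_pslGroup : Nat.card pslGroup = 6072 := by
  have hle : genGroup ptEnc gensPsl23 ≤ pslGroup := genGroup_le fun σ l hl hσ => by
    simp only [gensPsl23, List.mem_cons, List.not_mem_nil, or_false] at hl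
    rcases hl with rfl | rfl | rfl
    · exact hσ.unique rep_transl ▸ Subgroup.subset_closure (Or.inl (Or.inl rfl))
    · exact hσ.unique rep_double ▸ Subgroup.subset_closure (Or.inr double_mem)
    · exact hσ.unique rep_inv ▸ Subgroup.subset_closure (Or.inl (Or.inr rfl))
  have hreps := reps_genGroup (e := ptEnc) (gens := gensPsl23) (steps := slpPsl23)
    (levels := levelsPsl23) (by decide +kernel) (by decide +kernel) (by decide +kernel)
  refine ((closure_cert (e := ptEnc) (by norm_num) (levels := levelsPsl23) (by decide +kernel)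
    (by decide +kernel) (by decide +kernel) (by decide +kernel)
    (fun t ht => (hreps t ht).imp fun σ h => ⟨hle h.1, h.2⟩) ?_).2).trans (by decide +kernel)
  rintro σ ((rfl | rfl) | hσ)
  · exact ⟨_, rep_transl, List.all_eq_true.1 sift_psl.1 _ (by simp [gensPsl23])⟩
  · exact ⟨_, rep_inv, List.all_eq_true.1 sift_psl.1 _ (by simp [gensPsl23])⟩
  · exact sift_square sift_psl.2 σ hσ

theorem card_frobGroup : Nat.card frobGroup = 253 := by
  have hle : genGroup ptEnc gensFrob23 ≤ frobGroup := genGroup_le fun σ l hl hσ => by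
    simp only [gensFrob23, List.mem_cons, List.not_mem_nil, or_false] at hl
    rcases hl with rfl | rfl
    · exact hσ.unique rep_transl ▸ Subgroup.subset_closure (Or.inl rfl)
    · exact hσ.unique rep_double ▸ Subgroup.subset_closure (Or.inr double_mem)
  have hreps := reps_genGroup (e := ptEnc) (gens := gensFrob23) (steps := slpFrob23)
    (levels := levelsFrob23) (by decide +kernel) (by decide +kernel) (by decide +kernel)
  refine ((closure_cert (e := ptEnc) (by norm_num) (levels := levelsFrob23) (by decide +kernel)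
    (by decide +kernel) (by decide +kernel) (by decide +kernel)
    (fun t ht => (hreps t ht).imp fun σ h => ⟨hle h.1, h.2⟩) ?_).2).trans (by decide +kernel)
  rintro σ (rfl | hσ)
  · exact ⟨_, rep_transl, List.all_eq_true.1 sift_frob.1 _ (by simp [gensFrob23])⟩
  · exact sift_square sift_frob.2 σ hσ

theorem pslGroup_le : pslGroup ≤ M24 := by
  rw [pslGroup, Subgroup.closure_le]
  rintro σ ((rfl | rfl) | ⟨u, hu, rfl⟩)
  exacts [translation_mem, projInv_mem, optionCongr_mulLeft_mem u hu]

theorem frobGroup_le_psl : frobGroup ≤ pslGroup :=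
  Subgroup.closure_mono (Set.union_subset_union_left _ (by simp))

theorem frobGroup_le : frobGroup ≤ Spor.M23 := by
  rw [frobGroup, Subgroup.closure_le]
  rintro σ (rfl | ⟨u, hu, rfl⟩)
  · exact mem_M23_iff.2 ⟨translation_mem, rfl⟩
  · exact mem_M23_iff.2 ⟨optionCongr_mulLeft_mem u hu, rfl⟩

/-- The checks on the two generators of `23 : 11`. -/
theorem gen_checks :
    isId 24 (packPow 24 0x1700161514131211100f0e0d0c0b0a090807060504030201 23) = true ∧
    isId 24 0x1700161514131211100f0e0d0c0b0a090807060504030201 = false ∧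
    isId 24 (packPow 24 0x171513110f0d0b0907050301161412100e0c0a0806040200 11) = true ∧
    isId 24 0x171513110f0d0b0907050301161412100e0c0a0806040200 = false := by decide +kernel

theorem sols_transl : (((List.range 23).filter fun k => k != 0).flatMap fun k =>
    solutions 24 0x1700161514131211100f0e0d0c0b0a090807060504030201
      (packPowS 24 0x1700161514131211100f0e0d0c0b0a090807060504030201 k) levels23).length ≤ 253 := by
  decide +kernel

/-- A permutation conjugating multiplication by two, its inverse, the conjugate. -/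
def conjD : ℕ × ℕ × ℕ :=
  (0x170b0c150306110f05071413000d0a120e01160209100804,
   0x1705140d0c08110210070a15160903010e120f001304060b,
   0x1705060c1215160e090711100b130d0a0f04140008030201)

theorem conjD_checks :
    (permOK 24 conjD.1 && mem23 conjD.1) = true ∧
      samePack 24 (packMul 24 (packMul 24 conjD.2.1
        0x171513110f0d0b0907050301161412100e0c0a0806040200) conjD.1) conjD.2.2 = true ∧
      isId 24 (packMul 24 conjD.2.1 conjD.1) = true ∧ permOK 24 conjD.2.1 = true := by
  decide +kernel

theorem sols_double : (((List.range 11).filter fun k => k != 0).flatMap fun k =>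
    solutions 24 conjD.2.2 (packPowS 24 conjD.2.2 k) levels23).length ≤ 55 := by
  decide +kernel

/-- The normaliser bound from a conjugate of multiplication by two. -/
theorem normalizer_double {Y : Spor.M23}
    (hY : Rep ptEnc (Y : Equiv.Perm GolayPt) 0x171513110f0d0b0907050301161412100e0c0a0806040200)
    (hp : orderOf Y = 11) :
    Nat.card (Subgroup.normalizer (Subgroup.zpowers Y : Set Spor.M23)) ≤ 55 := by
  obtain ⟨hc, hx', hinv, hci⟩ := conjD_checks
  rw [Bool.and_eq_true] at hc
  obtain ⟨γ, hγ⟩ := exists_rep (e := ptEnc) hc.1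
  obtain ⟨δ, hδ⟩ := exists_rep (e := ptEnc) hci
  have hδγ : δ = γ⁻¹ := eq_inv_of_mul_eq_one_left ((rep_packMul hδ hγ).eq_one hinv)
  let C : Spor.M23 := ⟨γ, mem23_sound γ _ hγ hc.2⟩
  have hY' : Rep ptEnc ((C⁻¹ * Y * C : Spor.M23) : Equiv.Perm GolayPt) conjD.2.2 := by
    show Rep ptEnc (γ⁻¹ * (Y : Equiv.Perm GolayPt) * γ) _
    rw [← hδγ]
    exact (rep_packMul (rep_packMul hδ hY) hγ).of_same hx'
  have ho : orderOf (C⁻¹ * Y * C) = 11 := by
    rw [← hp]
    have h := (MulAut.conj C⁻¹).orderOf_eq Y
    simpa using h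
  refine le_trans (le_of_eq ?_)
    ((card_normalizer_zpowers_le stab23 hY' ho (by norm_num)).trans sols_double)
  refine Nat.card_congr ((Subgroup.equivMapOfInjective _ (MulAut.conj C⁻¹).toMonoidHom
    (MulAut.conj C⁻¹).injective).trans (MulEquiv.subgroupCongr ?_)).toEquiv
  rw [Subgroup.map_equiv_normalizer_eq, MonoidHom.map_zpowers]
  simp

/-- A divisor count: a subgroup of order `m` whose Sylow subgroups for 11 and 23 have normalisers
of order `N` and 253 has order 253 or that of M23. -/
theorem m23_count : ((List.range 40321).all fun n =>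
    !(n % 23 == 1 && 40320 % n == 0) ||
      [11, 55].all fun N => !(253 * n % N == 0 && 253 * n / N % 11 == 1) ||
        (n == 1 || n == 40320)) = true := by decide +kernel

theorem frob_le_M23_cases (K : Subgroup (Equiv.Perm GolayPt)) (hK : K ≤ Spor.M23)
    (hF : frobGroup ≤ K) : K = frobGroup ∨ K = Spor.M23 := by
  have : Fact (Nat.Prime 11) := ⟨by norm_num⟩
  have : Fact (Nat.Prime 23) := ⟨by norm_num⟩
  have hn := stab23.le256
  have hT : transl ∈ frobGroup := Subgroup.subset_closure (Or.inl rfl)
  have hM : double ∈ frobGroup := Subgroup.subset_closure (Or.inr double_mem)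
  let X : Spor.M23 := ⟨transl, frobGroup_le hT⟩
  let Y : Spor.M23 := ⟨double, frobGroup_le hM⟩
  obtain ⟨g1, g2, g3, g4⟩ := gen_checks
  have hXo : orderOf X = 23 := orderOf_eq_prime
    (Subtype.ext ((rep_packPow hn rep_transl 23).eq_one g1)) fun h => by
      rw [rep_transl.isId_of_eq_one (congrArg Subtype.val h)] at g2; exact Bool.noConfusion g2
  have hYo : orderOf Y = 11 := orderOf_eq_prime
    (Subtype.ext ((rep_packPow hn rep_double 11).eq_one g3)) fun h => by
      rw [rep_double.isId_of_eq_one (congrArg Subtype.val h)] at g4; exact Bool.noConfusion g4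
  have hN23 := (card_normalizer_zpowers_le stab23 (X := X) rep_transl hXo (by norm_num)).trans
    sols_transl
  have hN11 := normalizer_double (Y := Y) rep_double hYo
  have hf : ∀ (m p : ℕ), p.Prime → m ≠ 0 → ¬ p ∣ m → (p ^ 1 * m).factorization p = 1 := by
    intro m p hp hm hd
    rw [Nat.factorization_mul (pow_ne_zero _ hp.ne_zero) hm, hp.factorization_pow]
    simp [Nat.factorization_eq_zero_of_not_dvd hd]
  have hfG : (Nat.card Spor.M23).factorization 11 = 1 := by
    rw [card_M23, show 10200960 = 11 ^ 1 * 927360 from rfl]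
    exact hf _ _ (by norm_num) (by norm_num) (by norm_num)
  obtain ⟨c, hc, hcmul⟩ := sylow_count (H := (⊤ : Subgroup Spor.M23)) (X := Y)
    (Subgroup.mem_top _) hYo (by rw [Subgroup.card_top, hfG])
  rw [inf_top_eq, Subgroup.card_top, card_M23] at hcmul
  have hN55 : Nat.card (Subgroup.normalizer (Subgroup.zpowers Y : Set Spor.M23)) = 55 :=
    count_cases (n₀ := 185472) (by norm_num) hcmul hc hN11 (by decide +kernel)
  -- the subgroup inside `M23`
  set K' : Subgroup Spor.M23 := K.subgroupOf Spor.M23 with hK'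
  set F' : Subgroup Spor.M23 := frobGroup.subgroupOf Spor.M23 with hF'
  have hcK : Nat.card K' = Nat.card K := Nat.card_congr (Subgroup.subgroupOfEquivOfLe hK).toEquiv
  have hcF : Nat.card F' = 253 :=
    (Nat.card_congr (Subgroup.subgroupOfEquivOfLe frobGroup_le).toEquiv).trans card_frobGroup
  have hFK : F' ≤ K' := fun x hx => hF hx
  have hXK : X ∈ K' := hF hT
  have hYK : Y ∈ K' := hF hM
  have hdvd : Nat.card K' ∣ 10200960 := card_M23 ▸ Subgroup.card_subgroup_dvd_card K'
  obtain ⟨n, hn'⟩ : 253 ∣ Nat.card K' := hcF ▸ Subgroup.card_dvd_of_le hFK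
  have hndvd : n ∣ 40320 := by
    rw [hn', show 10200960 = 253 * 40320 from rfl] at hdvd
    exact (Nat.mul_dvd_mul_iff_left (by norm_num)).1 hdvd
  have hnle : n < 40321 := Nat.lt_succ_of_le (Nat.le_of_dvd (by norm_num) hndvd)
  have hn0 : 0 < n := Nat.pos_of_dvd_of_pos hndvd (by norm_num)
  -- the normaliser of the translation
  have hn23 : n % 23 = 1 := by
    obtain ⟨q, hq, hqmul⟩ := sylow_count hXK hXo (by
      rw [hn', show 253 * n = 23 ^ 1 * (11 * n) by ring]
      refine hf _ _ (by norm_num) (by omega) fun h => ?_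
      rcases (Nat.Prime.dvd_mul (by norm_num)).1 h with h | h
      · norm_num at h
      · exact absurd (h.trans hndvd) (by norm_num))
    have hF23 : F' ≤ Subgroup.normalizer (Subgroup.zpowers X : Set Spor.M23) := by
      obtain ⟨r, hr, hrmul⟩ := sylow_count (H := F') (X := X) hT hXo (by
        rw [hcF, show 253 = 23 ^ 1 * 11 from rfl]
        exact hf _ _ (by norm_num) (by norm_num) (by norm_num))
      have h253 := count_cases (n₀ := 1) (N₀ := 253) (bound := 253) (by rw [hcF]; norm_num)
        hrmul hr ((Nat.card_le_card_of_injective _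
          (Subgroup.inclusion_injective inf_le_left)).trans hN23) (by rw [hcF]; decide +kernel)
      exact inf_eq_right.1 (Subgroup.eq_of_le_of_card_ge inf_le_right (by rw [h253, hcF]))
    have hN : Nat.card ↥(Subgroup.normalizer (Subgroup.zpowers X : Set Spor.M23) ⊓ K') = 253 :=
      le_antisymm ((Nat.card_le_card_of_injective _
          (Subgroup.inclusion_injective inf_le_left)).trans hN23)
        (hcF ▸ Nat.card_le_card_of_injective _
          (Subgroup.inclusion_injective (le_inf hF23 hFK)))
    rw [hN, hn'] at hqmul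
    rw [← Nat.eq_of_mul_eq_mul_left (by norm_num) hqmul]
    exact hq
  -- the normaliser of the squares
  obtain ⟨q, hq, hqmul⟩ := sylow_count hYK hYo (by
    rw [hn', show 253 * n = 11 ^ 1 * (23 * n) by ring]
    refine hf _ _ (by norm_num) (by omega) fun h => ?_
    rcases (Nat.Prime.dvd_mul (by norm_num)).1 h with h | h
    · norm_num at h
    · exact absurd (h.trans hndvd) (by norm_num))
  set N := Nat.card ↥(Subgroup.normalizer (Subgroup.zpowers Y : Set Spor.M23) ⊓ K') with hNdef
  have hNdvd : N ∣ 55 := hN55 ▸ Subgroup.card_dvd_of_le inf_le_left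
  have h11 : 11 ∣ N := by
    have := Subgroup.card_dvd_of_le (le_inf Subgroup.le_normalizer (Subgroup.zpowers_le.2 hYK) :
      Subgroup.zpowers Y ≤ Subgroup.normalizer (Subgroup.zpowers Y : Set Spor.M23) ⊓ K')
    rwa [Nat.card_zpowers, hYo] at this
  have hNcases : N ∈ [11, 55] := by
    have hsmall : ∀ a < 56, a ∣ 55 → 11 ∣ a → a ∈ [11, 55] := by decide
    exact hsmall N (Nat.lt_succ_of_le (Nat.le_of_dvd (by norm_num) hNdvd)) hNdvd h11
  have hall := List.all_eq_true.1 m23_count n (List.mem_range.2 hnle)
  rw [hn'] at hqmul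
  have hd1 : 253 * n % N = 0 := by rw [← hqmul]; simp
  have hd2 : 253 * n / N = q := by
    rw [← hqmul, Nat.mul_div_cancel_left _ (Nat.pos_of_dvd_of_pos hNdvd (by norm_num))]
  simp only [Nat.mod_eq_zero_of_dvd hndvd, hn23, beq_self_eq_true, Bool.and_self, Bool.not_true,
    Bool.false_or, List.all_eq_true] at hall
  have hfin := hall N hNcases
  simp only [hd1, hd2, hq, beq_self_eq_true, Bool.and_self, Bool.not_true, Bool.false_or,
    Bool.or_eq_true, beq_iff_eq] at hfin
  rcases hfin with h | h
  · refine Or.inl (Subgroup.eq_of_le_of_card_ge hF ?_).symm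
    rw [card_frobGroup, ← hcK, hn', h]
  · refine Or.inr (Subgroup.eq_of_le_of_card_ge hK ?_)
    rw [card_M23, ← hcK, hn', h]

theorem psl_le_M24_cases (K : Subgroup (Equiv.Perm GolayPt)) (hK : K ≤ M24)
    (hL : pslGroup ≤ K) : K = pslGroup ∨ K = M24 := by
  classical
  have horb : ∀ p, ∃ σ ∈ K, σ none = p := by
    intro p
    rcases p with _ | a
    · exact ⟨1, K.one_mem, rfl⟩
    · refine ⟨transl ^ a.val * projInv, K.mul_mem (K.pow_mem (hL (Subgroup.subset_closure
        (Or.inl (Or.inl rfl)))) _) (hL (Subgroup.subset_closure (Or.inl (Or.inr rfl)))), ?_⟩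
      have : ∀ b : ZMod 23, (transl ^ b.val * projInv) none = some b := by decide +kernel
      exact this a
  have hcard := card_eq_orbit_mul K none Finset.univ fun p => by simp [horb p]
  rcases frob_le_M23_cases (K ⊓ MulAction.stabilizer (Equiv.Perm GolayPt) (none : GolayPt))
    (fun σ hσ => mem_M23_iff.2 ⟨hK hσ.1, hσ.2⟩)
    (fun σ hσ => ⟨hL (frobGroup_le_psl hσ), (mem_M23_iff.1 (frobGroup_le hσ)).2⟩) with h | h <;>
    rw [h, Finset.card_univ, show Fintype.card GolayPt = 24 from rfl] at hcard
  · refine Or.inl (Subgroup.eq_of_le_of_card_ge hL ?_).symm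
    rw [card_pslGroup, hcard, card_frobGroup]
  · refine Or.inr (Subgroup.eq_of_le_of_card_ge hK ?_)
    rw [card_M24, hcard, card_M23]

theorem isCoatom_psl : IsCoatom (pslGroup.subgroupOf M24) := by
  constructor
  · intro h
    have := Subgroup.subgroupOf_eq_top.1 h
    have hc := Nat.card_le_card_of_injective _ (Subgroup.inclusion_injective this)
    rw [card_M24, card_pslGroup] at hc
    norm_num at hc
  · intro K hK
    rcases psl_le_M24_cases (K.map M24.subtype) (Subgroup.map_subtype_le K)
      (fun σ hσ => ⟨⟨σ, pslGroup_le hσ⟩, hK.le hσ, rfl⟩) with h | h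
    · exfalso
      refine hK.not_ge fun x hx => ?_
      show (x : Equiv.Perm GolayPt) ∈ pslGroup
      rw [← h]; exact ⟨x, hx, rfl⟩
    · rw [eq_top_iff]
      intro x _
      obtain ⟨y, hy, e⟩ : (x : Equiv.Perm GolayPt) ∈ K.map M24.subtype := by rw [h]; exact x.2
      rwa [← Subtype.ext e]

theorem isCoatom_frob : IsCoatom ((frobGroup.subgroupOf M24).subgroupOf
    (MulAction.stabilizer M24 (none : GolayPt))) := by
  constructor
  · intro h
    have hall : Spor.M23 ≤ frobGroup := fun σ hσ => by
      obtain ⟨h1, h2⟩ := mem_M23_iff.1 hσ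
      have : (⟨⟨σ, h1⟩, h2⟩ : MulAction.stabilizer M24 (none : GolayPt)) ∈
          (frobGroup.subgroupOf M24).subgroupOf (MulAction.stabilizer M24 (none : GolayPt)) := by
        rw [h]; trivial
      exact this
    have hc := Nat.card_le_card_of_injective _ (Subgroup.inclusion_injective hall)
    rw [card_M23, card_frobGroup] at hc
    norm_num at hc
  · intro K hK
    rcases frob_le_M23_cases ((K.map (MulAction.stabilizer M24 (none : GolayPt)).subtype).map
        M24.subtype) (by
          rintro σ ⟨y, ⟨z, -, rfl⟩, rfl⟩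
          exact mem_M23_iff.2 ⟨z.1.2, z.2⟩)
      (fun σ hσ => by
        obtain ⟨h1, h2⟩ := mem_M23_iff.1 (frobGroup_le hσ)
        have hmem : (⟨⟨σ, h1⟩, h2⟩ : MulAction.stabilizer M24 (none : GolayPt)) ∈
            (frobGroup.subgroupOf M24).subgroupOf (MulAction.stabilizer M24 (none : GolayPt)) := hσ
        exact ⟨⟨σ, h1⟩, ⟨⟨⟨σ, h1⟩, h2⟩, hK.le hmem, rfl⟩, rfl⟩) with h | h
    · exfalso
      refine hK.not_ge fun x hx => ?_
      show ((x : M24) : Equiv.Perm GolayPt) ∈ frobGroup
      rw [← h]; exact ⟨_, ⟨x, hx, rfl⟩, rfl⟩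
    · rw [eq_top_iff]
      intro x _
      obtain ⟨y, ⟨z, hz, rfl⟩, e⟩ : ((x : M24) : Equiv.Perm GolayPt) ∈
          (K.map (MulAction.stabilizer M24 (none : GolayPt)).subtype).map M24.subtype := by
        rw [h]; exact mem_M23_iff.2 ⟨x.1.2, x.2⟩
      rwa [← Subtype.ext (Subtype.ext e)]

end Cfsg.Agent.Mathieu.Psl23
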