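import Cfsg.Agent.Lib.Mathieu.Rigid

/-!
Data bounding the outer automorphism groups of the Mathieu groups (checked in `MathieuOut`).
-/

set_option autoImplicit false

namespace Cfsg.Agent.Mathieu

/-- Rigidity data for M11. -/
def rigid11 : RigidData where
  p := 11
  r := 3
  s := 4
  j := 2
  x := 0x160e130f0a01150d051108060b1404091712070c10030200
  y := 0x151413110f060e120a0703100b170c0816090501040d0200
  t := 0xe0f161711101309070a041205140c0815060b03020d0100
  yj := 0x13110f0e0a090706171604120b151008140c050201030d00
  R := [1, 2]
  allowed := [(1, 0xe0f161711101309070a041205140c0815060b03020d0100)]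
  rels := [([(7, 3), (7, 1)], 4), ([(1, 1), (2, 1), (5, 1)], 5)]
  words := [[(0, 3), (10, 3), (10, 1)], [(1, 1), (2, 2), (6, 1)]]

/-- Rigidity data for M12. -/
def rigid12 : RigidData where
  p := 11
  r := 3
  s := 4
  j := 1
  x := 0x15140e0a1308050d17071206110b100c16040f0009020301
  y := 0x1715071613120e00110a09010f0b0c06051014080d020304
  t := 0x130b0f0a17021403051608100715060c11010e090412000d
  yj := 0x1715071613120e00110a09010f0b0c06051014080d020304
  R := [1, 2]
  allowed := [(1, 0x130b0f0a17021403051608100715060c11010e090412000d), (2, 0x130b0f0a17021403051608100715060c11010e090412000d)]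
  rels := [([(4, 2)], 5), ([(8, 3), (8, 4)], 8), ([(1, 9), (8, 7)], 11)]
  words := [[(3, 1), (4, 1), (2, 1), (1, 4)], [(0, 1), (4, 2)]]

/-- Part of the outer element for M12. -/
def dl12 : ℕ := 0x40c03060817021510010f050d001107090e12130a160b14

/-- Part of the outer element for M12. -/
def di12 : ℕ := 0x120210000405090f0d060b160103071308140c1715110e0a

/-- Part of the outer element for M12. -/
def xd12 : ℕ := 0x7160f0b14101504171302060a110c0805000e030112090d

/-- Part of the outer element for M12. -/
def td12 : ℕ := 0x16170a0f11010e12070b090d141302040500150810060c03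

/-- Rigidity data for M22. -/
def rigid22 : RigidData where
  p := 11
  r := 3
  s := 4
  j := 2
  x := 0x170902160e141213080c0f1507100b0a01110d0604050300
  y := 0x17090e12150407130c0d100a0608010514160f1103020b00
  t := 0x170b1215070d0e040c111408060f160a1009051302030100
  yj := 0x17010d040e1114150a10130816050b0f12090c0703020600
  R := [1, 2]
  allowed := [(1, 0x170b1215070d0e040c111408060f160a1009051302030100), (2, 0x17090710041513140512110c01080b0f0e060a0d02031600)]
  rels := [([(4, 2), (5, 2)], 5), ([(8, 0), (8, 0), (9, 1)], 6)]
  words := [[(0, 3), (6, 2), (9, 3), (8, 0)], [(0, 2), (2, 1), (1, 3), (3, 1)]]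

/-- Part of the outer element for M22. -/
def dl22 : ℕ := 0x10c08060e040a03120715021005140d1309110f0b1617

/-- Part of the outer element for M22. -/
def di22 : ℕ := 0x10c08060e040a03120715021005140d1309110f0b1617

/-- Part of the outer element for M22. -/
def xd22 : ℕ := 0x170f0c100415130a1108160b090607010312020e140d0500

/-- Part of the outer element for M22. -/
def td22 : ℕ := 0x17161410050406030b070a0e0f11090c080d011215130200

/-- Rigidity data for M23. -/
def rigid23 : RigidData where
  p := 23
  r := 2
  s := 12
  j := 3
  x := 0x1700161514131211100f0e0d0c0b0a090807060504030201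
  y := 0x17161412100e0c0a08060402001513110f0d0b0907050301
  t := 0x17160a12140d0c0601130e0b0209100f0515080411030700
  yj := 0x17160e06150d05140c04130b03120a021109011008000f07
  R := [1, 5]
  allowed := [(1, 0x17160a12140d0c0601130e0b0209100f0515080411030700)]
  rels := [([(1, 3), (21, 1), (12, 0)], 23), ([(11, 3), (6, 4)], 6)]
  words := [[(2, 3), (2, 2), (7, 2), (14, 4)], [(2, 1), (6, 2), (18, 4), (14, 4)]]

/-- Rigidity data for M24. -/
def rigid24 : RigidData where
  p := 23
  r := 2
  s := 12
  j := 2
  x := 0x1700161514131211100f0e0d0c0b0a090807060504030201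
  y := 0x17161412100e0c0a08060402001513110f0d0b0907050301
  t := 0x1617020b03010d0f14070c091211000e0a08150513100406
  yj := 0x1716120e0a060215110d09050114100c080400130f0b0703
  R := [1, 5]
  allowed := [(1, 0x1617020b03010d0f14070c091211000e0a08150513100406)]
  rels := [([(17, 9)], 12), ([(3, 6)], 8), ([(11, 8)], 6)]
  words := [[(1, 3), (6, 5), (17, 5), (10, 5)], [(2, 5), (12, 5)], [(1, 0)]]

end Cfsg.Agent.Mathieu
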