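import Cfsg.Agent.Lib.Mathieu.StabOrbits
import Cfsg.Agent.Lib.Mathieu.SextOrbData

/-!
Kernel checks for orbit certificates of stabilisers in `M₂₄`.
-/

set_option autoImplicit false
set_option maxRecDepth 20000

namespace Cfsg.Agent.Mathieu

open Cfsg

/-- The invariant of the `i`-th object, for `sextOnOct`. -/
def sextOnOctKey (i : ℕ) : ℕ := pairKey (sextAt 0) [octAt i]

theorem sextOnOct_gens :
    (gensOK sextOnOctGens && fixMasks sextOnOctGens (sextAt 0)) = true := by
  decide +kernel

theorem sextOnOct_tree :
    orbTreeOK pimgT octAt (sextOnOctGens.map Prod.snd) sextOnOctTree sextOnOctRoots 759 = true := by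
  decide +kernel

theorem sextOnOct_roots : (sextOnOctRoots.map sextOnOctKey).Nodup ∧
    (sextOnOctRoots.all fun r => r.blt 759) = true := by
  decide +kernel

theorem sextOnOct_size :
    sextOnOctRoots.map (fun r => classSize sextOnOctKey r 759) = [15, 360, 384] := by
  decide +kernel

/-- The invariant of the `i`-th object, for `sextOnTrio`. -/
def sextOnTrioKey (i : ℕ) : ℕ := pairKey (sextAt 0) (trioAt i)

theorem sextOnTrio_gens :
    (gensOK sextOnTrioGens && fixMasks sextOnTrioGens (sextAt 0)) = true := by
  decide +kernel

theorem sextOnTrio_tree :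
    orbTreeOK actMasksT trioAt (sextOnTrioGens.map Prod.snd) sextOnTrioTree sextOnTrioRoots 3795 = true := by
  decide +kernel

theorem sextOnTrio_roots : (sextOnTrioRoots.map sextOnTrioKey).Nodup ∧
    (sextOnTrioRoots.all fun r => r.blt 3795) = true := by
  decide +kernel

theorem sextOnTrio_size :
    sextOnTrioRoots.map (fun r => classSize sextOnTrioKey r 3795) = [15, 180, 720, 2880] := by
  decide +kernel

end Cfsg.Agent.Mathieu
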