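import Cfsg.Agent.Lib.Mathieu.OrbitLists
import Cfsg.Agent.Lib.Mathieu.SextOrbCheck

/-!
Orbits of the stabiliser of a sextet on octads and trios.
-/

set_option autoImplicit false

namespace Cfsg.Agent.Mathieu

open Cfsg
open scoped Pointwise

theorem sextOnOct_orbits :
    (∀ r ∈ sextOnOctRoots, octKind.dec (octKind.get r) ∈ octads ∧
      (MulAction.orbit ↥(stabM (setOfMasks (sextAt 0))) (octKind.dec (octKind.get r))).ncard =
        classSize sextOnOctKey r 759 ∧
      ∀ x, x ∈ MulAction.orbit ↥(stabM (setOfMasks (sextAt 0))) (octKind.dec (octKind.get r)) ↔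
        x ∈ octads ∧ pairSig (setOfMasks (sextAt 0)) {x} = sextOnOctKey r) ∧
    ∀ x ∈ octads, ∃ r ∈ sextOnOctRoots,
      x ∈ MulAction.orbit ↥(stabM (setOfMasks (sextAt 0))) (octKind.dec (octKind.get r)) := by
  obtain ⟨hg, hf⟩ := Bool.and_eq_true_iff.1 sextOnOct_gens
  refine octKind.orbits (setOfMasks (sextAt 0)) hg (fix_of_fixMasks hf) sextOnOct_tree _
    (sig_stab_set_pts _) _ (fun i hi => ?_) sextOnOct_roots.1 sextOnOct_roots.2
  show pairSig _ {ptsOf (octAt i)} = _
  rw [← setOfMasks_singleton]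
  exact pairSig_setOfMasks (sext_spec (by norm_num)).2.1 (canon_oct hi)

theorem sextOnTrio_orbits :
    (∀ r ∈ sextOnTrioRoots, trioKind.dec (trioKind.get r) ∈ trios ∧
      (MulAction.orbit ↥(stabM (setOfMasks (sextAt 0))) (trioKind.dec (trioKind.get r))).ncard =
        classSize sextOnTrioKey r 3795 ∧
      ∀ x, x ∈ MulAction.orbit ↥(stabM (setOfMasks (sextAt 0))) (trioKind.dec (trioKind.get r)) ↔
        x ∈ trios ∧ pairSig (setOfMasks (sextAt 0)) x = sextOnTrioKey r) ∧
    ∀ x ∈ trios, ∃ r ∈ sextOnTrioRoots,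
      x ∈ MulAction.orbit ↥(stabM (setOfMasks (sextAt 0))) (trioKind.dec (trioKind.get r)) := by
  obtain ⟨hg, hf⟩ := Bool.and_eq_true_iff.1 sextOnTrio_gens
  refine trioKind.orbits (setOfMasks (sextAt 0)) hg (fix_of_fixMasks hf) (treeOK_lawful (κ := List ℕ) sextOnTrio_tree) _
    (sig_stab_set _) _ (fun i hi => ?_) sextOnTrio_roots.1 sextOnTrio_roots.2
  exact pairSig_setOfMasks (sext_spec (by norm_num)).2.1 (canon_trio hi)

end Cfsg.Agent.Mathieu
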