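import Cfsg.Agent.Lib.Mathieu.Blocks
import Cfsg.Agent.Lib.Mathieu.OrbitFast
import Cfsg.Agent.Lib.Mathieu.Trans

/-!
Orbits of stabilisers in `M₂₄` on octads, trios and sextets, from certificates at a base object.
-/

set_option autoImplicit false

namespace Cfsg.Agent.Mathieu

open Cfsg
open scoped Pointwise

/-- An invariant of a pair of families of point sets. -/
def pairSig (B O : Finset (Finset GolayPt)) : ℕ := ∑ u ∈ O, (∑ t ∈ B, 16 ^ (t ∩ u).card) ^ 3

/-- The invariant on masks. -/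
def pairKey (B O : List ℕ) : ℕ :=
  (O.map fun u => (B.map fun t => 16 ^ popF (t &&& u)).sum ^ 3).sum

theorem pairSig_smul (σ : Equiv.Perm GolayPt) (B O : Finset (Finset GolayPt)) :
    pairSig (σ • B) (σ • O) = pairSig B O := by
  have hinj : Function.Injective fun s : Finset GolayPt => σ • s := MulAction.injective σ
  rw [pairSig, pairSig, show σ • O = O.image (σ • ·) from rfl, Finset.sum_image hinj.injOn]
  refine Finset.sum_congr rfl fun u _ => ?_
  rw [show σ • B = B.image (σ • ·) from rfl, Finset.sum_image hinj.injOn]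
  refine congrArg (· ^ 3) (Finset.sum_congr rfl fun t _ => ?_)
  rw [← smul_inter_pts, Finset.card_smul_finset]

theorem pairSig_setOfMasks {B O : List ℕ} (hB : canonList B = true) (hO : canonList O = true) :
    pairSig (setOfMasks B) (setOfMasks O) = pairKey B O := by
  rw [pairSig, pairKey, sum_setOfMasks hO]
  refine congrArg List.sum (List.map_congr_left fun u _ => ?_)
  rw [sum_setOfMasks hB]
  refine congrArg (fun L : List ℕ => L.sum ^ 3) (List.map_congr_left fun t _ => ?_)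
  rw [← ptsOf_and, card_ptsOf, popF_eq]

theorem setOfMasks_singleton (m : ℕ) : setOfMasks [m] = {ptsOf m} := by simp [setOfMasks]

/-! ### Stabilisers -/

/-- The stabiliser in `M₂₄`, as a group of permutations. -/
def stabM {β : Type*} [MulAction (Equiv.Perm GolayPt) β] (x : β) :
    Subgroup (Equiv.Perm GolayPt) :=
  M24 ⊓ MulAction.stabilizer (Equiv.Perm GolayPt) x

theorem orbit_stab_eq {β γ : Type*} [MulAction (Equiv.Perm GolayPt) β]
    [MulAction (Equiv.Perm GolayPt) γ] (x : β) (y : γ) :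
    MulAction.orbit ↥(MulAction.stabilizer M24 x) y = MulAction.orbit ↥(stabM x) y := by
  ext z
  constructor
  · rintro ⟨⟨⟨σ, hσ⟩, h⟩, rfl⟩; exact ⟨⟨σ, hσ, h⟩, rfl⟩
  · rintro ⟨⟨σ, hσ, h⟩, rfl⟩; exact ⟨⟨⟨σ, hσ⟩, h⟩, rfl⟩

theorem orbit_stabM_smul {β γ : Type*} [MulAction (Equiv.Perm GolayPt) β]
    [MulAction (Equiv.Perm GolayPt) γ] {σ : Equiv.Perm GolayPt} (hσ : σ ∈ M24) (x : β) (y : γ) :
    MulAction.orbit ↥(stabM (σ • x)) (σ • y) = (σ • ·) '' MulAction.orbit ↥(stabM x) y := by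
  ext z
  constructor
  · rintro ⟨⟨τ, hτ, h⟩, rfl⟩
    refine ⟨(σ⁻¹ * τ * σ) • y, ⟨⟨σ⁻¹ * τ * σ, M24.mul_mem (M24.mul_mem (M24.inv_mem hσ) hτ) hσ,
      ?_⟩, rfl⟩, ?_⟩
    · show (σ⁻¹ * τ * σ) • x = x
      rw [mul_smul, mul_smul, (show τ • σ • x = σ • x from h), inv_smul_smul]
    · show σ • (σ⁻¹ * τ * σ) • y = τ • σ • y
      rw [mul_smul, mul_smul, smul_inv_smul]
  · rintro ⟨_, ⟨⟨τ, hτ, h⟩, rfl⟩, rfl⟩
    refine ⟨⟨σ * τ * σ⁻¹, M24.mul_mem (M24.mul_mem hσ hτ) (M24.inv_mem hσ), ?_⟩, ?_⟩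
    · show (σ * τ * σ⁻¹) • σ • x = σ • x
      rw [mul_smul, mul_smul, inv_smul_smul, (show τ • x = x from h)]
    · show (σ * τ * σ⁻¹) • σ • y = σ • τ • y
      rw [mul_smul, mul_smul, inv_smul_smul]

/-- Packed generators with correct tables. -/
def gensOK (gens : List (ℕ × ℕ)) : Bool :=
  gens.all fun g => permOK 24 g.1 && presCode g.1 && tableOK g.1 g.2

/-- The action on a list of masks by a table, sorted. -/
def actMasksT (T : ℕ) (l : List ℕ) : List ℕ := isort (l.map (pimgT T))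

theorem lt_of_mem_masksOf {m : ℕ} : ∀ {k c : ℕ}, m ∈ masksOf k c → m < 2 ^ 24 := by
  intro k
  induction k with
  | zero => simp [masksOf]
  | succ k ih =>
    intro c h
    rw [masksOf, List.mem_cons] at h
    rcases h with rfl | h
    · exact Nat.mod_lt _ (by norm_num)
    · exact ih h

theorem smul_masksOf {σ : Equiv.Perm GolayPt} {l T k c : ℕ} (hl : Rep ptEnc σ l)
    (hT : tableOK l T = true) :
    σ • setOfMasks (masksOf k c) = setOfMasks (actMasksT T (masksOf k c)) := by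
  rw [smul_setOfMasks hl, actMasks, actMasksT,
    List.map_congr_left fun m hm => (pimgT_eq hT (lt_of_mem_masksOf hm)).symm]

/-! ### Kinds of objects -/

/-- A listed kind of objects, closed under `M₂₄`. -/
structure Kind (X : Type) [MulAction (Equiv.Perm GolayPt) X] where
  κ : Type
  [beq : DecidableEq κ]
  get : ℕ → κ
  dec : κ → X
  act : ℕ → κ → κ
  n : ℕ
  carrier : Set X
  complete : ∀ x, x ∈ carrier ↔ ∃ i, i < n ∧ dec (get i) = x
  inj : ∀ i, i < n → ∀ j, j < n → dec (get i) = dec (get j) → i = j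
  closed : ∀ σ ∈ M24, ∀ x ∈ carrier, σ • x ∈ carrier
  map : ∀ σ l T, Rep ptEnc σ l → tableOK l T = true → ∀ i, σ • dec (get i) = dec (act T (get i))

instance {X : Type} [MulAction (Equiv.Perm GolayPt) X] (K : Kind X) : DecidableEq K.κ := K.beq

/-- Orbits of a stabiliser, from a certificate at the base object. -/
theorem Kind.orbits {X β : Type} [MulAction (Equiv.Perm GolayPt) X]
    [MulAction (Equiv.Perm GolayPt) β] (K : Kind X) (x0 : β) {gens : List (ℕ × ℕ)} {tree : ℕ}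
    {roots : List ℕ} (hgens : gensOK gens = true)
    (hfix : ∀ σ, ∀ g ∈ gens, Rep ptEnc σ g.1 → σ • x0 = x0)
    (hok : orbTreeOK K.act K.get (gens.map Prod.snd) tree roots K.n = true)
    (sig : X → ℕ) (hsig : ∀ σ ∈ stabM x0, ∀ x, sig (σ • x) = sig x) (key : ℕ → ℕ)
    (hkey : ∀ i, i < K.n → sig (K.dec (K.get i)) = key i)
    (hroots : (roots.map key).Nodup) (hrn : (roots.all fun r => r.blt K.n) = true) :
    (∀ r ∈ roots, K.dec (K.get r) ∈ K.carrier ∧
      (MulAction.orbit ↥(stabM x0) (K.dec (K.get r))).ncard = classSize key r K.n ∧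
      ∀ x, x ∈ MulAction.orbit ↥(stabM x0) (K.dec (K.get r)) ↔ x ∈ K.carrier ∧ sig x = key r) ∧
    ∀ x ∈ K.carrier, ∃ r ∈ roots, x ∈ MulAction.orbit ↥(stabM x0) (K.dec (K.get r)) := by
  have hrn' : ∀ r ∈ roots, r < K.n := fun r hr => by
    simpa [Nat.blt_eq] using List.all_eq_true.1 hrn r hr
  have hHA : ∀ σ ∈ stabM x0, ∀ x ∈ K.carrier, σ • x ∈ K.carrier := fun σ hσ => K.closed σ hσ.1
  have hreach := reach_of_treeOK (dec := K.dec) hok (H := stabM x0) fun l hl => by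
    obtain ⟨g, hg, rfl⟩ := List.mem_map.1 hl
    have h := List.all_eq_true.1 hgens g hg
    simp only [Bool.and_eq_true] at h
    obtain ⟨⟨hperm, hpres⟩, htab⟩ := h
    obtain ⟨σ, hrep⟩ := exists_rep (e := ptEnc) hperm
    exact ⟨σ, ⟨mem_M24_of_rep hrep hpres, hfix σ g hg hrep⟩, fun i _ => K.map σ g.1 g.2 hrep htab i⟩
  have hroots' : (roots.map fun r => sig (K.dec (K.get r))).Nodup := by
    rwa [List.map_congr_left fun r hr => hkey r (hrn' r hr)]
  refine ⟨fun r hr => ⟨(K.complete _).2 ⟨r, hrn' r hr, rfl⟩,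
    ncard_orbit_eq K.complete K.inj hHA hreach sig hsig key hkey hroots hrn' hr, fun x => ?_⟩,
    fun x hx => ?_⟩
  · rw [mem_orbit_iff_sig K.complete hHA hreach sig hsig hroots' hrn' hr, hkey r (hrn' r hr)]
  · obtain ⟨i, hi, rfl⟩ := (K.complete x).1 hx
    exact hreach i hi

/-- The statement `Kind.orbits` proves, moved along `σ`. -/
theorem Kind.orbits_smul {X β : Type} [MulAction (Equiv.Perm GolayPt) X]
    [MulAction (Equiv.Perm GolayPt) β] (K : Kind X) {x0 x : β} {σ : Equiv.Perm GolayPt}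
    (hσ : σ ∈ M24) (hx : σ • x0 = x) {size : ℕ → ℕ} {roots : List ℕ}
    (hsize : ∀ r ∈ roots, K.dec (K.get r) ∈ K.carrier ∧
      (MulAction.orbit ↥(stabM x0) (K.dec (K.get r))).ncard = size r)
    (hcover : ∀ y ∈ K.carrier, ∃ r ∈ roots,
      y ∈ MulAction.orbit ↥(stabM x0) (K.dec (K.get r))) :
    ∃ f : ℕ → X, (∀ r ∈ roots, f r ∈ K.carrier ∧
      (MulAction.orbit ↥(MulAction.stabilizer M24 x) (f r)).ncard = size r ∧
      MulAction.orbit ↥(MulAction.stabilizer M24 x) (f r) ⊆ K.carrier) ∧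
    ∀ y ∈ K.carrier, ∃ r ∈ roots, y ∈ MulAction.orbit ↥(MulAction.stabilizer M24 x) (f r) := by
  subst hx
  refine ⟨fun r => σ • K.dec (K.get r), fun r hr => ⟨K.closed σ hσ _ (hsize r hr).1, ?_, ?_⟩,
    fun y hy => ?_⟩
  · rw [orbit_stab_eq, orbit_stabM_smul hσ,
      Set.ncard_image_of_injective _ (MulAction.injective σ)]
    exact (hsize r hr).2
  · rintro _ ⟨⟨⟨τ, hτ⟩, -⟩, rfl⟩
    exact K.closed τ hτ _ (K.closed σ hσ _ (hsize r hr).1)
  · obtain ⟨r, hr, h⟩ := hcover (σ⁻¹ • y) (K.closed _ (M24.inv_mem hσ) y hy)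
    refine ⟨r, hr, ?_⟩
    rw [orbit_stab_eq, orbit_stabM_smul hσ]
    exact ⟨σ⁻¹ • y, h, smul_inv_smul σ y⟩

theorem union₃ {X : Type} {A O₁ O₂ O₃ : Set X} (h₁ : O₁ ⊆ A) (h₂ : O₂ ⊆ A) (h₃ : O₃ ⊆ A)
    (h : ∀ y ∈ A, y ∈ O₁ ∨ y ∈ O₂ ∨ y ∈ O₃) : A = O₁ ∪ O₂ ∪ O₃ :=
  Set.Subset.antisymm (fun y hy => by simpa [Set.mem_union, or_assoc] using h y hy)
    (Set.union_subset (Set.union_subset h₁ h₂) h₃)

theorem union₄ {X : Type} {A O₁ O₂ O₃ O₄ : Set X} (h₁ : O₁ ⊆ A) (h₂ : O₂ ⊆ A) (h₃ : O₃ ⊆ A)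
    (h₄ : O₄ ⊆ A) (h : ∀ y ∈ A, y ∈ O₁ ∨ y ∈ O₂ ∨ y ∈ O₃ ∨ y ∈ O₄) :
    A = O₁ ∪ O₂ ∪ O₃ ∪ O₄ :=
  Set.Subset.antisymm (fun y hy => by simpa [Set.mem_union, or_assoc] using h y hy)
    (Set.union_subset (Set.union_subset (Set.union_subset h₁ h₂) h₃) h₄)

/-- The octads. -/
def octKind : Kind (Finset GolayPt) where
  κ := ℕ
  get := octAt
  dec := ptsOf
  act := pimgT
  n := 759
  carrier := octads
  complete := octads_eq
  inj := octAt_inj
  closed _ hσ _ hx := M24_smul_octad hσ hx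
  map _ _ T hl hT i := by
    show _ = ptsOf (pimgT T (octAt i))
    rw [octAt, pimgT_eq hT (atP_lt 24 octBig i)]
    exact smul_ptsOf_pimg hl _

/-- The trios. -/
def trioKind : Kind (Finset (Finset GolayPt)) where
  κ := List ℕ
  get := trioAt
  dec := setOfMasks
  act := actMasksT
  n := 3795
  carrier := trios
  complete := trios_eq
  inj := trioAt_inj
  closed _ hσ _ hx := M24_smul_mem_trios hσ hx
  map _ _ _ hl hT _ := smul_masksOf hl hT

/-- The sextets. -/
def sextKind : Kind (Finset (Finset GolayPt)) where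
  κ := List ℕ
  get := sextAt
  dec := setOfMasks
  act := actMasksT
  n := 1771
  carrier := sextets
  complete := sextets_eq
  inj := sextAt_inj
  closed _ hσ _ hx := M24_smul_mem_sextets hσ hx
  map _ _ _ hl hT _ := smul_masksOf hl hT

theorem canon_oct {i : ℕ} (hi : i < 759) : canonList [octAt i] = true := by
  rw [canonList, Nat.blt_eq]
  exact (inCode_spec (mem_maskList.1 (octAt_mem hi)).1).1

theorem canon_trio {i : ℕ} (hi : i < 3795) : canonList (trioAt i) = true := by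
  have h := List.all_eq_true.1 blockTrio_check i (List.mem_range.2 hi)
  simp only [blockTrioOK, Bool.and_eq_true] at h
  exact h.1.1

theorem sig_stab_set (B : Finset (Finset GolayPt)) :
    ∀ σ ∈ stabM B, ∀ x : Finset (Finset GolayPt), pairSig B (σ • x) = pairSig B x :=
  fun σ hσ x => by
    conv_lhs => rw [← (show σ • B = B from hσ.2)]
    exact pairSig_smul σ B x

theorem sig_stab_set_pts (B : Finset (Finset GolayPt)) :
    ∀ σ ∈ stabM B, ∀ x : Finset GolayPt, pairSig B {σ • x} = pairSig B {x} :=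
  fun σ hσ x => by
    rw [← Finset.smul_finset_singleton]
    exact sig_stab_set B σ hσ {x}

theorem sig_stab_pts (o : Finset GolayPt) :
    ∀ σ ∈ stabM o, ∀ x : Finset (Finset GolayPt), pairSig {o} (σ • x) = pairSig {o} x :=
  fun σ hσ => sig_stab_set {o} σ ⟨hσ.1, by
    show σ • ({o} : Finset (Finset GolayPt)) = {o}
    rw [Finset.smul_finset_singleton, show σ • o = o from hσ.2]⟩

theorem sig_stab_pts_pts (o : Finset GolayPt) :
    ∀ σ ∈ stabM o, ∀ x : Finset GolayPt, pairSig {o} {σ • x} = pairSig {o} {x} :=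
  fun σ hσ x => by
    rw [← Finset.smul_finset_singleton]
    exact sig_stab_pts o σ hσ {x}

/-- Whether every generator fixes the mask. -/
def fixMask (gens : List (ℕ × ℕ)) (m : ℕ) : Bool := gens.all fun g => pimg g.1 m == m

/-- Whether every generator fixes the list of masks. -/
def fixMasks (gens : List (ℕ × ℕ)) (l : List ℕ) : Bool := gens.all fun g => actMasks g.1 l == l

theorem fix_of_fixMask {gens : List (ℕ × ℕ)} {m : ℕ} (h : fixMask gens m = true) :
    ∀ σ, ∀ g ∈ gens, Rep ptEnc σ g.1 → σ • ptsOf m = ptsOf m := fun σ g hg hrep => by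
  rw [smul_ptsOf_pimg hrep, beq_iff_eq.1 (List.all_eq_true.1 h g hg)]

theorem fix_of_fixMasks {gens : List (ℕ × ℕ)} {L : List ℕ} (h : fixMasks gens L = true) :
    ∀ σ, ∀ g ∈ gens, Rep ptEnc σ g.1 → σ • setOfMasks L = setOfMasks L := fun σ g hg hrep => by
  rw [smul_setOfMasks hrep, beq_iff_eq.1 (List.all_eq_true.1 h g hg)]

theorem exists_map_sextet {S S' : Finset (Finset GolayPt)} (hS : S ∈ sextets) (hS' : S' ∈ sextets) :
    ∃ g ∈ M24, g • S = S' := by
  obtain ⟨t, ht⟩ : S.Nonempty := Finset.card_pos.1 (by rw [hS.1]; norm_num)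
  obtain ⟨t', ht'⟩ : S'.Nonempty := Finset.card_pos.1 (by rw [hS'.1]; norm_num)
  obtain ⟨x, hx⟩ := exists_embedding_of_le_card (k := 4) (s := t) (by rw [hS.2.1 t ht])
  obtain ⟨y, hy⟩ := exists_embedding_of_le_card (k := 4) (s := t') (by rw [hS'.2.1 t' ht'])
  obtain ⟨g, hg, hgx⟩ := M24_exists_map (by norm_num) x y
  refine ⟨g, hg, sextet_unique (M24_smul_mem_sextets hg hS) hS' (Finset.smul_mem_smul_finset ht) ?_⟩
  have hxt : Finset.univ.map x = t := by
    refine Finset.eq_of_subset_of_card_le (fun p hp => ?_) (by simp [hS.2.1 t ht])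
    obtain ⟨i, -, rfl⟩ := Finset.mem_map.1 hp
    exact hx i
  have hyt : Finset.univ.map y = t' := by
    refine Finset.eq_of_subset_of_card_le (fun p hp => ?_) (by simp [hS'.2.1 t' ht'])
    obtain ⟨i, -, rfl⟩ := Finset.mem_map.1 hp
    exact hy i
  have : g • t = t' := by
    rw [← hxt, ← hyt]
    ext p
    simp [Finset.mem_smul_finset, hgx]
  rwa [this]

end Cfsg.Agent.Mathieu
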