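import Cfsg.Agent.Lib.Mathieu.StabOrbits
import Cfsg.Agent.Lib.Mathieu.TriadOrbData

/-!
Kernel checks for orbit certificates of stabilisers in `M₂₄`.
-/

set_option autoImplicit false
set_option maxRecDepth 20000

namespace Cfsg.Agent.Mathieu

open Cfsg

/-- The invariant of the `i`-th object, for `triadOnSext`. -/
def triadOnSextKey (i : ℕ) : ℕ := ((sextAt i).filter fun t => !(t &&& 0x800003 == 0)).length

theorem triadOnSext_gens :
    (gensOK triadOnSextGens && fixMask triadOnSextGens 0x800003) = true := by
  decide +kernel

theorem triadOnSext_tree :
    orbTreeOK actMasksT sextAt (triadOnSextGens.map Prod.snd) triadOnSextTree triadOnSextRoots 1771 = true := by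
  decide +kernel

theorem triadOnSext_roots : (triadOnSextRoots.map triadOnSextKey).Nodup ∧
    (triadOnSextRoots.all fun r => r.blt 1771) = true := by
  decide +kernel

theorem triadOnSext_size :
    triadOnSextRoots.map (fun r => classSize triadOnSextKey r 1771) = [21, 630, 1120] := by
  decide +kernel

end Cfsg.Agent.Mathieu
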