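import Cfsg.Agent.Lib.Mathieu.OrbitLists
import Cfsg.Agent.Lib.Mathieu.TriadOrbCheck

/-!
Orbits of the stabiliser of three points on sextets.
-/

set_option autoImplicit false

namespace Cfsg.Agent.Mathieu

open Cfsg
open scoped Pointwise

/-- The number of members meeting `Y`. -/
def meetCount (Y : Finset GolayPt) (S : Finset (Finset GolayPt)) : ℕ :=
  (S.filter fun t => (t ∩ Y).Nonempty).card

theorem meetCount_smul (σ : Equiv.Perm GolayPt) (Y : Finset GolayPt) (S : Finset (Finset GolayPt)) :
    meetCount (σ • Y) (σ • S) = meetCount Y S := by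
  have hinj : Function.Injective fun s : Finset GolayPt => σ • s := MulAction.injective σ
  rw [meetCount, meetCount, show σ • S = S.image (σ • ·) from rfl, Finset.filter_image,
    Finset.card_image_of_injective _ hinj]
  refine congrArg Finset.card (Finset.filter_congr fun t _ => ?_)
  rw [← smul_inter_pts, Finset.smul_finset_nonempty]

theorem meetCount_setOfMasks {L : List ℕ} (hL : canonList L = true) {y : ℕ} :
    meetCount (ptsOf y) (setOfMasks L) = (L.filter fun t => !(t &&& y == 0)).length := by
  obtain ⟨hp, hb⟩ := canonList_spec hL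
  rw [meetCount, setOfMasks, Finset.filter_image, Finset.card_image_of_injOn fun a ha b hb' e =>
      ptsOf_inj (hb a (List.mem_toFinset.1 (Finset.mem_filter.1 ha).1))
        (hb b (List.mem_toFinset.1 (Finset.mem_filter.1 hb').1)) e,
    ← List.toFinset_card_of_nodup ((hp.imp fun h => h.ne).filter _), List.toFinset_filter]
  refine congrArg Finset.card (Finset.filter_congr fun t ht => ?_)
  rw [← ptsOf_and, ← Finset.card_pos, card_ptsOf, Bool.not_eq_true', beq_eq_false_iff_ne]
  constructor
  · intro h e
    rw [e] at h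
    exact absurd h (by decide)
  · intro h
    rw [← card_ptsOf, Finset.card_pos, Finset.nonempty_iff_ne_empty]
    intro e
    refine h (ptsOf_inj (lt_of_le_of_lt Nat.and_le_left (hb t (List.mem_toFinset.1 ht)))
      (by norm_num) (e.trans ?_))
    ext p
    simp [mem_ptsOf, hasPt]

theorem triadOnSext_orbits :
    (∀ r ∈ triadOnSextRoots, sextKind.dec (sextKind.get r) ∈ sextets ∧
      (MulAction.orbit ↥(stabM (ptsOf 0x800003)) (sextKind.dec (sextKind.get r))).ncard =
        classSize triadOnSextKey r 1771 ∧
      ∀ x, x ∈ MulAction.orbit ↥(stabM (ptsOf 0x800003)) (sextKind.dec (sextKind.get r)) ↔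
        x ∈ sextets ∧ meetCount (ptsOf 0x800003) x = triadOnSextKey r) ∧
    ∀ x ∈ sextets, ∃ r ∈ triadOnSextRoots,
      x ∈ MulAction.orbit ↥(stabM (ptsOf 0x800003)) (sextKind.dec (sextKind.get r)) := by
  obtain ⟨hg, hf⟩ := Bool.and_eq_true_iff.1 triadOnSext_gens
  refine sextKind.orbits (ptsOf 0x800003) hg (fix_of_fixMask hf) (treeOK_lawful (κ := List ℕ) triadOnSext_tree) _
    (fun σ hσ x => ?_) _ (fun i hi => meetCount_setOfMasks (sext_spec hi).2.1)
    triadOnSext_roots.1 triadOnSext_roots.2
  conv_lhs => rw [← (show σ • ptsOf 0x800003 = ptsOf 0x800003 from hσ.2)]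
  exact meetCount_smul σ _ x

theorem triadOnSext_keys : triadOnSextRoots.map triadOnSextKey = [1, 2, 3] := by decide +kernel

end Cfsg.Agent.Mathieu
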