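import Cfsg.Agent.Lib.Mathieu.StabOrbits
import Cfsg.Agent.Lib.Mathieu.TrioOrbData

/-!
Kernel checks for orbit certificates of stabilisers in `M₂₄`.
-/

set_option autoImplicit false
set_option maxRecDepth 20000

namespace Cfsg.Agent.Mathieu

open Cfsg

/-- The invariant of the `i`-th object, for `trioOnOct`. -/
def trioOnOctKey (i : ℕ) : ℕ := pairKey (trioAt 0) [octAt i]

theorem trioOnOct_gens :
    (gensOK trioOnOctGens && fixMasks trioOnOctGens (trioAt 0)) = true := by
  decide +kernel

theorem trioOnOct_tree :
    orbTreeOK pimgT octAt (trioOnOctGens.map Prod.snd) trioOnOctTree trioOnOctRoots 759 = true := by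
  decide +kernel

theorem trioOnOct_roots : (trioOnOctRoots.map trioOnOctKey).Nodup ∧
    (trioOnOctRoots.all fun r => r.blt 759) = true := by
  decide +kernel

theorem trioOnOct_size :
    trioOnOctRoots.map (fun r => classSize trioOnOctKey r 759) = [3, 84, 672] := by
  decide +kernel

/-- The invariant of the `i`-th object, for `trioOnSext`. -/
def trioOnSextKey (i : ℕ) : ℕ := pairKey (trioAt 0) (sextAt i)

theorem trioOnSext_gens :
    (gensOK trioOnSextGens && fixMasks trioOnSextGens (trioAt 0)) = true := by
  decide +kernel

theorem trioOnSext_tree :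
    orbTreeOK actMasksT sextAt (trioOnSextGens.map Prod.snd) trioOnSextTree trioOnSextRoots 1771 = true := by
  decide +kernel

theorem trioOnSext_roots : (trioOnSextRoots.map trioOnSextKey).Nodup ∧
    (trioOnSextRoots.all fun r => r.blt 1771) = true := by
  decide +kernel

theorem trioOnSext_size :
    trioOnSextRoots.map (fun r => classSize trioOnSextKey r 1771) = [7, 84, 336, 1344] := by
  decide +kernel

end Cfsg.Agent.Mathieu
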