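import Cfsg.Agent.Lib.Mathieu.OrbitLists
import Cfsg.Agent.Lib.Mathieu.TrioOrbCheck

/-!
Orbits of the stabiliser of a trio on octads and sextets.
-/

set_option autoImplicit false

namespace Cfsg.Agent.Mathieu

open Cfsg
open scoped Pointwise

theorem trioOnOct_orbits :
    (∀ r ∈ trioOnOctRoots, octKind.dec (octKind.get r) ∈ octads ∧
      (MulAction.orbit ↥(stabM (setOfMasks (trioAt 0))) (octKind.dec (octKind.get r))).ncard =
        classSize trioOnOctKey r 759 ∧
      ∀ x, x ∈ MulAction.orbit ↥(stabM (setOfMasks (trioAt 0))) (octKind.dec (octKind.get r)) ↔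
        x ∈ octads ∧ pairSig (setOfMasks (trioAt 0)) {x} = trioOnOctKey r) ∧
    ∀ x ∈ octads, ∃ r ∈ trioOnOctRoots,
      x ∈ MulAction.orbit ↥(stabM (setOfMasks (trioAt 0))) (octKind.dec (octKind.get r)) := by
  obtain ⟨hg, hf⟩ := Bool.and_eq_true_iff.1 trioOnOct_gens
  refine octKind.orbits (setOfMasks (trioAt 0)) hg (fix_of_fixMasks hf) trioOnOct_tree _
    (sig_stab_set_pts _) _ (fun i hi => ?_) trioOnOct_roots.1 trioOnOct_roots.2
  show pairSig _ {ptsOf (octAt i)} = _
  rw [← setOfMasks_singleton]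
  exact pairSig_setOfMasks (canon_trio (by norm_num)) (canon_oct hi)

theorem trioOnSext_orbits :
    (∀ r ∈ trioOnSextRoots, sextKind.dec (sextKind.get r) ∈ sextets ∧
      (MulAction.orbit ↥(stabM (setOfMasks (trioAt 0))) (sextKind.dec (sextKind.get r))).ncard =
        classSize trioOnSextKey r 1771 ∧
      ∀ x, x ∈ MulAction.orbit ↥(stabM (setOfMasks (trioAt 0))) (sextKind.dec (sextKind.get r)) ↔
        x ∈ sextets ∧ pairSig (setOfMasks (trioAt 0)) x = trioOnSextKey r) ∧
    ∀ x ∈ sextets, ∃ r ∈ trioOnSextRoots,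
      x ∈ MulAction.orbit ↥(stabM (setOfMasks (trioAt 0))) (sextKind.dec (sextKind.get r)) := by
  obtain ⟨hg, hf⟩ := Bool.and_eq_true_iff.1 trioOnSext_gens
  refine sextKind.orbits (setOfMasks (trioAt 0)) hg (fix_of_fixMasks hf) (treeOK_lawful (κ := List ℕ) trioOnSext_tree) _
    (sig_stab_set _) _ (fun i hi => ?_) trioOnSext_roots.1 trioOnSext_roots.2
  exact pairSig_setOfMasks (canon_trio (by norm_num)) (sext_spec hi).2.1

end Cfsg.Agent.Mathieu
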